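import Mathlib

/-! Inverse limits of systems `M_{n+1} → M_n` with kernels `I^{n+1} M_{n+1}`. -/

namespace Groth.Agent.Lib.Helper15.AL

universe u v

open Submodule

/-- In a surjective inverse system indexed by `ℕ`, every element is part of a compatible family. -/
theorem exists_compatible_family : ∀ (n : ℕ) (M : ℕ → Type v) (f : ∀ n, M (n + 1) → M n)
    (_ : ∀ n, Function.Surjective (f n)) (m : M n),
    ∃ y : ∀ k, M k, (∀ k, f k (y (k + 1)) = y k) ∧ y n = m := by
  intro n
  induction n with
  | zero =>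
    intro M f hf m
    refine ⟨fun k => Nat.rec m (fun k yk => Function.surjInv (hf k) yk) k, ?_, rfl⟩
    intro k
    exact Function.surjInv_eq (hf k) _
  | succ n ih =>
    intro M f hf m
    obtain ⟨y', hy', hy'n⟩ := ih (fun k => M (k + 1)) (fun k => f (k + 1)) (fun k => hf (k + 1)) m
    refine ⟨fun k => Nat.casesOn k (f 0 (y' 0)) (fun k => y' k), ?_, hy'n⟩
    intro k
    cases k with
    | zero => rfl
    | succ k => exact hy' k

section

variable {A : Type u} [CommRing A] (I : Ideal A)
  {M : ℕ → Type v} [∀ n, AddCommGroup (M n)] [∀ n, Module A (M n)]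
  (f : ∀ n, M (n + 1) →ₗ[A] M n) (hf : ∀ n, Function.Surjective (f n))
  (hker : ∀ n, LinearMap.ker (f n) = I ^ (n + 1) • (⊤ : Submodule A (M (n + 1))))
  {L : Type v} [AddCommGroup L] [Module A L] (π : ∀ n, L →ₗ[A] M n)
  (hπ : ∀ n, f n ∘ₗ π (n + 1) = π n)
  (hinj : ∀ x : L, (∀ n, π n x = 0) → x = 0)
  (hlift : ∀ y : (∀ n, M n), (∀ n, f n (y (n + 1)) = y n) → ∃ x : L, ∀ n, π n x = y n)

include hf hlift in
theorem proj_surjective (n : ℕ) : Function.Surjective (π n) := by
  intro m
  obtain ⟨y, hy, hyn⟩ := exists_compatible_family n M (fun n => f n) hf m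
  obtain ⟨x, hx⟩ := hlift y hy
  exact ⟨x, (hx n).trans hyn⟩

include hf hker in
theorem pow_smul_eq_zero (n : ℕ) (a : A) (ha : a ∈ I ^ (n + 1)) (m : M n) : a • m = 0 := by
  obtain ⟨m', rfl⟩ := hf n m
  rw [← map_smul]
  have : a • m' ∈ LinearMap.ker (f n) := by
    rw [hker]; exact Submodule.smul_mem_smul ha trivial
  exact this

include hf hker in
theorem pow_smul_le_ker (n : ℕ) : I ^ (n + 1) • (⊤ : Submodule A L) ≤ LinearMap.ker (π n) := by
  rw [Submodule.smul_le]
  intro a ha x _
  rw [LinearMap.mem_ker, map_smul]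
  exact pow_smul_eq_zero I f hf hker n a ha _

include hπ in
theorem hπ_apply (n : ℕ) (x : L) : f n (π (n + 1) x) = π n x :=
  LinearMap.congr_fun (hπ n) x

include hπ in
theorem proj_eq_zero_of_add (x : L) (k : ℕ) : ∀ j, π (k + j) x = 0 → π k x = 0 := by
  intro j
  induction j with
  | zero => exact id
  | succ j ih =>
    intro h
    apply ih
    rw [← hπ_apply f π hπ (k + j) x]
    have : π (k + j + 1) x = 0 := h
    rw [this, map_zero]

include hf hker hπ hlift in
theorem exists_sub_mem_ker_succ (k : ℕ) (w : L) (hw : π k w = 0) :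
    ∃ z ∈ I ^ (k + 1) • (⊤ : Submodule A L), π (k + 1) (w - z) = 0 := by
  have h1 : π (k + 1) w ∈ LinearMap.ker (f k) := by
    rw [LinearMap.mem_ker, hπ_apply f π hπ, hw]
  rw [hker] at h1
  have h2 : (I ^ (k + 1) • ⊤ : Submodule A (M (k + 1))) =
      Submodule.map (π (k + 1)) (I ^ (k + 1) • ⊤) := by
    rw [Submodule.map_smul'', Submodule.map_top,
      LinearMap.range_eq_top.mpr (proj_surjective f hf π hlift (k + 1))]
  rw [h2] at h1
  obtain ⟨z, hz, hzw⟩ := h1
  exact ⟨z, hz, by rw [map_sub, hzw, sub_self]⟩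

end

section

variable {A : Type u} [CommRing A] (I : Ideal A)
  {M : ℕ → Type v} [∀ n, AddCommGroup (M n)] [∀ n, Module A (M n)]
  (f : ∀ n, M (n + 1) →ₗ[A] M n) (hf : ∀ n, Function.Surjective (f n))
  (hker : ∀ n, LinearMap.ker (f n) = I ^ (n + 1) • (⊤ : Submodule A (M (n + 1))))
  {L : Type v} [AddCommGroup L] [Module A L] (π : ∀ n, L →ₗ[A] M n)
  (hπ : ∀ n, f n ∘ₗ π (n + 1) = π n)
  (hinj : ∀ x : L, (∀ n, π n x = 0) → x = 0)
  (hlift : ∀ y : (∀ n, M n), (∀ n, f n (y (n + 1)) = y n) → ∃ x : L, ∀ n, π n x = y n)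

/-- The map `L ⧸ I^(n+1) L → M n` induced by `π n`. -/
noncomputable def projBar (n : ℕ) : (L ⧸ (I ^ (n + 1) • ⊤ : Submodule A L)) →ₗ[A] M n :=
  Submodule.liftQ _ (π n) (pow_smul_le_ker I f hf hker π n)

theorem projBar_mk (n : ℕ) (x : L) :
    projBar I f hf hker π n (Submodule.Quotient.mk x) = π n x := rfl

include hπ in
theorem projBar_compat (c : AdicCompletion I L) (n : ℕ) :
    f n (projBar I f hf hker π (n + 1) (c.val (n + 2))) = projBar I f hf hker π n (c.val (n + 1)) := by
  obtain ⟨a, rfl⟩ := AdicCompletion.mk_surjective I L c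
  rw [AdicCompletion.mk_apply_coe, AdicCompletion.mk_apply_coe, Submodule.mkQ_apply,
    Submodule.mkQ_apply, projBar_mk, projBar_mk, hπ_apply f π hπ]
  have h1 : a (n + 1) ≡ a (n + 2) [SMOD (I ^ (n + 1) • ⊤ : Submodule A L)] :=
    a.property (Nat.le_succ (n + 1))
  have h2 : a (n + 1) - a (n + 2) ∈ LinearMap.ker (π n) :=
    pow_smul_le_ker I f hf hker π n (SModEq.sub_mem.mp h1)
  rw [LinearMap.mem_ker, map_sub, sub_eq_zero] at h2
  exact h2.symm

include hπ hlift in
theorem exists_retract (c : AdicCompletion I L) :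
    ∃ x : L, ∀ n, π n x = projBar I f hf hker π n (c.val (n + 1)) :=
  hlift (fun n => projBar I f hf hker π n (c.val (n + 1))) (projBar_compat I f hf hker π hπ c)

/-- The retraction `AdicCompletion I L → L`. -/
noncomputable def retract : AdicCompletion I L →ₗ[A] L where
  toFun c := Classical.choose (exists_retract I f hf hker π hπ hlift c)
  map_add' c c' := by
    have h := Classical.choose_spec (exists_retract I f hf hker π hπ hlift (c + c'))
    have h1 := Classical.choose_spec (exists_retract I f hf hker π hπ hlift c)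
    have h2 := Classical.choose_spec (exists_retract I f hf hker π hπ hlift c')
    rw [← sub_eq_zero]
    apply hinj
    intro n
    rw [map_sub, map_add, h n, h1 n, h2 n, AdicCompletion.val_add_apply, map_add, sub_self]
  map_smul' r c := by
    have h := Classical.choose_spec (exists_retract I f hf hker π hπ hlift (r • c))
    have h1 := Classical.choose_spec (exists_retract I f hf hker π hπ hlift c)
    rw [← sub_eq_zero]
    apply hinj
    intro n
    rw [map_sub, RingHom.id_apply, map_smul, h n, h1 n, AdicCompletion.val_smul_apply, map_smul,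
      sub_self]

theorem proj_retract (c : AdicCompletion I L) (n : ℕ) :
    π n (retract I f hf hker π hπ hinj hlift c) = projBar I f hf hker π n (c.val (n + 1)) :=
  Classical.choose_spec (exists_retract I f hf hker π hπ hlift c) n

end

/-- Dependent sequences by recursion with choice. -/
theorem exists_seq_of_step {α : Type*} (P : ℕ → α → Prop) (Q : ℕ → α → α → Prop) (a0 : α)
    (h0 : P 0 a0) (hstep : ∀ j v, P j v → ∃ v', P (j + 1) v' ∧ Q j v v') :
    ∃ u : ℕ → α, u 0 = a0 ∧ ∀ j, P j (u j) ∧ Q j (u j) (u (j + 1)) := by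
  let s : ∀ j, {v // P j v} := fun j => Nat.rec ⟨a0, h0⟩
    (fun j sj => ⟨Classical.choose (hstep j sj.1 sj.2),
      (Classical.choose_spec (hstep j sj.1 sj.2)).1⟩) j
  refine ⟨fun j => (s j).1, rfl, fun j => ⟨(s j).2, ?_⟩⟩
  exact (Classical.choose_spec (hstep j (s j).1 (s j).2)).2

section

variable {A : Type u} [CommRing A] (I : Ideal A)
  {M : ℕ → Type v} [∀ n, AddCommGroup (M n)] [∀ n, Module A (M n)]
  (f : ∀ n, M (n + 1) →ₗ[A] M n) (hf : ∀ n, Function.Surjective (f n))
  (hker : ∀ n, LinearMap.ker (f n) = I ^ (n + 1) • (⊤ : Submodule A (M (n + 1))))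
  {L : Type v} [AddCommGroup L] [Module A L] (π : ∀ n, L →ₗ[A] M n)
  (hπ : ∀ n, f n ∘ₗ π (n + 1) = π n)
  (hinj : ∀ x : L, (∀ n, π n x = 0) → x = 0)
  (hlift : ∀ y : (∀ n, M n), (∀ n, f n (y (n + 1)) = y n) → ∃ x : L, ∀ n, π n x = y n)

include hf hker hπ hinj hlift in
theorem ker_proj_le (hI : I.FG) (n : ℕ) :
    LinearMap.ker (π n) ≤ I ^ (n + 1) • (⊤ : Submodule A L) := by
  intro x hx
  rw [LinearMap.mem_ker] at hx
  obtain ⟨u, hu0, hu⟩ := exists_seq_of_step (fun j v => π (n + j) (x - v) = 0)
    (fun j v v' => v' - v ∈ I ^ (n + j + 1) • (⊤ : Submodule A L)) (0 : L)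
    (by simpa using hx)
    (by
      intro j v hv
      obtain ⟨z, hz, hzw⟩ := exists_sub_mem_ker_succ I f hf hker π hπ hlift (n + j) (x - v) hv
      refine ⟨v + z, ?_, by simpa using hz⟩
      have : x - (v + z) = x - v - z := by abel
      rw [this]; exact hzw)
  -- the Cauchy sequence
  have hcauchy : ∀ k, u (k - (n + 1)) ≡ u (k + 1 - (n + 1)) [SMOD (I ^ k • ⊤ : Submodule A L)] := by
    intro k
    by_cases hk : k < n + 1
    · have h1 : k - (n + 1) = 0 := by omega
      have h2 : k + 1 - (n + 1) = 0 := by omega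
      rw [h1, h2]
    · obtain ⟨j, rfl⟩ : ∃ j, k = n + 1 + j := ⟨k - (n + 1), by omega⟩
      have h1 : n + 1 + j - (n + 1) = j := by omega
      have h2 : n + 1 + j + 1 - (n + 1) = j + 1 := by omega
      rw [h1, h2, SModEq.comm, SModEq.sub_mem]
      have := (hu j).2
      have h3 : n + j + 1 = n + 1 + j := by omega
      rwa [h3] at this
  set c : AdicCompletion I L :=
    AdicCompletion.mk I L (AdicCompletion.AdicCauchySequence.mk I L (fun k => u (k - (n + 1))) hcauchy)
    with hc
  have hcval : ∀ k, c.val k = Submodule.Quotient.mk (u (k - (n + 1))) := fun k => rfl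
  -- `c` lies in the kernel of the evaluation, hence in `I^(n+1) • ⊤`
  have hcmem : c ∈ (I ^ (n + 1) • ⊤ : Submodule A (AdicCompletion I L)) := by
    rw [AdicCompletion.pow_smul_top_eq_ker_eval hI, LinearMap.mem_ker,
      AdicCompletion.eval_apply]
    change c.val (n + 1) = 0
    rw [hcval, Nat.sub_self, hu0, Submodule.Quotient.mk_zero]
  -- the retraction sends `c` to `x`
  have hpc : retract I f hf hker π hπ hinj hlift c = x := by
    rw [← sub_eq_zero]
    apply hinj
    intro k
    apply proj_eq_zero_of_add f π hπ _ k n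
    rw [map_sub, proj_retract, hcval, projBar_mk, ← map_sub]
    have h1 : k + n + 1 - (n + 1) = k := by omega
    rw [h1]
    have := (hu k).1
    rw [add_comm n k] at this
    rw [← neg_sub, map_neg, this, neg_zero]
  rw [← hpc]
  have : Submodule.map (retract I f hf hker π hπ hinj hlift)
      (I ^ (n + 1) • (⊤ : Submodule A (AdicCompletion I L))) ≤ I ^ (n + 1) • ⊤ := by
    rw [Submodule.map_smul'']
    exact Submodule.smul_mono le_rfl le_top
  exact this ⟨c, hcmem, rfl⟩

end

section Pi

variable {A : Type u} [CommRing A] {ι : Type*} [Finite ι]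

theorem mem_smul_top_pi_iff (J : Ideal A) (v : ι → A) :
    v ∈ J • (⊤ : Submodule A (ι → A)) ↔ ∀ i, v i ∈ J := by
  classical
  constructor
  · intro hv
    induction hv using Submodule.smul_induction_on' with
    | smul a ha w _ =>
      intro i
      simpa using J.mul_mem_right (w i) ha
    | add v1 _ v2 _ h1 h2 =>
      intro i
      exact J.add_mem (h1 i) (h2 i)
  · intro hv
    haveI := Fintype.ofFinite ι
    have : v = ∑ i, v i • (Pi.single i (1 : A) : ι → A) := by
      ext j
      simp [Finset.sum_apply, Pi.single_apply]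
    rw [this]
    exact Submodule.sum_mem _ fun i _ => Submodule.smul_mem_smul (hv i) trivial

theorem isPrecomplete_pi (I : Ideal A) [IsPrecomplete I A] : IsPrecomplete I (ι → A) := by
  constructor
  intro s hs
  have hcomp : ∀ i, ∃ ℓ : A, ∀ n, s n i ≡ ℓ [SMOD (I ^ n • ⊤ : Submodule A A)] := by
    intro i
    apply IsPrecomplete.prec (I := I) (M := A) inferInstance (f := fun n => s n i)
    intro m n hmn
    rw [SModEq.sub_mem]
    have := SModEq.sub_mem.mp (hs hmn)
    rw [mem_smul_top_pi_iff] at this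
    simpa using this i
  choose ℓ hℓ using hcomp
  refine ⟨ℓ, fun n => ?_⟩
  rw [SModEq.sub_mem, mem_smul_top_pi_iff]
  intro i
  have := SModEq.sub_mem.mp (hℓ i n)
  simpa using this

end Pi

section

variable {A : Type u} [CommRing A] (I : Ideal A)
  {M : ℕ → Type v} [∀ n, AddCommGroup (M n)] [∀ n, Module A (M n)]
  (f : ∀ n, M (n + 1) →ₗ[A] M n) (hf : ∀ n, Function.Surjective (f n))
  (hker : ∀ n, LinearMap.ker (f n) = I ^ (n + 1) • (⊤ : Submodule A (M (n + 1))))
  {L : Type v} [AddCommGroup L] [Module A L] (π : ∀ n, L →ₗ[A] M n)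
  (hπ : ∀ n, f n ∘ₗ π (n + 1) = π n)
  (hinj : ∀ x : L, (∀ n, π n x = 0) → x = 0)
  (hlift : ∀ y : (∀ n, M n), (∀ n, f n (y (n + 1)) = y n) → ∃ x : L, ∀ n, π n x = y n)

include hf hker hπ hinj hlift in
theorem ker_proj_eq (hI : I.FG) (n : ℕ) :
    LinearMap.ker (π n) = I ^ (n + 1) • (⊤ : Submodule A L) :=
  le_antisymm (ker_proj_le I f hf hker π hπ hinj hlift hI n) (pow_smul_le_ker I f hf hker π n)

include hf hker hπ hinj hlift in
theorem isAdicComplete_limit (hI : I.FG) : IsAdicComplete I L := by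
  have hk := ker_proj_eq I f hf hker π hπ hinj hlift hI
  refine { haus' := ?_, prec' := ?_ }
  · intro x hx
    apply hinj
    intro n
    have : x ∈ LinearMap.ker (π n) := by
      rw [hk n]
      simpa [SModEq.sub_mem] using hx (n + 1)
    exact this
  · intro s hs
    obtain ⟨ℓ, hℓ⟩ := hlift (fun n => π n (s (n + 1))) (by
      intro n
      rw [hπ_apply f π hπ]
      have h1 : s (n + 1) - s (n + 2) ∈ LinearMap.ker (π n) := by
        rw [hk n]
        exact SModEq.sub_mem.mp (hs (Nat.le_succ (n + 1)))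
      rw [LinearMap.mem_ker, map_sub, sub_eq_zero] at h1
      exact h1.symm)
    refine ⟨ℓ, fun n => ?_⟩
    cases n with
    | zero =>
      rw [SModEq.sub_mem, pow_zero, Ideal.one_eq_top, Submodule.top_smul]
      trivial
    | succ k =>
      rw [SModEq.sub_mem, ← hk k, LinearMap.mem_ker, map_sub, hℓ k, sub_self]

include hf hker hπ hinj hlift in
theorem finite_limit (hI : I.FG) [IsAdicComplete I A] [Module.Finite A (M 0)] :
    Module.Finite A L := by
  classical
  have hk := ker_proj_eq I f hf hker π hπ hinj hlift hI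
  have hsurj := proj_surjective f hf π hlift
  haveI : IsAdicComplete I L := isAdicComplete_limit I f hf hker π hπ hinj hlift hI
  obtain ⟨r, g, hg⟩ := Module.Finite.exists_fin (R := A) (M := M 0)
  choose ℓ hℓ using fun i => hsurj 0 (g i)
  let φ : (Fin r → A) →ₗ[A] L := Fintype.linearCombination A ℓ
  haveI : IsPrecomplete I (Fin r → A) := isPrecomplete_pi I
  have hφ : Function.Surjective (Submodule.mkQ (I • ⊤ : Submodule A L) ∘ₗ φ) := by
    intro q
    obtain ⟨x, rfl⟩ := Submodule.mkQ_surjective _ q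
    have hx : π 0 x ∈ Submodule.span A (Set.range g) := by rw [hg]; trivial
    obtain ⟨a, ha⟩ := (Submodule.mem_span_range_iff_exists_fun A).mp hx
    refine ⟨a, ?_⟩
    rw [LinearMap.comp_apply, Submodule.mkQ_apply, Submodule.mkQ_apply,
      Submodule.Quotient.eq]
    have h1 : φ a - x ∈ LinearMap.ker (π 0) := by
      rw [LinearMap.mem_ker, map_sub, sub_eq_zero, ← ha]
      simp only [φ, Fintype.linearCombination_apply, map_sum, map_smul, hℓ]
    rw [hk 0] at h1
    simpa using h1
  exact Module.Finite.of_surjective φ (surjective_of_mkQ_comp_surjective hφ)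

end

end Groth.Agent.Lib.Helper15.AL
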