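import Mathlib
import Groth.Agent.Lib.Helper15.AdicLimit

/-! A ring which is complete for a finitely generated ideal `J` with `A ⧸ J` Noetherian is
Noetherian (initial forms argument via the polynomial ring over `A ⧸ J`). -/

namespace Groth.Agent.Lib.Helper15.CN

open MvPolynomial

section Poly

variable {σ R : Type*} [CommSemiring R]

theorem homogeneousComponent_mul_of_isHomogeneous (c p : MvPolynomial σ R) {d : ℕ}
    (hp : p.IsHomogeneous d) (n : ℕ) :
    homogeneousComponent n (c * p) =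
      if d ≤ n then homogeneousComponent (n - d) c * p else 0 := by
  classical
  conv_lhs => rw [← sum_homogeneousComponent c]
  rw [Finset.sum_mul, map_sum]
  have h1 : ∀ i, homogeneousComponent n (homogeneousComponent i c * p) =
      if n = i + d then homogeneousComponent i c * p else 0 := fun i =>
    homogeneousComponent_of_mem ((homogeneousComponent_isHomogeneous i c).mul hp)
  simp_rw [h1]
  split_ifs with hdn
  · have h2 : ∀ i, (if n = i + d then homogeneousComponent i c * p else 0) =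
        if i = n - d then homogeneousComponent i c * p else 0 := by
      intro i
      have : n = i + d ↔ i = n - d := by omega
      simp only [this]
    simp_rw [h2]
    rw [Finset.sum_ite_eq']
    split_ifs with hmem
    · rfl
    · have : c.totalDegree < n - d := by
        simp only [Finset.mem_range, not_lt] at hmem
        omega
      rw [homogeneousComponent_eq_zero _ _ this, zero_mul]
  · apply Finset.sum_eq_zero
    intro i _
    have : ¬ n = i + d := by omega
    simp [this]

end Poly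

section Lift

variable {A : Type*} [CommRing A] (J : Ideal A) {σ : Type*}

theorem map_homogeneousComponent {S : Type*} [CommSemiring S] {R : Type*} [CommSemiring R]
    (φ : R →+* S) (n : ℕ) (p : MvPolynomial σ R) :
    MvPolynomial.map φ (homogeneousComponent n p) = homogeneousComponent n (MvPolynomial.map φ p) := by
  ext α
  rw [coeff_map, coeff_homogeneousComponent, coeff_homogeneousComponent, coeff_map]
  split_ifs <;> simp

theorem exists_homogeneous_lift (d : ℕ) (pbar : MvPolynomial σ (A ⧸ J))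
    (h : pbar.IsHomogeneous d) :
    ∃ p : MvPolynomial σ A, p.IsHomogeneous d ∧
      MvPolynomial.map (Ideal.Quotient.mk J) p = pbar := by
  obtain ⟨p', hp'⟩ := MvPolynomial.map_surjective (Ideal.Quotient.mk J)
    Ideal.Quotient.mk_surjective pbar
  refine ⟨homogeneousComponent d p', homogeneousComponent_isHomogeneous d p', ?_⟩
  rw [map_homogeneousComponent, hp', homogeneousComponent_eq_self h]

theorem prod_pow_mem_pow (f : σ → A) (hf : ∀ i, f i ∈ J) (α : σ →₀ ℕ) (s : Finset σ) :
    ∏ i ∈ s, f i ^ α i ∈ J ^ (∑ i ∈ s, α i) := by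
  classical
  induction s using Finset.induction_on with
  | empty => simp
  | insert i s hi ih =>
    rw [Finset.prod_insert hi, Finset.sum_insert hi, pow_add]
    exact Ideal.mul_mem_mul (Ideal.pow_mem_pow (hf i) _) ih

theorem eval_mem_pow_succ (f : σ → A) (hf : ∀ i, f i ∈ J) (n : ℕ) (D : MvPolynomial σ A)
    (hD : D.IsHomogeneous n) (hcoef : ∀ α, coeff α D ∈ J) : eval f D ∈ J ^ (n + 1) := by
  rw [eval_eq]
  apply Ideal.sum_mem
  intro α hα
  have hne : coeff α D ≠ 0 := by simpa using hα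
  have hdeg : α.degree = n := by
    have := hD hne
    rw [Finsupp.degree_eq_weight_one]
    exact this
  have h1 : ∏ i ∈ α.support, f i ^ α i ∈ J ^ n := by
    have := prod_pow_mem_pow J f hf α α.support
    rwa [show ∑ i ∈ α.support, α i = n from hdeg] at this
  rw [pow_succ']
  exact Ideal.mul_mem_mul (hcoef α) h1

end Lift

section Key

variable {A : Type*} [CommRing A] (J : Ideal A) {t : ℕ} (f : Fin t → A)
  (hfJ : Ideal.span (Set.range f) = J) (𝔞 : Ideal A)
  (T : Finset (MvPolynomial (Fin t) (A ⧸ J))) (n : MvPolynomial (Fin t) (A ⧸ J) → ℕ)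
  (p : MvPolynomial (Fin t) (A ⧸ J) → MvPolynomial (Fin t) A)
  (g : MvPolynomial (Fin t) (A ⧸ J) → A)
  (hp1 : ∀ pbar ∈ T, (p pbar).IsHomogeneous (n pbar))
  (hp2 : ∀ pbar ∈ T, MvPolynomial.map (Ideal.Quotient.mk J) (p pbar) = pbar)
  (hg1 : ∀ pbar ∈ T, g pbar ∈ 𝔞)
  (hg2 : ∀ pbar ∈ T, eval f (p pbar) - g pbar ∈ J ^ (n pbar + 1))
  (hspan : ∀ (m : ℕ) (q : MvPolynomial (Fin t) A), q.IsHomogeneous m → eval f q ∈ 𝔞 →
    MvPolynomial.map (Ideal.Quotient.mk J) q ∈
      Ideal.span (T : Set (MvPolynomial (Fin t) (A ⧸ J))))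

include hfJ hp1 hp2 hg2 hspan in
theorem key_step (n0 : ℕ) (x : A) (hx𝔞 : x ∈ 𝔞) (hxJ : x ∈ J ^ n0) :
    ∃ a : MvPolynomial (Fin t) (A ⧸ J) → A,
      (∀ pbar ∈ T, n pbar ≤ n0 → a pbar ∈ J ^ (n0 - n pbar)) ∧
      x - ∑ pbar ∈ T, a pbar * g pbar ∈ J ^ (n0 + 1) := by
  classical
  have hfmem : ∀ i, f i ∈ J := fun i => hfJ ▸ Ideal.subset_span ⟨i, rfl⟩
  have hJk : ∀ k : ℕ, J ^ k = Ideal.span (Set.range f) ^ k := fun k => by rw [hfJ]
  -- write `x = eval f q` with `q` homogeneous of degree `n0`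
  obtain ⟨q, hq, hqx⟩ := (Ideal.mem_span_pow_iff_exists_isHomogeneous f x).mp (hfJ ▸ hxJ)
  have hqbar := hspan n0 q hq (hqx ▸ hx𝔞)
  obtain ⟨cbar, -, hcbar⟩ := Submodule.mem_span_finset.mp hqbar
  have hqbar_hom : (MvPolynomial.map (Ideal.Quotient.mk J) q).IsHomogeneous n0 := hq.map (Ideal.Quotient.mk J)
  -- take the component of degree `n0`
  have hcomp : MvPolynomial.map (Ideal.Quotient.mk J) q =
      ∑ pbar ∈ T, (if n pbar ≤ n0 then homogeneousComponent (n0 - n pbar) (cbar pbar) else 0) *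
        pbar := by
    rw [← homogeneousComponent_eq_self hqbar_hom, ← hcbar, map_sum]
    apply Finset.sum_congr rfl
    intro pbar hpbar
    have hpb : pbar.IsHomogeneous (n pbar) := by
      have h0 := (hp1 pbar hpbar).map (Ideal.Quotient.mk J)
      rwa [hp2 pbar hpbar] at h0
    rw [smul_eq_mul, homogeneousComponent_mul_of_isHomogeneous _ _ hpb]
    split_ifs <;> simp
  -- lift the coefficients
  have hlift : ∀ pbar, ∃ c : MvPolynomial (Fin t) A,
      (n pbar ≤ n0 → c.IsHomogeneous (n0 - n pbar)) ∧ (¬ n pbar ≤ n0 → c = 0) ∧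
      MvPolynomial.map (Ideal.Quotient.mk J) c =
        (if n pbar ≤ n0 then homogeneousComponent (n0 - n pbar) (cbar pbar) else 0) := by
    intro pbar
    by_cases h : n pbar ≤ n0
    · obtain ⟨c, hc1, hc2⟩ := exists_homogeneous_lift J (n0 - n pbar)
        (homogeneousComponent (n0 - n pbar) (cbar pbar)) (homogeneousComponent_isHomogeneous _ _)
      exact ⟨c, fun _ => hc1, fun h' => (h' h).elim, by rw [if_pos h]; exact hc2⟩
    · exact ⟨0, fun h' => (h h').elim, fun _ => rfl, by rw [if_neg h, map_zero]⟩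
  choose c hc1 hc2 hc3 using hlift
  -- the difference
  set D : MvPolynomial (Fin t) A := q - ∑ pbar ∈ T, c pbar * p pbar with hD
  have hDhom : D.IsHomogeneous n0 := by
    apply IsHomogeneous.sub hq
    apply IsHomogeneous.sum
    intro pbar hpbar
    by_cases h : n pbar ≤ n0
    · have := (hc1 pbar h).mul (hp1 pbar hpbar)
      rwa [Nat.sub_add_cancel h] at this
    · rw [hc2 pbar h, zero_mul]; exact isHomogeneous_zero (Fin t) A n0
  have hDmap : MvPolynomial.map (Ideal.Quotient.mk J) D = 0 := by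
    rw [hD, map_sub, map_sum, hcomp, sub_eq_zero]
    apply Finset.sum_congr rfl
    intro pbar hpbar
    rw [map_mul, hc3, hp2 pbar hpbar]
  have hDcoef : ∀ α, coeff α D ∈ J := by
    intro α
    have := congrArg (coeff α) hDmap
    rwa [coeff_map, coeff_zero, Ideal.Quotient.eq_zero_iff_mem] at this
  have hDeval : eval f D ∈ J ^ (n0 + 1) := eval_mem_pow_succ J f hfmem n0 D hDhom hDcoef
  refine ⟨fun pbar => eval f (c pbar), ?_, ?_⟩
  · intro pbar _ h
    rw [hJk]
    exact (Ideal.mem_span_pow_iff_exists_isHomogeneous f _).mpr ⟨c pbar, hc1 pbar h, rfl⟩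
  · have hx : x - ∑ pbar ∈ T, eval f (c pbar) * g pbar =
        eval f D + ∑ pbar ∈ T, eval f (c pbar) * (eval f (p pbar) - g pbar) := by
      rw [hD, map_sub, map_sum, hqx]
      simp only [map_mul, mul_sub, Finset.sum_sub_distrib]
      ring
    rw [hx]
    apply Ideal.add_mem _ hDeval
    apply Ideal.sum_mem
    intro pbar hpbar
    by_cases h : n pbar ≤ n0
    · have h1 : eval f (c pbar) ∈ J ^ (n0 - n pbar) := by
        rw [hJk]
        exact (Ideal.mem_span_pow_iff_exists_isHomogeneous f _).mpr ⟨c pbar, hc1 pbar h, rfl⟩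
      have h2 := Ideal.mul_mem_mul h1 (hg2 pbar hpbar)
      rwa [← pow_add, show n0 - n pbar + (n pbar + 1) = n0 + 1 by omega] at h2
    · rw [hc2 pbar h, map_zero, zero_mul]
      exact Ideal.zero_mem _

end Key

end Groth.Agent.Lib.Helper15.CN

namespace Groth.Agent.Lib.Helper15.CN

open MvPolynomial

section Main

variable {A : Type*} [CommRing A] (J : Ideal A)

theorem cauchy_of_succ (v : ℕ → A) (hv : ∀ N, v (N + 1) - v N ∈ J ^ N) {m n : ℕ} (hmn : m ≤ n) :
    v n - v m ∈ J ^ m := by
  induction n, hmn using Nat.le_induction with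
  | base => simp
  | succ n hmn ih =>
    have h1 : v (n + 1) - v n ∈ J ^ m := Ideal.pow_le_pow_right hmn (hv n)
    have := Ideal.add_mem _ h1 ih
    simpa using this

theorem smodEq_pow_iff (k : ℕ) (a b : A) :
    a ≡ b [SMOD (J ^ k • ⊤ : Submodule A A)] ↔ a - b ∈ J ^ k := by
  rw [SModEq.sub_mem, smul_eq_mul, Ideal.mul_top]

/-- **Theorem N**: a ring complete for a finitely generated ideal `J` with `A ⧸ J` Noetherian
is Noetherian. -/
theorem isNoetherianRing_of_complete {t : ℕ} (f : Fin t → A)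
    (hfJ : Ideal.span (Set.range f) = J)
    [IsNoetherianRing (A ⧸ J)] [IsHausdorff J A] [IsPrecomplete J A] : IsNoetherianRing A := by
  classical
  rw [isNoetherianRing_iff_ideal_fg]
  intro 𝔞
  let S : Set (MvPolynomial (Fin t) (A ⧸ J)) := {pbar | ∃ (m : ℕ) (p : MvPolynomial (Fin t) A)
    (g : A), p.IsHomogeneous m ∧ MvPolynomial.map (Ideal.Quotient.mk J) p = pbar ∧ g ∈ 𝔞 ∧
      eval f p - g ∈ J ^ (m + 1)}
  have hfg : (Ideal.span S).FG := IsNoetherian.noetherian _
  obtain ⟨T, hTS, hTspan⟩ := (Submodule.fg_span_iff_fg_span_finset_subset S).mp hfg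
  have hS : ∀ pbar ∈ S, ∃ (m : ℕ) (p : MvPolynomial (Fin t) A)
    (g : A), p.IsHomogeneous m ∧ MvPolynomial.map (Ideal.Quotient.mk J) p = pbar ∧ g ∈ 𝔞 ∧
      eval f p - g ∈ J ^ (m + 1) := fun pbar h => h
  choose! n p g hp1 hp2 hg1 hg2 using hS
  have hspan : ∀ (m : ℕ) (q : MvPolynomial (Fin t) A), q.IsHomogeneous m → eval f q ∈ 𝔞 →
      MvPolynomial.map (Ideal.Quotient.mk J) q ∈
        Ideal.span (T : Set (MvPolynomial (Fin t) (A ⧸ J))) := by
    intro m q hq hqa
    have : MvPolynomial.map (Ideal.Quotient.mk J) q ∈ Ideal.span S :=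
      Ideal.subset_span ⟨m, q, eval f q, hq, rfl, hqa, by simp⟩
    rw [Ideal.span, hTspan] at this
    exact this
  have key := key_step J f hfJ 𝔞 T n p g (fun pb h => hp1 pb (hTS h)) (fun pb h => hp2 pb (hTS h))
    (fun pb h => hg2 pb (hTS h)) hspan
  refine ⟨T.image g, le_antisymm ?_ ?_⟩
  · rw [Ideal.span_le]
    intro y hy
    simp only [Finset.coe_image, Set.mem_image, Finset.mem_coe] at hy
    obtain ⟨pb, hpb, rfl⟩ := hy
    exact hg1 pb (hTS hpb)
  intro x hx
  set d := T.sup n with hd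
  -- iterate
  obtain ⟨u, hu0, hu⟩ := AL.exists_seq_of_step
    (fun N (s : MvPolynomial (Fin t) (A ⧸ J) → A) => x - ∑ pb ∈ T, s pb * g pb ∈ J ^ N)
    (fun N s s' => ∀ pb ∈ T, n pb ≤ N → s' pb - s pb ∈ J ^ (N - n pb))
    (fun _ => 0) (by simp) (by
      intro N s hs
      have hy𝔞 : x - ∑ pb ∈ T, s pb * g pb ∈ 𝔞 :=
        Ideal.sub_mem _ hx (Ideal.sum_mem _ fun pb hpb => Ideal.mul_mem_left _ _ (hg1 pb (hTS hpb)))
      obtain ⟨a, ha1, ha2⟩ := key N _ hy𝔞 hs
      refine ⟨fun pb => s pb + a pb, ?_, ?_⟩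
      · have : x - ∑ pb ∈ T, (s pb + a pb) * g pb =
            x - ∑ pb ∈ T, s pb * g pb - ∑ pb ∈ T, a pb * g pb := by
          simp only [add_mul, Finset.sum_add_distrib]; ring
        rw [this]; exact ha2
      · intro pb hpb hle
        simpa using ha1 pb hpb hle)
  -- limits
  have hlim : ∀ pb, ∃ L : A, pb ∈ T → ∀ N, u (N + d) pb - L ∈ J ^ N := by
    intro pb
    by_cases hpb : pb ∈ T
    · have hnd : n pb ≤ d := Finset.le_sup hpb
      have hc : ∀ N, u (N + 1 + d) pb - u (N + d) pb ∈ J ^ N := by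
        intro N
        have h1 := (hu (N + d)).2 pb hpb (by omega)
        rw [show N + 1 + d = N + d + 1 by omega]
        exact Ideal.pow_le_pow_right (by omega) h1
      obtain ⟨L, hL⟩ := IsPrecomplete.prec (I := J) (M := A) inferInstance
        (f := fun N => u (N + d) pb) (by
          intro m k hmk
          rw [smodEq_pow_iff]
          have := cauchy_of_succ J (fun N => u (N + d) pb) hc hmk
          rw [← neg_sub]
          exact neg_mem this)
      exact ⟨L, fun _ N => (smodEq_pow_iff J N _ _).mp (hL N)⟩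
    · exact ⟨0, fun h => (hpb h).elim⟩
  choose L hL using hlim
  have hxeq : x = ∑ pb ∈ T, L pb * g pb := by
    rw [← sub_eq_zero]
    apply IsHausdorff.haus (I := J) (M := A) inferInstance
    intro N
    rw [smodEq_pow_iff, sub_zero]
    have h1 : x - ∑ pb ∈ T, L pb * g pb = (x - ∑ pb ∈ T, u (N + d) pb * g pb) +
        ∑ pb ∈ T, (u (N + d) pb - L pb) * g pb := by
      simp only [sub_mul, Finset.sum_sub_distrib]; ring
    rw [h1]
    apply Ideal.add_mem
    · exact Ideal.pow_le_pow_right (by omega) (hu (N + d)).1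
    · exact Ideal.sum_mem _ fun pb hpb => Ideal.mul_mem_right _ _ (hL pb hpb N)
  rw [hxeq]
  apply Ideal.sum_mem
  intro pb hpb
  apply Ideal.mul_mem_left
  exact Ideal.subset_span (by simp only [Finset.coe_image]; exact ⟨pb, hpb, rfl⟩)

end Main

end Groth.Agent.Lib.Helper15.CN

namespace Groth.Agent.Lib.Helper15.CN

theorem isNoetherianRing_of_fg_of_complete {A : Type*} [CommRing A] (J : Ideal A) (hJ : J.FG)
    [IsNoetherianRing (A ⧸ J)] [IsHausdorff J A] [IsPrecomplete J A] : IsNoetherianRing A := by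
  obtain ⟨t, f, hf⟩ := Submodule.fg_iff_exists_fin_generating_family.mp hJ
  exact isNoetherianRing_of_complete J f hf

end Groth.Agent.Lib.Helper15.CN

namespace Groth.Agent.Lib.Helper15.CN

section FG

variable {A : Type*} [CommRing A] (J : Ideal A)

theorem isHausdorff_ideal [IsHausdorff J A] : IsHausdorff J (↥J) := by
  refine ⟨fun x hx => ?_⟩
  have hx0 : (x : A) = 0 := by
    apply IsHausdorff.haus (I := J) (M := A) inferInstance
    intro n
    have h1 := hx n
    rw [SModEq.sub_mem, sub_zero] at h1 ⊢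
    rw [Submodule.mem_smul_top_iff] at h1
    rw [smul_eq_mul, Ideal.mul_top]
    refine (Submodule.smul_le.mpr ?_) h1
    intro r hr m _
    exact Ideal.mul_mem_right _ _ hr
  exact Subtype.ext hx0

/-- If `A` is `J`-adically complete and the image of `J` in `A ⧸ J ^ 2` is finitely generated,
then `J` is finitely generated. -/
theorem fg_of_map_sq_fg [IsHausdorff J A] [IsPrecomplete J A]
    (h : (J.map (Ideal.Quotient.mk (J ^ 2))).FG) : J.FG := by
  classical
  rw [Ideal.map] at h
  obtain ⟨T, hTS, hTspan⟩ := (Submodule.fg_span_iff_fg_span_finset_subset _).mp h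
  have hlift : ∀ τ ∈ T, ∃ a : A, a ∈ J ∧ Ideal.Quotient.mk (J ^ 2) a = τ := fun τ hτ => hTS hτ
  choose! ℓ hℓ1 hℓ2 using hlift
  let φ : (T → A) →ₗ[A] J :=
    Fintype.linearCombination A (fun i : T => (⟨ℓ i.1, hℓ1 i.1 i.2⟩ : J))
  haveI : IsPrecomplete J (T → A) := AL.isPrecomplete_pi J
  haveI : IsHausdorff J J := isHausdorff_ideal J
  have hsurj : Function.Surjective φ := by
    apply surjective_of_mkQ_comp_surjective (I := J)
    intro ybar
    obtain ⟨y, rfl⟩ := Submodule.mkQ_surjective _ ybar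
    have hy : Ideal.Quotient.mk (J ^ 2) y.1 ∈
        Submodule.span (A ⧸ J ^ 2) (T : Set (A ⧸ J ^ 2)) := by
      rw [← hTspan]
      exact Submodule.subset_span ⟨y.1, y.2, rfl⟩
    obtain ⟨c, -, hc⟩ := Submodule.mem_span_finset.mp hy
    have hclift : ∀ τ, ∃ a : A, Ideal.Quotient.mk (J ^ 2) a = c τ :=
      fun τ => Ideal.Quotient.mk_surjective _
    choose a ha using hclift
    refine ⟨fun i => a i.1, ?_⟩
    rw [LinearMap.comp_apply, Submodule.mkQ_apply, Submodule.mkQ_apply, Submodule.Quotient.eq,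
      Submodule.mem_smul_top_iff]
    have h1 : ((φ fun i => a i.1 : J) : A) = ∑ τ ∈ T, a τ * ℓ τ := by
      simp only [φ, Fintype.linearCombination_apply]
      rw [Submodule.coe_sum, ← Finset.sum_coe_sort T (fun τ => a τ * ℓ τ)]
      rfl
    rw [Submodule.coe_sub, h1, smul_eq_mul, ← pow_two, ← Ideal.Quotient.eq_zero_iff_mem,
      map_sub, map_sum, ← hc, sub_eq_zero]
    symm
    apply Finset.sum_congr rfl
    intro τ hτ
    rw [map_mul, ha, hℓ2 τ hτ, smul_eq_mul]
  exact Module.Finite.iff_fg.mp (Module.Finite.of_surjective φ hsurj)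

/-- A ring `A` complete for `J` with `A ⧸ J ^ 2` Noetherian is Noetherian. -/
theorem isNoetherianRing_of_quotient_sq [IsHausdorff J A] [IsPrecomplete J A]
    [IsNoetherianRing (A ⧸ J ^ 2)] : IsNoetherianRing A := by
  have hJ : J.FG := fg_of_map_sq_fg J (IsNoetherian.noetherian _)
  haveI : IsNoetherianRing (A ⧸ J) :=
    isNoetherianRing_of_surjective (A ⧸ J ^ 2) (A ⧸ J)
      (Ideal.Quotient.factor (Ideal.pow_le_self (by norm_num)))
      (Ideal.Quotient.factor_surjective _)
  exact isNoetherianRing_of_fg_of_complete J hJ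

end FG

end Groth.Agent.Lib.Helper15.CN
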