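import Mathlib

/-! Maximal points (generic points of irreducible components) in quasi-sober spaces, and the
bijection between irreducible components through a point and those of the set of generizations. -/

namespace Groth.Agent.Lib.Helper15.NT

open TopologicalSpace Topology Set

variable {A B : Type*} [TopologicalSpace A] [TopologicalSpace B]

/-- In a quasi-sober space, `closure {t}` is an irreducible component iff `t` is maximal for
generization. -/
theorem closure_singleton_mem_irreducibleComponents_iff [QuasiSober B] (t : B) :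
    closure ({t} : Set B) ∈ irreducibleComponents B ↔ ∀ t' : B, t' ⤳ t → t ⤳ t' := by
  constructor
  · intro h t' ht'
    have h1 : closure ({t} : Set B) ⊆ closure {t'} := specializes_iff_closure_subset.mp ht'
    have h2 : closure ({t'} : Set B) ⊆ closure {t} := h.2 isIrreducible_singleton.closure h1
    exact specializes_iff_closure_subset.mpr h2
  · intro h
    refine ⟨isIrreducible_singleton.closure, ?_⟩
    intro T hT hle
    obtain ⟨t', ht'⟩ := QuasiSober.sober hT.closure isClosed_closure
    have h1 : t' ⤳ t := by
      rw [specializes_iff_mem_closure, ht'.def]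
      exact subset_closure (hle (subset_closure rfl))
    have h2 : t ⤳ t' := h t' h1
    calc T ⊆ closure T := subset_closure
      _ = closure {t'} := ht'.def.symm
      _ ⊆ closure {t} := specializes_iff_closure_subset.mp h2

theorem exists_eq_closure_singleton_of_mem_irreducibleComponents [QuasiSober B] {Z : Set B}
    (hZ : Z ∈ irreducibleComponents B) : ∃ t : B, Z = closure {t} := by
  obtain ⟨t, ht⟩ := QuasiSober.sober hZ.1 (isClosed_of_mem_irreducibleComponents Z hZ)
  exact ⟨t, ht.def.symm⟩

/-- Bijection between irreducible components of the space of generizations of `x` and the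
irreducible components through `x`. -/
theorem bijOn_irreducibleComponents_of_range_eq_generizations [QuasiSober A] [QuasiSober B]
    [T0Space A] {f : A → B} (hf : IsInducing f) (x : B) (hr : Set.range f = {y | y ⤳ x}) :
    Set.BijOn (fun z : A => closure ({f z} : Set B))
      {z | closure ({z} : Set A) ∈ irreducibleComponents A}
      {Z | Z ∈ irreducibleComponents B ∧ x ∈ Z} := by
  have hfx : ∀ z, f z ⤳ x := fun z => by
    have : f z ∈ Set.range f := ⟨z, rfl⟩
    rw [hr] at this; exact this
  refine ⟨?_, ?_, ?_⟩
  · intro z hz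
    rw [mem_setOf_eq, closure_singleton_mem_irreducibleComponents_iff] at hz
    refine ⟨?_, specializes_iff_mem_closure.mp (hfx z)⟩
    rw [closure_singleton_mem_irreducibleComponents_iff]
    intro t' ht'
    have : t' ∈ Set.range f := by rw [hr]; exact ht'.trans (hfx z)
    obtain ⟨z', rfl⟩ := this
    exact hf.specializes_iff.mpr (hz z' (hf.specializes_iff.mp ht'))
  · intro z _ z' _ h
    simp only at h
    have h1 : f z ⤳ f z' := specializes_iff_closure_subset.mpr h.ge
    have h2 : f z' ⤳ f z := specializes_iff_closure_subset.mpr h.le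
    exact ((hf.specializes_iff.mp h1).antisymm (hf.specializes_iff.mp h2)).eq
  · rintro Z ⟨hZ, hxZ⟩
    obtain ⟨t, rfl⟩ := exists_eq_closure_singleton_of_mem_irreducibleComponents hZ
    have htx : t ⤳ x := specializes_iff_mem_closure.mpr hxZ
    have : t ∈ Set.range f := by rw [hr]; exact htx
    obtain ⟨z, rfl⟩ := this
    refine ⟨z, ?_, rfl⟩
    rw [mem_setOf_eq, closure_singleton_mem_irreducibleComponents_iff]
    rw [closure_singleton_mem_irreducibleComponents_iff] at hZ
    intro z' hz'
    exact hf.specializes_iff.mp (hZ (f z') (hf.specializes_iff.mpr hz'))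

theorem exists_maxPt_specializes [QuasiSober B] (z : B) :
    ∃ z₁ : B, closure ({z₁} : Set B) ∈ irreducibleComponents B ∧ z₁ ⤳ z := by
  obtain ⟨z₁, hz₁⟩ := exists_eq_closure_singleton_of_mem_irreducibleComponents
    (irreducibleComponent_mem_irreducibleComponents z)
  refine ⟨z₁, hz₁ ▸ irreducibleComponent_mem_irreducibleComponents z, ?_⟩
  rw [specializes_iff_mem_closure, ← hz₁]
  exact mem_irreducibleComponent

/-- The irreducible components of `B` are pairwise disjoint iff each space of generizations is
irreducible. -/
theorem pairwiseDisjoint_irreducibleComponents_iff_of_generizations [QuasiSober B]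
    (A : B → Type*) [∀ x, TopologicalSpace (A x)] [∀ x, QuasiSober (A x)] [∀ x, T0Space (A x)]
    [∀ x, Nonempty (A x)] (f : ∀ x, A x → B) (hf : ∀ x, IsInducing (f x))
    (hr : ∀ x, Set.range (f x) = {y | y ⤳ x}) :
    (irreducibleComponents B).PairwiseDisjoint id ↔ ∀ x, IrreducibleSpace (A x) := by
  constructor
  · intro hd x
    have hbij := bijOn_irreducibleComponents_of_range_eq_generizations (hf x) x (hr x)
    have huniq : ∀ z ∈ {z | closure ({z} : Set (A x)) ∈ irreducibleComponents (A x)},
        ∀ z' ∈ {z | closure ({z} : Set (A x)) ∈ irreducibleComponents (A x)}, z = z' := by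
      intro z hz z' hz'
      apply hbij.injOn hz hz'
      by_contra hne
      have h1 := hbij.mapsTo hz
      have h2 := hbij.mapsTo hz'
      have hdis : Disjoint (closure ({f x z} : Set B)) (closure ({f x z'} : Set B)) :=
        hd h1.1 h2.1 hne
      exact (Set.disjoint_iff.mp hdis) ⟨h1.2, h2.2⟩
    obtain ⟨a⟩ := (inferInstance : Nonempty (A x))
    obtain ⟨z₀, hz₀, -⟩ := exists_maxPt_specializes a
    rw [irreducibleSpace_def]
    have : (Set.univ : Set (A x)) = closure {z₀} := by
      symm
      rw [Set.eq_univ_iff_forall]
      intro z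
      obtain ⟨z₁, hz₁, hz₁z⟩ := exists_maxPt_specializes z
      rw [← huniq z₁ hz₁ z₀ hz₀]
      exact specializes_iff_mem_closure.mp hz₁z
    change IsIrreducible (Set.univ : Set (A x))
    rw [this]
    exact isIrreducible_singleton.closure
  · intro hirr Z₁ hZ₁ Z₂ hZ₂ hne
    change Disjoint Z₁ Z₂
    rw [Set.disjoint_iff]
    rintro x ⟨hx1, hx2⟩
    apply hne
    have hbij := bijOn_irreducibleComponents_of_range_eq_generizations (hf x) x (hr x)
    obtain ⟨z₁, hz₁, rfl⟩ := hbij.surjOn ⟨hZ₁, hx1⟩
    obtain ⟨z₂, hz₂, rfl⟩ := hbij.surjOn ⟨hZ₂, hx2⟩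
    haveI := hirr x
    rw [mem_setOf_eq, irreducibleComponents_eq_singleton, Set.mem_singleton_iff] at hz₁ hz₂
    have h1 : z₁ ⤳ z₂ := by rw [specializes_iff_mem_closure, hz₁]; trivial
    have h2 : z₂ ⤳ z₁ := by rw [specializes_iff_mem_closure, hz₂]; trivial
    have : z₁ = z₂ := (h1.antisymm h2).eq
    simp only [id, this]

end Groth.Agent.Lib.Helper15.NT
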