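import Mathlib

/-! Topology of (locally) Noetherian spaces: connected components are open, etc. -/

namespace Groth.Agent.Lib.Helper15.NT

open TopologicalSpace Topology Set

variable {α : Type*} [TopologicalSpace α]

/-- In a Noetherian space, connected components are open. -/
theorem isOpen_connectedComponent_of_noetherianSpace [NoetherianSpace α] (x : α) :
    IsOpen (connectedComponent x) := by
  have hfin : (irreducibleComponents α).Finite := NoetherianSpace.finite_irreducibleComponents
  set C := connectedComponent x with hC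
  set T : Set α := ⋃ Z ∈ {Z ∈ irreducibleComponents α | Disjoint Z C}, Z with hT
  have hTclosed : IsClosed T := by
    apply Set.Finite.isClosed_biUnion (hfin.subset (fun Z hZ => hZ.1))
    intro Z hZ
    exact isClosed_of_mem_irreducibleComponents Z hZ.1
  have hCT : Cᶜ = T := by
    ext y
    constructor
    · intro hy
      refine Set.mem_biUnion (x := irreducibleComponent y) ⟨irreducibleComponent_mem_irreducibleComponents y, ?_⟩ mem_irreducibleComponent
      rw [Set.disjoint_iff]
      rintro z ⟨hz1, hz2⟩
      apply hy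
      have h1 : irreducibleComponent y ⊆ connectedComponent z :=
        isIrreducible_irreducibleComponent.isConnected.isPreconnected.subset_connectedComponent hz1
      have h2 : connectedComponent x = connectedComponent z := connectedComponent_eq hz2
      rw [hC, h2]
      exact h1 mem_irreducibleComponent
    · intro hy
      obtain ⟨Z, ⟨-, hZ⟩, hyZ⟩ := Set.mem_iUnion₂.mp hy
      intro hyC
      exact (Set.disjoint_iff.mp hZ) ⟨hyZ, hyC⟩
  rw [← isClosed_compl_iff, hCT]
  exact hTclosed

/-- A space in which every point has a Noetherian neighbourhood is locally connected. -/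
theorem locallyConnectedSpace_of_locallyNoetherian
    (hX : ∀ x : α, ∃ U ∈ nhds x, NoetherianSpace U) : LocallyConnectedSpace α := by
  rw [locallyConnectedSpace_iff_connected_subsets]
  intro x U hU
  obtain ⟨N, hN, hNoeth⟩ := hX x
  set W : Set α := interior (U ∩ N) with hW
  have hWopen : IsOpen W := isOpen_interior
  have hxW : x ∈ W := mem_interior_iff_mem_nhds.mpr (Filter.inter_mem hU hN)
  have hWN : W ⊆ N := interior_subset.trans Set.inter_subset_right
  have hWU : W ⊆ U := interior_subset.trans Set.inter_subset_left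
  haveI : NoetherianSpace W := NoetherianSpace.of_subset (W := N) hWN
  set C : Set W := connectedComponent (⟨x, hxW⟩ : W) with hC
  have hCopen : IsOpen C := isOpen_connectedComponent_of_noetherianSpace _
  refine ⟨Subtype.val '' C, ?_, ?_, ?_⟩
  · have : IsOpen (Subtype.val '' C) := hWopen.isOpenMap_subtype_val C hCopen
    exact this.mem_nhds ⟨⟨x, hxW⟩, mem_connectedComponent, rfl⟩
  · exact (isPreconnected_connectedComponent).image _ continuous_subtype_val.continuousOn
  · rintro _ ⟨y, -, rfl⟩
    exact hWU y.2

/-- Local finiteness of irreducible components in a locally Noetherian space. -/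
theorem exists_open_finite_irreducibleComponents_cover
    (hX : ∀ x : α, ∃ U ∈ nhds x, NoetherianSpace U) (z : α) :
    ∃ W : Set α, IsOpen W ∧ z ∈ W ∧ ∃ S : Set (Set α), S.Finite ∧ S ⊆ irreducibleComponents α ∧
      W ⊆ ⋃₀ S := by
  obtain ⟨N, hN, hNoeth⟩ := hX z
  set W : Set α := interior N with hW
  have hWN : W ⊆ N := interior_subset
  haveI : NoetherianSpace W := NoetherianSpace.of_subset (W := N) hWN
  obtain ⟨S₀, hS₀fin, -, hS₀irr, hS₀univ⟩ :=
    NoetherianSpace.exists_finite_set_isClosed_irreducible (isClosed_univ : IsClosed (univ : Set W))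
  have hex : ∀ t : Set W, ∃ u : Set α, IsIrreducible t → u ∈ irreducibleComponents α ∧
      Subtype.val '' t ⊆ u := by
    intro t
    by_cases ht : IsIrreducible t
    · obtain ⟨u, hu, htu⟩ := exists_mem_irreducibleComponents_subset_of_isIrreducible
        (Subtype.val '' t) (ht.image _ continuous_subtype_val.continuousOn)
      exact ⟨u, fun _ => ⟨hu, htu⟩⟩
    · exact ⟨∅, fun h => (ht h).elim⟩
  choose u hu using hex
  refine ⟨W, isOpen_interior, mem_interior_iff_mem_nhds.mpr hN, u '' S₀, hS₀fin.image u, ?_, ?_⟩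
  · rintro _ ⟨t, ht, rfl⟩
    exact (hu t (hS₀irr t ht)).1
  · intro w hw
    have : (⟨w, hw⟩ : W) ∈ ⋃₀ S₀ := by rw [← hS₀univ]; trivial
    obtain ⟨t, ht, hwt⟩ := this
    exact ⟨u t, ⟨t, ht, rfl⟩, (hu t (hS₀irr t ht)).2 ⟨⟨w, hw⟩, hwt, rfl⟩⟩

theorem irreducibleComponents_open_tfae
    (hX : ∀ x : α, ∃ U ∈ nhds x, NoetherianSpace U) :
    List.TFAE [∀ Z ∈ irreducibleComponents α, IsOpen Z,
      irreducibleComponents α = Set.range (connectedComponent : α → Set α),
      ∀ x : α, IsIrreducible (connectedComponent x),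
      (irreducibleComponents α).PairwiseDisjoint id] := by
  have key : (∀ Z ∈ irreducibleComponents α, IsOpen Z) → ∀ Z ∈ irreducibleComponents α,
      ∀ z ∈ Z, Z = connectedComponent z := by
    intro ha Z hZ z hz
    apply subset_antisymm
    · exact hZ.1.isConnected.isPreconnected.subset_connectedComponent hz
    · exact IsClopen.connectedComponent_subset
        ⟨isClosed_of_mem_irreducibleComponents Z hZ, ha Z hZ⟩ hz
  tfae_have 1 → 2 := by
    intro ha
    ext Z
    constructor
    · intro hZ
      obtain ⟨z, hz⟩ := hZ.1.nonempty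
      exact ⟨z, (key ha Z hZ z hz).symm⟩
    · rintro ⟨x, rfl⟩
      rw [← key ha _ (irreducibleComponent_mem_irreducibleComponents x) x mem_irreducibleComponent]
      exact irreducibleComponent_mem_irreducibleComponents x
  tfae_have 2 → 3 := by
    intro hb x
    have : connectedComponent x ∈ irreducibleComponents α := by rw [hb]; exact ⟨x, rfl⟩
    exact this.1
  tfae_have 3 → 4 := by
    intro hc Z₁ hZ₁ Z₂ hZ₂ hne
    change Disjoint Z₁ Z₂
    rw [Set.disjoint_iff]
    rintro z ⟨hz1, hz2⟩
    apply hne
    have h1 : Z₁ ⊆ connectedComponent z :=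
      hZ₁.1.isConnected.isPreconnected.subset_connectedComponent hz1
    have h2 : Z₂ ⊆ connectedComponent z :=
      hZ₂.1.isConnected.isPreconnected.subset_connectedComponent hz2
    have e1 : Z₁ = connectedComponent z := subset_antisymm h1 (hZ₁.2 (hc z) h1)
    have e2 : Z₂ = connectedComponent z := subset_antisymm h2 (hZ₂.2 (hc z) h2)
    rw [e1, e2]
  tfae_have 4 → 1 := by
    intro hd Z hZ
    rw [isOpen_iff_mem_nhds]
    intro z hz
    obtain ⟨W, hWopen, hzW, S, hSfin, hSsub, hWS⟩ :=
      exists_open_finite_irreducibleComponents_cover hX z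
    set T : Set α := ⋃₀ (S \ {Z}) with hT
    have hTclosed : IsClosed T := by
      rw [hT, Set.sUnion_eq_biUnion]
      apply Set.Finite.isClosed_biUnion (hSfin.subset Set.diff_subset)
      intro Z' hZ'
      exact isClosed_of_mem_irreducibleComponents Z' (hSsub hZ'.1)
    have hzT : z ∉ T := by
      rintro ⟨Z', ⟨hZ'S, hZ'ne⟩, hzZ'⟩
      have hdis : Disjoint Z' Z := hd (hSsub hZ'S) hZ (by simpa using hZ'ne)
      exact (Set.disjoint_iff.mp hdis) ⟨hzZ', hz⟩
    have hopen : IsOpen (W ∩ Tᶜ) := hWopen.inter hTclosed.isOpen_compl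
    refine Filter.mem_of_superset (hopen.mem_nhds ⟨hzW, hzT⟩) ?_
    rintro w ⟨hwW, hwT⟩
    obtain ⟨Z', hZ'S, hwZ'⟩ := hWS hwW
    by_cases hZZ : Z' = Z
    · rw [← hZZ]; exact hwZ'
    · exact (hwT ⟨Z', ⟨hZ'S, by simpa using hZZ⟩, hwZ'⟩).elim
  tfae_finish

end Groth.Agent.Lib.Helper15.NT
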