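import Mathlib
import Groth.Agent.Lib.Helper15.MaxPts
import Groth.Agent.Lib.Helper15.NoethTop

/-! Irreducible components of schemes and nilradicals of stalks. -/

namespace Groth.Agent.Lib.Helper15.NT

open TopologicalSpace Topology Set AlgebraicGeometry CategoryTheory

universe u

theorem pairwiseDisjoint_irreducibleComponents_iff_nilradical_isPrime (X : Scheme.{u}) :
    (irreducibleComponents (X : Type u)).PairwiseDisjoint id ↔
      ∀ x : X, (nilradical (X.presheaf.stalk x)).IsPrime := by
  have h := pairwiseDisjoint_irreducibleComponents_iff_of_generizations (B := X)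
    (fun x => PrimeSpectrum (X.presheaf.stalk x)) (fun x => (X.fromSpecStalk x : _ → _))
    (fun x => (X.fromSpecStalk x).isEmbedding.isInducing) (fun x => Scheme.range_fromSpecStalk)
  rw [h]
  exact forall_congr' fun x => PrimeSpectrum.irreducibleSpace_iff_isPrime_nilradical

theorem exists_noetherian_nhds_of_isLocallyNoetherian (X : Scheme.{u}) [IsLocallyNoetherian X]
    (x : X) : ∃ U ∈ nhds x, NoetherianSpace (U : Set X) := by
  obtain ⟨U, hU, hxU, -⟩ := exists_isAffineOpen_mem_and_subset (X := X) (x := x) (U := ⊤) trivial
  haveI : IsNoetherianRing Γ(X, U) := IsLocallyNoetherian.component_noetherian ⟨U, hU⟩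
  exact ⟨(U : Set X), U.isOpen.mem_nhds hxU, noetherianSpace_of_isAffineOpen U hU⟩

theorem irreducibleSpace_iff_connected_and_nilradical_isPrime (X : Scheme.{u})
    [IsLocallyNoetherian X] :
    IrreducibleSpace X ↔ ConnectedSpace X ∧ ∀ x : X, (nilradical (X.presheaf.stalk x)).IsPrime := by
  rw [← pairwiseDisjoint_irreducibleComponents_iff_nilradical_isPrime]
  constructor
  · intro h
    refine ⟨inferInstance, ?_⟩
    rw [irreducibleComponents_eq_singleton]
    exact Set.pairwiseDisjoint_singleton _ _
  · rintro ⟨hc, hd⟩
    have h3 : ∀ x : X, IsIrreducible (connectedComponent x) :=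
      ((irreducibleComponents_open_tfae
        (exists_noetherian_nhds_of_isLocallyNoetherian X)).out 3 2).mp hd
    obtain ⟨x⟩ := (inferInstance : Nonempty X)
    rw [irreducibleSpace_def]
    change IsIrreducible (Set.univ : Set X)
    rw [← PreconnectedSpace.connectedComponent_eq_univ x]
    exact h3 x

theorem isIntegral_iff_connected_and_isDomain_stalk (X : Scheme.{u}) [IsLocallyNoetherian X] :
    IsIntegral X ↔ ConnectedSpace X ∧ ∀ x : X, IsDomain (X.presheaf.stalk x) := by
  constructor
  · intro h
    exact ⟨inferInstance, fun x => inferInstance⟩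
  · rintro ⟨hc, hd⟩
    haveI : ∀ x : X, _root_.IsReduced (X.presheaf.stalk x) := fun x => by
      haveI := hd x; infer_instance
    haveI : IsReduced X := isReduced_of_isReduced_stalk X
    haveI : IrreducibleSpace X := by
      rw [irreducibleSpace_iff_connected_and_nilradical_isPrime]
      refine ⟨hc, fun x => ?_⟩
      haveI := hd x
      rw [nilradical_eq_zero]
      exact Ideal.isPrime_bot
    exact (isIntegral_iff_irreducibleSpace_and_isReduced X).mpr ⟨inferInstance, inferInstance⟩

end Groth.Agent.Lib.Helper15.NT
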