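import Groth.Prelude.Def_MoreMor
import Mathlib.AlgebraicGeometry.IdealSheaf.Functorial
import Mathlib.AlgebraicGeometry.Morphisms.ClosedImmersion
import Mathlib.AlgebraicGeometry.Morphisms.Affine
import Mathlib.AlgebraicGeometry.PullbackCarrier

/-!
# Thickenings: stability under base change (helper15)

* `ker_le_map_of_isPushout`: in a pushout square of commutative rings with one leg surjective, the
  kernel of the opposite leg is generated by the image of the kernel.
* `ker_mul_ker_eq_bot_of_isPullback`: square-zero kernels are stable under base change.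
* `isFirstOrderThickening_of_isPullback`: first order thickenings are stable under base change.
-/

set_option autoImplicit false
universe u

open AlgebraicGeometry CategoryTheory Limits

namespace Groth.Agent.Lib.Helper15

theorem ker_le_map_of_isPushout {A B C D : CommRingCat.{u}} {α : A ⟶ B} {γ : A ⟶ C} {β : B ⟶ D}
    {δ : C ⟶ D} (h : IsPushout α γ β δ) (hγ : Function.Surjective γ.hom) :
    RingHom.ker β.hom ≤ Ideal.map α.hom (RingHom.ker γ.hom) := by
  let K := Ideal.map α.hom (RingHom.ker γ.hom)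
  let u : B ⟶ CommRingCat.of (B ⧸ K) := CommRingCat.ofHom (Ideal.Quotient.mk K)
  have hker : RingHom.ker γ.hom ≤ RingHom.ker ((Ideal.Quotient.mk K).comp α.hom) := by
    intro a ha
    show (Ideal.Quotient.mk K) (α.hom a) = 0
    exact Ideal.Quotient.eq_zero_iff_mem.mpr (Ideal.mem_map_of_mem _ ha)
  let v : C ⟶ CommRingCat.of (B ⧸ K) :=
    CommRingCat.ofHom (RingHom.liftOfSurjective γ.hom hγ ⟨(Ideal.Quotient.mk K).comp α.hom, hker⟩)
  have hcomm : α ≫ u = γ ≫ v := by
    ext a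
    simp only [u, v, CommRingCat.hom_comp, CommRingCat.hom_ofHom, RingHom.comp_apply]
    exact (RingHom.liftOfRightInverse_comp_apply γ.hom _ _
      ⟨(Ideal.Quotient.mk K).comp α.hom, hker⟩ a).symm
  intro b hb
  have h1 : β ≫ h.desc u v hcomm = u := h.inl_desc _ _ _
  have h2 : u.hom b = 0 := by
    rw [← h1, CommRingCat.hom_comp, RingHom.comp_apply, RingHom.mem_ker.mp hb, map_zero]
  exact Ideal.Quotient.eq_zero_iff_mem.mp h2

/-- Square-zero kernels are stable under base change of closed immersions. -/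
theorem ker_mul_ker_eq_bot_of_isPullback {Z P W W' : Scheme.{u}} {i : Z ⟶ P} {f : Z ⟶ W}
    {s : P ⟶ W'} {j : W ⟶ W'} (H : IsPullback i f s j) [IsClosedImmersion j]
    (hj : j.ker * j.ker = ⊥) : i.ker * i.ker = ⊥ := by
  have : IsClosedImmersion i :=
    MorphismProperty.of_isPullback (P := @IsClosedImmersion) H.flip inferInstance
  rw [eq_bot_iff]
  refine Scheme.IdealSheafData.le_of_iSup_eq_top
    (ι := {p : P.affineOpens × W'.affineOpens // p.1.1 ≤ s ⁻¹ᵁ p.2.1}) (fun p => p.1.1) ?_ ?_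
  · rw [eq_top_iff]
    rintro x -
    obtain ⟨_, ⟨(V : W'.Opens), hV : IsAffineOpen V, rfl⟩, hxV, -⟩ :=
      W'.isBasis_affineOpens.exists_subset_of_mem_open (Set.mem_univ (s.base x)) isOpen_univ
    obtain ⟨_, ⟨(U : P.Opens), hU : IsAffineOpen U, rfl⟩, hxU, hUV⟩ :=
      P.isBasis_affineOpens.exists_subset_of_mem_open
        (show x ∈ ((s ⁻¹ᵁ V : P.Opens) : Set P) from hxV) (s ⁻¹ᵁ V).isOpen
    exact TopologicalSpace.Opens.mem_iSup.mpr ⟨⟨(⟨U, hU⟩, ⟨V, hV⟩), hUV⟩, hxU⟩
  · rintro ⟨⟨U, V⟩, hUV⟩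
    change (i.ker * i.ker).ideal U ≤ (⊥ : P.IdealSheafData).ideal U
    rw [Scheme.IdealSheafData.ideal_mul, Pi.mul_apply, Scheme.IdealSheafData.ideal_bot,
      Pi.bot_apply, Scheme.Hom.ker_apply]
    have hUY : i ⁻¹ᵁ U.1 = i ⁻¹ᵁ U.1 ⊓ f ⁻¹ᵁ (j ⁻¹ᵁ V.1) := by
      refine (inf_eq_left.mpr ?_).symm
      rw [← Scheme.Hom.comp_preimage, ← H.w, Scheme.Hom.comp_preimage]
      exact i.preimage_mono hUV
    have Hres := Scheme.Hom.isPullback_resLE H (US := V.1) (UT := j ⁻¹ᵁ V.1) (UX := U.1)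
      le_rfl hUV hUY
    have : IsAffine (U.1 : Scheme.{u}) := U.2
    have : IsAffine (V.1 : Scheme.{u}) := V.2
    have : IsAffine ((j ⁻¹ᵁ V.1 : W.Opens) : Scheme.{u}) := V.2.preimage j
    have Hpo := isPushout_appTop_of_isPullback Hres
    have hjapp : (j.resLE V.1 (j ⁻¹ᵁ V.1) le_rfl).appTop =
        V.1.topIso.hom ≫ j.app V.1 ≫ (j ⁻¹ᵁ V.1).topIso.inv := by
      rw [Scheme.Hom.appTop, Scheme.Hom.resLE_app_top, Scheme.Hom.appLE_eq_app]
    have hiapp : (i.resLE U.1 (i ⁻¹ᵁ U.1) le_rfl).appTop =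
        U.1.topIso.hom ≫ i.app U.1 ≫ (i ⁻¹ᵁ U.1).topIso.inv := by
      rw [Scheme.Hom.appTop, Scheme.Hom.resLE_app_top, Scheme.Hom.appLE_eq_app]
    have hsurj : Function.Surjective (j.resLE V.1 (j ⁻¹ᵁ V.1) le_rfl).appTop.hom := by
      rw [hjapp]
      simp only [CommRingCat.hom_comp, RingHom.coe_comp]
      exact ((ConcreteCategory.bijective_of_isIso (j ⁻¹ᵁ V.1).topIso.inv).2.comp
        (j.app_surjective V.1 V.2)).comp (ConcreteCategory.bijective_of_isIso V.1.topIso.hom).2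
    have hle := ker_le_map_of_isPushout Hpo hsurj
    -- the kernel of `γ'` has square zero
    have hγ2 : RingHom.ker (j.resLE V.1 (j ⁻¹ᵁ V.1) le_rfl).appTop.hom *
        RingHom.ker (j.resLE V.1 (j ⁻¹ᵁ V.1) le_rfl).appTop.hom = ⊥ := by
      rw [eq_bot_iff, Ideal.mul_le]
      intro c hc c' hc'
      rw [Ideal.mem_bot]
      have hmem : ∀ c ∈ RingHom.ker (j.resLE V.1 (j ⁻¹ᵁ V.1) le_rfl).appTop.hom,
          V.1.topIso.hom.hom c ∈ j.ker.ideal V := by
        intro c hc
        rw [Scheme.Hom.ker_apply, RingHom.mem_ker]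
        rw [RingHom.mem_ker, hjapp] at hc
        simp only [CommRingCat.hom_comp, RingHom.comp_apply] at hc
        exact (ConcreteCategory.bijective_of_isIso (j ⁻¹ᵁ V.1).topIso.inv).1
          (hc.trans (map_zero _).symm)
      have h0 : V.1.topIso.hom.hom c * V.1.topIso.hom.hom c' ∈ (j.ker * j.ker).ideal V := by
        rw [Scheme.IdealSheafData.ideal_mul, Pi.mul_apply]
        exact Ideal.mul_mem_mul (hmem c hc) (hmem c' hc')
      rw [hj, Scheme.IdealSheafData.ideal_bot, Pi.bot_apply, Ideal.mem_bot, ← map_mul] at h0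
      exact (ConcreteCategory.bijective_of_isIso V.1.topIso.hom).1 (h0.trans (map_zero _).symm)
    have hzero : Ideal.map (s.resLE V.1 U.1 hUV).appTop.hom
          (RingHom.ker (j.resLE V.1 (j ⁻¹ᵁ V.1) le_rfl).appTop.hom) *
        Ideal.map (s.resLE V.1 U.1 hUV).appTop.hom
          (RingHom.ker (j.resLE V.1 (j ⁻¹ᵁ V.1) le_rfl).appTop.hom) = ⊥ := by
      rw [← Ideal.map_mul, hγ2, Ideal.map_bot]
    have key : ∀ a ∈ RingHom.ker (i.app U.1).hom, U.1.topIso.inv.hom a ∈
        Ideal.map (s.resLE V.1 U.1 hUV).appTop.hom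
          (RingHom.ker (j.resLE V.1 (j ⁻¹ᵁ V.1) le_rfl).appTop.hom) := by
      intro a ha
      apply hle
      rw [RingHom.mem_ker, hiapp]
      simp only [CommRingCat.hom_comp, RingHom.comp_apply]
      have : U.1.topIso.hom.hom (U.1.topIso.inv.hom a) = a := by
        rw [← RingHom.comp_apply, ← CommRingCat.hom_comp, Iso.inv_hom_id]
        rfl
      rw [this, RingHom.mem_ker.mp ha, map_zero]
    rw [Ideal.mul_le]
    intro a ha b hb
    rw [Ideal.mem_bot]
    have hab := Ideal.mul_mem_mul (key a ha) (key b hb)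
    rw [hzero, Ideal.mem_bot, ← map_mul] at hab
    exact (ConcreteCategory.bijective_of_isIso U.1.topIso.inv).1 (hab.trans (map_zero _).symm)

/-- Thickenings are stable under base change. -/
theorem isThickening_of_isPullback {Z P W W' : Scheme.{u}} {i : Z ⟶ P} {f : Z ⟶ W}
    {s : P ⟶ W'} {j : W ⟶ W'} (H : IsPullback i f s j) (hj : MoreMor.IsThickening j) :
    MoreMor.IsThickening i :=
  ⟨MorphismProperty.of_isPullback (P := @IsClosedImmersion) H.flip hj.1,
    MorphismProperty.of_isPullback (P := @Surjective) H.flip hj.2⟩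

/-- First order thickenings are stable under base change. -/
theorem isFirstOrderThickening_of_isPullback {Z P W W' : Scheme.{u}} {i : Z ⟶ P} {f : Z ⟶ W}
    {s : P ⟶ W'} {j : W ⟶ W'} (H : IsPullback i f s j)
    (hj : MoreMor.IsFirstOrderThickening j) : MoreMor.IsFirstOrderThickening i :=
  haveI := hj.1.1
  ⟨isThickening_of_isPullback H hj.1, ker_mul_ker_eq_bot_of_isPullback H hj.2⟩

/-- If a composite of closed immersions has square-zero kernel, so has the first factor. -/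
theorem ker_mul_ker_eq_bot_of_comp {Z Q Z' : Scheme.{u}} (ι : Z ⟶ Q) (q : Q ⟶ Z')
    [IsClosedImmersion ι] [IsClosedImmersion q]
    (h : (ι ≫ q).ker * (ι ≫ q).ker = ⊥) : ι.ker * ι.ker = ⊥ := by
  rw [eq_bot_iff]
  refine Scheme.IdealSheafData.le_of_iSup_eq_top
    (ι := Z'.affineOpens) (fun U' => ⟨q ⁻¹ᵁ U'.1, U'.2.preimage q⟩) ?_ ?_
  · rw [eq_top_iff]
    rintro x -
    obtain ⟨_, ⟨(V : Z'.Opens), hV : IsAffineOpen V, rfl⟩, hxV, -⟩ :=
      Z'.isBasis_affineOpens.exists_subset_of_mem_open (Set.mem_univ (q.base x)) isOpen_univ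
    exact TopologicalSpace.Opens.mem_iSup.mpr ⟨⟨V, hV⟩, hxV⟩
  · intro U'
    change (ι.ker * ι.ker).ideal _ ≤ (⊥ : Q.IdealSheafData).ideal _
    rw [Scheme.IdealSheafData.ideal_mul, Pi.mul_apply, Scheme.IdealSheafData.ideal_bot,
      Pi.bot_apply, Scheme.Hom.ker_apply, Ideal.mul_le]
    intro x hx y hy
    rw [Ideal.mem_bot]
    obtain ⟨x', rfl⟩ := q.app_surjective U'.1 U'.2 x
    obtain ⟨y', rfl⟩ := q.app_surjective U'.1 U'.2 y
    have hmem : ∀ z : Γ(Z', U'.1), (q.app U'.1).hom z ∈ RingHom.ker (ι.app (q ⁻¹ᵁ U'.1)).hom →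
        z ∈ (ι ≫ q).ker.ideal U' := by
      intro z hz
      rw [Scheme.Hom.ker_apply, RingHom.mem_ker, Scheme.Hom.comp_app]
      exact RingHom.mem_ker.mp hz
    have h0 : x' * y' ∈ ((ι ≫ q).ker * (ι ≫ q).ker).ideal U' := by
      rw [Scheme.IdealSheafData.ideal_mul, Pi.mul_apply]
      exact Ideal.mul_mem_mul (hmem x' hx) (hmem y' hy)
    rw [h, Scheme.IdealSheafData.ideal_bot, Pi.bot_apply, Ideal.mem_bot] at h0
    rw [← map_mul, h0, map_zero]

end Groth.Agent.Lib.Helper15
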