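import Mathlib

/-! Surjections from adic completions onto complete algebras; Noetherianity of complete
topologically finite type algebras. -/

namespace Groth.Agent.Lib.Helper15.CS

section

variable {R : Type*} [CommRing R] (K : Ideal R) {B : Type*} [CommRing B] [Algebra R B]

theorem pow_le_comap_map_pow (n : ℕ) :
    K ^ n ≤ ((K.map (algebraMap R B)) ^ n).comap (Algebra.ofId R B) := by
  have h1 : K ≤ (K.map (algebraMap R B)).comap (Algebra.ofId R B) := Ideal.le_comap_map
  exact (Ideal.pow_right_mono h1 n).trans (Ideal.le_comap_pow _ n)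

/-- The level-`n` maps. -/
noncomputable def levelMap (n : ℕ) :
    AdicCompletion K R →ₐ[R] B ⧸ (K.map (algebraMap R B)) ^ n :=
  (Ideal.quotientMapₐ ((K.map (algebraMap R B)) ^ n) (Algebra.ofId R B)
      (pow_le_comap_map_pow K n)).comp (AdicCompletion.evalₐ K n)

theorem levelMap_mk (n : ℕ) (a : AdicCompletion.AdicCauchySequence K R) :
    levelMap K (B := B) n (AdicCompletion.mk _ _ a) =
      Ideal.Quotient.mk _ (algebraMap R B (a n)) := by
  simp only [levelMap, AlgHom.comp_apply, AdicCompletion.evalₐ_mk]
  rfl

theorem levelMap_compat {m n : ℕ} (hle : m ≤ n) :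
    (Ideal.Quotient.factorₐ R (Ideal.pow_le_pow_right hle)).comp (levelMap K (B := B) n) =
      levelMap K m := by
  ext x
  obtain ⟨a, rfl⟩ := AdicCompletion.mk_surjective _ _ x
  rw [AlgHom.comp_apply, levelMap_mk, levelMap_mk]
  simp only [Ideal.Quotient.factorₐ_apply_mk]
  rw [Ideal.Quotient.eq, ← map_sub]
  have h1 : a m ≡ a n [SMOD (K ^ m • ⊤ : Submodule R R)] := a.property hle
  have h2 : a n - a m ∈ K ^ m := by
    have := SModEq.sub_mem.mp h1.symm
    simpa using this
  exact pow_le_comap_map_pow K (B := B) m h2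

variable [IsAdicComplete (K.map (algebraMap R B)) B]

/-- The canonical map from the completion to a complete algebra. -/
noncomputable def liftMap : AdicCompletion K R →ₐ[R] B :=
  IsAdicComplete.liftAlgHom (K.map (algebraMap R B)) (levelMap K (B := B))
    (fun hle => levelMap_compat K hle)

theorem liftMap_of_sub_mem (x : R) :
    liftMap K (B := B) (AdicCompletion.of _ _ x) - algebraMap R B x ∈ K.map (algebraMap R B) := by
  have h : Ideal.Quotient.mk ((K.map (algebraMap R B)) ^ 1)
      (liftMap K (B := B) (AdicCompletion.of _ _ x)) = levelMap K 1 (AdicCompletion.of _ _ x) :=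
    IsAdicComplete.mk_liftAlgHom _ _ _ 1 _
  have h2 : levelMap K (B := B) 1 (AdicCompletion.of _ _ x) =
      Ideal.Quotient.mk _ (algebraMap R B x) := by
    simp only [levelMap, AlgHom.comp_apply, AdicCompletion.evalₐ_of]
    rfl
  rw [h2, Ideal.Quotient.eq, pow_one] at h
  exact h

theorem liftMap_surjective (hK : K.FG)
    (hb : ∀ y : B, ∃ x : R, algebraMap R B x - y ∈ K.map (algebraMap R B)) :
    Function.Surjective (liftMap K (B := B)) := by
  have h1 : IsAdicComplete K (AdicCompletion K R) := AdicCompletion.isAdicComplete hK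
  have h2 : IsPrecomplete K (AdicCompletion K R) := h1.toIsPrecomplete
  have h3 : IsHausdorff K B := by
    have : IsHausdorff (K.map (algebraMap R B)) B := inferInstance
    exact IsHausdorff.map_algebraMap_iff.mp this
  have key : Function.Surjective
      (Submodule.mkQ (K • ⊤ : Submodule R B) ∘ₗ (liftMap K (B := B)).toLinearMap) := by
    intro q
    obtain ⟨y, rfl⟩ := Submodule.mkQ_surjective _ q
    obtain ⟨x, hx⟩ := hb y
    refine ⟨AdicCompletion.of _ _ x, ?_⟩
    rw [LinearMap.comp_apply, Submodule.mkQ_apply, Submodule.mkQ_apply, Submodule.Quotient.eq,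
      Ideal.smul_top_eq_map, Submodule.restrictScalars_mem]
    have := Ideal.add_mem _ (liftMap_of_sub_mem K (B := B) x) hx
    simpa using this
  exact surjective_of_mkQ_comp_surjective key

end

section Noeth

universe u v

open MvPolynomial

/-- A complete algebra over a Noetherian ring which is of finite type modulo the ideal of
definition is a quotient of a power series ring over a polynomial ring, hence Noetherian. -/
theorem isNoetherianRing_of_isAdicComplete_of_finiteType_quotient
    (A : Type u) [CommRing A] [IsNoetherianRing A] (I : Ideal A) (B : Type v) [CommRing B]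
    [Algebra A B] [IsAdicComplete (I.map (algebraMap A B)) B]
    (hB : Algebra.FiniteType A (B ⧸ I.map (algebraMap A B))) : IsNoetherianRing B := by
  classical
  obtain ⟨r, fbar, hfbar⟩ := Algebra.FiniteType.iff_quotient_mvPolynomial''.mp hB
  let b : Fin r → B := fun j => Function.surjInv Ideal.Quotient.mk_surjective (fbar (X j))
  have hbj : ∀ j, Ideal.Quotient.mk (I.map (algebraMap A B)) (b j) = fbar (X j) :=
    fun j => Function.surjInv_eq Ideal.Quotient.mk_surjective _
  let ψ : MvPolynomial (Fin r) A →ₐ[A] B := aeval b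
  have hψ : ∀ p, Ideal.Quotient.mk (I.map (algebraMap A B)) (ψ p) = fbar p := by
    intro p
    have : (Ideal.Quotient.mkₐ A (I.map (algebraMap A B))).comp ψ = fbar := by
      apply MvPolynomial.algHom_ext
      intro j
      simp only [AlgHom.comp_apply, ψ, aeval_X, Ideal.Quotient.mkₐ_eq_mk]
      exact hbj j
    exact congrArg (fun φ => φ p) this
  obtain ⟨k, a, ha⟩ := Submodule.fg_iff_exists_fin_generating_family.mp
    (IsNoetherian.noetherian I)
  letI algP : Algebra (MvPolynomial (Fin r) A) B := ψ.toRingHom.toAlgebra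
  let θ : MvPolynomial (Fin k) (MvPolynomial (Fin r) A) →ₐ[MvPolynomial (Fin r) A] B :=
    aeval (fun i => algebraMap A B (a i))
  letI algR : Algebra (MvPolynomial (Fin k) (MvPolynomial (Fin r) A)) B := θ.toRingHom.toAlgebra
  have hθ : ∀ q, algebraMap (MvPolynomial (Fin k) (MvPolynomial (Fin r) A)) B q = θ q :=
    fun q => rfl
  set K : Ideal (MvPolynomial (Fin k) (MvPolynomial (Fin r) A)) :=
    MvPolynomial.idealOfVars (Fin k) (MvPolynomial (Fin r) A) with hK
  have hKmap : K.map (algebraMap (MvPolynomial (Fin k) (MvPolynomial (Fin r) A)) B) =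
      I.map (algebraMap A B) := by
    rw [hK, MvPolynomial.idealOfVars, Ideal.map_span, ← ha, Ideal.map_span, ← Set.range_comp,
      ← Set.range_comp]
    congr 2
    ext i
    simp only [Function.comp_apply, hθ, θ, aeval_X]
  haveI : IsAdicComplete
      (K.map (algebraMap (MvPolynomial (Fin k) (MvPolynomial (Fin r) A)) B)) B := by
    rw [hKmap]; infer_instance
  have hsurj : Function.Surjective (liftMap K (B := B)) := by
    apply liftMap_surjective K (MvPolynomial.idealOfVars_fg _ _)
    intro y
    obtain ⟨p, hp⟩ := hfbar (Ideal.Quotient.mk _ y)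
    refine ⟨C p, ?_⟩
    rw [hKmap, ← Ideal.Quotient.eq, hθ]
    have : θ (C p) = ψ p := by
      simp only [θ, aeval_C]
      rfl
    rw [this, hψ, hp]
  haveI : IsNoetherianRing (AdicCompletion K (MvPolynomial (Fin k) (MvPolynomial (Fin r) A))) :=
    isNoetherianRing_of_ringEquiv _
      (MvPowerSeries.toAdicCompletionAlgEquiv (Fin k) (MvPolynomial (Fin r) A)).toRingEquiv
  exact isNoetherianRing_of_surjective _ _ (liftMap K (B := B)).toRingHom hsurj

end Noeth

section Quot

theorem isPrecomplete_of_surjective {R : Type*} [CommRing R] (I : Ideal R) {M N : Type*}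
    [AddCommGroup M] [Module R M] [AddCommGroup N] [Module R N] [IsPrecomplete I M]
    (f : M →ₗ[R] N) (hf : Function.Surjective f) : IsPrecomplete I N := by
  rw [← AdicCompletion.of_surjective_iff]
  have h1 : Function.Surjective (AdicCompletion.map I f) := AdicCompletion.map_surjective I hf
  have h2 : Function.Surjective (AdicCompletion.of I M) := AdicCompletion.of_surjective I M
  intro y
  obtain ⟨x, rfl⟩ := h1 y
  obtain ⟨m, rfl⟩ := h2 x
  exact ⟨f m, (AdicCompletion.map_of I f m).symm⟩

/-- Quotients of a Noetherian adically complete ring are adically complete. -/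
theorem isAdicComplete_quotient {B : Type*} [CommRing B] [IsNoetherianRing B] (𝔟 : Ideal B)
    [IsAdicComplete 𝔟 B] (J : Ideal B) :
    IsAdicComplete (𝔟.map (algebraMap B (B ⧸ J))) (B ⧸ J) := by
  rw [IsAdicComplete.map_algebraMap_iff]
  haveI : IsHausdorff 𝔟 (B ⧸ J) :=
    IsHausdorff.of_le_jacobson 𝔟 (B ⧸ J) (IsAdicComplete.le_jacobson_bot 𝔟)
  haveI : IsPrecomplete 𝔟 (B ⧸ J) :=
    isPrecomplete_of_surjective 𝔟 (Submodule.mkQ J) (Submodule.mkQ_surjective J)
  exact {}

universe u v

theorem isAdicComplete_quotient_of_finiteType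
    (A : Type u) [CommRing A] [IsNoetherianRing A] (I : Ideal A) (B : Type v) [CommRing B]
    [Algebra A B] [IsAdicComplete (I.map (algebraMap A B)) B]
    (hB : Algebra.FiniteType A (B ⧸ I.map (algebraMap A B))) (J : Ideal B) :
    IsAdicComplete (I.map (algebraMap A (B ⧸ J))) (B ⧸ J) := by
  haveI : IsNoetherianRing B :=
    isNoetherianRing_of_isAdicComplete_of_finiteType_quotient A I B hB
  have h := isAdicComplete_quotient (I.map (algebraMap A B)) J
  rwa [Ideal.map_map, ← IsScalarTower.algebraMap_eq] at h

end Quot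

end Groth.Agent.Lib.Helper15.CS
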