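import Mathlib
import Groth.Agent.S0545
import Groth.Agent.Lib.Helper8.HenselNil

/-!
# Finite algebras over complete Noetherian local rings (helper15)

`S` a module-finite algebra over a complete Noetherian local ring `R`:
* `isAdicComplete_of_finite`: finite modules are complete;
* `finite_maximalSpectrum`;
* `exists_idem`: for each maximal ideal `m` of `S` an idempotent outside `m` and inside all others;
* `algebraMap_localization_surjective`, `bijective_algebraMap_pi`;
* `isAdicComplete_localization`.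
-/

set_option autoImplicit false

namespace Groth.Agent.Lib.Helper15.FiniteComplete

open IsLocalRing Polynomial

variable (R : Type*) [CommRing R] [IsLocalRing R] [IsNoetherianRing R]
  [IsAdicComplete (maximalIdeal R) R]

/-- A finite module over a complete Noetherian local ring is complete. -/
theorem isAdicComplete_of_finite (M : Type*) [AddCommGroup M] [Module R M] [Module.Finite R M] :
    IsAdicComplete (maximalIdeal R) M := by
  classical
  have hjac : maximalIdeal R ≤ Ideal.jacobson ⊥ :=
    (IsLocalRing.jacobson_eq_maximalIdeal ⊥ bot_ne_top).ge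
  haveI : IsHausdorff (maximalIdeal R) M := IsHausdorff.of_le_jacobson _ _ hjac
  obtain ⟨n, f, hf⟩ := Module.Finite.exists_fin' R M
  haveI : IsPrecomplete (maximalIdeal R) M :=
    Groth.Agent.S0545.isPrecomplete_of_surjective _ f hf
      (Groth.Agent.S0545.isPrecomplete_pi _ R inferInstance)
  exact {}

variable (S : Type*) [CommRing S] [Algebra R S] [Module.Finite R S]

/-- The extension of the maximal ideal of `R` to `S`. -/
abbrev mS : Ideal S := (maximalIdeal R).map (algebraMap R S)

theorem isAdicComplete_mS : IsAdicComplete (mS R S) S :=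
  (IsAdicComplete.map_algebraMap_iff (maximalIdeal R) S).2 (isAdicComplete_of_finite R S)

theorem mS_le_jacobson : mS R S ≤ Ideal.jacobson ⊥ := by
  haveI := isAdicComplete_mS R S
  exact IsAdicComplete.le_jacobson_bot _

theorem mS_le_maximal (m : Ideal S) (hm : m.IsMaximal) : mS R S ≤ m :=
  (mS_le_jacobson R S).trans (sInf_le ⟨bot_le, hm⟩)

theorem isArtinianRing_quot : IsArtinianRing (S ⧸ mS R S) := by
  letI : Field (R ⧸ maximalIdeal R) := Ideal.Quotient.field _
  haveI : Module.Finite R (S ⧸ mS R S) :=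
    Module.Finite.of_surjective (Ideal.Quotient.mkₐ R (mS R S)).toLinearMap
      Ideal.Quotient.mk_surjective
  haveI : Module.Finite (R ⧸ maximalIdeal R) (S ⧸ mS R S) :=
    Module.Finite.of_restrictScalars_finite R _ _
  exact IsArtinianRing.of_finite (R ⧸ maximalIdeal R) _

include R

theorem finite_maximalSpectrum : Finite (MaximalSpectrum S) := by
  haveI := isArtinianRing_quot R S
  let f : MaximalSpectrum (S ⧸ mS R S) → MaximalSpectrum S := fun m =>
    ⟨m.asIdeal.comap (Ideal.Quotient.mk _),
      Ideal.comap_isMaximal_of_surjective _ Ideal.Quotient.mk_surjective⟩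
  refine Finite.of_surjective f ?_
  intro m
  have hle : mS R S ≤ m.asIdeal := mS_le_maximal R S m.asIdeal m.isMaximal
  have hcm : (m.asIdeal.map (Ideal.Quotient.mk (mS R S))).comap (Ideal.Quotient.mk (mS R S)) =
      m.asIdeal := by
    rw [Ideal.comap_map_of_surjective _ Ideal.Quotient.mk_surjective, ← RingHom.ker_eq_comap_bot,
      Ideal.mk_ker]
    exact sup_eq_left.2 hle
  have hmax : (m.asIdeal.map (Ideal.Quotient.mk (mS R S))).IsMaximal := by
    rcases Ideal.map_eq_top_or_isMaximal_of_surjective (Ideal.Quotient.mk (mS R S))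
      Ideal.Quotient.mk_surjective m.isMaximal with h | h
    · exfalso
      rw [h, Ideal.comap_top] at hcm
      exact m.isMaximal.ne_top hcm.symm
    · exact h
  exact ⟨⟨_, hmax⟩, MaximalSpectrum.ext hcm⟩

theorem exists_pow_mul_le [Fintype (MaximalSpectrum S)] (m : MaximalSpectrum S) :
    ∃ (N : ℕ) (𝔠 : Ideal S), 0 < N ∧ ¬ 𝔠 ≤ m.asIdeal ∧
      (∀ m' : MaximalSpectrum S, m' ≠ m → 𝔠 ≤ m'.asIdeal) ∧
      m.asIdeal ^ N * 𝔠 ^ N ≤ mS R S := by
  classical
  haveI := isArtinianRing_quot R S
  obtain ⟨N, hN⟩ := IsArtinianRing.isNilpotent_jacobson_bot (R := S ⧸ mS R S)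
  let 𝔠 : Ideal S := (Finset.univ.erase m).inf (fun m' : MaximalSpectrum S => m'.asIdeal)
  have h𝔠 : ∀ m' : MaximalSpectrum S, m' ≠ m → 𝔠 ≤ m'.asIdeal := fun m' h =>
    Finset.inf_le (Finset.mem_erase.2 ⟨h, Finset.mem_univ _⟩)
  have h𝔠m : ¬ 𝔠 ≤ m.asIdeal := by
    intro h
    obtain ⟨m', hm', hle⟩ := (Ideal.IsPrime.inf_le' m.isMaximal.isPrime).1 h
    have heq : m'.asIdeal = m.asIdeal := m'.isMaximal.eq_of_le m.isMaximal.ne_top hle
    exact (Finset.mem_erase.1 hm').1 (MaximalSpectrum.ext heq)
  have hjac : m.asIdeal * 𝔠 ≤ Ideal.jacobson (mS R S) := by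
    refine le_sInf ?_
    rintro J ⟨-, hJ⟩
    by_cases hJm : (⟨J, hJ⟩ : MaximalSpectrum S) = m
    · have h1 : m.asIdeal = J := by rw [← hJm]
      exact (Ideal.mul_le_left (I := m.asIdeal) (J := 𝔠)).trans (le_of_eq h1)
    · exact (Ideal.mul_le_right (I := m.asIdeal) (J := 𝔠)).trans (h𝔠 ⟨J, hJ⟩ hJm)
  have hpow : Ideal.jacobson (mS R S) ^ (N + 1) ≤ mS R S := by
    intro x hx
    have h1 : Ideal.Quotient.mk (mS R S) x ∈
        (Ideal.jacobson (mS R S) ^ (N + 1)).map (Ideal.Quotient.mk (mS R S)) :=
      Ideal.mem_map_of_mem _ hx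
    rw [Ideal.map_pow, Ideal.map_jacobson_of_surjective Ideal.Quotient.mk_surjective
      (by rw [Ideal.mk_ker]), Ideal.map_quotient_self, pow_succ, hN, Ideal.zero_eq_bot,
      Ideal.bot_mul] at h1
    exact Ideal.Quotient.eq_zero_iff_mem.1 ((Ideal.mem_bot).1 h1)
  refine ⟨N + 1, 𝔠, Nat.succ_pos _, h𝔠m, h𝔠, ?_⟩
  rw [← mul_pow]
  exact (Ideal.pow_right_mono hjac _).trans hpow

theorem exists_idem [Finite (MaximalSpectrum S)] (m : MaximalSpectrum S) :
    ∃ e : S, IsIdempotentElem e ∧ e ∉ m.asIdeal ∧
      ∀ m' : MaximalSpectrum S, m' ≠ m → e ∈ m'.asIdeal := by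
  classical
  haveI := Fintype.ofFinite (MaximalSpectrum S)
  obtain ⟨N, 𝔠, hN, h𝔠m, h𝔠, hmul⟩ := exists_pow_mul_le R S m
  have hsup : m.asIdeal ⊔ 𝔠 = ⊤ := by
    by_contra hne
    have h1 : m.asIdeal = m.asIdeal ⊔ 𝔠 := m.isMaximal.eq_of_le hne le_sup_left
    exact h𝔠m (le_sup_right.trans h1.ge)
  have hsupN : m.asIdeal ^ N ⊔ 𝔠 ^ N = ⊤ := Ideal.pow_sup_pow_eq_top hsup
  have h1mem : (1 : S) ∈ m.asIdeal ^ N ⊔ 𝔠 ^ N := by rw [hsupN]; exact Submodule.mem_top
  obtain ⟨u, hu, v, hv, huv⟩ := Submodule.mem_sup.1 h1mem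
  have hmS : mS R S ≤ m.asIdeal := mS_le_maximal R S _ m.isMaximal
  have hN0 : N ≠ 0 := Nat.pos_iff_ne_zero.1 hN
  haveI := isAdicComplete_mS R S
  have hens : HenselianRing S (mS R S) := inferInstance
  have hf : (X * (X - C (1 : S)) : S[X]).Monic := (monic_X).mul (monic_X_sub_C 1)
  have hv0 : v * (v - 1) ∈ mS R S := by
    have h2 : v - 1 = -u := by linear_combination huv
    have h3 : u * v ∈ m.asIdeal ^ N * 𝔠 ^ N := Ideal.mul_mem_mul hu hv
    have h4 : v * (v - 1) = -(u * v) := by rw [h2]; ring
    rw [h4]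
    exact neg_mem (hmul h3)
  have heval : (X * (X - C (1 : S)) : S[X]).eval v ∈ mS R S := by
    simpa using hv0
  have hder : (derivative (X * (X - C (1 : S)) : S[X])).eval v = 2 * v - 1 := by
    simp only [derivative_mul, derivative_X, derivative_sub, derivative_C, sub_zero, one_mul,
      mul_one, eval_add, eval_sub, eval_X, eval_C]
    ring
  have hunit : IsUnit (Ideal.Quotient.mk (mS R S)
      ((derivative (X * (X - C (1 : S)) : S[X])).eval v)) := by
    rw [hder]
    refine isUnit_iff_exists_inv.2 ⟨Ideal.Quotient.mk (mS R S) (2 * v - 1), ?_⟩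
    rw [← map_mul, ← map_one (Ideal.Quotient.mk (mS R S)), Ideal.Quotient.eq]
    have h5 : (2 * v - 1) * (2 * v - 1) - 1 = 4 * (v * (v - 1)) := by ring
    rw [h5]
    exact Ideal.mul_mem_left _ _ hv0
  obtain ⟨e, he, hev⟩ := hens.is_henselian _ hf v heval hunit
  have he' : e * (e - 1) = 0 := by simpa [IsRoot] using he
  refine ⟨e, by unfold IsIdempotentElem; linear_combination he', ?_, ?_⟩
  · intro hem
    apply m.isMaximal.ne_top
    rw [Ideal.eq_top_iff_one]
    have h6 : (1 : S) = u + e - (e - v) := by linear_combination -huv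
    rw [h6]
    exact sub_mem (add_mem (Ideal.pow_le_self hN0 hu) hem) (hmS hev)
  · intro m' hm'
    have h7 : e = (e - v) + v := by ring
    rw [h7]
    exact add_mem (mS_le_maximal R S _ m'.isMaximal hev) (h𝔠 m' hm' (Ideal.pow_le_self hN0 hv))

theorem algebraMap_localization_surjective (m : MaximalSpectrum S) :
    Function.Surjective (algebraMap S (Localization.AtPrime m.asIdeal)) := by
  haveI := finite_maximalSpectrum R S
  obtain ⟨e, he, hem, hem'⟩ := exists_idem R S m
  intro x
  obtain ⟨⟨s, t⟩, hst⟩ := IsLocalization.surj m.asIdeal.primeCompl x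
  have ht : (t : S) ∉ m.asIdeal := t.2
  have hsup : Ideal.span {(t : S)} ⊔ Ideal.span {1 - e} = ⊤ := by
    by_contra hne
    obtain ⟨M, hM, hle⟩ := Ideal.exists_le_maximal _ hne
    have htM : (t : S) ∈ M := hle (Ideal.mem_sup_left (Ideal.mem_span_singleton_self _))
    have heM : 1 - e ∈ M := hle (Ideal.mem_sup_right (Ideal.mem_span_singleton_self _))
    by_cases hMm : (⟨M, hM⟩ : MaximalSpectrum S) = m
    · have h1 : M = m.asIdeal := congrArg MaximalSpectrum.asIdeal hMm
      exact ht (h1 ▸ htM)
    · have h1 : e ∈ M := hem' ⟨M, hM⟩ hMm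
      apply hM.ne_top
      rw [Ideal.eq_top_iff_one]
      have : (1 : S) = (1 - e) + e := by ring
      rw [this]
      exact add_mem heM h1
  have h1mem : (1 : S) ∈ Ideal.span {(t : S)} ⊔ Ideal.span {1 - e} := by
    rw [hsup]; exact Submodule.mem_top
  obtain ⟨a', ha', b', hb', hab⟩ := Submodule.mem_sup.1 h1mem
  obtain ⟨a, rfl⟩ := Ideal.mem_span_singleton'.1 ha'
  obtain ⟨b, rfl⟩ := Ideal.mem_span_singleton'.1 hb'
  have h0 : algebraMap S (Localization.AtPrime m.asIdeal) (1 - e) = 0 :=
    (IsLocalization.map_eq_zero_iff m.asIdeal.primeCompl _ (1 - e)).2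
      ⟨⟨e, hem⟩, by simp [mul_sub, he.eq]⟩
  have h1 : algebraMap S (Localization.AtPrime m.asIdeal) a *
      algebraMap S (Localization.AtPrime m.asIdeal) t = 1 := by
    have h2 := congrArg (algebraMap S (Localization.AtPrime m.asIdeal)) hab
    rw [map_add, map_mul, map_mul, h0, mul_zero, add_zero, map_one] at h2
    exact h2
  refine ⟨a * s, ?_⟩
  rw [map_mul, ← hst]
  linear_combination x * h1

theorem bijective_algebraMap_pi :
    Function.Bijective
      (algebraMap S ((m : MaximalSpectrum S) → Localization.AtPrime m.asIdeal)) := by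
  classical
  haveI := finite_maximalSpectrum R S
  haveI := Fintype.ofFinite (MaximalSpectrum S)
  constructor
  · rw [injective_iff_map_eq_zero]
    intro x hx
    apply eq_zero_of_localization
    intro J hJ
    exact congrFun hx ⟨J, hJ⟩
  · intro y
    choose s hs using fun m => algebraMap_localization_surjective R S m (y m)
    choose e he hem hem' using fun m => exists_idem R S m
    have h1 : ∀ m₀ : MaximalSpectrum S,
        algebraMap S (Localization.AtPrime m₀.asIdeal) (e m₀) = 1 := by
      intro m₀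
      have h0 : algebraMap S (Localization.AtPrime m₀.asIdeal) (1 - e m₀) = 0 :=
        (IsLocalization.map_eq_zero_iff m₀.asIdeal.primeCompl _ (1 - e m₀)).2
          ⟨⟨e m₀, hem m₀⟩, by simp [mul_sub, (he m₀).eq]⟩
      rw [map_sub, map_one, sub_eq_zero] at h0
      exact h0.symm
    have h0 : ∀ m m₀ : MaximalSpectrum S, m ≠ m₀ →
        algebraMap S (Localization.AtPrime m₀.asIdeal) (e m) = 0 := by
      intro m m₀ hne
      have hmem : e m ∈ m₀.asIdeal := hem' m m₀ hne.symm
      have hnot : 1 - e m ∉ m₀.asIdeal := by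
        intro h
        apply m₀.isMaximal.ne_top
        rw [Ideal.eq_top_iff_one]
        have : (1 : S) = (1 - e m) + e m := by ring
        rw [this]
        exact add_mem h hmem
      exact (IsLocalization.map_eq_zero_iff m₀.asIdeal.primeCompl _ (e m)).2
        ⟨⟨1 - e m, hnot⟩, by simp [sub_mul, (he m).eq]⟩
    refine ⟨∑ m, e m * s m, ?_⟩
    funext m₀
    rw [Pi.algebraMap_apply, map_sum, Finset.sum_eq_single m₀]
    · rw [map_mul, hs, h1 m₀, one_mul]
    · intro m _ hne
      rw [map_mul, h0 m m₀ hne, zero_mul]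
    · intro h
      exact absurd (Finset.mem_univ _) h

theorem isNoetherianRing_localization (m : MaximalSpectrum S) :
    IsNoetherianRing (Localization.AtPrime m.asIdeal) := by
  haveI : IsNoetherianRing S := IsNoetherianRing.of_finite R S
  exact IsLocalization.isNoetherianRing m.asIdeal.primeCompl _ inferInstance

theorem isAdicComplete_localization (m : MaximalSpectrum S) :
    IsAdicComplete (maximalIdeal (Localization.AtPrime m.asIdeal))
      (Localization.AtPrime m.asIdeal) := by
  classical
  haveI := finite_maximalSpectrum R S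
  haveI := Fintype.ofFinite (MaximalSpectrum S)
  haveI := isNoetherianRing_localization R S m
  haveI : Module.Finite R (Localization.AtPrime m.asIdeal) :=
    Module.Finite.of_surjective
      (IsScalarTower.toAlgHom R S (Localization.AtPrime m.asIdeal)).toLinearMap
      (algebraMap_localization_surjective R S m)
  have hc0 : IsAdicComplete (maximalIdeal R) (Localization.AtPrime m.asIdeal) :=
    isAdicComplete_of_finite R _
  haveI hc1 : IsAdicComplete
      ((maximalIdeal R).map (algebraMap R (Localization.AtPrime m.asIdeal)))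
      (Localization.AtPrime m.asIdeal) := (IsAdicComplete.map_algebraMap_iff _ _).2 hc0
  obtain ⟨N, 𝔠, hN, h𝔠m, h𝔠, hmul⟩ := exists_pow_mul_le R S m
  have h𝔠top : 𝔠.map (algebraMap S (Localization.AtPrime m.asIdeal)) = ⊤ := by
    obtain ⟨c, hc, hcm⟩ := SetLike.not_le_iff_exists.1 h𝔠m
    exact Ideal.eq_top_of_isUnit_mem _ (Ideal.mem_map_of_mem _ hc)
      (IsLocalization.map_units (Localization.AtPrime m.asIdeal)
        (⟨c, hcm⟩ : m.asIdeal.primeCompl))
  have hpow : maximalIdeal (Localization.AtPrime m.asIdeal) ^ N ≤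
      (maximalIdeal R).map (algebraMap R (Localization.AtPrime m.asIdeal)) := by
    have h1 := Ideal.map_mono (f := algebraMap S (Localization.AtPrime m.asIdeal)) hmul
    rw [Ideal.map_mul, Ideal.map_pow, Ideal.map_pow, Localization.AtPrime.map_eq_maximalIdeal,
      h𝔠top, Ideal.top_pow, Ideal.mul_top, Ideal.map_map,
      ← IsScalarTower.algebraMap_eq] at h1
    exact h1
  haveI : IsAdicComplete
      ((maximalIdeal (Localization.AtPrime m.asIdeal)).map
        (Ideal.Quotient.mk ((maximalIdeal R).map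
          (algebraMap R (Localization.AtPrime m.asIdeal)))))
      (Localization.AtPrime m.asIdeal ⧸ ((maximalIdeal R).map
          (algebraMap R (Localization.AtPrime m.asIdeal)))) := by
    refine Groth.Agent.Lib.Helper8.isAdicComplete_of_pow_eq_bot _ N ?_
    rw [← Ideal.map_pow, eq_bot_iff]
    exact (Ideal.map_mono hpow).trans_eq (Ideal.map_quotient_self _)
  exact Groth.Agent.S0545.result (Localization.AtPrime m.asIdeal)
    ((maximalIdeal R).map (algebraMap R (Localization.AtPrime m.asIdeal)))
    (maximalIdeal (Localization.AtPrime m.asIdeal))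

end Groth.Agent.Lib.Helper15.FiniteComplete
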