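import Mathlib
import Groth.Agent.S0545
import Groth.Agent.Lib.Helper8.HenselNil
import Groth.Agent.Lib.Helper15.ComplSurj

/-!
# Adically complete rings with Artinian quotient; complete one-dimensional domains (helper15)
-/

set_option autoImplicit false

namespace Groth.Agent.Lib.Helper15.ComplSemilocal

open Polynomial

section Idem

variable {D : Type*} [CommRing D] (K : Ideal D) [IsAdicComplete K D] [IsArtinianRing (D ⧸ K)]

theorem le_maximal (m : Ideal D) (hm : m.IsMaximal) : K ≤ m :=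
  (IsAdicComplete.le_jacobson_bot K).trans (sInf_le ⟨bot_le, hm⟩)

include K

theorem finite_maximalSpectrum : Finite (MaximalSpectrum D) := by
  let f : MaximalSpectrum (D ⧸ K) → MaximalSpectrum D := fun m =>
    ⟨m.asIdeal.comap (Ideal.Quotient.mk _),
      Ideal.comap_isMaximal_of_surjective _ Ideal.Quotient.mk_surjective⟩
  refine Finite.of_surjective f ?_
  intro m
  have hle : K ≤ m.asIdeal := le_maximal K m.asIdeal m.isMaximal
  have hcm : (m.asIdeal.map (Ideal.Quotient.mk K)).comap (Ideal.Quotient.mk K) =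
      m.asIdeal := by
    rw [Ideal.comap_map_of_surjective _ Ideal.Quotient.mk_surjective, ← RingHom.ker_eq_comap_bot,
      Ideal.mk_ker]
    exact sup_eq_left.2 hle
  have hmax : (m.asIdeal.map (Ideal.Quotient.mk K)).IsMaximal := by
    rcases Ideal.map_eq_top_or_isMaximal_of_surjective (Ideal.Quotient.mk K)
      Ideal.Quotient.mk_surjective m.isMaximal with h | h
    · exfalso
      rw [h, Ideal.comap_top] at hcm
      exact m.isMaximal.ne_top hcm.symm
    · exact h
  exact ⟨⟨_, hmax⟩, MaximalSpectrum.ext hcm⟩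

theorem exists_pow_mul_le [Fintype (MaximalSpectrum D)] (m : MaximalSpectrum D) :
    ∃ (N : ℕ) (𝔠 : Ideal D), 0 < N ∧ ¬ 𝔠 ≤ m.asIdeal ∧
      (∀ m' : MaximalSpectrum D, m' ≠ m → 𝔠 ≤ m'.asIdeal) ∧
      m.asIdeal ^ N * 𝔠 ^ N ≤ K := by
  classical
  obtain ⟨N, hN⟩ := IsArtinianRing.isNilpotent_jacobson_bot (R := D ⧸ K)
  let 𝔠 : Ideal D := (Finset.univ.erase m).inf (fun m' : MaximalSpectrum D => m'.asIdeal)
  have h𝔠 : ∀ m' : MaximalSpectrum D, m' ≠ m → 𝔠 ≤ m'.asIdeal := fun m' h =>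
    Finset.inf_le (Finset.mem_erase.2 ⟨h, Finset.mem_univ _⟩)
  have h𝔠m : ¬ 𝔠 ≤ m.asIdeal := by
    intro h
    obtain ⟨m', hm', hle⟩ := (Ideal.IsPrime.inf_le' m.isMaximal.isPrime).1 h
    have heq : m'.asIdeal = m.asIdeal := m'.isMaximal.eq_of_le m.isMaximal.ne_top hle
    exact (Finset.mem_erase.1 hm').1 (MaximalSpectrum.ext heq)
  have hjac : m.asIdeal * 𝔠 ≤ Ideal.jacobson K := by
    refine le_sInf ?_
    rintro J ⟨-, hJ⟩
    by_cases hJm : (⟨J, hJ⟩ : MaximalSpectrum D) = m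
    · have h1 : m.asIdeal = J := by rw [← hJm]
      exact (Ideal.mul_le_left (I := m.asIdeal) (J := 𝔠)).trans (le_of_eq h1)
    · exact (Ideal.mul_le_right (I := m.asIdeal) (J := 𝔠)).trans (h𝔠 ⟨J, hJ⟩ hJm)
  have hpow : Ideal.jacobson K ^ (N + 1) ≤ K := by
    intro x hx
    have h1 : Ideal.Quotient.mk K x ∈
        (Ideal.jacobson K ^ (N + 1)).map (Ideal.Quotient.mk K) :=
      Ideal.mem_map_of_mem _ hx
    rw [Ideal.map_pow, Ideal.map_jacobson_of_surjective Ideal.Quotient.mk_surjective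
      (by rw [Ideal.mk_ker]), Ideal.map_quotient_self, pow_succ, hN, Ideal.zero_eq_bot,
      Ideal.bot_mul] at h1
    exact Ideal.Quotient.eq_zero_iff_mem.1 ((Ideal.mem_bot).1 h1)
  refine ⟨N + 1, 𝔠, Nat.succ_pos _, h𝔠m, h𝔠, ?_⟩
  rw [← mul_pow]
  exact (Ideal.pow_right_mono hjac _).trans hpow

theorem exists_idem [Finite (MaximalSpectrum D)] (m : MaximalSpectrum D) :
    ∃ e : D, IsIdempotentElem e ∧ e ∉ m.asIdeal ∧
      ∀ m' : MaximalSpectrum D, m' ≠ m → e ∈ m'.asIdeal := by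
  classical
  haveI := Fintype.ofFinite (MaximalSpectrum D)
  obtain ⟨N, 𝔠, hN, h𝔠m, h𝔠, hmul⟩ := exists_pow_mul_le K m
  have hsup : m.asIdeal ⊔ 𝔠 = ⊤ := by
    by_contra hne
    have h1 : m.asIdeal = m.asIdeal ⊔ 𝔠 := m.isMaximal.eq_of_le hne le_sup_left
    exact h𝔠m (le_sup_right.trans h1.ge)
  have hsupN : m.asIdeal ^ N ⊔ 𝔠 ^ N = ⊤ := Ideal.pow_sup_pow_eq_top hsup
  have h1mem : (1 : D) ∈ m.asIdeal ^ N ⊔ 𝔠 ^ N := by rw [hsupN]; exact Submodule.mem_top
  obtain ⟨u, hu, v, hv, huv⟩ := Submodule.mem_sup.1 h1mem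
  have hmS : K ≤ m.asIdeal := le_maximal K _ m.isMaximal
  have hN0 : N ≠ 0 := Nat.pos_iff_ne_zero.1 hN
  have hens : HenselianRing D K := inferInstance
  have hf : (X * (X - C (1 : D)) : D[X]).Monic := (monic_X).mul (monic_X_sub_C 1)
  have hv0 : v * (v - 1) ∈ K := by
    have h2 : v - 1 = -u := by linear_combination huv
    have h3 : u * v ∈ m.asIdeal ^ N * 𝔠 ^ N := Ideal.mul_mem_mul hu hv
    have h4 : v * (v - 1) = -(u * v) := by rw [h2]; ring
    rw [h4]
    exact neg_mem (hmul h3)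
  have heval : (X * (X - C (1 : D)) : D[X]).eval v ∈ K := by
    simpa using hv0
  have hder : (derivative (X * (X - C (1 : D)) : D[X])).eval v = 2 * v - 1 := by
    simp only [derivative_mul, derivative_X, derivative_sub, derivative_C, sub_zero, one_mul,
      mul_one, eval_add, eval_sub, eval_X, eval_C]
    ring
  have hunit : IsUnit (Ideal.Quotient.mk K
      ((derivative (X * (X - C (1 : D)) : D[X])).eval v)) := by
    rw [hder]
    refine isUnit_iff_exists_inv.2 ⟨Ideal.Quotient.mk K (2 * v - 1), ?_⟩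
    rw [← map_mul, ← map_one (Ideal.Quotient.mk K), Ideal.Quotient.eq]
    have h5 : (2 * v - 1) * (2 * v - 1) - 1 = 4 * (v * (v - 1)) := by ring
    rw [h5]
    exact Ideal.mul_mem_left _ _ hv0
  obtain ⟨e, he, hev⟩ := hens.is_henselian _ hf v heval hunit
  have he' : e * (e - 1) = 0 := by simpa [IsRoot] using he
  refine ⟨e, by unfold IsIdempotentElem; linear_combination he', ?_, ?_⟩
  · intro hem
    apply m.isMaximal.ne_top
    rw [Ideal.eq_top_iff_one]
    have h6 : (1 : D) = u + e - (e - v) := by linear_combination -huv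
    rw [h6]
    exact sub_mem (add_mem (Ideal.pow_le_self hN0 hu) hem) (hmS hev)
  · intro m' hm'
    have h7 : e = (e - v) + v := by ring
    rw [h7]
    exact add_mem (le_maximal K _ m'.isMaximal hev) (h𝔠 m' hm' (Ideal.pow_le_self hN0 hv))

theorem isLocalRing_of_isDomain [IsDomain D] : IsLocalRing D := by
  haveI := finite_maximalSpectrum K
  apply IsLocalRing.of_unique_max_ideal
  obtain ⟨m, hm⟩ := Ideal.exists_maximal D
  refine ⟨m, hm, fun m' hm' => ?_⟩
  by_contra hne
  obtain ⟨e, he, hem, hem'⟩ := exists_idem K ⟨m, hm⟩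
  have h1 : e ∈ m' := hem' ⟨m', hm'⟩ (fun h => hne (congrArg MaximalSpectrum.asIdeal h))
  rcases IsIdempotentElem.iff_eq_zero_or_one.mp he with h0 | h0
  · exact hem (h0 ▸ m.zero_mem)
  · rw [h0] at h1
    exact hm'.ne_top ((Ideal.eq_top_iff_one _).mpr h1)

end Idem

section Dim

variable {D : Type*} [CommRing D] [IsDomain D] [IsNoetherianRing D]

theorem mem_minimalPrimes_of_forall_mem (f : D) (hf : f ≠ 0)
    (H : ∀ P : Ideal D, P.IsPrime → P ≠ ⊥ → f ∈ P) (P : Ideal D) (hP : P.IsPrime)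
    (hP0 : P ≠ ⊥) : P ∈ (Ideal.span {f}).minimalPrimes := by
  classical
  by_contra hnot
  haveI := hP
  have hfP : Ideal.span {f} ≤ P := (Ideal.span_singleton_le_iff_mem P).mpr (H P hP hP0)
  have hfin := Ideal.finite_minimalPrimes_of_isNoetherianRing D (Ideal.span {f})
  have hnle : ∀ Q ∈ (Ideal.span {f}).minimalPrimes, ¬ P ≤ Q := by
    intro Q hQ hPQ
    have hQP : Q ≤ P := hQ.2 ⟨hP, hfP⟩ hPQ
    have hPQeq : P = Q := le_antisymm hPQ hQP
    exact hnot (hPQeq ▸ hQ)
  have key := Ideal.subset_union_prime (s := hfin.toFinset) (f := fun Q : Ideal D => Q)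
    (⊥ : Ideal D) ⊥ (fun Q hQ _ _ => ((hfin.mem_toFinset).mp hQ).1.1) (I := P)
  have hx := mt key.mp (by
    rintro ⟨Q, hQ, hPQ⟩
    exact hnle Q ((hfin.mem_toFinset).mp hQ) hPQ)
  obtain ⟨x, hxP, hxU⟩ := Set.not_subset.mp hx
  have hxQ : ∀ Q ∈ (Ideal.span {f}).minimalPrimes, x ∉ Q := by
    intro Q hQ hxQ
    apply hxU
    exact Set.mem_biUnion (show Q ∈ (↑hfin.toFinset : Set (Ideal D)) from
      Finset.mem_coe.mpr ((hfin.mem_toFinset).mpr hQ)) hxQ
  obtain ⟨Q0, hQ0, -⟩ := Ideal.exists_minimalPrimes_le hfP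
  have hx0 : x ≠ 0 := fun h => hxQ Q0 hQ0 (h ▸ Q0.zero_mem)
  have hxP' : Ideal.span {x} ≤ P := (Ideal.span_singleton_le_iff_mem P).mpr hxP
  obtain ⟨P', hP', hP'P⟩ := Ideal.exists_minimalPrimes_le hxP'
  have hP'prime : P'.IsPrime := hP'.1.1
  have hxP'' : x ∈ P' := hP'.1.2 (Ideal.mem_span_singleton_self x)
  have hP'0 : P' ≠ ⊥ := fun h => hx0 (by
    rw [h] at hxP''
    exact (Submodule.mem_bot D).mp hxP'')
  have hfP' : Ideal.span {f} ≤ P' :=
    (Ideal.span_singleton_le_iff_mem P').mpr (H P' hP'prime hP'0)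
  haveI := hP'prime
  obtain ⟨Q, hQ, hQP'⟩ := Ideal.exists_minimalPrimes_le hfP'
  have hQprime : Q.IsPrime := hQ.1.1
  have hQ0' : Q ≠ ⊥ := fun h => hf (by
    have h1 := hQ.1.2 (Ideal.mem_span_singleton_self f)
    rw [h] at h1
    exact (Submodule.mem_bot D).mp h1)
  haveI : (Ideal.span {x}).IsPrincipal := ⟨⟨x, rfl⟩⟩
  have hht : P'.height ≤ 1 :=
    Ideal.height_le_one_of_isPrincipal_of_mem_minimalPrimes _ P' hP'
  have hQeq : Q = P' := by
    by_contra hne
    have hlt : Q < P' := lt_of_le_of_ne hQP' hne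
    haveI := hQprime
    haveI : (⊥ : Ideal D).IsPrime := Ideal.bot_prime
    have h1 : (⊥ : Ideal D).height < Q.height :=
      Ideal.height_strict_mono_of_isPrime_of_isPrime (bot_lt_iff_ne_bot.mpr hQ0')
    have h2 : Q.height < P'.height := Ideal.height_strict_mono_of_isPrime_of_isPrime hlt
    have h3 : Q.height < 1 := lt_of_lt_of_le h2 hht
    rw [ENat.lt_one_iff_eq_zero] at h3
    rw [h3] at h1
    exact absurd h1 (not_lt.mpr zero_le)
  exact hxQ Q hQ (hQeq ▸ hxP'')

theorem isMaximal_of_forall_mem (f : D) (hf : f ≠ 0)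
    (H : ∀ P : Ideal D, P.IsPrime → P ≠ ⊥ → f ∈ P) (P : Ideal D) (hP : P.IsPrime)
    (hP0 : P ≠ ⊥) : P.IsMaximal := by
  obtain ⟨m, hm, hPm⟩ := Ideal.exists_le_maximal P hP.ne_top
  have hm0 : m ≠ ⊥ := fun h => hP0 (eq_bot_iff.mpr (h ▸ hPm))
  have hmmin := mem_minimalPrimes_of_forall_mem f hf H m hm.isPrime hm0
  have hfP : Ideal.span {f} ≤ P := (Ideal.span_singleton_le_iff_mem P).mpr (H P hP hP0)
  have hmP : m ≤ P := hmmin.2 ⟨hP, hfP⟩ hPm
  rw [le_antisymm hPm hmP]
  exact hm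

end Dim

universe u

/-- A Noetherian domain complete along a nonzero ideal `K` contained in every nonzero prime is a
one-dimensional local ring with maximal ideal `√K`, complete along `√K`. -/
theorem main {D : Type u} [CommRing D] [IsDomain D] [IsNoetherianRing D] (K : Ideal D)
    [IsAdicComplete K D] (hK : K ≠ ⊥) (H : ∀ P : Ideal D, P.IsPrime → P ≠ ⊥ → K ≤ P) :
    ringKrullDim D = 1 ∧ (∀ m : Ideal D, m.IsMaximal → m = K.radical) ∧
      IsAdicComplete K.radical D := by
  classical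
  obtain ⟨f, hfK, hf0⟩ : ∃ f ∈ K, f ≠ 0 := by
    by_contra hcon
    push_neg at hcon
    exact hK (eq_bot_iff.mpr fun x hx => (Submodule.mem_bot D).mpr (hcon x hx))
  have hmax : ∀ P : Ideal D, P.IsPrime → P ≠ ⊥ → P.IsMaximal :=
    isMaximal_of_forall_mem f hf0 (fun P hP hP0 => H P hP hP0 hfK)
  have hKm : ∀ m : Ideal D, m.IsMaximal → K ≤ m := fun m hm =>
    (IsAdicComplete.le_jacobson_bot K).trans (sInf_le ⟨bot_le, hm⟩)
  haveI : IsArtinianRing (D ⧸ K) := by
    haveI : Ring.KrullDimLE 0 (D ⧸ K) := by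
      rw [Ring.krullDimLE_zero_iff]
      intro P hP
      haveI := hP
      have hcP : (P.comap (Ideal.Quotient.mk K)).IsPrime := inferInstance
      have hKc : K ≤ P.comap (Ideal.Quotient.mk K) := by
        intro x hx
        rw [Ideal.mem_comap, Ideal.Quotient.eq_zero_iff_mem.mpr hx]
        exact P.zero_mem
      have hc0 : P.comap (Ideal.Quotient.mk K) ≠ ⊥ := fun h => hK (eq_bot_iff.mpr (h ▸ hKc))
      have hcmax := hmax _ hcP hc0
      have hmap : (P.comap (Ideal.Quotient.mk K)).map (Ideal.Quotient.mk K) = P :=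
        Ideal.map_comap_of_surjective _ Ideal.Quotient.mk_surjective P
      rcases Ideal.map_eq_top_or_isMaximal_of_surjective (Ideal.Quotient.mk K)
        Ideal.Quotient.mk_surjective hcmax with h | h
      · exfalso
        rw [hmap] at h
        exact hP.ne_top h
      · rwa [hmap] at h
    exact IsNoetherianRing.isArtinianRing_of_krullDimLE_zero
  haveI : IsLocalRing D := isLocalRing_of_isDomain K
  have hmK : K ≤ IsLocalRing.maximalIdeal D := hKm _ (IsLocalRing.maximalIdeal.isMaximal D)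
  have hm0 : IsLocalRing.maximalIdeal D ≠ ⊥ := fun h => hK (eq_bot_iff.mpr (h ▸ hmK))
  have hrad : K.radical = IsLocalRing.maximalIdeal D := by
    apply le_antisymm
    · exact (IsLocalRing.maximalIdeal.isMaximal D).isPrime.radical_le_iff.mpr hmK
    · rw [Ideal.radical_eq_sInf]
      apply le_sInf
      rintro P ⟨hKP, hP⟩
      have hP0 : P ≠ ⊥ := fun h => hK (eq_bot_iff.mpr (h ▸ hKP))
      rw [IsLocalRing.eq_maximalIdeal (hmax P hP hP0)]
  refine ⟨?_, ?_, ?_⟩
  · apply le_antisymm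
    · have h1 : Ring.KrullDimLE 1 D :=
        Ring.krullDimLE_one_iff_of_noZeroDivisors.mpr (fun P hP0 hP => hmax P hP hP0)
      have h2 := Ring.krullDimLE_iff.mp h1
      rwa [Nat.cast_one] at h2
    · show 1 ≤ Order.krullDim (PrimeSpectrum D)
      rw [Order.one_le_krullDim_iff]
      refine ⟨⟨⊥, Ideal.bot_prime⟩, ⟨IsLocalRing.maximalIdeal D,
        (IsLocalRing.maximalIdeal.isMaximal D).isPrime⟩, ?_⟩
      rw [← PrimeSpectrum.asIdeal_lt_asIdeal]
      exact bot_lt_iff_ne_bot.mpr hm0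
  · intro m hm
    rw [hrad]
    exact IsLocalRing.eq_maximalIdeal hm
  · obtain ⟨n, hn⟩ := Ideal.exists_radical_pow_le_of_fg K (IsNoetherian.noetherian _)
    haveI : IsAdicComplete (K.radical.map (Ideal.Quotient.mk K)) (D ⧸ K) := by
      apply Groth.Agent.Lib.Helper8.isAdicComplete_of_pow_eq_bot _ n
      rw [← Ideal.map_pow, eq_bot_iff]
      calc (K.radical ^ n).map (Ideal.Quotient.mk K) ≤ K.map (Ideal.Quotient.mk K) :=
            Ideal.map_mono hn
        _ = ⊥ := Ideal.map_quotient_self K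
    exact Groth.Agent.S0545.result D K K.radical


theorem isMaximal_of_ne_of_dim_one {A : Type*} [CommRing A] (p n : Ideal A) [p.IsPrime]
    [n.IsPrime] (hdim : ringKrullDim (A ⧸ p) = 1) (hpn : p ≤ n) (hne : n ≠ p) :
    n.IsMaximal := by
  have hker : RingHom.ker (Ideal.Quotient.mk p) = p := Ideal.mk_ker
  have hkle : RingHom.ker (Ideal.Quotient.mk p) ≤ n := by rw [hker]; exact hpn
  have hPprime : (n.map (Ideal.Quotient.mk p)).IsPrime :=
    Ideal.map_isPrime_of_surjective Ideal.Quotient.mk_surjective hkle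
  have hcomap : (n.map (Ideal.Quotient.mk p)).comap (Ideal.Quotient.mk p) = n := by
    rw [Ideal.comap_map_of_surjective _ Ideal.Quotient.mk_surjective,
      ← RingHom.ker_eq_comap_bot, hker]
    exact sup_eq_left.mpr hpn
  have hP0 : n.map (Ideal.Quotient.mk p) ≠ ⊥ := by
    intro h
    apply hne
    rw [← hcomap, h, ← RingHom.ker_eq_comap_bot, hker]
  haveI : Ring.KrullDimLE 1 (A ⧸ p) := by
    rw [Ring.krullDimLE_iff, hdim, Nat.cast_one]
  haveI hPmax : (n.map (Ideal.Quotient.mk p)).IsMaximal := hPprime.isMaximal_of_ne_bot hP0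
  rw [← hcomap]
  exact Ideal.comap_isMaximal_of_surjective _ Ideal.Quotient.mk_surjective

/-- If `m ≤ √K` and `B ⧸ m` is integral over `A`, so is `B ⧸ K`. -/
theorem isIntegral_quot_of_radical {A B : Type*} [CommRing A] [CommRing B] [Algebra A B]
    (K m : Ideal B) (hm : m ≤ K.radical) [Algebra.IsIntegral A (B ⧸ m)] :
    Algebra.IsIntegral A (B ⧸ K) := by
  refine ⟨fun x => ?_⟩
  obtain ⟨d, rfl⟩ := Ideal.Quotient.mk_surjective x
  obtain ⟨p, hp, hpe⟩ := Algebra.IsIntegral.isIntegral (R := A) (Ideal.Quotient.mk m d)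
  have h1 : Ideal.Quotient.mk m (Polynomial.eval₂ (algebraMap A B) d p) = 0 := by
    rw [Polynomial.hom_eval₂]
    exact hpe
  have h2 : Polynomial.eval₂ (algebraMap A B) d p ∈ K.radical :=
    hm (Ideal.Quotient.eq_zero_iff_mem.mp h1)
  obtain ⟨N, hN⟩ := h2
  refine ⟨p ^ N, hp.pow N, ?_⟩
  rw [Polynomial.eval₂_pow]
  have h3 : Polynomial.eval₂ (algebraMap A (B ⧸ K)) (Ideal.Quotient.mk K d) p =
      Ideal.Quotient.mk K (Polynomial.eval₂ (algebraMap A B) d p) := by
    rw [Polynomial.hom_eval₂]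
    rfl
  rw [h3, ← map_pow]
  exact Ideal.Quotient.eq_zero_iff_mem.mpr hN

/-- Complete Nakayama: an `I`-adically separated algebra `D` over an `I`-adically complete ring
`A` with `D ⧸ I D` finite is finite. -/
theorem finite_of_quot_finite {A : Type*} [CommRing A] (I : Ideal A) [IsAdicComplete I A]
    (D : Type*) [CommRing D] [Algebra A D] [IsHausdorff (I.map (algebraMap A D)) D]
    [Module.Finite A (D ⧸ I.map (algebraMap A D))] : Module.Finite A D := by
  classical
  obtain ⟨n, f, hf⟩ := Module.Finite.exists_fin' A (D ⧸ I.map (algebraMap A D))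
  have hlift : ∀ i : Fin n, ∃ d : D,
      Ideal.Quotient.mk (I.map (algebraMap A D)) d = f (Pi.single i 1) :=
    fun i => Ideal.Quotient.mk_surjective _
  choose d hd using hlift
  obtain ⟨Q, hQ⟩ : ∃ Q : D →ₗ[A] D ⧸ I.map (algebraMap A D),
      ∀ x, Q x = Ideal.Quotient.mk (I.map (algebraMap A D)) x :=
    ⟨(Ideal.Quotient.mkₐ A (I.map (algebraMap A D))).toLinearMap, fun _ => rfl⟩
  have hQF : Q ∘ₗ Fintype.linearCombination A d = f := by
    apply LinearMap.pi_ext'
    intro i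
    apply LinearMap.ext_ring
    show Q (Fintype.linearCombination A d (Pi.single i 1)) = f (Pi.single i 1)
    rw [Fintype.linearCombination_apply_single, one_smul, hQ]
    exact hd i
  have hsurj : Function.Surjective
      ((Submodule.mkQ (I • ⊤ : Submodule A D)) ∘ₗ Fintype.linearCombination A d) := by
    intro z
    obtain ⟨x, rfl⟩ := Submodule.mkQ_surjective _ z
    obtain ⟨c, hc⟩ := hf (Q x)
    refine ⟨c, ?_⟩
    rw [LinearMap.comp_apply, Submodule.mkQ_apply, Submodule.mkQ_apply, Submodule.Quotient.eq,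
      Ideal.smul_top_eq_map]
    show Fintype.linearCombination A d c - x ∈ I.map (algebraMap A D)
    rw [← Ideal.Quotient.eq, ← hQ, ← hQ]
    exact (LinearMap.congr_fun hQF c).trans hc
  haveI : IsHausdorff I D := (IsHausdorff.map_algebraMap_iff (S := D)).mp
    (inferInstance : IsHausdorff (I.map (algebraMap A D)) D)
  haveI : IsPrecomplete I (Fin n → A) := Groth.Agent.S0545.isPrecomplete_pi I A inferInstance
  exact Module.Finite.of_surjective (Fintype.linearCombination A d)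
    (surjective_of_mkQ_comp_surjective (I := I) hsurj)

end Groth.Agent.Lib.Helper15.ComplSemilocal
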