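import Groth.Agent.Lib.Helper15.PSheaf
import Groth.Agent.Lib.Helper16.FibreProduct

/-!
# Helper library (helper15): morphisms representable by algebraic spaces (bootstrap)
-/

set_option autoImplicit false
universe u
open CategoryTheory CategoryTheory.Limits AlgebraicGeometry Opposite

namespace Groth.Agent.Lib.Helper15

open AlgSp Groth.Agent.Lib.Helper16

variable {S : Scheme.{u}}

/-- The relative diagonal of a morphism of sheaves representable by algebraic spaces is representable by schemes. -/
theorem representable_diagonal_of_repBySp {F G : Sp S} (a : F ⟶ G) (ha : RepBySp a.hom) :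
    Representable (pullback.diagonal a) := by
  rw [repBySp_hom_iff] at ha
  intro U ξ
  have hx : (ξ ≫ pullback.fst a a) ≫ a = (ξ ≫ pullback.snd a a) ≫ a := by
    rw [Category.assoc, Category.assoc, pullback.condition]
  have hE : IsAlgSpace (pullback a ((ξ ≫ pullback.fst a a) ≫ a)) :=
    ha ((ξ ≫ pullback.fst a a) ≫ a) (pullback.fst a _) (pullback.snd a _) (IsPullback.of_hasPullback a _)
  let σ₁ : (yon S).obj U ⟶ pullback a ((ξ ≫ pullback.fst a a) ≫ a) :=
    pullback.lift (ξ ≫ pullback.fst a a) (𝟙 _) (Category.id_comp _).symm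
  let σ₂ : (yon S).obj U ⟶ pullback a ((ξ ≫ pullback.fst a a) ≫ a) :=
    pullback.lift (ξ ≫ pullback.snd a a) (𝟙 _) (hx.symm.trans (Category.id_comp _).symm)
  obtain ⟨V, v, k, sqV⟩ := hE.diag (prod.lift σ₁ σ₂)
  have hk1 : k = (yon S).map v ≫ σ₁ := by
    have := congrArg (· ≫ prod.fst) sqV.w
    simpa only [Category.assoc, prod.lift_fst, Category.comp_id] using this
  have hk2 : k = (yon S).map v ≫ σ₂ := by
    have := congrArg (· ≫ prod.snd) sqV.w
    simpa only [Category.assoc, prod.lift_snd, Category.comp_id] using this
  have hv12 : (yon S).map v ≫ ξ ≫ pullback.fst a a = (yon S).map v ≫ ξ ≫ pullback.snd a a := by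
    have h1 := congrArg (· ≫ pullback.fst a ((ξ ≫ pullback.fst a a) ≫ a)) (hk1.symm.trans hk2)
    simpa only [σ₁, σ₂, Category.assoc, pullback.lift_fst] using h1
  refine ⟨V, v, (yon S).map v ≫ ξ ≫ pullback.fst a a, ?_⟩
  apply isPullback_of_exists_lift
  · apply pullback.hom_ext
    · simp only [Category.assoc, pullback.diagonal_fst, Category.comp_id]
    · simp only [Category.assoc, pullback.diagonal_snd, Category.comp_id]
      exact hv12
  · intro Q x y hxy
    have hx1 : x = y ≫ ξ ≫ pullback.fst a a := by
      have := congrArg (· ≫ pullback.fst a a) hxy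
      simpa only [Category.assoc, pullback.diagonal_fst, Category.comp_id] using this
    have hx2 : x = y ≫ ξ ≫ pullback.snd a a := by
      have := congrArg (· ≫ pullback.snd a a) hxy
      simpa only [Category.assoc, pullback.diagonal_snd, Category.comp_id] using this
    have hσ : y ≫ σ₁ = y ≫ σ₂ := by
      apply pullback.hom_ext
      · simp only [σ₁, σ₂, Category.assoc, pullback.lift_fst]
        exact hx1.symm.trans hx2
      · simp only [σ₁, σ₂, Category.assoc, pullback.lift_snd]
    have hw : (y ≫ σ₁) ≫ Limits.diag _ = y ≫ prod.lift σ₁ σ₂ := by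
      apply Limits.prod.hom_ext
      · simp only [Category.assoc, prod.lift_fst, Category.comp_id]
      · simp only [Category.assoc, prod.lift_snd, Category.comp_id, hσ]
    refine ⟨sqV.lift (y ≫ σ₁) y hw, ?_, sqV.lift_snd _ _ _⟩
    rw [← Category.assoc, sqV.lift_snd, hx1]
  · intro Q l l' _ h2
    apply sqV.hom_ext
    · rw [hk1, ← Category.assoc, ← Category.assoc, h2]
    · exact h2

/-- The comparison `F ×_G F ⟶ F × F` is a base change of the diagonal of `G`. -/
theorem isPullback_prod_lift_diag {F G : Sp S} (a : F ⟶ G) :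
    IsPullback (prod.lift (pullback.fst a a) (pullback.snd a a)) (pullback.fst a a ≫ a)
      (prod.map a a) (Limits.diag G) := by
  apply isPullback_of_exists_lift
  · apply Limits.prod.hom_ext
    · simp only [Category.assoc, prod.map_fst, prod.lift_fst_assoc, prod.lift_fst, Category.comp_id]
    · simp only [Category.assoc, prod.map_snd, prod.lift_snd_assoc, prod.lift_snd, Category.comp_id,
        pullback.condition]
  · intro Q p q hpq
    have h1 : (p ≫ prod.fst) ≫ a = q := by
      have := congrArg (· ≫ prod.fst) hpq
      simpa only [Category.assoc, prod.map_fst, prod.lift_fst, Category.comp_id] using this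
    have h2 : (p ≫ prod.snd) ≫ a = q := by
      have := congrArg (· ≫ prod.snd) hpq
      simpa only [Category.assoc, prod.map_snd, prod.lift_snd, Category.comp_id] using this
    refine ⟨pullback.lift (p ≫ prod.fst) (p ≫ prod.snd) (h1.trans h2.symm), ?_, ?_⟩
    · apply Limits.prod.hom_ext
      · simp only [Category.assoc, prod.lift_fst, pullback.lift_fst]
      · simp only [Category.assoc, prod.lift_snd, pullback.lift_snd]
    · rw [pullback.lift_fst_assoc, h1]
  · intro Q l l' h1 _
    apply pullback.hom_ext
    · have := congrArg (· ≫ prod.fst) h1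
      simpa only [Category.assoc, prod.lift_fst] using this
    · have := congrArg (· ≫ prod.snd) h1
      simpa only [Category.assoc, prod.lift_snd] using this

/-- The source of a morphism of sheaves representable by algebraic spaces into a sheaf with representable diagonal
has representable diagonal. -/
theorem representable_diag_of_repBySp {F G : Sp S} (a : F ⟶ G) (ha : RepBySp a.hom)
    (hG : Representable (Limits.diag G)) : Representable (Limits.diag F) := by
  have h1 : Limits.diag F = pullback.diagonal a ≫ prod.lift (pullback.fst a a) (pullback.snd a a) := by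
    apply Limits.prod.hom_ext
    · simp only [Category.assoc, prod.lift_fst, pullback.diagonal_fst]
    · simp only [Category.assoc, prod.lift_snd, pullback.diagonal_snd]
  rw [h1]
  exact (Representable (S := S)).comp_mem _ _ (representable_diagonal_of_repBySp a ha)
    ((Representable (S := S)).of_isPullback (isPullback_prod_lift_diag a).flip hG)

/-- The source of a morphism of sheaves representable by algebraic spaces into an algebraic space is an algebraic
space. -/
theorem isAlgSpace_of_repBySp {F G : Sp S} (a : F ⟶ G) (ha : RepBySp a.hom) (hG : IsAlgSpace G) :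
    IsAlgSpace F := by
  refine ⟨representable_diag_of_repBySp a ha hG.diag, ?_⟩
  obtain ⟨U, p, hpe, hps⟩ := hG.atlas
  have hP : IsAlgSpace (pullback a p) :=
    (repBySp_hom_iff a).1 ha p (pullback.fst a p) (pullback.snd a p) (IsPullback.of_hasPullback a p)
  obtain ⟨W, w, hwe, hws⟩ := hP.atlas
  have sq := IsPullback.of_hasPullback a p
  refine ⟨W, w ≫ pullback.fst a p, ?_, ?_⟩
  · exact (RepWith (S := S) @Etale).comp_mem _ _ hwe ((RepWith (S := S) @Etale).of_isPullback sq.flip hpe)
  · exact (RepWith (S := S) @Surjective).comp_mem _ _ hws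
      ((RepWith (S := S) @Surjective).of_isPullback sq.flip hps)

/-- Presheaf version: the source of a map representable by algebraic spaces into an algebraic space is an algebraic
space. -/
theorem isAlgSpaceP_of_repBySp {F G : PSp S} (a : F ⟶ G) (ha : RepBySp a) (hG : IsAlgSpaceP G) :
    IsAlgSpaceP F := by
  obtain ⟨hG, hGalg⟩ := hG
  have hF := isSheaf_of_repBySp a ha hG
  exact ⟨hF, isAlgSpace_of_repBySp (F := ⟨F, hF⟩) (G := ⟨G, hG⟩) (ObjectProperty.homMk a) ha hGalg⟩

/-- The base change of a map representable by algebraic spaces to an algebraic space is an algebraic space. -/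
theorem isAlgSpaceP_of_isPullback {F G X F' : PSp S} {a : F ⟶ G} (ha : RepBySp a) (hX : IsAlgSpaceP X)
    {ξ : X ⟶ G} {fst : F' ⟶ X} {snd : F' ⟶ F} (sq : IsPullback fst snd ξ a) : IsAlgSpaceP F' :=
  isAlgSpaceP_of_repBySp fst (repBySp_of_isPullback sq.flip ha) hX

/-- Maps representable by algebraic spaces are stable under composition. -/
theorem repBySp_comp {F G H : PSp S} {a : F ⟶ G} {b : G ⟶ H} (ha : RepBySp a) (hb : RepBySp b) :
    RepBySp (a ≫ b) := by
  intro U ξ F' fst snd sq
  have sqG := IsPullback.of_hasPullback b ξ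
  have hG' : IsAlgSpaceP (pullback b ξ) := hb ξ _ _ sqG
  have hm : pullback.lift (fst ≫ a) snd (by rw [Category.assoc, sq.w]) ≫ pullback.snd b ξ = snd :=
    pullback.lift_snd _ _ _
  have sq' : IsPullback fst (pullback.lift (fst ≫ a) snd (by rw [Category.assoc, sq.w]) ≫ pullback.snd b ξ)
      (a ≫ b) ξ := by rw [hm]; exact sq
  have sq1 : IsPullback fst (pullback.lift (fst ≫ a) snd (by rw [Category.assoc, sq.w])) a (pullback.fst b ξ) :=
    IsPullback.of_bot sq' (pullback.lift_fst _ _ _).symm sqG
  exact isAlgSpaceP_of_isPullback ha hG' sq1.flip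

/-- `a × 𝟙` is a base change of `a`. -/
theorem isPullback_prod_map_id {C : Type*} [Category C] [HasBinaryProducts C] {A B : C} (a : A ⟶ B) (Z : C) :
    IsPullback (prod.fst : A ⨯ Z ⟶ A) (prod.map a (𝟙 Z)) a (prod.fst : B ⨯ Z ⟶ B) := by
  apply isPullback_of_exists_lift
  · rw [prod.map_fst]
  · intro Q p q hpq
    refine ⟨prod.lift p (q ≫ prod.snd), prod.lift_fst _ _, ?_⟩
    apply Limits.prod.hom_ext
    · rw [Category.assoc, prod.map_fst, prod.lift_fst_assoc, hpq]
    · rw [Category.assoc, prod.map_snd, prod.lift_snd_assoc, Category.comp_id]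
  · intro Q l l' h1 h2
    apply Limits.prod.hom_ext
    · exact h1
    · have := congrArg (· ≫ prod.snd) h2
      simpa only [Category.assoc, prod.map_snd, Category.comp_id] using this

/-- `𝟙 × a` is a base change of `a`. -/
theorem isPullback_prod_id_map {C : Type*} [Category C] [HasBinaryProducts C] {A B : C} (a : A ⟶ B) (Z : C) :
    IsPullback (prod.snd : Z ⨯ A ⟶ A) (prod.map (𝟙 Z) a) a (prod.snd : Z ⨯ B ⟶ B) := by
  apply isPullback_of_exists_lift
  · rw [prod.map_snd]
  · intro Q p q hpq
    refine ⟨prod.lift (q ≫ prod.fst) p, prod.lift_snd _ _, ?_⟩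
    apply Limits.prod.hom_ext
    · rw [Category.assoc, prod.map_fst, prod.lift_fst_assoc, Category.comp_id]
    · rw [Category.assoc, prod.map_snd, prod.lift_snd_assoc, hpq]
  · intro Q l l' h1 h2
    apply Limits.prod.hom_ext
    · have := congrArg (· ≫ prod.fst) h2
      simpa only [Category.assoc, prod.map_fst, Category.comp_id] using this
    · exact h1

/-- Products of maps representable by algebraic spaces are representable by algebraic spaces. -/
theorem repBySp_prod_map {F₁ G₁ F₂ G₂ : PSp S} {a₁ : F₁ ⟶ G₁} {a₂ : F₂ ⟶ G₂} (h₁ : RepBySp a₁)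
    (h₂ : RepBySp a₂) : RepBySp (prod.map a₁ a₂) := by
  have e : prod.map a₁ a₂ = prod.map a₁ (𝟙 F₂) ≫ prod.map (𝟙 G₁) a₂ := by
    rw [prod.map_map, Category.comp_id, Category.id_comp]
  rw [e]
  exact repBySp_comp (repBySp_of_isPullback (isPullback_prod_map_id a₁ F₂) h₁)
    (repBySp_of_isPullback (isPullback_prod_id_map a₂ G₁) h₂)

/-- If the diagonal of `b` and the composite `a ≫ b` are representable by algebraic spaces, so is `a`. -/
theorem repBySp_of_comp_of_diagonal {F G H : PSp S} {a : F ⟶ G} {b : G ⟶ H}
    (hΔ : RepBySp (pullback.diagonal b)) (hab : RepBySp (a ≫ b)) : RepBySp a := by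
  intro U ξ F' fst snd sq
  have sqE := IsPullback.of_hasPullback (a ≫ b) (ξ ≫ b)
  have hE : IsAlgSpaceP (pullback (a ≫ b) (ξ ≫ b)) := hab (ξ ≫ b) _ _ sqE
  have hτ : (pullback.fst (a ≫ b) (ξ ≫ b) ≫ a) ≫ b = (pullback.snd (a ≫ b) (ξ ≫ b) ≫ ξ) ≫ b := by
    rw [Category.assoc, Category.assoc, pullback.condition]
  have hl : fst ≫ a ≫ b = snd ≫ ξ ≫ b := by rw [← Category.assoc, sq.w, Category.assoc]
  refine isAlgSpaceP_of_isPullback hΔ hE (ξ := pullback.lift _ _ hτ) (fst := pullback.lift fst snd hl)
    (snd := fst ≫ a) ?_
  apply isPullback_of_exists_lift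
  · apply pullback.hom_ext
    · simp only [Category.assoc, pullback.lift_fst, pullback.lift_fst_assoc, pullback.diagonal_fst,
        Category.comp_id]
    · simp only [Category.assoc, pullback.lift_snd, pullback.lift_snd_assoc, pullback.diagonal_snd,
        Category.comp_id, sq.w]
  · intro Q q p hpq
    have h1 : q ≫ pullback.fst (a ≫ b) (ξ ≫ b) ≫ a = p := by
      have := congrArg (· ≫ pullback.fst b b) hpq
      simpa only [Category.assoc, pullback.lift_fst, pullback.diagonal_fst, Category.comp_id] using this
    have h2 : q ≫ pullback.snd (a ≫ b) (ξ ≫ b) ≫ ξ = p := by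
      have := congrArg (· ≫ pullback.snd b b) hpq
      simpa only [Category.assoc, pullback.lift_snd, pullback.diagonal_snd, Category.comp_id] using this
    refine ⟨sq.lift (q ≫ pullback.fst _ _) (q ≫ pullback.snd _ _)
      (by rw [Category.assoc, Category.assoc, h1, h2]), ?_, ?_⟩
    · apply pullback.hom_ext
      · rw [Category.assoc, pullback.lift_fst, sq.lift_fst]
      · rw [Category.assoc, pullback.lift_snd, sq.lift_snd]
    · rw [sq.lift_fst_assoc, Category.assoc, h1]
  · intro Q l l' h1 _
    apply sq.hom_ext
    · have := congrArg (· ≫ pullback.fst (a ≫ b) (ξ ≫ b)) h1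
      simpa only [Category.assoc, pullback.lift_fst] using this
    · have := congrArg (· ≫ pullback.snd (a ≫ b) (ξ ≫ b)) h1
      simpa only [Category.assoc, pullback.lift_snd] using this

/-- Isomorphisms are representable by algebraic spaces. -/
theorem repBySp_of_isIso {A B : PSp S} (e : A ⟶ B) [IsIso e] : RepBySp e := by
  intro U ξ F' fst snd sq
  have : IsIso snd := sq.isIso_snd_of_isIso
  exact ((isAlgSpaceP_obj_iff _).2 (IsAlgSpace.yon_obj U)).of_iso (asIso snd).symm

/-- The product of two representable presheaves is an algebraic space. -/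
theorem isAlgSpaceP_prod_pyon (T U : Over S) : IsAlgSpaceP ((pyon S).obj T ⨯ (pyon S).obj U) := by
  have h1 : IsAlgSpace ((yon S).obj T ⨯ (yon S).obj U) :=
    (IsAlgSpace.yon_obj (T ⨯ U)).of_iso (asIso (prodComparison (yon S) T U))
  have h2 := (isAlgSpaceP_obj_iff _).2 h1
  exact h2.of_iso (PreservesLimitPair.iso (sheafToPresheaf (J S) (Type (u + 1))) ((yon S).obj T) ((yon S).obj U))

/-- A functor preserving a binary product sends the diagonal to the diagonal, up to the comparison isomorphism. -/
theorem diag_map_eq {C D : Type*} [Category C] [Category D] (G : C ⥤ D) (A : C) [HasBinaryProduct A A]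
    [HasBinaryProduct (G.obj A) (G.obj A)] [PreservesLimit (pair A A) G] :
    Limits.diag (G.obj A) = G.map (Limits.diag A) ≫ (PreservesLimitPair.iso G A A).hom := by
  apply Limits.prod.hom_ext
  · rw [Category.assoc, PreservesLimitPair.iso_hom, prodComparison_fst, prod.lift_fst, ← G.map_comp,
      prod.lift_fst, G.map_id]
  · rw [Category.assoc, PreservesLimitPair.iso_hom, prodComparison_snd, prod.lift_snd, ← G.map_comp,
      prod.lift_snd, G.map_id]

/-- The diagonal of a representable presheaf is representable by algebraic spaces. -/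
theorem repBySp_diag_pyon (U : Over S) : RepBySp (Limits.diag ((pyon S).obj U)) := by
  have h1 : RepBySp (Limits.diag ((yon S).obj U)).hom := (IsAlgSpace.yon_obj U).diag.repBySp
  have h2 := diag_map_eq (sheafToPresheaf (J S) (Type (u + 1))) ((yon S).obj U)
  have h3 : RepBySp ((sheafToPresheaf (J S) (Type (u + 1))).map (Limits.diag ((yon S).obj U)) ≫
      (PreservesLimitPair.iso (sheafToPresheaf (J S) (Type (u + 1))) ((yon S).obj U) ((yon S).obj U)).hom) :=
    repBySp_comp h1 (repBySp_of_isIso _)
  rw [← h2] at h3
  exact h3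

/-- The diagonal of a presheaf is representable by algebraic spaces iff every map from a scheme is. -/
theorem repBySp_diag_iff (F : PSp S) :
    RepBySp (Limits.diag F) ↔ ∀ (T : Over S) (ξ : (pyon S).obj T ⟶ F), RepBySp ξ := by
  constructor
  · intro hd T ξ U ζ F' fst snd sq
    refine isAlgSpaceP_of_isPullback hd (isAlgSpaceP_prod_pyon T U) (ξ := prod.map ξ ζ)
      (fst := prod.lift fst snd) (snd := fst ≫ ξ) ?_
    apply isPullback_of_exists_lift
    · apply Limits.prod.hom_ext
      · simp only [Category.assoc, prod.map_fst, prod.lift_fst_assoc, prod.lift_fst, Category.comp_id]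
      · simp only [Category.assoc, prod.map_snd, prod.lift_snd_assoc, prod.lift_snd, Category.comp_id, sq.w]
    · intro Q p q hpq
      have h1 : (p ≫ prod.fst) ≫ ξ = q := by
        have := congrArg (· ≫ prod.fst) hpq
        simpa only [Category.assoc, prod.map_fst, prod.lift_fst, Category.comp_id] using this
      have h2 : (p ≫ prod.snd) ≫ ζ = q := by
        have := congrArg (· ≫ prod.snd) hpq
        simpa only [Category.assoc, prod.map_snd, prod.lift_snd, Category.comp_id] using this
      refine ⟨sq.lift (p ≫ prod.fst) (p ≫ prod.snd) (h1.trans h2.symm), ?_, ?_⟩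
      · apply Limits.prod.hom_ext
        · rw [Category.assoc, prod.lift_fst, sq.lift_fst]
        · rw [Category.assoc, prod.lift_snd, sq.lift_snd]
      · rw [sq.lift_fst_assoc, h1]
    · intro Q l l' h1 _
      apply sq.hom_ext
      · have := congrArg (· ≫ prod.fst) h1
        simpa only [Category.assoc, prod.lift_fst] using this
      · have := congrArg (· ≫ prod.snd) h1
        simpa only [Category.assoc, prod.lift_snd] using this
  · intro h U η F' fst snd sq
    have hf1 : fst = snd ≫ η ≫ prod.fst := by
      have := congrArg (· ≫ prod.fst) sq.w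
      simpa only [Category.assoc, prod.lift_fst, Category.comp_id] using this
    have hf2 : fst = snd ≫ η ≫ prod.snd := by
      have := congrArg (· ≫ prod.snd) sq.w
      simpa only [Category.assoc, prod.lift_snd, Category.comp_id] using this
    have sqE := IsPullback.of_hasPullback (η ≫ prod.fst) (η ≫ prod.snd)
    have hE : IsAlgSpaceP (pullback (η ≫ prod.fst) (η ≫ prod.snd)) :=
      h U (η ≫ prod.fst) (η ≫ prod.snd) _ _ sqE
    refine isAlgSpaceP_of_isPullback (repBySp_diag_pyon U) hE
      (ξ := prod.lift (pullback.fst (η ≫ prod.fst) (η ≫ prod.snd)) (pullback.snd (η ≫ prod.fst) (η ≫ prod.snd)))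
      (fst := pullback.lift snd snd (hf1.symm.trans hf2)) (snd := snd) ?_
    apply isPullback_of_exists_lift
    · apply Limits.prod.hom_ext
      · simp only [Category.assoc, prod.lift_fst, pullback.lift_fst, Category.comp_id]
      · simp only [Category.assoc, prod.lift_snd, pullback.lift_snd, Category.comp_id]
    · intro Q p q hpq
      have h1 : p ≫ pullback.fst (η ≫ prod.fst) (η ≫ prod.snd) = q := by
        have := congrArg (· ≫ prod.fst) hpq
        simpa only [Category.assoc, prod.lift_fst, Category.comp_id] using this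
      have h2 : p ≫ pullback.snd (η ≫ prod.fst) (η ≫ prod.snd) = q := by
        have := congrArg (· ≫ prod.snd) hpq
        simpa only [Category.assoc, prod.lift_snd, Category.comp_id] using this
      have h3 : q ≫ η ≫ prod.fst = q ≫ η ≫ prod.snd := by
        rw [← h1, Category.assoc, pullback.condition, ← Category.assoc, h2, h1]
      have hw : (q ≫ η ≫ prod.fst) ≫ Limits.diag F = q ≫ η := by
        apply Limits.prod.hom_ext
        · simp only [Category.assoc, prod.lift_fst, Category.comp_id]
        · simp only [Category.assoc, prod.lift_snd, Category.comp_id, h3]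
      refine ⟨sq.lift (q ≫ η ≫ prod.fst) q hw, ?_, sq.lift_snd _ _ _⟩
      apply pullback.hom_ext
      · rw [Category.assoc, pullback.lift_fst, sq.lift_snd, h1]
      · rw [Category.assoc, pullback.lift_snd, sq.lift_snd, h2]
    · intro Q l l' _ h2
      apply sq.hom_ext
      · rw [hf1, ← Category.assoc, h2, Category.assoc]
      · exact h2

end Groth.Agent.Lib.Helper15
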