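import Groth.Agent.Lib.Helper15.OpenLocusInst
import Groth.Agent.Lib.Helper16.SmoothEt
import Groth.Agent.Lib.Helper16.LocPSource
import Groth.Agent.Lib.Helper16.LocPInst
import Groth.Agent.Lib.Helper16.LocPGen

/-!
# Helper library (helper15): basic facts used for (etale-)smooth local properties of morphisms of spaces
-/

set_option autoImplicit false
universe u
open CategoryTheory CategoryTheory.Limits AlgebraicGeometry Opposite

namespace Groth.Agent.Lib.Helper15

open AlgSp Groth.Agent.Lib.Helper16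

variable {S : Scheme.{u}}

theorem locP_smooth_id (Y : Sp S) : LocP @Smooth (𝟙 Y) :=
  locP_of_openImm (fun _ _ g hg => by haveI : Etale g := hg; exact (inferInstance : Smooth g)) (𝟙 Y)
    ((RepWith @IsOpenImmersion).id_mem Y)

theorem isEtaleMor_id (Y : Sp S) : IsEtaleMor (𝟙 Y) := fun U φ hφ => by
  rw [Category.comp_id]; exact hφ

theorem locP_smooth_of_isEtaleMor {X Y : Sp S} (hY : IsAlgSpace Y) (g : X ⟶ Y) (hg : IsEtaleMor g) :
    LocP @Smooth g :=
  locP_mono (fun _ _ g hg => by haveI : Etale g := hg; exact (inferInstance : Smooth g))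
    ((isEtaleMor_iff_locP_etale hY g).1 hg)

/-- Base change of etale morphisms of algebraic spaces. -/
theorem isEtaleMor_of_isPullback {X Y X' Y' : Sp S} (hX : IsAlgSpace X) (hY : IsAlgSpace Y)
    (hY' : IsAlgSpace Y') {f : X ⟶ Y} {g : Y' ⟶ Y} {fst : X' ⟶ X} {f' : X' ⟶ Y'}
    (sq : IsPullback fst f' f g) (hf : IsEtaleMor f) : IsEtaleMor f' :=
  (isEtaleMor_iff_locP_etale hY' f').2
    (locP_of_isPullback etLocalST_etale hX hY sq ((isEtaleMor_iff_locP_etale hY f).1 hf))

/-- A section of an etale morphism is etale. -/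
theorem isEtaleMor_of_section {X W : Sp S} (hX : IsAlgSpace X) (hW : IsAlgSpace W) (e : X ⟶ W) (p : W ⟶ X)
    (hep : e ≫ p = 𝟙 X) (hp : IsEtaleMor p) : IsEtaleMor e :=
  Groth.Agent.S10210.result (X := ⟨X, hX⟩) (Y := ⟨W, hW⟩) (Z := ⟨X, hX⟩) (ObjectProperty.homMk e)
    (ObjectProperty.homMk p) (ObjectProperty.homMk (𝟙 X)) (ObjectProperty.hom_ext _ hep) (isEtaleMor_id X) hp

/-- A property local on the source for `Q`-coverings is stable under precomposition with `Q`-morphisms. -/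
theorem P_precomp_of_localOnSource {Q P : MorphismProperty (Sp S)} (hQid : ∀ Y : Sp S, Q (𝟙 Y))
    (h1 : IsLocalOnSource (fun _ _ Y g => IsCover Q Y g) P) {X Y Z : Sp S} (hX : IsAlgSpace X)
    (hY : IsAlgSpace Y) (hZ : IsAlgSpace Z) (f : X ⟶ Y) (g : Y ⟶ Z) (hf : Q f) (hg : P g) : P (f ≫ g) := by
  let Xi : ULift.{u} Bool → Sp S := fun i => Bool.rec Y X i.down
  let gi : ∀ i, Xi i ⟶ Y := fun i => match i with
    | ⟨false⟩ => 𝟙 Y
    | ⟨true⟩ => f
  have hXi : ∀ i, IsAlgSpace (Xi i) := fun i => match i with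
    | ⟨false⟩ => hY
    | ⟨true⟩ => hX
  have hcov : IsCover Q Xi gi := by
    refine ⟨fun i => match i with
      | ⟨false⟩ => hQid Y
      | ⟨true⟩ => hf, fun x => ⟨⟨false⟩, x, ?_⟩⟩
    change Points.map (𝟙 Y) x = x
    exact Points.map_id x
  exact ((h1 Xi gi hY hXi hcov g hZ).1 hg) ⟨true⟩

end Groth.Agent.Lib.Helper15
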