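import Groth.Agent.Lib.Helper15.OpenLocus
import Groth.Agent.S10210
import Groth.Agent.S10211
import Mathlib.AlgebraicGeometry.Morphisms.Smooth
import Mathlib.AlgebraicGeometry.Morphisms.Etale

/-!
# Helper library (helper15): instances of `OpenLocusHyp` (etale, fppf, smooth) and the bundled theorem
-/

set_option autoImplicit false
universe u
open CategoryTheory CategoryTheory.Limits AlgebraicGeometry Opposite

namespace Groth.Agent.Lib.Helper15

open AlgSp Groth.Agent.Lib.Helper16

variable {S : Scheme.{u}}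

theorem repWith_mono' {P P' : MorphismProperty Scheme.{u}} (h : P ≤ P') {F G : Sp S} (f : F ⟶ G)
    (hf : RepWith P f) : RepWith P' f :=
  (repWith_iff _ _).2 ⟨((repWith_iff _ _).1 hf).1, fun _ _ g fst snd sq =>
    h _ (((repWith_iff _ _).1 hf).2 g fst snd sq)⟩

theorem repWith_etale_of_isOpenImmersion {F G : Sp S} (f : F ⟶ G) (hf : RepWith @IsOpenImmersion f) :
    RepWith @Etale f :=
  repWith_mono' (fun _ _ g hg => by
    haveI : IsOpenImmersion g := hg
    exact (inferInstance : Etale g)) f hf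

theorem isEtaleMor_of_isOpenImmersion {F G : Sp S} (f : F ⟶ G) (hf : RepWith @IsOpenImmersion f) :
    IsEtaleMor f :=
  fun _ φ hφ => (RepWith @Etale).comp_mem _ _ hφ (repWith_etale_of_isOpenImmersion f hf)

theorem openLocusHyp_isEtaleMor : OpenLocusHyp (IsEtaleMor (S := S)) where
  of_openImm := fun _ _ j _ _ hj => isEtaleMor_of_isOpenImmersion j hj
  precomp := fun _ _ _ j g _ _ _ hj hg => fun U φ hφ => by
    rw [← Category.assoc]
    exact hg (φ ≫ j) (isEtaleMor_of_isOpenImmersion j hj φ hφ)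
  isOpenMap := fun Y' Y g hY' hY hg =>
    Groth.Agent.S10211.result (X := ⟨Y', hY'⟩) (Y := ⟨Y, hY⟩) (ObjectProperty.homMk g) hg
  cancel := fun Y' W Y g' j hY' hW hY hj h =>
    Groth.Agent.S10210.result (X := ⟨Y', hY'⟩) (Y := ⟨W, hW⟩) (Z := ⟨Y, hY⟩) (ObjectProperty.homMk g')
      (ObjectProperty.homMk j) (ObjectProperty.homMk (g' ≫ j)) rfl h (isEtaleMor_of_isOpenImmersion j hj)

section LocP

variable {P : MorphismProperty Scheme.{u}}

theorem locP_of_openImm (hle : @Etale ≤ P) {W Y : Sp S} (j : W ⟶ Y) (hj : RepWith @IsOpenImmersion j) :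
    LocP P j := by
  intro U V a b h ha hb e
  apply hle
  exact etale_of_etale_charts (a ≫ j) b (isEtaleMor_of_isOpenImmersion j hj a ha) hb h e.symm

theorem locP_precomp_openImm {W Y' Y : Sp S} (j : W ⟶ Y') (g : Y' ⟶ Y) (hj : RepWith @IsOpenImmersion j)
    (hg : LocP P g) : LocP P (j ≫ g) := by
  intro U V a b h ha hb e
  exact hg (a ≫ j) b h (isEtaleMor_of_isOpenImmersion j hj a ha) hb (by rw [Category.assoc]; exact e)

theorem locP_cancel_openImm {Y' W Y : Sp S} (g' : Y' ⟶ W) (j : W ⟶ Y) (hj : RepWith @IsOpenImmersion j)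
    (h : LocP P (g' ≫ j)) : LocP P g' := by
  intro U V a b k ha hb e
  exact h a (b ≫ j) k ha (isEtaleMor_of_isOpenImmersion j hj b hb) (by
    rw [← Category.assoc, e, Category.assoc])

end LocP

/-- Flat morphisms locally of finite presentation of algebraic spaces are open on points. -/
theorem isOpenMap_of_locP_flat_lfp {X Y : Sp S} (hX : IsAlgSpace X) (hY : IsAlgSpace Y) (f : X ⟶ Y)
    (h1 : LocP @Flat f) (h2 : LocP @LocallyOfFinitePresentation f) : IsOpenMap (Points.map f) := by
  obtain ⟨U₀, a₀, hae, has⟩ := hX.atlas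
  obtain ⟨V, b, hbe, hbs⟩ := hY.atlas
  obtain ⟨U, h, c, hce, hcomm, -, -, hsurj⟩ := exists_chart_diagram f b hbe a₀ hae
  have has' := hsurj hbs has
  haveI : Flat h.left := h1 _ _ h hce hbe hcomm
  haveI : LocallyOfFinitePresentation h.left := h2 _ _ h hce hbe hcomm
  have hopen : IsOpenMap h.left := h.left.isOpenMap
  intro O hO
  have key : Points.map f '' O =
      Points.ofPt b '' (h.left '' (Points.ofPt ((yon S).map c ≫ a₀) ⁻¹' O)) := by
    ext y
    constructor
    · rintro ⟨x, hx, rfl⟩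
      obtain ⟨u, rfl⟩ := ofPt_surjective_of_surjective _ has' x
      refine ⟨h.left u, ⟨u, hx, rfl⟩, ?_⟩
      rw [← ofPt_yon_map_comp, ← hcomm, Points.map_ofPt]
    · rintro ⟨_, ⟨u, hu, rfl⟩, rfl⟩
      refine ⟨Points.ofPt ((yon S).map c ≫ a₀) u, hu, ?_⟩
      rw [← ofPt_yon_map_comp, ← hcomm, Points.map_ofPt]
  rw [key]
  exact isOpenMap_ofPt_of_etale b hbe _ (hopen _ (hO.preimage (Points.continuous_ofPt _)))

theorem openLocusHyp_fppf :
    OpenLocusHyp (fun (_ _ : Sp S) f => LocP @Flat f ∧ LocP @LocallyOfFinitePresentation f) where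
  of_openImm := fun _ _ j _ _ hj =>
    ⟨locP_of_openImm (fun _ _ g hg => by haveI : Etale g := hg; exact (inferInstance : Flat g)) j hj,
      locP_of_openImm (fun _ _ g hg => by
        haveI : Etale g := hg; exact (inferInstance : LocallyOfFinitePresentation g)) j hj⟩
  precomp := fun _ _ _ j g _ _ _ hj hg =>
    ⟨locP_precomp_openImm j g hj hg.1, locP_precomp_openImm j g hj hg.2⟩
  isOpenMap := fun _ _ g hY' hY hg => isOpenMap_of_locP_flat_lfp hY' hY g hg.1 hg.2
  cancel := fun _ _ _ g' j _ _ _ hj h =>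
    ⟨locP_cancel_openImm g' j hj h.1, locP_cancel_openImm g' j hj h.2⟩

theorem openLocusHyp_smooth : OpenLocusHyp (LocP (S := S) @Smooth) where
  of_openImm := fun _ _ j _ _ hj =>
    locP_of_openImm (fun _ _ g hg => by haveI : Etale g := hg; exact (inferInstance : Smooth g)) j hj
  precomp := fun _ _ _ j g _ _ _ hj hg => locP_precomp_openImm j g hj hg
  isOpenMap := fun _ _ g hY' hY hg => isOpenMap_of_locP_flat_lfp hY' hY g
    (fun _ _ a b h ha hb e => by
      haveI : Smooth h.left := hg a b h ha hb e; exact (inferInstance : Flat h.left))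
    (fun _ _ a b h ha hb e => by
      haveI : Smooth h.left := hg a b h ha hb e
      exact (inferInstance : LocallyOfFinitePresentation h.left))
  cancel := fun _ _ _ g' j _ _ _ hj h => locP_cancel_openImm g' j hj h

/-- Bundled form of `HasPOver`, as it appears in statements. -/
def HasPOverB (P : MorphismProperty (Sp S)) {X Y : Space S} (f : X ⟶ Y) (V : Set (Points Y.obj)) : Prop :=
  ∀ (W₁ X₁ : Space S) (j₁ : W₁ ⟶ Y) (j₁' : X₁ ⟶ X) (f₁ : X₁ ⟶ W₁),
    RepWith @IsOpenImmersion j₁.hom → Set.range (Points.map j₁.hom) = V →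
    IsPullback j₁'.hom f₁.hom f.hom j₁.hom → P f₁.hom

theorem hasPOverB_iff (P : MorphismProperty (Sp S)) {X Y : Space S} (f : X ⟶ Y) (V : Set (Points Y.obj)) :
    HasPOverB P f V ↔ HasPOver P f.hom V := by
  constructor
  · intro h W₁ X₁ j₁ j₁' f₁ hW₁ hX₁ hj hr sq
    exact h ⟨W₁, hW₁⟩ ⟨X₁, hX₁⟩ (ObjectProperty.homMk j₁) (ObjectProperty.homMk j₁')
      (ObjectProperty.homMk f₁) hj hr sq
  · intro h W₁ X₁ j₁ j₁' f₁ hj hr sq
    exact h W₁.obj X₁.obj j₁.hom j₁'.hom f₁.hom W₁.property X₁.property hj hr sq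

/-- The largest open subspace of the target over which a morphism has a property local on the base. -/
theorem exists_largest_open_bundled {Q P : MorphismProperty (Sp S)} (hQ : OpenLocusHyp Q)
    (hP : IsLocalOnBase (fun _ _ Y g => IsCover Q Y g) P) {X Y : Space S} (f : X ⟶ Y) :
    ∃ W : TopologicalSpace.Opens (Points Y.obj),
      HasPOverB P f (W : Set (Points Y.obj)) ∧
      (∀ V : TopologicalSpace.Opens (Points Y.obj), HasPOverB P f (V : Set (Points Y.obj)) → V ≤ W) ∧
      (∀ (Y' X' : Space S) (g : Y' ⟶ Y) (g' : X' ⟶ X) (f' : X' ⟶ Y'), Q g.hom →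
        IsPullback g'.hom f'.hom f.hom g.hom → P f'.hom →
        Set.range (Points.map g.hom) ⊆ (W : Set (Points Y.obj))) ∧
      (∀ (Y' X' : Space S) (g : Y' ⟶ Y) (g' : X' ⟶ X) (f' : X' ⟶ Y'), Q g.hom →
        IsPullback g'.hom f'.hom f.hom g.hom →
        ∀ W' : TopologicalSpace.Opens (Points Y'.obj), HasPOverB P f' (W' : Set (Points Y'.obj)) →
          (∀ V' : TopologicalSpace.Opens (Points Y'.obj), HasPOverB P f' (V' : Set (Points Y'.obj)) → V' ≤ W') →
          (W' : Set (Points Y'.obj)) = Points.map g.hom ⁻¹' (W : Set (Points Y.obj))) := by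
  refine ⟨largestOpen P f.hom, ?_, ?_, ?_, ?_⟩
  · rw [hasPOverB_iff]
    exact hasPOver_largestOpen hQ hP X.property Y.property f.hom
  · intro V hV
    rw [hasPOverB_iff] at hV
    exact le_sSup hV
  · intro Y' X' g g' f' hg sq hf'
    exact range_subset_largestOpen hQ hP X.property Y.property f.hom Y'.property X'.property g.hom g'.hom
      f'.hom hg sq hf'
  · intro Y' X' g g' f' hg sq W' hW' hmax
    rw [hasPOverB_iff] at hW'
    exact eq_preimage_largestOpen hQ hP X.property Y.property f.hom Y'.property X'.property g.hom g'.hom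
      f'.hom hg sq W' hW' (fun V' hV' => hmax V' ((hasPOverB_iff P f' _).2 hV'))

end Groth.Agent.Lib.Helper15
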