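import Groth.Agent.Lib.Helper15.ToposQuot
import Groth.Agent.Lib.Helper16.Charts
import Groth.Agent.Lib.Helper16.FppfLocal
import Mathlib.CategoryTheory.Sites.Subsheaf

/-!
# Helper library (helper15): points of coproducts of sheaves; covering sieves are jointly surjective
-/

set_option autoImplicit false
universe u
open CategoryTheory CategoryTheory.Limits AlgebraicGeometry Opposite

namespace Groth.Agent.Lib.Helper15

open AlgSp Groth.Agent.Lib.Helper16

variable {S : Scheme.{u}}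

/-- Covering sieves of the fppf topology over `S` are jointly surjective. -/
theorem exists_arrow_of_mem_J {T : Over S} (R : Sieve T) (hR : R ∈ J S T) (t : ↥T.left) :
    ∃ (T' : Over S) (g : T' ⟶ T) (t' : ↥T'.left), R g ∧ g.left t' = t := by
  rw [J_eq, GrothendieckTopology.mem_over_iff] at hR
  obtain ⟨𝒰, hle⟩ := (Scheme.mem_grothendieckTopology_iff
    (P := @Flat ⊓ @LocallyOfFinitePresentation)).1 hR
  obtain ⟨i, y, hy⟩ := 𝒰.exists_eq t
  have hg' := hle _ _ (Presieve.ofArrows.mk i)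
  rw [Sieve.overEquiv_iff] at hg'
  exact ⟨Over.mk (𝒰.f i ≫ T.hom), Over.homMk (𝒰.f i), y, hg', hy⟩

/-- In a colimit cofan of sheaves every section comes, locally, from one of the summands. -/
theorem exists_sieve_lift_of_cofan {ι : Type*} {X : ι → Sp S} (c : Cofan X) (hc : IsColimit c)
    (T : Over S) (y : (yon S).obj T ⟶ c.pt) :
    ∃ R ∈ J S T, ∀ ⦃T' : Over S⦄ (g : T' ⟶ T), R g →
      ∃ (i : ι) (x : (yon S).obj T' ⟶ X i), x ≫ c.inj i = (yon S).map g ≫ y := by
  let G : Subfunctor c.pt.obj := ⨆ i, Subfunctor.range (c.inj i).hom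
  have hF : Presieve.IsSheaf (J S) c.pt.obj := (isSheaf_iff_isSheaf_of_type _ _).1 c.pt.property
  have hsh : Presieve.IsSheaf (J S) (G.sheafify (J S)).toFunctor := G.sheafify_isSheaf hF
  let Gs : Sp S := ⟨(G.sheafify (J S)).toFunctor, (isSheaf_iff_isSheaf_of_type _ _).2 hsh⟩
  let ιG : Gs ⟶ c.pt := ObjectProperty.homMk (G.sheafify (J S)).ι
  have hle : ∀ i, Subfunctor.range (c.inj i).hom ≤ G.sheafify (J S) := fun i =>
    (le_iSup (fun i => Subfunctor.range (c.inj i).hom) i).trans (G.le_sheafify (J S))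
  let ℓ : ∀ i, X i ⟶ Gs := fun i => ObjectProperty.homMk (Subfunctor.lift (c.inj i).hom (hle i))
  have hℓ : ∀ i, ℓ i ≫ ιG = c.inj i := fun i => by
    apply ObjectProperty.hom_ext
    rfl
  let d : c.pt ⟶ Gs := Cofan.IsColimit.desc hc ℓ
  have hd : d ≫ ιG = 𝟙 c.pt := by
    apply Cofan.IsColimit.hom_ext hc
    intro i
    rw [← Category.assoc, Cofan.IsColimit.fac, hℓ, Category.comp_id]
  have hmem : ∀ (T : Over S) (ξ : c.pt.obj.obj (op T)), ξ ∈ (G.sheafify (J S)).obj (op T) := by
    intro T ξ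
    have h1 : (d ≫ ιG).hom.app (op T) ξ = ξ := by rw [hd]; rfl
    have h2 : (d ≫ ιG).hom.app (op T) ξ = ((d.hom.app (op T) ξ : (G.sheafify (J S)).toFunctor.obj (op T))).1 := rfl
    rw [← h1, h2]
    exact (d.hom.app (op T) ξ).2
  refine ⟨G.sieveOfSection ((J S).uliftYonedaEquiv y), hmem T _, ?_⟩
  intro T' g hg
  have hg' : c.pt.obj.map g.op ((J S).uliftYonedaEquiv y) ∈ G.obj (op T') := hg
  rw [Subfunctor.iSup_obj, Set.mem_iUnion] at hg'
  obtain ⟨i, η, hη⟩ := hg'
  refine ⟨i, (J S).uliftYonedaEquiv.symm η, ?_⟩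
  apply (J S).uliftYonedaEquiv.injective
  rw [GrothendieckTopology.uliftYonedaEquiv_comp, Equiv.apply_symm_apply,
    ← GrothendieckTopology.uliftYonedaEquiv_naturality]
  exact hη

/-- The points of a coproduct of sheaves are covered by the points of the summands. -/
theorem exists_mem_range_inj_of_cofan {ι : Type*} {X : ι → Sp S} (c : Cofan X) (hc : IsColimit c)
    (x : Points c.pt) : ∃ i, x ∈ Set.range (Points.map (c.inj i)) := by
  induction x using Points.ind with | h p => ?_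
  obtain ⟨R, hR, hR'⟩ := exists_sieve_lift_of_cofan c hc p.pt p.toHom
  have hne : Nonempty ↥(Spec (CommRingCat.of p.K)) := inferInstance
  obtain ⟨s⟩ := hne
  obtain ⟨T', g, t', hg, hgt⟩ := exists_arrow_of_mem_J R hR s
  obtain ⟨i, x, hx⟩ := hR' g hg
  refine ⟨i, Points.ofPt x t', ?_⟩
  rw [Points.map_ofPt, hx, ofPt_yon_map_comp, Points.ofPt_toHom]

end Groth.Agent.Lib.Helper15
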