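import Groth.Prelude.Def_AlgSpGpd
import Mathlib.CategoryTheory.Sites.LocallyBijective
import Mathlib.CategoryTheory.Sites.RegularEpi

/-!
# Helper library (helper15): quotient sheaves of pre-equivalence relations (topos-theoretic facts)

* `epi_iff_locally_lift`: epimorphisms of fppf sheaves are the maps along which points lift locally.
* `hom_eq_of_locally_eq`: two points of a sheaf which agree on a covering sieve agree.
* `quotSpπ_eq_iff`: for a pre-equivalence relation `s, t : R ⟶ U`, two points of `U` have the same image in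
  `U/R` iff they are locally related.
* `epi_lift_of_isPreEqvRelSp`: `R ⟶ U ×_{U/R} U` is an epimorphism.
-/

set_option autoImplicit false
universe u
open CategoryTheory CategoryTheory.Limits AlgebraicGeometry Opposite

namespace Groth.Agent.Lib.Helper15

open AlgSp

variable {S : Scheme.{u}}

/-- A morphism of fppf sheaves is an epimorphism iff points with values in schemes lift locally. -/
theorem epi_iff_locally_lift {F G : Sp S} (f : F ⟶ G) :
    Epi f ↔ ∀ (T : Over S) (y : (yon S).obj T ⟶ G), ∃ R ∈ J S T, ∀ ⦃T' : Over S⦄ (g : T' ⟶ T), R g →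
      ∃ x : (yon S).obj T' ⟶ F, x ≫ f = (yon S).map g ≫ y := by
  rw [← Sheaf.isLocallySurjective_iff_epi]
  constructor
  · intro hf T y
    refine ⟨_, Presheaf.imageSieve_mem (J S) f.hom ((J S).uliftYonedaEquiv y), ?_⟩
    intro T' g hg
    obtain ⟨t, ht⟩ := hg
    refine ⟨(J S).uliftYonedaEquiv.symm t, ?_⟩
    apply (J S).uliftYonedaEquiv.injective
    rw [GrothendieckTopology.uliftYonedaEquiv_comp, Equiv.apply_symm_apply, ht,
      GrothendieckTopology.uliftYonedaEquiv_naturality]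
  · intro h
    constructor
    intro T s
    obtain ⟨R, hR, hR'⟩ := h T ((J S).uliftYonedaEquiv.symm s)
    refine (J S).superset_covering ?_ hR
    intro T' g hg
    obtain ⟨x, hx⟩ := hR' g hg
    refine ⟨(J S).uliftYonedaEquiv x, ?_⟩
    rw [← GrothendieckTopology.uliftYonedaEquiv_comp, hx,
      ← GrothendieckTopology.uliftYonedaEquiv_naturality, Equiv.apply_symm_apply]

/-- Two points of a sheaf which agree on a covering sieve agree. -/
theorem hom_eq_of_locally_eq {F : Sp S} {T : Over S} (a b : (yon S).obj T ⟶ F) (R : Sieve T)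
    (hR : R ∈ J S T) (h : ∀ ⦃T' : Over S⦄ (g : T' ⟶ T), R g → (yon S).map g ≫ a = (yon S).map g ≫ b) :
    a = b := by
  apply (J S).uliftYonedaEquiv.injective
  have hsep := ((isSheaf_iff_isSheaf_of_type _ _).1 F.property).isSeparated
  refine (hsep R hR).ext ?_
  intro T' g hg
  rw [GrothendieckTopology.uliftYonedaEquiv_naturality, GrothendieckTopology.uliftYonedaEquiv_naturality,
    h g hg]

section Quot

variable {R U : Sp S} (s t : R ⟶ U)

/-- The relation on sections of `U` over `T` defined by the sections of `R`. -/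
def secRel (T : (Over S)ᵒᵖ) (a b : U.obj.obj T) : Prop :=
  ∃ r : R.obj.obj T, t.hom.app T r = a ∧ s.hom.app T r = b

theorem secRel_map {T T' : (Over S)ᵒᵖ} (g : T ⟶ T') {a b : U.obj.obj T} (h : secRel s t T a b) :
    secRel s t T' (U.obj.map g a) (U.obj.map g b) := by
  obtain ⟨r, rfl, rfl⟩ := h
  exact ⟨R.obj.map g r, NatTrans.naturality_apply t.hom g r, NatTrans.naturality_apply s.hom g r⟩

/-- The presheaf quotient `T ↦ U(T)/R(T)`. -/
def quotPre : (Over S)ᵒᵖ ⥤ Type (u + 1) where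
  obj T := Quot (secRel s t T)
  map {T T'} g := ↾(Quot.map (U.obj.map g) (fun _ _ h => secRel_map s t g h))
  map_id T := by
    ext x : 3
    induction x using Quot.ind
    simp [Quot.map]
  map_comp f g := by
    ext x : 3
    induction x using Quot.ind
    simp [Quot.map]

/-- The projection `U ⟶ U(T)/R(T)` of presheaves. -/
def toQuotPre : U.obj ⟶ quotPre s t where
  app T := ↾(Quot.mk _)
  naturality T T' g := by
    ext x : 3
    rfl

/-- The sheafification of the presheaf quotient. -/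
noncomputable def quotSh : Sp S := (presheafToSheaf (J S) (Type (u + 1))).obj (quotPre s t)

/-- `U ⟶ (U/R)^sh`. -/
noncomputable def toQuotSh : U ⟶ quotSh s t :=
  ObjectProperty.homMk (toQuotPre s t ≫ toSheafify (J S) (quotPre s t))

theorem toQuotSh_condition : s ≫ toQuotSh s t = t ≫ toQuotSh s t := by
  apply Sheaf.hom_ext
  ext T r
  change (toSheafify (J S) (quotPre s t)).app T (Quot.mk _ (s.hom.app T r)) =
    (toSheafify (J S) (quotPre s t)).app T (Quot.mk _ (t.hom.app T r))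
  congr 1
  exact (Quot.sound ⟨r, rfl, rfl⟩).symm

theorem secRel_iff {T : Over S} (a b : U.obj.obj (op T)) :
    secRel s t (op T) a b ↔ ∃ r : (yon S).obj T ⟶ R, r ≫ t = (J S).uliftYonedaEquiv.symm a ∧
      r ≫ s = (J S).uliftYonedaEquiv.symm b := by
  constructor
  · rintro ⟨r, h1, h2⟩
    refine ⟨(J S).uliftYonedaEquiv.symm r, ?_, ?_⟩
    · rw [GrothendieckTopology.uliftYonedaEquiv_symm_naturality_right, h1]
    · rw [GrothendieckTopology.uliftYonedaEquiv_symm_naturality_right, h2]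
  · rintro ⟨ρ, h1, h2⟩
    refine ⟨(J S).uliftYonedaEquiv ρ, ?_, ?_⟩
    · rw [← GrothendieckTopology.uliftYonedaEquiv_comp, h1, Equiv.apply_symm_apply]
    · rw [← GrothendieckTopology.uliftYonedaEquiv_comp, h2, Equiv.apply_symm_apply]

variable {s t} in
theorem secRel_equivalence (h : IsPreEqvRelSp s t) (T : Over S) :
    _root_.Equivalence (secRel s t (op T)) :=
  ⟨fun _ => (secRel_iff s t _ _).2 ((h T).refl _),
    fun h1 => (secRel_iff s t _ _).2 ((h T).symm ((secRel_iff s t _ _).1 h1)),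
    fun h1 h2 => (secRel_iff s t _ _).2 ((h T).trans ((secRel_iff s t _ _).1 h1) ((secRel_iff s t _ _).1 h2))⟩

variable {s t} in
/-- For a pre-equivalence relation, two points of `U` with the same image in `U/R` are locally related. -/
theorem exists_rel_of_quotSpπ_eq (h : IsPreEqvRelSp s t) {T : Over S} (a b : (yon S).obj T ⟶ U)
    (hab : a ≫ quotSpπ s t = b ≫ quotSpπ s t) :
    ∃ R' ∈ J S T, ∀ ⦃T' : Over S⦄ (g : T' ⟶ T), R' g →
      ∃ r : (yon S).obj T' ⟶ R, r ≫ t = (yon S).map g ≫ a ∧ r ≫ s = (yon S).map g ≫ b := by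
  have w := toQuotSh_condition s t
  have hab' : a ≫ toQuotSh s t = b ≫ toQuotSh s t := by
    rw [← quotSpπ_desc _ _ (toQuotSh s t) w, ← Category.assoc, hab, Category.assoc]
  have h2 := congrArg (J S).uliftYonedaEquiv hab'
  rw [GrothendieckTopology.uliftYonedaEquiv_comp, GrothendieckTopology.uliftYonedaEquiv_comp] at h2
  have h3 : (toSheafify (J S) (quotPre s t)).app (op T)
      ((toQuotPre s t).app (op T) ((J S).uliftYonedaEquiv a)) =
      (toSheafify (J S) (quotPre s t)).app (op T)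
      ((toQuotPre s t).app (op T) ((J S).uliftYonedaEquiv b)) := h2
  have h4 := Presheaf.equalizerSieve_mem (J S) (toSheafify (J S) (quotPre s t)) _ _ h3
  refine ⟨_, h4, ?_⟩
  intro T' g hg
  have h5 : Quot.mk (secRel s t (op T')) (U.obj.map g.op ((J S).uliftYonedaEquiv a)) =
      Quot.mk (secRel s t (op T')) (U.obj.map g.op ((J S).uliftYonedaEquiv b)) := hg
  have h6 := ((secRel_equivalence h T').eqvGen_iff).1 (Quot.eqvGen_exact h5)
  obtain ⟨ρ, h7, h8⟩ := (secRel_iff s t _ _).1 h6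
  refine ⟨ρ, ?_, ?_⟩
  · rw [h7, ← GrothendieckTopology.uliftYonedaEquiv_symm_naturality_left, Equiv.symm_apply_apply]
  · rw [h8, ← GrothendieckTopology.uliftYonedaEquiv_symm_naturality_left, Equiv.symm_apply_apply]

/-- Points of `U` which are locally related have the same image in `U/R`. -/
theorem quotSpπ_eq_of_locally_rel {T : Over S} (a b : (yon S).obj T ⟶ U) (R' : Sieve T) (hR' : R' ∈ J S T)
    (h : ∀ ⦃T' : Over S⦄ (g : T' ⟶ T), R' g →
      ∃ r : (yon S).obj T' ⟶ R, r ≫ t = (yon S).map g ≫ a ∧ r ≫ s = (yon S).map g ≫ b) :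
    a ≫ quotSpπ s t = b ≫ quotSpπ s t := by
  refine hom_eq_of_locally_eq _ _ R' hR' ?_
  intro T' g hg
  obtain ⟨r, h1, h2⟩ := h g hg
  rw [← Category.assoc, ← Category.assoc, ← h1, ← h2, Category.assoc, Category.assoc, quotSp_condition]

variable {s t} in
/-- For a pre-equivalence relation, `(t, s) : R ⟶ U ×_{U/R} U` is an epimorphism of sheaves. -/
theorem epi_lift_of_isPreEqvRelSp (h : IsPreEqvRelSp s t) :
    Epi (pullback.lift t s (quotSp_condition s t).symm : R ⟶ pullback (quotSpπ s t) (quotSpπ s t)) := by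
  rw [epi_iff_locally_lift]
  intro T y
  obtain ⟨R', hR', hR''⟩ := exists_rel_of_quotSpπ_eq h (y ≫ pullback.fst _ _) (y ≫ pullback.snd _ _)
    (by rw [Category.assoc, Category.assoc, pullback.condition])
  refine ⟨R', hR', ?_⟩
  intro T' g hg
  obtain ⟨r, h1, h2⟩ := hR'' g hg
  refine ⟨r, ?_⟩
  apply pullback.hom_ext
  · rw [Category.assoc, pullback.lift_fst, h1, Category.assoc]
  · rw [Category.assoc, pullback.lift_snd, h2, Category.assoc]

end Quot

/-- Morphisms of sheaves out of `Z` are determined by their composites with all `h_T ⟶ Z`. -/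
theorem sp_hom_ext' {Z F : Sp S} (a b : Z ⟶ F)
    (h : ∀ (T : Over S) (z : (yon S).obj T ⟶ Z), z ≫ a = z ≫ b) : a = b := by
  apply Sheaf.hom_ext
  ext T z
  have := h T.unop ((J S).uliftYonedaEquiv.symm z)
  have h2 := congrArg (J S).uliftYonedaEquiv this
  rw [GrothendieckTopology.uliftYonedaEquiv_comp, GrothendieckTopology.uliftYonedaEquiv_comp,
    Equiv.apply_symm_apply] at h2
  exact h2

instance epi_quotSpπ {R U : Sp S} (s t : R ⟶ U) : Epi (quotSpπ s t) := by
  have := epi_of_isColimit_cofork (quotSpIsCoequalizer s t)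
  exact this

/-- Injectivity of the map of quotient sheaves induced by a map of pre-relations which reflects relatedness of
points, the target being a pre-equivalence relation. -/
theorem mono_quotSp_map {R U R' U' : Sp S} {s t : R ⟶ U} (hpre : IsPreEqvRelSp s t) (g : U' ⟶ U)
    (s' t' : R' ⟶ U')
    (hlift : ∀ (T : Over S) (a b : (yon S).obj T ⟶ U') (ρ : (yon S).obj T ⟶ R), ρ ≫ t = a ≫ g → ρ ≫ s = b ≫ g →
      ∃ ρ' : (yon S).obj T ⟶ R', ρ' ≫ t' = a ∧ ρ' ≫ s' = b)
    (ψ : quotSp s' t' ⟶ quotSp s t) (hψ : quotSpπ s' t' ≫ ψ = g ≫ quotSpπ s t) : Mono ψ := by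
  constructor
  intro Z a b hab
  apply sp_hom_ext'
  intro T z
  have hab' : (z ≫ a) ≫ ψ = (z ≫ b) ≫ ψ := by rw [Category.assoc, Category.assoc, hab]
  obtain ⟨Ra, hRa, hRa'⟩ := (epi_iff_locally_lift (quotSpπ s' t')).1 inferInstance T (z ≫ a)
  obtain ⟨Rb, hRb, hRb'⟩ := (epi_iff_locally_lift (quotSpπ s' t')).1 inferInstance T (z ≫ b)
  refine hom_eq_of_locally_eq _ _ (Ra ⊓ Rb) ((J S).intersection_covering hRa hRb) ?_
  rintro T1 g1 ⟨hg1a, hg1b⟩
  obtain ⟨a₁, ha₁⟩ := hRa' g1 hg1a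
  obtain ⟨b₁, hb₁⟩ := hRb' g1 hg1b
  rw [← ha₁, ← hb₁]
  have h1 : (a₁ ≫ g) ≫ quotSpπ s t = (b₁ ≫ g) ≫ quotSpπ s t := by
    calc (a₁ ≫ g) ≫ quotSpπ s t = (a₁ ≫ quotSpπ s' t') ≫ ψ := by
          rw [Category.assoc, Category.assoc, hψ]
      _ = (yon S).map g1 ≫ ((z ≫ a) ≫ ψ) := by rw [ha₁]; simp only [Category.assoc]
      _ = (yon S).map g1 ≫ ((z ≫ b) ≫ ψ) := by rw [hab']
      _ = (b₁ ≫ quotSpπ s' t') ≫ ψ := by rw [hb₁]; simp only [Category.assoc]
      _ = (b₁ ≫ g) ≫ quotSpπ s t := by rw [Category.assoc, Category.assoc, hψ]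
  obtain ⟨R2, hR2, hR2'⟩ := exists_rel_of_quotSpπ_eq hpre (a₁ ≫ g) (b₁ ≫ g) h1
  refine quotSpπ_eq_of_locally_rel s' t' a₁ b₁ R2 hR2 ?_
  intro T2 g2 hg2
  obtain ⟨ρ, h2, h3⟩ := hR2' g2 hg2
  exact hlift T2 _ _ ρ (by rw [h2, Category.assoc]) (by rw [h3, Category.assoc])

theorem isIso_quotSp_map_of_mono {R U R' U' : Sp S} {s t : R ⟶ U} (g : U' ⟶ U) {s' t' : R' ⟶ U'}
    (ψ : quotSp s' t' ⟶ quotSp s t) (hψ : quotSpπ s' t' ≫ ψ = g ≫ quotSpπ s t) (_ : Mono ψ)
    (_ : Epi (g ≫ quotSpπ s t)) : IsIso ψ := by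
  have : Epi ψ := epi_of_epi_fac hψ
  exact isIso_of_mono_of_epi ψ

/-- The source and target of a groupoid in sheaves form a pre-equivalence relation. -/
theorem GroupoidSp.isPreEqvRelSp {B : Sp S} (G : GroupoidSp B) : IsPreEqvRelSp G.s G.t := by
  intro T
  refine ⟨fun a => ⟨a ≫ G.e, ?_, ?_⟩, ?_, ?_⟩
  · rw [Category.assoc, G.e_t, Category.comp_id]
  · rw [Category.assoc, G.e_s, Category.comp_id]
  · rintro a b ⟨r, rfl, rfl⟩
    exact ⟨r ≫ G.i, by rw [Category.assoc, G.i_t], by rw [Category.assoc, G.i_s]⟩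
  · rintro a b c ⟨r₁, rfl, rfl⟩ ⟨r₂, h2, rfl⟩
    exact ⟨pullback.lift r₁ r₂ h2.symm ≫ G.c, G.comp_t r₁ r₂ h2.symm, G.comp_s r₁ r₂ h2.symm⟩

/-- Points of a restriction of a groupoid. -/
theorem GroupoidSp.Hom.IsRestriction.exists_lift {B : Sp S} {G' G : GroupoidSp B} {φ : GroupoidSp.Hom G' G}
    (hφ : φ.IsRestriction) {T : Sp S} (a b : T ⟶ G'.U) (ρ : T ⟶ G.R)
    (h1 : ρ ≫ G.t = a ≫ φ.fU) (h2 : ρ ≫ G.s = b ≫ φ.fU) :
    ∃ ρ' : T ⟶ G'.R, ρ' ≫ G'.t = a ∧ ρ' ≫ G'.s = b ∧ ρ' ≫ φ.fR = ρ := by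
  have hab : a ≫ G'.pU = b ≫ G'.pU := by
    rw [← φ.fU_over, ← Category.assoc, ← Category.assoc, ← h1, ← h2, Category.assoc, Category.assoc,
      G.t_over, G.s_over]
  have hw : ρ ≫ G.j = pullback.lift a b hab ≫ φ.prodMap := by
    apply pullback.hom_ext
    · rw [Category.assoc, G.j_fst, h1, GroupoidSp.Hom.prodMap, Category.assoc, pullback.lift_fst,
        pullback.lift_fst_assoc]
    · rw [Category.assoc, G.j_snd, h2, GroupoidSp.Hom.prodMap, Category.assoc, pullback.lift_snd,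
        pullback.lift_snd_assoc]
  have h3 := hφ.lift_snd ρ (pullback.lift a b hab) hw
  refine ⟨hφ.lift ρ (pullback.lift a b hab) hw, ?_, ?_, hφ.lift_fst _ _ _⟩
  · rw [← G'.j_fst, ← Category.assoc, h3, pullback.lift_fst]
  · rw [← G'.j_snd, ← Category.assoc, h3, pullback.lift_snd]

end Groth.Agent.Lib.Helper15
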