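import Groth.Agent.Lib.Helper15.ToposQuot
import Groth.Agent.Lib.Helper16.LocPFpqc
import Groth.Agent.Lib.Helper16.FpqcCover
import Groth.Agent.Lib.Helper16.FpqcMono

/-!
# Helper library (helper15): epimorphisms of fppf sheaves satisfy the refinement clause of fpqc coverings;
the quotient map of an equivalence relation
-/

set_option autoImplicit false
universe u
open CategoryTheory CategoryTheory.Limits AlgebraicGeometry Opposite

namespace Groth.Agent.Lib.Helper15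

open AlgSp Groth.Agent.Lib.Helper16

variable {S : Scheme.{u}}

/-- An epimorphism of fppf sheaves, as a one-member family, satisfies the refinement clause of fpqc coverings. -/
theorem fpqcRefines_of_epi {U F : Sp S} (π : U ⟶ F) [Epi π] :
    FpqcRefines (fun _ : PUnit.{u + 1} => U) (fun _ => π) := by
  intro Z hZ z
  obtain ⟨R', hR', hlift⟩ := (epi_iff_locally_lift π).1 inferInstance Z z
  rw [J_eq, GrothendieckTopology.mem_over_iff] at hR'
  obtain ⟨𝒰, hle⟩ := (Scheme.mem_grothendieckTopology_iff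
    (P := @Flat ⊓ @LocallyOfFinitePresentation)).1 hR'
  have hmem : ∀ i, R' (Over.homMk (𝒰.f i) : Over.mk (𝒰.f i ≫ Z.hom) ⟶ Z) := by
    intro i
    have := hle _ _ (Presieve.ofArrows.mk i)
    rwa [Sieve.overEquiv_iff] at this
  have H : ∀ z₀ : ↥Z.left, ∃ (i : 𝒰.I₀) (A : (𝒰.X i).Opens), IsAffineOpen A ∧
      z₀ ∈ (𝒰.f i) '' (A : Set ↥(𝒰.X i)) := by
    intro z₀
    obtain ⟨x, hx⟩ := 𝒰.covers z₀
    obtain ⟨_, ⟨(A : (𝒰.X (𝒰.idx z₀)).Opens), hA, rfl⟩, hxA, -⟩ :=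
      (𝒰.X (𝒰.idx z₀)).isBasis_affineOpens.exists_subset_of_mem_open (Set.mem_univ x) isOpen_univ
    exact ⟨𝒰.idx z₀, A, hA, x, hxA, hx⟩
  choose i A hA hz using H
  have hfl : ∀ j, Flat (𝒰.f j) := fun j => (𝒰.map_prop j).1
  have hfp : ∀ j, LocallyOfFinitePresentation (𝒰.f j) := fun j => (𝒰.map_prop j).2
  have hopen : ∀ z₀, IsOpen ((𝒰.f (i z₀)) '' (A z₀ : Set ↥(𝒰.X (i z₀)))) := fun z₀ => by
    have := hfl (i z₀)
    have := hfp (i z₀)
    exact (𝒰.f (i z₀)).isOpenMap _ (A z₀).2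
  have : CompactSpace ↥Z.left := inferInstance
  obtain ⟨F', hF'⟩ := isCompact_univ.elim_finite_subcover
    (fun z₀ => (𝒰.f (i z₀)) '' (A z₀ : Set ↥(𝒰.X (i z₀)))) hopen
    (fun z₀ _ => Set.mem_iUnion.2 ⟨z₀, hz z₀⟩)
  refine fpqcRefines_aux_reindex z _ _ (κ := ↥F')
    (fun z' => Over.mk ((A z'.1).ι ≫ 𝒰.f (i z'.1) ≫ Z.hom))
    (fun z' => (Over.homMk ((A z'.1).ι ≫ 𝒰.f (i z'.1)) (by simp) :
      Over.mk ((A z'.1).ι ≫ 𝒰.f (i z'.1) ≫ Z.hom) ⟶ Z))
    (fun z' => hA z'.1) (fun z' => ?_) (fun z₀ => ?_) (fun z' => ?_)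
  · have := hfl (i z'.1)
    show Flat ((A z'.1).ι ≫ 𝒰.f (i z'.1))
    infer_instance
  · obtain ⟨z', hz'F, u, huA, rfl⟩ := Set.mem_iUnion₂.1 (hF' (Set.mem_univ z₀))
    exact ⟨⟨z', hz'F⟩, ⟨u, huA⟩, rfl⟩
  · let e : Over.mk ((A z'.1).ι ≫ 𝒰.f (i z'.1) ≫ Z.hom) ⟶ Over.mk (𝒰.f (i z'.1) ≫ Z.hom) :=
      Over.homMk (A z'.1).ι (by simp)
    have he : (Over.homMk ((A z'.1).ι ≫ 𝒰.f (i z'.1)) (by simp) :
        Over.mk ((A z'.1).ι ≫ 𝒰.f (i z'.1) ≫ Z.hom) ⟶ Z) =
        e ≫ (Over.homMk (𝒰.f (i z'.1)) : Over.mk (𝒰.f (i z'.1) ≫ Z.hom) ⟶ Z) := by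
      ext; simp [e]
    obtain ⟨l, hl⟩ := hlift _ (he ▸ R'.downward_closed (hmem (i z'.1)) e)
    exact ⟨PUnit.unit, l, hl⟩

/-- An epimorphism of fppf sheaves is surjective on points. -/
theorem isSurjectiveMor_of_epi {U F : Sp S} (π : U ⟶ F) [Epi π] : IsSurjectiveMor π := by
  intro y
  obtain ⟨_, x, hx⟩ := fpqcRefines_surjective _ _ (fpqcRefines_of_epi π) y
  exact ⟨x, hx⟩

/-- For an equivalence relation `s, t : R ⟶ U` of fppf sheaves, `R` is the fibre product of `U` with itself over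
the quotient sheaf. -/
theorem isPullback_quotSpπ {R U : Sp S} {s t : R ⟶ U} (h : IsEqvRelSp s t) :
    IsPullback t s (quotSpπ s t) (quotSpπ s t) := by
  have w : t ≫ quotSpπ s t = s ≫ quotSpπ s t := (quotSp_condition s t).symm
  haveI : Epi (pullback.lift t s w) := epi_lift_of_isPreEqvRelSp h.equivalence
  haveI : Mono (pullback.lift t s w) := by
    constructor
    intro Z a b hab
    apply sp_hom_ext'
    intro T z
    apply h.injective T
    · have := congrArg (fun k => z ≫ k ≫ pullback.fst _ _) hab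
      simpa only [Category.assoc, pullback.lift_fst] using this
    · have := congrArg (fun k => z ≫ k ≫ pullback.snd _ _) hab
      simpa only [Category.assoc, pullback.lift_snd] using this
  haveI : IsIso (pullback.lift t s w) := isIso_of_mono_of_epi _
  exact IsPullback.of_iso_pullback ⟨w⟩ (asIso (pullback.lift t s w)) (pullback.lift_fst _ _ _)
    (pullback.lift_snd _ _ _)

/-- Descent of `LocP P` along an epimorphism: if the base change of `f` along an epimorphism `π` has `LocP P`, so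
does `f`. -/
theorem locP_of_epi_of_isPullback {P : MorphismProperty Scheme.{u}} (hP : EtLocalST P)
    [IsZariskiLocalAtTarget P]
    [P.DescendsAlong (@Surjective ⊓ @Flat ⊓ @QuasiCompact : MorphismProperty Scheme.{u})]
    {X Y Y' X' : Sp S} (f : X ⟶ Y) (π : Y' ⟶ Y) [Epi π] (hY' : IsAlgSpace Y') (hX' : IsAlgSpace X')
    {q : X' ⟶ X} {p : X' ⟶ Y'} (sq : IsPullback q p f π) (hp : LocP P p) : LocP P f :=
  locP_of_fpqcRefines hP (fun _ : PUnit.{u + 1} => Y') (fun _ => hY') (fun _ => π) (fpqcRefines_of_epi π) f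
    (fun _ => X') (fun _ => hX') (fun _ => p) (fun _ => q) (fun _ => sq) (fun _ => hp)

end Groth.Agent.Lib.Helper15
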