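import Groth.Agent.Lib.Helper15.OpenSub
import Groth.Agent.Lib.Helper16.FibreProduct
import Groth.Agent.Lib.Helper16.Rep

/-!
# Helper library (helper15): monomorphisms of sheaves, injectivity on points, squares over monos
-/

set_option autoImplicit false
universe u
open CategoryTheory CategoryTheory.Limits AlgebraicGeometry Opposite

namespace Groth.Agent.Lib.Helper15

open AlgSp Groth.Agent.Lib.Helper16

variable {S : Scheme.{u}}

/-- A monomorphism of sheaves is injective on sections. -/
theorem app_injective_of_mono {F G : Sp S} (f : F ⟶ G) [Mono f] (T : (Over S)ᵒᵖ) :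
    Function.Injective (f.hom.app T) := by
  have h1 : Mono ((sheafToPresheaf _ _).map f) := inferInstance
  have h2 : Mono (((sheafToPresheaf _ _).map f).app T) := inferInstance
  exact (mono_iff_injective _).1 h2

/-- A monomorphism of sheaves is injective on points. -/
theorem points_map_injective_of_mono {F G : Sp S} (f : F ⟶ G) [Mono f] :
    Function.Injective (Points.map f) := by
  intro x y
  induction x using Points.ind with | h p => ?_
  induction y using Points.ind with | h q => ?_
  intro h
  rw [Points.map_mk, Points.map_mk, Points.mk_eq_mk_iff] at h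
  obtain ⟨Ω, _, w, a, b, h⟩ := h
  apply Points.sound
  refine ⟨Ω, inferInstance, w, a, b, ?_⟩
  apply app_injective_of_mono f
  change G.obj.map a.op (f.hom.app _ p.val) = G.obj.map b.op (f.hom.app _ q.val) at h
  rw [← NatTrans.naturality_apply, ← NatTrans.naturality_apply] at h
  exact h

/-- Squares over a monomorphism. -/
theorem isPullback_of_comp_mono {C : Type*} [Category C] {P X Y Z Z' : C} {fst : P ⟶ X} {snd : P ⟶ Y}
    {a : X ⟶ Z} {b : Y ⟶ Z} (f : Z ⟶ Z') [Mono f] (sq : IsPullback fst snd (a ≫ f) (b ≫ f)) :
    IsPullback fst snd a b := by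
  refine isPullback_of_exists_lift ?_ ?_ ?_
  · rw [← cancel_mono f, Category.assoc, Category.assoc]
    exact sq.w
  · intro Q c d h
    have h' : c ≫ a ≫ f = d ≫ b ≫ f := by rw [← Category.assoc, h, Category.assoc]
    exact ⟨sq.lift c d h', sq.lift_fst _ _ _, sq.lift_snd _ _ _⟩
  · intro Q l l' h1 h2
    exact sq.hom_ext h1 h2

/-- Squares over a monomorphism, converse of `isPullback_of_comp_mono`. -/
theorem isPullback_comp_mono {C : Type*} [Category C] {P X Y Z Z' : C} {fst : P ⟶ X} {snd : P ⟶ Y}
    {a : X ⟶ Z} {b : Y ⟶ Z} (f : Z ⟶ Z') [Mono f] (sq : IsPullback fst snd a b) :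
    IsPullback fst snd (a ≫ f) (b ≫ f) := by
  refine isPullback_of_exists_lift ?_ ?_ ?_
  · rw [← Category.assoc, sq.w, Category.assoc]
  · intro Q c d h
    have h' : c ≫ a = d ≫ b := by
      rw [← cancel_mono f, Category.assoc, Category.assoc]
      exact h
    exact ⟨sq.lift c d h', sq.lift_fst _ _ _, sq.lift_snd _ _ _⟩
  · intro Q l l' h1 h2
    exact sq.hom_ext h1 h2

/-- A representable open immersion is a monomorphism. -/
theorem mono_of_repWith_isOpenImmersion {F G : Sp S} (f : F ⟶ G) (hf : RepWith @IsOpenImmersion f) :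
    Mono f :=
  mono_of_repWith (P := @IsOpenImmersion) (fun _ _ g hg => by
    have : IsOpenImmersion g := hg
    exact (inferInstance : Mono g)) f hf

/-- If `a = a' ≫ j` with `j` a monomorphism, then `a'` is representable with property `P` as soon as `a` is. -/
theorem repWith_of_comp_mono (P : MorphismProperty Scheme.{u}) {F G G' : Sp S} (a' : F ⟶ G) (j : G ⟶ G')
    [Mono j] (ha : RepWith P (a' ≫ j)) : RepWith P a' := by
  refine (repWith_iff _ _).2 ⟨?_, ?_⟩
  · intro T g
    obtain ⟨V, snd, fst, sq⟩ := ((repWith_iff _ _).1 ha).1 (g ≫ j)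
    exact ⟨V, snd, fst, isPullback_of_comp_mono j sq⟩
  · intro T V g fst snd sq
    exact ((repWith_iff _ _).1 ha).2 (g ≫ j) fst snd (isPullback_comp_mono j sq)

end Groth.Agent.Lib.Helper15
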