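import Groth.Agent.Lib.Helper15.OpenSubspace
import Groth.Agent.Lib.Helper16.FibreProduct
import Groth.Agent.Lib.Helper16.ChartDiagram
import Groth.Prelude.Def_AlgSpCov
import Mathlib.AlgebraicGeometry.Morphisms.UniversallyOpen

/-!
# Helper library (helper15): the largest open subspace of the target over which a morphism has a property
local on the base
-/

set_option autoImplicit false
universe u
open CategoryTheory CategoryTheory.Limits AlgebraicGeometry Opposite

namespace Groth.Agent.Lib.Helper15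

open AlgSp Groth.Agent.Lib.Helper16

variable {S : Scheme.{u}}

/-- A morphism whose image on points lies in an open subspace factors through it. -/
theorem exists_factor_of_range_subset {X X' Y : Sp S} (j : X' ⟶ X) (hj : RepWith @IsOpenImmersion j)
    (f : Y ⟶ X) (h : Set.range (Points.map f) ⊆ Set.range (Points.map j)) : ∃ g : Y ⟶ X', g ≫ j = f := by
  haveI : Mono j := mono_of_repWith_isOpenImmersion j hj
  have hepi : Epi (pullback.fst f j) := by
    rw [epi_iff_locally_lift]
    intro T y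
    refine ⟨⊤, (J S).top_mem T, ?_⟩
    intro T' g _
    have hfac : ∃ a : (yon S).obj T' ⟶ X', a ≫ j = ((yon S).map g ≫ y) ≫ f := by
      rw [exists_factor_iff_of_openImmersion j hj]
      intro p
      apply h
      exact ⟨Points.ofPt ((yon S).map g ≫ y) p, Points.map_ofPt _ _ p⟩
    obtain ⟨a, ha⟩ := hfac
    exact ⟨pullback.lift ((yon S).map g ≫ y) a ha.symm, pullback.lift_fst _ _ _⟩
  haveI : IsIso (pullback.fst f j) := isIso_of_mono_of_epi _
  refine ⟨inv (pullback.fst f j) ≫ pullback.snd f j, ?_⟩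
  rw [Category.assoc, ← pullback.condition, IsIso.inv_hom_id_assoc]

/-- The closure properties of a class `Q` of "covering morphisms" used below. -/
structure OpenLocusHyp (Q : MorphismProperty (Sp S)) : Prop where
  of_openImm : ∀ ⦃W Y : Sp S⦄ (j : W ⟶ Y), IsAlgSpace W → IsAlgSpace Y → RepWith @IsOpenImmersion j → Q j
  precomp : ∀ ⦃W Y' Y : Sp S⦄ (j : W ⟶ Y') (g : Y' ⟶ Y), IsAlgSpace W → IsAlgSpace Y' → IsAlgSpace Y →
    RepWith @IsOpenImmersion j → Q g → Q (j ≫ g)
  isOpenMap : ∀ ⦃Y' Y : Sp S⦄ (g : Y' ⟶ Y), IsAlgSpace Y' → IsAlgSpace Y → Q g → IsOpenMap (Points.map g)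
  cancel : ∀ ⦃Y' W Y : Sp S⦄ (g' : Y' ⟶ W) (j : W ⟶ Y), IsAlgSpace Y' → IsAlgSpace W → IsAlgSpace Y →
    RepWith @IsOpenImmersion j → Q (g' ≫ j) → Q g'

/-- `P` holds for the restriction of `f` over the open set `V` of points of the target. -/
def HasPOver (P : MorphismProperty (Sp S)) {X Y : Sp S} (f : X ⟶ Y) (V : Set (Points Y)) : Prop :=
  ∀ (W₁ X₁ : Sp S) (j₁ : W₁ ⟶ Y) (j₁' : X₁ ⟶ X) (f₁ : X₁ ⟶ W₁), IsAlgSpace W₁ → IsAlgSpace X₁ →
    RepWith @IsOpenImmersion j₁ → Set.range (Points.map j₁) = V → IsPullback j₁' f₁ f j₁ → P f₁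

section

variable {Q P : MorphismProperty (Sp S)}

/-- A property local on the base for `Q`-coverings is stable under base change along `Q`-morphisms. -/
theorem P_baseChange_of_Q (hQ : OpenLocusHyp Q) (hP : IsLocalOnBase (fun _ _ Y g => IsCover Q Y g) P)
    {X Y X' Y' : Sp S} (hX : IsAlgSpace X) (hY : IsAlgSpace Y)
    (hX' : IsAlgSpace X') (hY' : IsAlgSpace Y') {f : X ⟶ Y} {g : Y' ⟶ Y} {f' : X' ⟶ Y'} {g' : X' ⟶ X}
    (sq : IsPullback g' f' f g) (hg : Q g) (hf : P f) : P f' := by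
  let Yi : ULift.{u} Bool → Sp S := fun i => Bool.rec Y Y' i.down
  let gi : ∀ i, Yi i ⟶ Y := fun i => match i with
    | ⟨false⟩ => 𝟙 Y
    | ⟨true⟩ => g
  let Xi : ULift.{u} Bool → Sp S := fun i => Bool.rec X X' i.down
  let pi : ∀ i, Xi i ⟶ Yi i := fun i => match i with
    | ⟨false⟩ => f
    | ⟨true⟩ => f'
  let qi : ∀ i, Xi i ⟶ X := fun i => match i with
    | ⟨false⟩ => 𝟙 X
    | ⟨true⟩ => g'
  have hYi : ∀ i, IsAlgSpace (Yi i) := fun i => match i with
    | ⟨false⟩ => hY
    | ⟨true⟩ => hY'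
  have hXi : ∀ i, IsAlgSpace (Xi i) := fun i => match i with
    | ⟨false⟩ => hX
    | ⟨true⟩ => hX'
  have hid : Q (𝟙 Y) := hQ.of_openImm (𝟙 Y) hY hY ((RepWith @IsOpenImmersion).id_mem Y)
  have hcov : IsCover Q Yi gi := by
    refine ⟨fun i => match i with
      | ⟨false⟩ => hid
      | ⟨true⟩ => hg, fun x => ⟨⟨false⟩, x, ?_⟩⟩
    change Points.map (𝟙 Y) x = x
    exact Points.map_id x
  have hsq : ∀ i, IsPullback (qi i) (pi i) f (gi i) := fun i => match i with
    | ⟨false⟩ => IsPullback.of_horiz_isIso ⟨by rw [Category.id_comp, Category.comp_id]⟩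
    | ⟨true⟩ => sq
  exact ((hP Yi gi hY hYi hcov f hX Xi pi qi hXi hsq).1 hf) ⟨true⟩

/-- A property local on the base for `Q`-coverings descends along surjective `Q`-morphisms. -/
theorem P_descend_of_Q (hP : IsLocalOnBase (fun _ _ Y g => IsCover Q Y g) P)
    {X Y X' Y' : Sp S} (hX : IsAlgSpace X) (hY : IsAlgSpace Y)
    (hX' : IsAlgSpace X') (hY' : IsAlgSpace Y') {f : X ⟶ Y} {g : Y' ⟶ Y} {f' : X' ⟶ Y'} {g' : X' ⟶ X}
    (sq : IsPullback g' f' f g) (hg : Q g) (hs : Function.Surjective (Points.map g)) (hf' : P f') : P f := by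
  have hcov : IsCover Q (fun _ : PUnit.{u + 1} => Y') (fun _ => g) :=
    ⟨fun _ => hg, fun x => ⟨PUnit.unit, hs x⟩⟩
  exact (hP (fun _ : PUnit.{u + 1} => Y') (fun _ => g) hY (fun _ => hY') hcov f hX (fun _ => X')
    (fun _ => f') (fun _ => g') (fun _ => hX') (fun _ => sq)).2 (fun _ => hf')

end

section Main

variable {Q P : MorphismProperty (Sp S)}

/-- The union of all opens over which `f` has `P`. -/
noncomputable def largestOpen (P : MorphismProperty (Sp S)) {X Y : Sp S} (f : X ⟶ Y) : TopologicalSpace.Opens (Points Y) :=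
  sSup {V | HasPOver P f (V : Set (Points Y))}

theorem range_comp_openSubι {W₁ Y : Sp S} (j₁ : W₁ ⟶ Y) (T : Set (Points W₁)) :
    Set.range (Points.map (openSubι W₁ T ≫ j₁)) = Points.map j₁ '' T := by
  have h : Points.map (openSubι W₁ T ≫ j₁) = Points.map j₁ ∘ Points.map (openSubι W₁ T) :=
    funext fun x => Points.map_comp _ _ x
  rw [h, Set.range_comp, range_map_openSubι]

theorem hasPOver_largestOpen (hQ : OpenLocusHyp Q) (hP : IsLocalOnBase (fun _ _ Y g => IsCover Q Y g) P)
    {X Y : Sp S} (hX : IsAlgSpace X) (hY : IsAlgSpace Y) (f : X ⟶ Y) :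
    HasPOver P f (largestOpen P f : Set (Points Y)) := by
  intro W₁ X₁ j₁ j₁' f₁ hW₁ hX₁ hj₁ hr sq₁
  obtain ⟨U, a, hae, has⟩ := hW₁.atlas
  have hmem : ∀ u : ↥U.left, ∃ V : TopologicalSpace.Opens (Points Y),
      HasPOver P f (V : Set (Points Y)) ∧ Points.map j₁ (Points.ofPt a u) ∈ V := by
    intro u
    have h1 : Points.map j₁ (Points.ofPt a u) ∈ (largestOpen P f : Set (Points Y)) := by
      rw [← hr]; exact ⟨_, rfl⟩
    obtain ⟨V, hV, hxV⟩ := TopologicalSpace.Opens.mem_sSup.1 h1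
    exact ⟨V, hV, hxV⟩
  choose V hV hxV using hmem
  let T : ↥U.left → Set (Points W₁) := fun u => Points.map j₁ ⁻¹' (V u : Set (Points Y))
  have hT : ∀ u, IsOpen (T u) := fun u => (V u).isOpen.preimage (Points.continuous_map j₁)
  have hsub : ∀ u, (V u : Set (Points Y)) ⊆ Set.range (Points.map j₁) := by
    intro u
    rw [hr]
    intro y hy
    exact TopologicalSpace.Opens.mem_sSup.2 ⟨V u, hV u, hy⟩
  have hWi : ∀ u, IsAlgSpace (openSub W₁ (T u)) := fun u => isAlgSpace_openSub hW₁ _ (hT u)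
  have hXi : ∀ u, IsAlgSpace (pullback f₁ (openSubι W₁ (T u))) := fun u =>
    isAlgSpace_of_isPullback hX₁ hW₁.diag (hWi u) (IsPullback.of_hasPullback _ _)
  have hji : ∀ u, RepWith @IsOpenImmersion (openSubι W₁ (T u)) := fun u =>
    repWith_isOpenImmersion_openSubι _ (hT u)
  have hcov : IsCover Q (fun u => openSub W₁ (T u)) (fun u => openSubι W₁ (T u)) := by
    refine ⟨fun u => hQ.of_openImm _ (hWi u) hW₁ (hji u), ?_⟩
    intro x
    obtain ⟨u, rfl⟩ := ofPt_surjective_of_surjective a has x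
    refine ⟨u, ?_⟩
    rw [range_map_openSubι]
    exact hxV u
  refine (hP (fun u => openSub W₁ (T u)) (fun u => openSubι W₁ (T u)) hW₁ hWi hcov f₁ hX₁
    (fun u => pullback f₁ (openSubι W₁ (T u))) (fun u => pullback.snd _ _) (fun u => pullback.fst _ _)
    hXi (fun u => IsPullback.of_hasPullback _ _)).2 (fun u => ?_)
  refine hV u (openSub W₁ (T u)) (pullback f₁ (openSubι W₁ (T u))) (openSubι W₁ (T u) ≫ j₁)
    (pullback.fst _ _ ≫ j₁') (pullback.snd _ _) (hWi u) (hXi u)
    ((RepWith @IsOpenImmersion).comp_mem _ _ (hji u) hj₁) ?_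
    ((IsPullback.of_hasPullback f₁ (openSubι W₁ (T u))).paste_horiz sq₁)
  rw [range_comp_openSubι, Set.image_preimage_eq_inter_range, Set.inter_eq_left.2 (hsub u)]

theorem range_subset_largestOpen (hQ : OpenLocusHyp Q) (hP : IsLocalOnBase (fun _ _ Y g => IsCover Q Y g) P)
    {X Y : Sp S} (hX : IsAlgSpace X) (hY : IsAlgSpace Y) (f : X ⟶ Y) {Y' X' : Sp S} (hY' : IsAlgSpace Y')
    (hX' : IsAlgSpace X') (g : Y' ⟶ Y) (g' : X' ⟶ X) (f' : X' ⟶ Y') (hg : Q g) (sq : IsPullback g' f' f g)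
    (hf' : P f') : Set.range (Points.map g) ⊆ (largestOpen P f : Set (Points Y)) := by
  let V : TopologicalSpace.Opens (Points Y) :=
    ⟨Set.range (Points.map g), (hQ.isOpenMap g hY' hY hg).isOpen_range⟩
  have hV : HasPOver P f (V : Set (Points Y)) := by
    intro W₁ X₁ j₁ j₁' f₁ hW₁ hX₁ hj₁ hr sq₁
    have hr' : Set.range (Points.map j₁) = Set.range (Points.map g) := hr
    obtain ⟨g₁, hg₁⟩ := exists_factor_of_range_subset j₁ hj₁ g hr'.ge
    have hQg₁ : Q g₁ := hQ.cancel g₁ j₁ hY' hW₁ hY hj₁ (by rw [hg₁]; exact hg)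
    haveI : Mono j₁ := mono_of_repWith_isOpenImmersion j₁ hj₁
    have hs : Function.Surjective (Points.map g₁) := by
      intro x
      have : Points.map j₁ x ∈ Set.range (Points.map g) := by rw [← hr']; exact ⟨x, rfl⟩
      obtain ⟨y', hy'⟩ := this
      refine ⟨y', points_map_injective_of_mono j₁ ?_⟩
      rw [← Points.map_comp, hg₁, hy']
    have hsq : IsPullback g' f' f (g₁ ≫ j₁) := by rw [hg₁]; exact sq
    have sqL := IsPullback.of_right' hsq sq₁
    exact P_descend_of_Q hP hX₁ hW₁ hX' hY' sqL hQg₁ hs hf'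
  intro y hy
  exact TopologicalSpace.Opens.mem_sSup.2 ⟨V, hV, hy⟩

theorem eq_preimage_largestOpen (hQ : OpenLocusHyp Q) (hP : IsLocalOnBase (fun _ _ Y g => IsCover Q Y g) P)
    {X Y : Sp S} (hX : IsAlgSpace X) (hY : IsAlgSpace Y) (f : X ⟶ Y) {Y' X' : Sp S} (hY' : IsAlgSpace Y')
    (hX' : IsAlgSpace X') (g : Y' ⟶ Y) (g' : X' ⟶ X) (f' : X' ⟶ Y') (hg : Q g) (sq : IsPullback g' f' f g)
    (W' : TopologicalSpace.Opens (Points Y')) (hW' : HasPOver P f' (W' : Set (Points Y')))
    (hmax : ∀ V' : TopologicalSpace.Opens (Points Y'), HasPOver P f' (V' : Set (Points Y')) → V' ≤ W') :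
    (W' : Set (Points Y')) = Points.map g ⁻¹' (largestOpen P f : Set (Points Y)) := by
  apply Set.eq_of_subset_of_subset
  · have hj' : RepWith @IsOpenImmersion (openSubι Y' (W' : Set (Points Y'))) :=
      repWith_isOpenImmersion_openSubι _ W'.isOpen
    have hWsp : IsAlgSpace (openSub Y' (W' : Set (Points Y'))) := isAlgSpace_openSub hY' _ W'.isOpen
    have hX₂ : IsAlgSpace (pullback f' (openSubι Y' (W' : Set (Points Y')))) :=
      isAlgSpace_of_isPullback hX' hY'.diag hWsp (IsPullback.of_hasPullback _ _)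
    have hPf₂ : P (pullback.snd f' (openSubι Y' (W' : Set (Points Y')))) :=
      hW' _ _ (openSubι Y' (W' : Set (Points Y'))) (pullback.fst _ _) (pullback.snd _ _) hWsp hX₂ hj'
        (range_map_openSubι _) (IsPullback.of_hasPullback _ _)
    have hsub := range_subset_largestOpen hQ hP hX hY f hWsp hX₂
      (openSubι Y' (W' : Set (Points Y')) ≫ g) (pullback.fst f' (openSubι Y' (W' : Set (Points Y'))) ≫ g')
      (pullback.snd f' (openSubι Y' (W' : Set (Points Y'))))
      (hQ.precomp _ g hWsp hY' hY hj' hg) ((IsPullback.of_hasPullback f' _).paste_horiz sq) hPf₂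
    intro y' hy'
    apply hsub
    obtain ⟨z, hz⟩ : y' ∈ Set.range (Points.map (openSubι Y' (W' : Set (Points Y')))) := by
      rw [range_map_openSubι]; exact hy'
    exact ⟨z, by rw [Points.map_comp, hz]⟩
  · let V' : TopologicalSpace.Opens (Points Y') :=
      ⟨Points.map g ⁻¹' (largestOpen P f : Set (Points Y)),
        (largestOpen P f).isOpen.preimage (Points.continuous_map g)⟩
    have hV' : HasPOver P f' (V' : Set (Points Y')) := by
      intro W₂ X₂ j₂ j₂' f₂ hW₂ hX₂ hj₂ hr sq₂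
      have hjW : RepWith @IsOpenImmersion (openSubι Y (largestOpen P f : Set (Points Y))) :=
        repWith_isOpenImmersion_openSubι _ (largestOpen P f).isOpen
      have hWsp : IsAlgSpace (openSub Y (largestOpen P f : Set (Points Y))) :=
        isAlgSpace_openSub hY _ (largestOpen P f).isOpen
      have hXW : IsAlgSpace (pullback f (openSubι Y (largestOpen P f : Set (Points Y)))) :=
        isAlgSpace_of_isPullback hX hY.diag hWsp (IsPullback.of_hasPullback _ _)
      have hPfW : P (pullback.snd f (openSubι Y (largestOpen P f : Set (Points Y)))) :=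
        hasPOver_largestOpen hQ hP hX hY f _ _ (openSubι Y (largestOpen P f : Set (Points Y)))
          (pullback.fst _ _) (pullback.snd _ _) hWsp hXW hjW (range_map_openSubι _)
          (IsPullback.of_hasPullback _ _)
      obtain ⟨g₂, hg₂⟩ := exists_factor_of_range_subset
        (openSubι Y (largestOpen P f : Set (Points Y))) hjW (j₂ ≫ g) (by
          rw [range_map_openSubι]
          rintro _ ⟨z, rfl⟩
          rw [Points.map_comp]
          have : Points.map j₂ z ∈ (V' : Set (Points Y')) := by rw [← hr]; exact ⟨z, rfl⟩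
          exact this)
      have hQg₂ : Q g₂ := hQ.cancel g₂ _ hW₂ hWsp hY hjW (by
        rw [hg₂]; exact hQ.precomp j₂ g hW₂ hY' hY hj₂ hg)
      have hs : IsPullback (j₂' ≫ g') f₂ f (g₂ ≫ openSubι Y (largestOpen P f : Set (Points Y))) := by
        rw [hg₂]; exact sq₂.paste_horiz sq
      have sqL := IsPullback.of_right' hs (IsPullback.of_hasPullback f _)
      exact P_baseChange_of_Q hQ hP hXW hWsp hX₂ hW₂ sqL hQg₂ hPfW
    exact hmax V' hV'

end Main

end Groth.Agent.Lib.Helper15
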