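import Groth.Agent.Lib.Helper15.MonoInj
import Groth.Agent.Lib.Helper15.CoprodPts
import Groth.Agent.Lib.Helper16.RepSpace
import Groth.Agent.Lib.Helper16.QuasiCompact

/-!
# Helper library (helper15): the open subspace of a sheaf attached to an open set of points
-/

set_option autoImplicit false
universe u
open CategoryTheory CategoryTheory.Limits AlgebraicGeometry Opposite

namespace Groth.Agent.Lib.Helper15

open AlgSp Groth.Agent.Lib.Helper16

variable {S : Scheme.{u}}

theorem equiv_symm_map {F : Sp S} {T T' : Over S} (g : T' ⟶ T) (ξ : F.obj.obj (op T)) :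
    (J S).uliftYonedaEquiv.symm (F.obj.map g.op ξ) =
      (yon S).map g ≫ (J S).uliftYonedaEquiv.symm ξ := by
  apply (J S).uliftYonedaEquiv.injective
  rw [Equiv.apply_symm_apply, ← GrothendieckTopology.uliftYonedaEquiv_naturality,
    Equiv.apply_symm_apply]

/-- The sections of `F` all of whose points lie in `W`. -/
def openSubfunctor (F : Sp S) (W : Set (Points F)) : Subfunctor F.obj where
  obj T := {ξ | ∀ t : ↥T.unop.left, Points.ofPt ((J S).uliftYonedaEquiv.symm ξ) t ∈ W}
  map := by
    intro T T' g ξ hξ t'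
    have h1 := equiv_symm_map (F := F) g.unop ξ
    change Points.ofPt ((J S).uliftYonedaEquiv.symm (F.obj.map g.unop.op ξ)) t' ∈ W
    rw [h1, ofPt_yon_map_comp]
    exact hξ _

theorem openSubfunctor_isSheaf (F : Sp S) (W : Set (Points F)) :
    Presieve.IsSheaf (J S) (openSubfunctor F W).toFunctor := by
  rw [Subfunctor.isSheaf_iff _ ((isSheaf_iff_isSheaf_of_type _ _).1 F.property)]
  intro T ξ hξ t
  obtain ⟨T', g, t', hg, rfl⟩ := exists_arrow_of_mem_J _ hξ t
  have h2 : ∀ t' : ↥T'.left, Points.ofPt ((J S).uliftYonedaEquiv.symm (F.obj.map g.op ξ)) t' ∈ W := hg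
  have h3 := h2 t'
  rw [equiv_symm_map, ofPt_yon_map_comp] at h3
  exact h3

/-- The subsheaf of `F` of sections with all points in `W`. -/
def openSub (F : Sp S) (W : Set (Points F)) : Sp S :=
  ⟨(openSubfunctor F W).toFunctor, (isSheaf_iff_isSheaf_of_type _ _).2 (openSubfunctor_isSheaf F W)⟩

/-- The inclusion of the subsheaf. -/
def openSubι (F : Sp S) (W : Set (Points F)) : openSub F W ⟶ F :=
  ObjectProperty.homMk (openSubfunctor F W).ι

instance mono_openSubι (F : Sp S) (W : Set (Points F)) : Mono (openSubι F W) := by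
  have : Mono (openSubι F W).hom := by
    change Mono (openSubfunctor F W).ι
    infer_instance
  exact Sheaf.Hom.mono_of_presheaf_mono _ _ _

theorem exists_factor_openSub_iff {F : Sp S} (W : Set (Points F)) {T : Over S} (a : (yon S).obj T ⟶ F) :
    (∃ a' : (yon S).obj T ⟶ openSub F W, a' ≫ openSubι F W = a) ↔ ∀ t, Points.ofPt a t ∈ W := by
  constructor
  · rintro ⟨a', rfl⟩ t
    have h1 : (J S).uliftYonedaEquiv (a' ≫ openSubι F W) = ((J S).uliftYonedaEquiv a').1 :=
      GrothendieckTopology.uliftYonedaEquiv_comp (J S) a' (openSubι F W)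
    have h2 := ((J S).uliftYonedaEquiv a').2 t
    rw [← h1, Equiv.symm_apply_apply] at h2
    exact h2
  · intro h
    refine ⟨(J S).uliftYonedaEquiv.symm ⟨(J S).uliftYonedaEquiv a, ?_⟩, ?_⟩
    · intro t
      rw [Equiv.symm_apply_apply]
      exact h t
    · apply (J S).uliftYonedaEquiv.injective
      rw [GrothendieckTopology.uliftYonedaEquiv_comp, Equiv.apply_symm_apply]
      rfl

theorem range_map_openSubι {F : Sp S} (W : Set (Points F)) :
    Set.range (Points.map (openSubι F W)) = W := by
  apply Set.eq_of_subset_of_subset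
  · rintro _ ⟨x', rfl⟩
    induction x' using Points.ind with | h p => ?_
    have hne : Nonempty ↥(Spec (CommRingCat.of p.K)) := inferInstance
    obtain ⟨s⟩ := hne
    have h1 := p.val.2 s
    have h2 : Points.ofPt (p.map (openSubι F W)).toHom s = Points.mk (p.map (openSubι F W)) :=
      Points.ofPt_toHom (p.map (openSubι F W)) s
    rw [Points.map_mk, ← h2]
    exact h1
  · intro x hx
    induction x using Points.ind with | h p => ?_
    have hp : ∀ t : ↥(Spec (CommRingCat.of p.K)),
        Points.ofPt ((J S).uliftYonedaEquiv.symm p.val) t ∈ W := by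
      intro t
      have := Points.ofPt_toHom p t
      change Points.ofPt p.toHom t ∈ W
      rw [this]
      exact hx
    exact ⟨Points.mk ⟨p.K, p.str, ⟨p.val, hp⟩⟩, rfl⟩

/-- Lifting a morphism over `S` through an open subscheme. -/
theorem exists_lift_overOpen {T T' : Over S} (V : T.left.Opens) (β : T' ⟶ T) (h : ∀ t', β.left t' ∈ V) :
    ∃ β' : T' ⟶ overOpen T V, β' ≫ overOpenι T V = β := by
  have hr : Set.range β.left ⊆ Set.range V.ι := by
    rw [Scheme.Opens.range_ι]
    rintro _ ⟨t', rfl⟩
    exact h t'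
  refine ⟨Over.homMk (IsOpenImmersion.lift V.ι β.left hr) ?_, ?_⟩
  · change IsOpenImmersion.lift V.ι β.left hr ≫ V.ι ≫ T.hom = T'.hom
    rw [← Category.assoc, IsOpenImmersion.lift_fac]
    exact Over.w β
  · ext
    exact IsOpenImmersion.lift_fac _ _ _

theorem isPullback_openSub {F : Sp S} (W : Set (Points F)) {T : Over S} (a : (yon S).obj T ⟶ F)
    (V : T.left.Opens) (hV : ∀ t, t ∈ V ↔ Points.ofPt a t ∈ W)
    (fst : (yon S).obj (overOpen T V) ⟶ openSub F W)
    (hfst : fst ≫ openSubι F W = (yon S).map (overOpenι T V) ≫ a) :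
    IsPullback fst ((yon S).map (overOpenι T V)) (openSubι F W) a := by
  have hιo : RepWith @IsOpenImmersion ((yon S).map (overOpenι T V)) :=
    (repWith_yon_map_iff _ _).2 (by change IsOpenImmersion V.ι; infer_instance)
  have hmι : Mono ((yon S).map (overOpenι T V)) := mono_of_repWith_isOpenImmersion _ hιo
  let c : (yon S).obj (overOpen T V) ⟶ pullback (openSubι F W) a := pullback.lift fst _ hfst
  have hc1 : c ≫ pullback.fst _ _ = fst := pullback.lift_fst _ _ _
  have hc2 : c ≫ pullback.snd _ _ = (yon S).map (overOpenι T V) := pullback.lift_snd _ _ _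
  have hmono : Mono c := mono_of_mono_fac hc2
  have hlift : ∀ (T' : Over S) (y : (yon S).obj T' ⟶ pullback (openSubι F W) a),
      ∃ x : (yon S).obj T' ⟶ (yon S).obj (overOpen T V), x ≫ c = y := by
    intro T' y
    obtain ⟨β, hβ⟩ := (yon S).map_surjective (y ≫ pullback.snd _ _)
    have hw : (y ≫ pullback.fst _ _) ≫ openSubι F W = (yon S).map β ≫ a := by
      rw [Category.assoc, pullback.condition, ← Category.assoc, hβ]
    have hmem : ∀ t', β.left t' ∈ V := by
      intro t'
      rw [hV, ← ofPt_yon_map_comp, ← hw]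
      exact (exists_factor_openSub_iff W _).1 ⟨_, rfl⟩ t'
    obtain ⟨β', hβ'⟩ := exists_lift_overOpen V β hmem
    refine ⟨(yon S).map β', ?_⟩
    apply pullback.hom_ext
    · rw [Category.assoc, hc1, ← cancel_mono (openSubι F W), Category.assoc, hfst, ← Category.assoc,
        ← Functor.map_comp, hβ', hw]
    · rw [Category.assoc, hc2, ← Functor.map_comp, hβ', hβ]
  have hepi : Epi c := by
    rw [epi_iff_locally_lift]
    intro T' y
    refine ⟨⊤, (J S).top_mem T', ?_⟩
    intro T'' g _
    exact hlift T'' _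
  have hiso : IsIso c := isIso_of_mono_of_epi c
  exact IsPullback.of_iso_pullback ⟨hfst⟩ (asIso c) hc1 hc2

theorem repWith_isOpenImmersion_openSubι {F : Sp S} (W : Set (Points F)) (hW : IsOpen W) :
    RepWith @IsOpenImmersion (openSubι F W) := by
  apply MorphismProperty.relative.of_exists
  intro T a
  let V : T.left.Opens := ⟨Points.ofPt a ⁻¹' W, hW.preimage (Points.continuous_ofPt a)⟩
  have hV : ∀ t, t ∈ V ↔ Points.ofPt a t ∈ W := fun t => Iff.rfl
  obtain ⟨fst, hfst⟩ := (exists_factor_openSub_iff W ((yon S).map (overOpenι T V) ≫ a)).2 (by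
    intro v
    rw [ofPt_yon_map_comp]
    exact v.2)
  refine ⟨overOpen T V, fst, overOpenι T V, isPullback_openSub W a V hV fst hfst, ?_⟩
  change IsOpenImmersion V.ι
  infer_instance

/-- The open subspace of an algebraic space attached to an open set of points is an algebraic space. -/
theorem isAlgSpace_openSub {F : Sp S} (hF : IsAlgSpace F) (W : Set (Points F)) (hW : IsOpen W) :
    IsAlgSpace (openSub F W) :=
  isAlgSpace_of_representable hF (openSubι F W)
    ((repWith_iff _ _).1 (repWith_isOpenImmersion_openSubι W hW)).1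

end Groth.Agent.Lib.Helper15
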