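import Groth.Agent.Lib.Helper15.ToposQuot
import Groth.Agent.Lib.Helper16.LocSurj
import Groth.Prelude.Def_AlgSp4
import Groth.Prelude.Def_AlgSpRep

/-!
# Helper library (helper15): fppf covers from morphisms of algebraic spaces to schemes
-/

set_option autoImplicit false
universe u
open CategoryTheory CategoryTheory.Limits AlgebraicGeometry Opposite

namespace Groth.Agent.Lib.Helper15

open AlgSp Groth.Agent.Lib.Helper16

variable {S : Scheme.{u}}

/-- A morphism of schemes over `S` inducing a surjection on points of the associated sheaves is surjective. -/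
theorem surjective_left_of_surjective_points {W T : Over S} (h : W ⟶ T)
    (hs : Function.Surjective (Points.map ((yon S).map h))) : Surjective h.left := by
  constructor
  intro t
  obtain ⟨x, hx⟩ := hs (Points.schemeHomeo T t)
  obtain ⟨w, rfl⟩ := (Points.schemeHomeo W).surjective x
  rw [Points.map_yon_map_apply] at hx
  exact ⟨w, (Points.schemeHomeo T).injective hx⟩

/-- An algebraic space `F'` with a surjective flat locally finitely presented morphism to a scheme `T` admits a
scheme chart `W ⟶ F'` such that `W ⟶ T` is an fppf covering. -/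
theorem exists_fppf_chart {F' : Sp S} (hF' : IsAlgSpace F') {T : Over S} (snd : F' ⟶ (yon S).obj T)
    (hs : IsSurjectiveMor snd) (hfl : LocP @Flat snd) (hfp : LocP @LocallyOfFinitePresentation snd) :
    ∃ (W : Over S) (w : (yon S).obj W ⟶ F') (h : W ⟶ T), w ≫ snd = (yon S).map h ∧
      Flat h.left ∧ LocallyOfFinitePresentation h.left ∧ Surjective h.left := by
  obtain ⟨W, w, hwe, hws⟩ := hF'.atlas
  obtain ⟨h, hh⟩ := (yon S).map_surjective (w ≫ snd)
  have hcomm : w ≫ snd = (yon S).map h ≫ 𝟙 _ := by rw [Category.comp_id, hh]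
  refine ⟨W, w, h, hh.symm, hfl w (𝟙 _) h hwe (repWith_id _ T) hcomm,
    hfp w (𝟙 _) h hwe (repWith_id _ T) hcomm, ?_⟩
  apply surjective_left_of_surjective_points
  rw [hh]
  intro y
  obtain ⟨x, hx⟩ := hs y
  obtain ⟨z, hz⟩ := (repWith_surjective_iff w hws.rep).1 hws x
  exact ⟨z, by rw [Points.map_comp, hz, hx]⟩

/-- A morphism of sheaves which is representable by algebraic spaces, surjective, flat and locally of finite
presentation is an epimorphism. -/
theorem epi_of_repBySpWith_fppf {F G : Sp S} (a : F ⟶ G)
    (ha : RepBySpWith (IsSurjectiveMor ⊓ LocP @Flat ⊓ LocP @LocallyOfFinitePresentation) a.hom) : Epi a := by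
  rw [repBySpWith_hom_iff] at ha
  rw [epi_iff_locally_lift]
  intro T y
  obtain ⟨hF', ⟨hs, hfl⟩, hfp⟩ := ha y (pullback.fst a y) (pullback.snd a y) (IsPullback.of_hasPullback a y)
  obtain ⟨W, w, h, hw, i1, i2, i3⟩ := exists_fppf_chart hF' (pullback.snd a y) hs hfl hfp
  refine ⟨Sieve.generate (Presieve.singleton h), sieve_mem_J_of_fppf h _ ?_, ?_⟩
  · exact Sieve.le_generate _ _ _ (Presieve.singleton_self h)
  · rintro T' g ⟨Z, k, _, ⟨⟩, rfl⟩
    refine ⟨(yon S).map k ≫ w ≫ pullback.fst a y, ?_⟩
    rw [Category.assoc, Category.assoc, pullback.condition, ← Category.assoc w, hw, Functor.map_comp,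
      Category.assoc]

end Groth.Agent.Lib.Helper15
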