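import Mathlib.AlgebraicGeometry.Morphisms.FlatDescent
import Mathlib.AlgebraicGeometry.Morphisms.QuasiSeparated
import Mathlib.AlgebraicGeometry.PullbackCarrier

/-!
# Helper library (helper15): quasi-compactness descends along fppf covers
-/

set_option autoImplicit false
universe u
open CategoryTheory CategoryTheory.Limits AlgebraicGeometry Opposite Topology

namespace Groth.Agent.Lib.Helper15

/-- Points of a cartesian square of schemes surject onto the fibre product of points. -/
theorem exists_preimage_of_isPullback {A X Y Z : Scheme.{u}} {fst : A ⟶ X} {snd : A ⟶ Y} {f : X ⟶ Z}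
    {g : Y ⟶ Z} (h : IsPullback fst snd f g) (x : ↥X) (y : ↥Y) (e : f x = g y) :
    ∃ a : ↥A, fst a = x ∧ snd a = y := by
  obtain ⟨z, hz1, hz2⟩ := Scheme.Pullback.exists_preimage_pullback x y e
  refine ⟨h.isoPullback.inv z, ?_, ?_⟩
  · rw [← Scheme.Hom.comp_apply, h.isoPullback_inv_fst, hz1]
  · rw [← Scheme.Hom.comp_apply, h.isoPullback_inv_snd, hz2]

/-- Quasi-compactness descends along surjective open morphisms. -/
theorem quasiCompact_of_isPullback_of_isOpenMap {A X Y Z : Scheme.{u}} {fst : A ⟶ X} {snd : A ⟶ Y}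
    {f : X ⟶ Z} {g : Y ⟶ Z} (h : IsPullback fst snd f g) (hf : Function.Surjective f)
    (hfo : IsOpenMap f) (hfst : QuasiCompact fst) : QuasiCompact g := by
  constructor
  intro V hVo hVc
  obtain ⟨W, hWc, hWV⟩ := hfo.exists_opens_image_eq_of_prespectralSpace f.continuous
    (fun z _ => hf z) hVo hVc
  have h1 : IsCompact (fst ⁻¹' (W : Set ↥X)) := hfst.isCompact_preimage _ W.isOpen hWc
  have h2 : g ⁻¹' V = snd '' (fst ⁻¹' (W : Set ↥X)) := by
    ext y
    constructor
    · intro hy
      have hy' : g y ∈ f '' (W : Set ↥X) := by rw [hWV]; exact hy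
      obtain ⟨w, hw, hwy⟩ := hy'
      obtain ⟨a, ha1, ha2⟩ := exists_preimage_of_isPullback h w y hwy
      exact ⟨a, by simpa [ha1] using hw, ha2⟩
    · rintro ⟨a, ha, rfl⟩
      have : g (snd a) = f (fst a) := by
        rw [← Scheme.Hom.comp_apply, ← Scheme.Hom.comp_apply, h.w]
      show g (snd a) ∈ V
      rw [this, ← hWV]
      exact ⟨fst a, ha, rfl⟩
  rw [h2]
  exact h1.image snd.continuous

instance quasiCompact_descendsAlong_fppf :
    MorphismProperty.DescendsAlong @QuasiCompact
      (@Surjective ⊓ @Flat ⊓ @LocallyOfFinitePresentation : MorphismProperty Scheme.{u}) where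
  of_isPullback {A X Y Z fst snd f g} h hf hfst := by
    obtain ⟨⟨h1, h2⟩, h3⟩ := hf
    have h1' : Surjective f := h1
    have h2' : Flat f := h2
    have h3' : LocallyOfFinitePresentation f := h3
    exact quasiCompact_of_isPullback_of_isOpenMap h f.surjective f.isOpenMap hfst

end Groth.Agent.Lib.Helper15
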