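import Mathlib.AlgebraicGeometry.Geometrically.Reduced
import Mathlib.AlgebraicGeometry.Geometrically.Irreducible
import Mathlib.AlgebraicGeometry.Geometrically.Connected
import Mathlib.AlgebraicGeometry.Morphisms.Flat
import Mathlib.RingTheory.Flat.FaithfullyFlat.Basic

/-!
# Geometric properties of fibres and extension of the base field (helper15)

* `exists_common_field_ext`: two field extensions of `k` embed in a common field.
* `geometrically_iff_of_isPullback_field`: for a property `P` of schemes which descends along flat
  surjective morphisms, `X → Spec k` is geometrically `P` iff its base change to an extension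
  field `k'` is.
* the three instances: reduced, irreducible, connected; and the fibre-locus versions.
-/

set_option autoImplicit false
universe u

open AlgebraicGeometry CategoryTheory Limits

namespace Groth.Agent.Lib.Helper15

theorem exists_common_field_ext (k K k' : Type u) [Field k] [Field K] [Field k']
    (ψ : k →+* K) (φ : k →+* k') :
    ∃ (Ω : Type u) (_ : Field Ω) (α : K →+* Ω) (β : k' →+* Ω), α.comp ψ = β.comp φ := by
  algebraize [ψ, φ]
  have : Nontrivial (TensorProduct k K k') := inferInstance
  obtain ⟨m, hm⟩ := Ideal.exists_maximal (TensorProduct k K k')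
  letI := Ideal.Quotient.field m
  refine ⟨_ ⧸ m, inferInstance,
    (Ideal.Quotient.mk m).comp Algebra.TensorProduct.includeLeftRingHom,
    (Ideal.Quotient.mk m).comp (Algebra.TensorProduct.includeRight (R := k) (A := K) (B := k')).toRingHom, ?_⟩
  ext x
  simp only [RingHom.comp_apply]
  congr 1
  change (algebraMap k K x) ⊗ₜ[k] (1 : k') = (1 : K) ⊗ₜ[k] (algebraMap k k' x)
  rw [Algebra.algebraMap_eq_smul_one, Algebra.algebraMap_eq_smul_one, TensorProduct.smul_tmul]

theorem isReduced_of_flat_of_surjective {W X : Scheme.{u}} (f : W ⟶ X) [Flat f] [Surjective f]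
    [IsReduced W] : IsReduced X := by
  have (x : X) : _root_.IsReduced (X.presheaf.stalk x) := by
    obtain ⟨w, rfl⟩ := f.surjective x
    have hflat := Flat.stalkMap f w
    have hinj : Function.Injective (f.stalkMap w).hom := by
      algebraize [(f.stalkMap w).hom]
      have : IsLocalHom (algebraMap (X.presheaf.stalk (f w)) (W.presheaf.stalk w)) := by
        simpa [RingHom.algebraMap_toAlgebra] using (inferInstance : IsLocalHom (f.stalkMap w).hom)
      have : Module.FaithfullyFlat (X.presheaf.stalk (f w)) (W.presheaf.stalk w) :=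
        Module.FaithfullyFlat.of_flat_of_isLocalHom
      exact FaithfulSMul.algebraMap_injective _ _
    exact isReduced_of_injective (f.stalkMap w).hom hinj
  exact isReduced_of_isReduced_stalk _

theorem geometrically_of_isPullback_field (P : ObjectProperty Scheme.{u})
    (hP : ∀ {W X : Scheme.{u}} (f : W ⟶ X) [Flat f] [Surjective f], P W → P X)
    {k k' : Type u} [Field k] [Field k'] (φ : CommRingCat.of k ⟶ CommRingCat.of k')
    {X X' : Scheme.{u}} (p : X ⟶ Spec (.of k)) (p' : X' ⟶ Spec (.of k')) (a : X' ⟶ X)
    (H : IsPullback a p' p (Spec.map φ)) (hp' : geometrically P p') : geometrically P p := by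
  intro K _ y Z fst snd h
  obtain ⟨ψ, rfl⟩ := Spec.map_surjective y
  obtain ⟨Ω, _, α, β, hαβ⟩ := exists_common_field_ext k K k' ψ.hom φ.hom
  let sβ : Spec (.of Ω) ⟶ Spec (.of k') := Spec.map (CommRingCat.ofHom β)
  let sα : Spec (.of Ω) ⟶ Spec (.of K) := Spec.map (CommRingCat.ofHom α)
  have hcomm : sα ≫ Spec.map ψ = sβ ≫ Spec.map φ := by
    simp only [sα, sβ, ← Spec.map_comp]
    congr 1
    ext x
    exact congrArg (fun g => g x) hαβ
  have hW : P (pullback p' sβ) := pullback_of_geometrically hp' Ω sβ
  have big : IsPullback (pullback.fst p' sβ ≫ a) (pullback.snd p' sβ) p (sβ ≫ Spec.map φ) :=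
    (IsPullback.of_hasPullback p' sβ).paste_horiz H
  let t : pullback p' sβ ⟶ Z := h.lift (pullback.fst p' sβ ≫ a) (pullback.snd p' sβ ≫ sα)
    (by rw [big.w, Category.assoc, hcomm])
  have s : IsPullback (t ≫ fst) (pullback.snd p' sβ) p (sα ≫ Spec.map ψ) := by
    rw [hcomm, h.lift_fst]
    exact big
  have sq : IsPullback t (pullback.snd p' sβ) snd sα := IsPullback.of_right s (h.lift_snd _ _ _) h
  have hflat : Flat sα := inferInstance
  have hsurj : Surjective sα := ⟨fun x => ⟨Classical.arbitrary _, Subsingleton.elim _ _⟩⟩
  have : Flat t := MorphismProperty.of_isPullback (P := @Flat) sq.flip hflat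
  have : Surjective t := MorphismProperty.of_isPullback (P := @Surjective) sq.flip hsurj
  exact hP t hW

theorem geometrically_iff_of_isPullback_field (P : ObjectProperty Scheme.{u})
    (hP : ∀ {W X : Scheme.{u}} (f : W ⟶ X) [Flat f] [Surjective f], P W → P X)
    {k k' : Type u} [Field k] [Field k'] (φ : CommRingCat.of k ⟶ CommRingCat.of k')
    {X X' : Scheme.{u}} (p : X ⟶ Spec (.of k)) (p' : X' ⟶ Spec (.of k')) (a : X' ⟶ X)
    (H : IsPullback a p' p (Spec.map φ)) : geometrically P p' ↔ geometrically P p :=
  ⟨geometrically_of_isPullback_field P hP φ p p' a H,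
    fun hp => MorphismProperty.of_isPullback (P := geometrically P) H hp⟩

/-- Fibre version. -/
theorem geometrically_fiber_iff_of_isPullback (P : ObjectProperty Scheme.{u})
    (hP : ∀ {W X : Scheme.{u}} (f : W ⟶ X) [Flat f] [Surjective f], P W → P X)
    {X Y X' Y' : Scheme.{u}} (f : X ⟶ Y) (g : Y' ⟶ Y) (f' : X' ⟶ Y') (g' : X' ⟶ X)
    (hc : IsPullback g' f' f g) (y' : Y') :
    geometrically P (f'.fiberToSpecResidueField y') ↔
      geometrically P (f.fiberToSpecResidueField (g y')) :=
  geometrically_iff_of_isPullback_field P hP (g.residueFieldMap y') _ _ _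
    (isPullback_fiberToSpecResidueField_of_isPullback hc y')

theorem isReduced_descends : ∀ {W X : Scheme.{u}} (f : W ⟶ X) [Flat f] [Surjective f],
    IsReduced W → IsReduced X :=
  fun f _ _ _ => isReduced_of_flat_of_surjective f

theorem irreducibleSpace_descends : ∀ {W X : Scheme.{u}} (f : W ⟶ X) [Flat f] [Surjective f],
    IrreducibleSpace W → IrreducibleSpace X := by
  intro W X f _ _ hW
  have h1 := (IrreducibleSpace.isIrreducible_univ W).image f f.continuous.continuousOn
  rw [Set.image_univ, f.surjective.range_eq] at h1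
  exact (irreducibleSpace_def X).mpr h1

theorem connectedSpace_descends : ∀ {W X : Scheme.{u}} (f : W ⟶ X) [Flat f] [Surjective f],
    ConnectedSpace W → ConnectedSpace X := by
  intro W X f _ _ hW
  exact f.surjective.connectedSpace f.continuous

end Groth.Agent.Lib.Helper15
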