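import Mathlib

/-!
# Lifting morphisms between base changes along a closed immersion

For a closed immersion `i : Z ⟶ X`, étale `p : U ⟶ X`, `p' : U' ⟶ X` and a `Z`-morphism
`h : U ×_X Z ⟶ U' ×_X Z`, there are an étale `W ⟶ X` with `X`-morphisms `a : W ⟶ U`, `b : W ⟶ U'`
such that the base change of `a` is an isomorphism and `h` corresponds to the base change of `b`.
-/

set_option autoImplicit false
universe u

namespace Groth.Agent.Lib.Helper15.ClosedLift

open CategoryTheory Limits AlgebraicGeometry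

instance : MorphismProperty.HasOfPostcompProperty @IsOpenImmersion
    (@LocallyOfFiniteType ⊓ @FormallyUnramified) := by
  rw [MorphismProperty.hasOfPostcompProperty_iff_le_diagonal]
  intro X Y f ⟨hft, hfu⟩
  exact inferInstanceAs <| IsOpenImmersion (pullback.diagonal f)

/-- If `f ≫ g` is an open immersion and `g` is unramified, then `f` is an open immersion. -/
lemma isOpenImmersion_of_comp {X Y Z : Scheme.{u}} (f : X ⟶ Y) (g : Y ⟶ Z)
    [IsOpenImmersion (f ≫ g)] [LocallyOfFiniteType g] [FormallyUnramified g] :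
    IsOpenImmersion f :=
  MorphismProperty.of_postcomp @IsOpenImmersion
    (W' := @LocallyOfFiniteType ⊓ @FormallyUnramified) f g ⟨‹_›, ‹_›⟩ ‹_›

lemma ι_mem {X : Scheme.{u}} (W : X.Opens) (y : (W : Scheme.{u})) : W.ι.base y ∈ W := by
  have h : W.ι.base y ∈ Set.range W.ι.base := ⟨y, rfl⟩
  rw [Scheme.Opens.range_ι] at h
  exact h

variable {Z X U U' : Scheme.{u}} (i : Z ⟶ X) [IsClosedImmersion i] (p : U ⟶ X) (p' : U' ⟶ X)
  [Etale p] [Etale p'] (h : pullback p i ⟶ pullback p' i)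
  (hh : h ≫ pullback.snd p' i = pullback.snd p i)

include hh in
theorem exists_lift : ∃ (W : Scheme.{u}) (w : W ⟶ X) (_ : Etale w) (a : W ⟶ U) (b : W ⟶ U'),
    a ≫ p = w ∧ b ≫ p' = w ∧
    ∀ (ma : pullback w i ⟶ pullback p i) (mb : pullback w i ⟶ pullback p' i),
      ma ≫ pullback.snd p i = pullback.snd w i →
      ma ≫ pullback.fst p i = pullback.fst w i ≫ a →
      mb ≫ pullback.snd p' i = pullback.snd w i →
      mb ≫ pullback.fst p' i = pullback.fst w i ≫ b →
      IsIso ma ∧ ma ≫ h = mb := by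
  obtain ⟨π, hπ⟩ : ∃ π : pullback p p' ⟶ X, π = pullback.fst p p' ≫ p := ⟨_, rfl⟩
  haveI : Etale π := by rw [hπ]; infer_instance
  obtain ⟨q, hq1, hq2⟩ : ∃ q : pullback π i ⟶ pullback p i,
      q ≫ pullback.fst p i = pullback.fst π i ≫ pullback.fst p p' ∧
      q ≫ pullback.snd p i = pullback.snd π i :=
    ⟨pullback.lift (pullback.fst π i ≫ pullback.fst p p') (pullback.snd π i)
      (by rw [Category.assoc, ← hπ, pullback.condition]), pullback.lift_fst _ _ _,
      pullback.lift_snd _ _ _⟩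
  haveI : Etale q := by
    haveI : Etale (q ≫ pullback.snd p i) := by rw [hq2]; infer_instance
    exact Etale.of_comp (f := q) (pullback.snd p i)
  have hc1 : pullback.fst p i ≫ p = (h ≫ pullback.fst p' i) ≫ p' := by
    rw [Category.assoc, pullback.condition (f := p') (g := i), ← Category.assoc, hh,
      pullback.condition]
  obtain ⟨g₀, hg₀1, hg₀2⟩ : ∃ g₀ : pullback p i ⟶ pullback p p',
      g₀ ≫ pullback.fst p p' = pullback.fst p i ∧
      g₀ ≫ pullback.snd p p' = h ≫ pullback.fst p' i :=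
    ⟨pullback.lift _ _ hc1, pullback.lift_fst _ _ _, pullback.lift_snd _ _ _⟩
  obtain ⟨γ, hγ1, hγ2⟩ : ∃ γ : pullback p i ⟶ pullback π i,
      γ ≫ pullback.fst π i = g₀ ∧ γ ≫ pullback.snd π i = pullback.snd p i :=
    ⟨pullback.lift g₀ (pullback.snd p i)
      (by rw [hπ, ← Category.assoc, hg₀1, pullback.condition]), pullback.lift_fst _ _ _,
      pullback.lift_snd _ _ _⟩
  have hγq : γ ≫ q = 𝟙 _ := by
    apply pullback.hom_ext
    · rw [Category.assoc, hq1, ← Category.assoc, hγ1, hg₀1, Category.id_comp]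
    · rw [Category.assoc, hq2, hγ2, Category.id_comp]
  haveI : IsOpenImmersion γ := by
    haveI : IsOpenImmersion (γ ≫ q) := by rw [hγq]; infer_instance
    exact isOpenImmersion_of_comp γ q
  have hcinj : Function.Injective (pullback.fst π i).base :=
    (pullback.fst π i).isClosedEmbedding.injective
  have hCclosed : IsClosed ((pullback.fst π i).base '' (Set.range γ.base)ᶜ) :=
    (pullback.fst π i).isClosedEmbedding.isClosedMap _
      (γ.isOpenEmbedding.isOpen_range.isClosed_compl)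
  obtain ⟨W, hW⟩ : ∃ W : (pullback p p').Opens,
      (↑W : Set ↥(pullback p p')) = ((pullback.fst π i).base '' (Set.range γ.base)ᶜ)ᶜ :=
    ⟨⟨_, hCclosed.isOpen_compl⟩, rfl⟩
  refine ⟨W.toScheme, W.ι ≫ π, inferInstance, W.ι ≫ pullback.fst p p', W.ι ≫ pullback.snd p p',
    ?_, ?_, ?_⟩
  · rw [Category.assoc, hπ]
  · rw [Category.assoc, hπ, ← pullback.condition]
  intro ma mb hma2 hma1 hmb2 hmb1
  obtain ⟨m, hm1, hm2⟩ : ∃ m : pullback (W.ι ≫ π) i ⟶ pullback π i,
      m ≫ pullback.fst π i = pullback.fst (W.ι ≫ π) i ≫ W.ι ∧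
      m ≫ pullback.snd π i = pullback.snd (W.ι ≫ π) i :=
    ⟨pullback.lift (pullback.fst (W.ι ≫ π) i ≫ W.ι) (pullback.snd (W.ι ≫ π) i)
      (by rw [Category.assoc, pullback.condition]), pullback.lift_fst _ _ _,
      pullback.lift_snd _ _ _⟩
  have hmrange : Set.range m.base ⊆ Set.range γ.base := by
    rintro _ ⟨y, rfl⟩
    by_contra hy
    have h1 : (pullback.fst π i).base (m.base y) ∈ (↑W : Set ↥(pullback p p')) := by
      have h2 : (m ≫ pullback.fst π i).base y =
          (pullback.fst (W.ι ≫ π) i ≫ W.ι).base y := by rw [hm1]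
      have h3 : (pullback.fst π i).base (m.base y) =
          W.ι.base ((pullback.fst (W.ι ≫ π) i).base y) := h2
      rw [h3]
      exact ι_mem W _
    rw [hW] at h1
    exact h1 ⟨m.base y, hy, rfl⟩
  obtain ⟨ℓ, hℓ⟩ : ∃ ℓ : pullback (W.ι ≫ π) i ⟶ pullback p i, ℓ ≫ γ = m :=
    ⟨IsOpenImmersion.lift γ m hmrange, IsOpenImmersion.lift_fac _ _ _⟩
  have hγfst : γ ≫ pullback.fst π i ≫ pullback.fst p p' = pullback.fst p i := by
    rw [← Category.assoc, hγ1, hg₀1]
  have hγsnd : γ ≫ pullback.fst π i ≫ pullback.snd p p' = h ≫ pullback.fst p' i := by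
    rw [← Category.assoc, hγ1, hg₀2]
  have hℓfst : ℓ ≫ pullback.fst p i =
      pullback.fst (W.ι ≫ π) i ≫ W.ι ≫ pullback.fst p p' := by
    rw [← hγfst, ← Category.assoc, hℓ, ← Category.assoc, hm1, Category.assoc]
  have hℓsnd : ℓ ≫ pullback.snd p i = pullback.snd (W.ι ≫ π) i := by
    rw [← hγ2, ← Category.assoc, hℓ, hm2]
  have hmaℓ : ma = ℓ := by
    apply pullback.hom_ext
    · rw [hma1, hℓfst]
    · rw [hma2, hℓsnd]
  have hrrange : Set.range (γ ≫ pullback.fst π i).base ⊆ Set.range W.ι.base := by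
    rw [Scheme.Opens.range_ι, hW]
    rintro _ ⟨y, rfl⟩ ⟨t, ht, htc⟩
    have h2 : (pullback.fst π i).base t = (pullback.fst π i).base (γ.base y) := htc
    exact ht ⟨y, (hcinj h2).symm⟩
  obtain ⟨r₀, hr₀⟩ : ∃ r₀ : pullback p i ⟶ W, r₀ ≫ W.ι = γ ≫ pullback.fst π i :=
    ⟨IsOpenImmersion.lift W.ι _ hrrange, IsOpenImmersion.lift_fac _ _ _⟩
  obtain ⟨r, hr1, hr2⟩ : ∃ r : pullback p i ⟶ pullback (W.ι ≫ π) i,
      r ≫ pullback.fst (W.ι ≫ π) i = r₀ ∧
      r ≫ pullback.snd (W.ι ≫ π) i = pullback.snd p i :=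
    ⟨pullback.lift r₀ (pullback.snd p i)
      (by rw [← Category.assoc, hr₀, Category.assoc, pullback.condition, ← Category.assoc, hγ2]),
      pullback.lift_fst _ _ _, pullback.lift_snd _ _ _⟩
  have hrm : r ≫ m = γ := by
    apply pullback.hom_ext
    · rw [Category.assoc, hm1, ← Category.assoc, hr1, hr₀]
    · rw [Category.assoc, hm2, hr2, hγ2]
  have hrℓ : r ≫ ℓ = 𝟙 _ := by
    rw [← cancel_mono γ, Category.assoc, hℓ, hrm, Category.id_comp]
  have hℓr : ℓ ≫ r = 𝟙 _ := by
    apply pullback.hom_ext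
    · rw [← cancel_mono W.ι, Category.id_comp, Category.assoc, Category.assoc,
        ← Category.assoc r, hr1, hr₀, ← Category.assoc, hℓ, hm1]
    · rw [Category.assoc, hr2, hℓsnd, Category.id_comp]
  haveI : IsIso ℓ := ⟨r, hℓr, hrℓ⟩
  refine ⟨by rw [hmaℓ]; infer_instance, ?_⟩
  rw [hmaℓ]
  apply pullback.hom_ext
  · rw [Category.assoc, ← hγsnd, hmb1, ← Category.assoc, hℓ, ← Category.assoc, hm1,
      Category.assoc]
  · rw [Category.assoc, hh, hℓsnd, hmb2]

end Groth.Agent.Lib.Helper15.ClosedLift
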