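import Mathlib
import Groth.Agent.Lib.Helper15.ClosedLift

/-!
# Unique lifting of morphisms to étale schemes along surjective closed immersions

For `p : X ⟶ S` étale, `g : S' ⟶ S` and a surjective closed immersion `i : S'₀ ⟶ S'`, every
`f₀ : S'₀ ⟶ X` over `S` extends uniquely to `f : S' ⟶ X` over `S` (`exists_lift`, `unique_lift`).
-/

set_option autoImplicit false
universe u

namespace Groth.Agent.Lib.Helper15.ThickLift

open CategoryTheory Limits AlgebraicGeometry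
open Groth.Agent.Lib.Helper15

/-- A point of `Spec` of a field factors through a surjective closed immersion. -/
lemma exists_factor {Z X : Scheme.{u}} (i : Z ⟶ X) [IsClosedImmersion i] [Surjective i]
    {Ω : Type u} [Field Ω] (ξ : Spec (CommRingCat.of Ω) ⟶ X) :
    ∃ ζ : Spec (CommRingCat.of Ω) ⟶ Z, ζ ≫ i = ξ := by
  haveI : IsIso (pullback.fst ξ i) := isIso_of_isClosedImmersion_of_surjective _
  exact ⟨inv (pullback.fst ξ i) ≫ pullback.snd ξ i, by
    rw [Category.assoc, ← pullback.condition, IsIso.inv_hom_id_assoc]⟩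

lemma isIso_of_isOpenImmersion_of_surjective {X Y : Scheme.{u}} (f : X ⟶ Y) [IsOpenImmersion f]
    [Surjective f] : IsIso f :=
  (isIso_iff_isOpenImmersion_and_epi_base f).2
    ⟨inferInstance, (TopCat.epi_iff_surjective _).2 f.surjective⟩

theorem unique_lift {X S S' S'₀ : Scheme.{u}} (p : X ⟶ S) [Etale p]
    (g : S' ⟶ S) (i : S'₀ ⟶ S') [IsClosedImmersion i] [Surjective i]
    (f f' : S' ⟶ X) (hf : f ≫ p = g) (hf' : f' ≫ p = g) (h : i ≫ f = i ≫ f') : f = f' := by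
  obtain ⟨d, hd1, hd2⟩ : ∃ d : S' ⟶ pullback p p,
      d ≫ pullback.fst p p = f ∧ d ≫ pullback.snd p p = f' :=
    ⟨pullback.lift f f' (hf.trans hf'.symm), pullback.lift_fst _ _ _, pullback.lift_snd _ _ _⟩
  obtain ⟨e, he⟩ : ∃ e : pullback d (pullback.diagonal p) ⟶ S',
      e = pullback.fst d (pullback.diagonal p) := ⟨_, rfl⟩
  haveI : IsOpenImmersion e := by rw [he]; infer_instance
  have hcond : e ≫ d = pullback.snd d (pullback.diagonal p) ≫ pullback.diagonal p := by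
    rw [he]; exact pullback.condition
  have e1 : e ≫ f = pullback.snd d (pullback.diagonal p) := by
    rw [← hd1, ← Category.assoc, hcond, Category.assoc, pullback.diagonal_fst, Category.comp_id]
  have e2 : e ≫ f' = pullback.snd d (pullback.diagonal p) := by
    rw [← hd2, ← Category.assoc, hcond, Category.assoc, pullback.diagonal_snd, Category.comp_id]
  have hk : i ≫ d = (i ≫ f) ≫ pullback.diagonal p := by
    apply pullback.hom_ext
    · rw [Category.assoc, hd1, Category.assoc, pullback.diagonal_fst, Category.comp_id]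
    · rw [Category.assoc, hd2, Category.assoc, pullback.diagonal_snd, Category.comp_id, h]
  obtain ⟨k, hk1⟩ : ∃ k : S'₀ ⟶ pullback d (pullback.diagonal p), k ≫ e = i :=
    ⟨pullback.lift i (i ≫ f) hk, by rw [he]; exact pullback.lift_fst _ _ _⟩
  haveI : Surjective e := by
    constructor
    intro s'
    obtain ⟨s₀, rfl⟩ := i.surjective s'
    exact ⟨k.base s₀, by rw [← Scheme.Hom.comp_apply, hk1]⟩
  haveI : IsIso e := isIso_of_isOpenImmersion_of_surjective e
  rw [← cancel_epi e, e1, e2]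

theorem exists_lift {X S S' S'₀ : Scheme.{u}} (p : X ⟶ S) [Etale p]
    (g : S' ⟶ S) (i : S'₀ ⟶ S') [IsClosedImmersion i] [Surjective i]
    (f₀ : S'₀ ⟶ X) (h₀ : f₀ ≫ p = i ≫ g) :
    ∃ f : S' ⟶ X, f ≫ p = g ∧ i ≫ f = f₀ := by
  obtain ⟨π, hπ⟩ : ∃ π : pullback p g ⟶ S', π = pullback.snd p g := ⟨_, rfl⟩
  haveI : Etale π := by rw [hπ]; infer_instance
  obtain ⟨σ₀, hσ1, hσ2⟩ : ∃ σ₀ : S'₀ ⟶ pullback p g,
      σ₀ ≫ pullback.fst p g = f₀ ∧ σ₀ ≫ π = i :=
    ⟨pullback.lift f₀ i h₀, pullback.lift_fst _ _ _, by rw [hπ]; exact pullback.lift_snd _ _ _⟩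
  obtain ⟨ι, hι⟩ : ∃ ι : pullback π i ⟶ pullback p g, ι = pullback.fst π i := ⟨_, rfl⟩
  obtain ⟨π₀, hπ₀⟩ : ∃ π₀ : pullback π i ⟶ S'₀, π₀ = pullback.snd π i := ⟨_, rfl⟩
  haveI : IsClosedImmersion ι := by rw [hι]; infer_instance
  haveI : Etale π₀ := by rw [hπ₀]; infer_instance
  have hcond : ι ≫ π = π₀ ≫ i := by rw [hι, hπ₀]; exact pullback.condition
  obtain ⟨γ, hγ1, hγ2⟩ : ∃ γ : S'₀ ⟶ pullback π i, γ ≫ ι = σ₀ ∧ γ ≫ π₀ = 𝟙 _ :=
    ⟨pullback.lift σ₀ (𝟙 _) (by rw [hσ2, Category.id_comp]),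
      by rw [hι]; exact pullback.lift_fst _ _ _, by rw [hπ₀]; exact pullback.lift_snd _ _ _⟩
  haveI : IsOpenImmersion γ := by
    haveI : IsOpenImmersion (γ ≫ π₀) := by rw [hγ2]; infer_instance
    exact ClosedLift.isOpenImmersion_of_comp γ π₀
  have hιinj : Function.Injective ι.base := ι.isClosedEmbedding.injective
  have hCclosed : IsClosed (ι.base '' (Set.range γ.base)ᶜ) :=
    ι.isClosedEmbedding.isClosedMap _ (γ.isOpenEmbedding.isOpen_range.isClosed_compl)
  obtain ⟨W, hW⟩ : ∃ W : (pullback p g).Opens,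
      (↑W : Set ↥(pullback p g)) = (ι.base '' (Set.range γ.base)ᶜ)ᶜ :=
    ⟨⟨_, hCclosed.isOpen_compl⟩, rfl⟩
  have hS1 : ∀ y : ↥(pullback π i), ι.base y ∈ (↑W : Set ↥(pullback p g)) ↔
      y ∈ Set.range γ.base := by
    intro y
    rw [hW]
    constructor
    · intro hy
      by_contra hn
      exact hy ⟨y, hn, rfl⟩
    · rintro hy ⟨t, ht, htc⟩
      exact ht (by rw [hιinj htc]; exact hy)
  obtain ⟨a, ha⟩ : ∃ a : W.toScheme ⟶ S', a = W.ι ≫ π := ⟨_, rfl⟩
  haveI : Etale a := by rw [ha]; infer_instance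
  have hσrange : Set.range σ₀.base ⊆ Set.range W.ι.base := by
    rintro _ ⟨s, rfl⟩
    rw [Scheme.Opens.range_ι]
    have h1 : σ₀.base s = ι.base (γ.base s) := by
      rw [← Scheme.Hom.comp_apply, hγ1]
    rw [h1]
    exact (hS1 _).2 ⟨s, rfl⟩
  obtain ⟨r₀, hr₀⟩ : ∃ r₀ : S'₀ ⟶ W.toScheme, r₀ ≫ W.ι = σ₀ :=
    ⟨IsOpenImmersion.lift W.ι σ₀ hσrange, IsOpenImmersion.lift_fac _ _ _⟩
  have hr₀a : r₀ ≫ a = i := by rw [ha, ← Category.assoc, hr₀, hσ2]
  haveI : Surjective a := by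
    constructor
    intro s'
    obtain ⟨s₀, rfl⟩ := i.surjective s'
    exact ⟨r₀.base s₀, by rw [← Scheme.Hom.comp_apply, hr₀a]⟩
  -- `a` is universally injective
  have hL : ∀ (K : Type u) [Field K] (gK : Spec (CommRingCat.of K) ⟶ W.toScheme)
      (ζ : Spec (CommRingCat.of K) ⟶ S'₀), ζ ≫ i = gK ≫ a → gK ≫ W.ι = ζ ≫ σ₀ := by
    intro K _ gK ζ hζ
    obtain ⟨g', hg'1, hg'2⟩ : ∃ g' : Spec (CommRingCat.of K) ⟶ pullback π i,
        g' ≫ ι = gK ≫ W.ι ∧ g' ≫ π₀ = ζ :=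
      ⟨pullback.lift (gK ≫ W.ι) ζ (by rw [Category.assoc, ← ha]; exact hζ.symm),
        by rw [hι]; exact pullback.lift_fst _ _ _, by rw [hπ₀]; exact pullback.lift_snd _ _ _⟩
    have hrange : Set.range g'.base ⊆ Set.range γ.base := by
      rintro _ ⟨y, rfl⟩
      rw [← hS1]
      have h1 : ι.base (g'.base y) = W.ι.base (gK.base y) := by
        rw [← Scheme.Hom.comp_apply, hg'1, Scheme.Hom.comp_apply]
      rw [h1]
      exact ClosedLift.ι_mem W _
    obtain ⟨t, ht⟩ : ∃ t : Spec (CommRingCat.of K) ⟶ S'₀, t ≫ γ = g' :=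
      ⟨IsOpenImmersion.lift γ g' hrange, IsOpenImmersion.lift_fac _ _ _⟩
    have htζ : t = ζ := by
      rw [← hg'2, ← ht, Category.assoc, hγ2, Category.comp_id]
    rw [← hg'1, ← ht, Category.assoc, hγ1, htζ]
  haveI hUI : UniversallyInjective a := by
    refine ((tfae_universallyInjective a).out 0 1).2 ?_
    intro K _ g₁ g₂ h12
    obtain ⟨ζ, hζ⟩ := exists_factor i (g₁ ≫ a)
    have h1 := hL K g₁ ζ hζ
    have h2 := hL K g₂ ζ (hζ.trans h12)
    rw [← cancel_mono W.ι, h1, h2]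
  haveI : Surjective (pullback.diagonal a) := (UniversallyInjective.iff_diagonal a).1 hUI
  haveI : IsIso (pullback.diagonal a) := isIso_of_isOpenImmersion_of_surjective _
  haveI : Mono a := (pullback.isIso_diagonal_iff a).1 inferInstance
  haveI : IsOpenImmersion a := IsOpenImmersion.of_flat_of_mono a
  haveI : IsIso a := isIso_of_isOpenImmersion_of_surjective a
  refine ⟨inv a ≫ W.ι ≫ pullback.fst p g, ?_, ?_⟩
  · rw [Category.assoc, Category.assoc, pullback.condition, ← hπ, ← Category.assoc W.ι, ← ha,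
      IsIso.inv_hom_id_assoc]
  · have h3 : i ≫ inv a = r₀ := by rw [← hr₀a, Category.assoc, IsIso.hom_inv_id, Category.comp_id]
    rw [← Category.assoc, h3, ← Category.assoc, hr₀, hσ1]

end Groth.Agent.Lib.Helper15.ThickLift
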