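import Groth.Agent.Lib.Helper15.RepWithPullback
import Groth.Agent.Lib.Helper16.QuasiCompactMor
import Groth.Prelude.Def_CInt
import Mathlib.AlgebraicGeometry.Morphisms.SchemeTheoreticallyDominant

/-!
# Flat pullback of quasi-compact schematically dense opens

* `isSchemeTheoreticallyDominant_ι_of_isSchematicallyDense` and its converse
  `isSchematicallyDense_of_isSchemeTheoreticallyDominant_ι` (for quasi-compact open immersions);
* `isSchematicallyDense_preimage_of_flat`;
* `exists_isPullback_opens_chart`: pulling back an open chart along a morphism of schemes.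
-/

set_option autoImplicit false
universe u
open CategoryTheory CategoryTheory.Limits AlgebraicGeometry Opposite AlgSp Groth.Agent.Lib.Helper16

namespace Groth.Agent.Lib.Helper15

theorem injective_map_of_eq {X : Scheme.{u}} {O₁ O₂ Uo : X.Opens} (heq : O₁ = O₂) (h₁ : O₁ ≤ Uo)
    (h₂ : O₂ ≤ Uo) (h : Function.Injective (X.presheaf.map (homOfLE h₂).op)) :
    Function.Injective (X.presheaf.map (homOfLE h₁).op) := by
  subst heq
  exact h

theorem isSchemeTheoreticallyDominant_ι_of_isSchematicallyDense {V : Scheme.{u}} (W : V.Opens)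
    [QuasiCompact W.ι] (h : CInt.IsSchematicallyDense W) : IsSchemeTheoreticallyDominant W.ι := by
  rw [isSchemeTheoreticallyDominant_iff]
  refine Scheme.IdealSheafData.ext (funext fun Uo => ?_)
  rw [Scheme.Hom.ker_apply, Scheme.IdealSheafData.ideal_bot, Pi.bot_apply,
    ← RingHom.injective_iff_ker_eq_bot]
  have heq : W.ι ''ᵁ W.ι ⁻¹ᵁ Uo.1 = Uo.1 ⊓ W := by
    rw [Scheme.Hom.image_preimage_eq_opensRange_inf, Scheme.Opens.opensRange_ι, inf_comm]
  exact injective_map_of_eq heq (heq.le.trans inf_le_left) inf_le_left (h Uo.1)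

theorem isSchematicallyDense_of_isSchemeTheoreticallyDominant_ι {U : Scheme.{u}} (W' : U.Opens)
    [QuasiCompact W'.ι] [IsSchemeTheoreticallyDominant W'.ι] : CInt.IsSchematicallyDense W' := by
  intro O
  have heq : O ⊓ W' = W'.ι ''ᵁ W'.ι ⁻¹ᵁ O := by
    rw [Scheme.Hom.image_preimage_eq_opensRange_inf, Scheme.Opens.opensRange_ι, inf_comm]
  have h : Function.Injective (U.presheaf.map (homOfLE (heq.symm.le.trans inf_le_left)).op) :=
    W'.ι.app_injective O
  exact injective_map_of_eq heq inf_le_left (heq.symm.le.trans inf_le_left) h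

theorem isSchematicallyDense_preimage_of_flat {U V : Scheme.{u}} (q : U ⟶ V) [Flat q] (W : V.Opens)
    [QuasiCompact W.ι] (h : CInt.IsSchematicallyDense W) : CInt.IsSchematicallyDense (q ⁻¹ᵁ W) := by
  haveI := isSchemeTheoreticallyDominant_ι_of_isSchematicallyDense W h
  have H := isPullback_morphismRestrict q W
  haveI : QuasiCompact (q ⁻¹ᵁ W).ι :=
    MorphismProperty.of_isPullback (P := @QuasiCompact) H inferInstance
  haveI : IsSchemeTheoreticallyDominant (q ⁻¹ᵁ W).ι := IsSchemeTheoreticallyDominant.of_isPullback H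
  exact isSchematicallyDense_of_isSchemeTheoreticallyDominant_ι _

variable {S : Scheme.{u}}

/-- Pulling back an open chart of `j` to a chart of the base change of `j`. -/
theorem exists_isPullback_opens_chart {X Y V V' : Sp S} {f : X ⟶ Y} {j : V ⟶ Y} {fst : V' ⟶ V}
    {jX : V' ⟶ X} (sq : IsPullback fst jX j f) {V₀ : Over S} {φ : (yon S).obj V₀ ⟶ Y}
    {W : V₀.left.Opens} {fstW : (yon S).obj (overOpen V₀ W) ⟶ V}
    (sqW : IsPullback fstW ((yon S).map (overOpenι V₀ W)) j φ) {U : Over S} (ψ : (yon S).obj U ⟶ X)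
    (q : U ⟶ V₀) (hψ : ψ ≫ f = (yon S).map q ≫ φ) :
    ∃ fst' : (yon S).obj (overOpen U (q.left ⁻¹ᵁ W)) ⟶ V',
      IsPullback fst' ((yon S).map (overOpenι U (q.left ⁻¹ᵁ W))) jX ψ := by
  have sqO := (isPullback_overRestrict q W).map (yon S)
  have sq1 := sqO.paste_horiz sqW
  rw [← hψ] at sq1
  refine ⟨sq.lift ((yon S).map (overRestrict q W) ≫ fstW)
    ((yon S).map (overOpenι U (q.left ⁻¹ᵁ W)) ≫ ψ) (by rw [sq1.w, Category.assoc]), ?_⟩
  exact IsPullback.of_right (by rw [sq.lift_fst]; exact sq1) (sq.lift_snd _ _ _) sq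

end Groth.Agent.Lib.Helper15
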