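import Mathlib

/-!
# Helper15: a finite étale morphism of rank `d` has exactly `d` lifts of every geometric point
-/

set_option autoImplicit false
universe u
open CategoryTheory CategoryTheory.Limits AlgebraicGeometry Opposite

namespace Helper15.FinEtCount

/-- The algebra maps `Ω^J → Ω` are the evaluations. -/
theorem evalAlgHom_bijective (Ω : Type u) [Field Ω] (J : Type u) [Fintype J] [DecidableEq J] :
    Function.Bijective (fun j : J => (Pi.evalAlgHom Ω (fun _ : J => Ω) j)) := by
  constructor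
  · intro j j' h
    by_contra hne
    have h1 := DFunLike.congr_fun h (Pi.single j (1 : Ω))
    have h2 : (Pi.single j (1 : Ω) : J → Ω) j = (Pi.single j (1 : Ω) : J → Ω) j' := h1
    rw [Pi.single_eq_same, Pi.single_eq_of_ne (Ne.symm hne)] at h2
    exact one_ne_zero h2
  · intro f
    have hsum : ∑ j, f (Pi.single j (1 : Ω)) = 1 := by
      rw [← map_sum]
      have : (∑ j, (Pi.single j (1 : Ω) : J → Ω)) = 1 := Finset.univ_sum_single (1 : J → Ω)
      rw [this, map_one]
    obtain ⟨j₀, hj₀⟩ : ∃ j₀, f (Pi.single j₀ (1 : Ω)) ≠ 0 := by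
      by_contra hcon
      push_neg at hcon
      rw [Finset.sum_eq_zero (fun j _ => hcon j)] at hsum
      exact zero_ne_one hsum
    have hidem : f (Pi.single j₀ (1 : Ω)) * f (Pi.single j₀ (1 : Ω)) = f (Pi.single j₀ (1 : Ω)) := by
      rw [← map_mul]
      congr 1
      ext k
      by_cases hk : k = j₀
      · subst hk; simp
      · simp [Pi.single_eq_of_ne hk]
    have hone : f (Pi.single j₀ (1 : Ω)) = 1 :=
      mul_right_cancel₀ hj₀ (hidem.trans (one_mul _).symm)
    refine ⟨j₀, ?_⟩
    refine AlgHom.ext fun x => ?_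
    show x j₀ = f x
    have hx : x * Pi.single j₀ (1 : Ω) = (x j₀) • (Pi.single j₀ (1 : Ω) : J → Ω) := by
      ext k
      by_cases hk : k = j₀
      · subst hk; simp
      · simp [Pi.single_eq_of_ne hk]
    calc x j₀ = x j₀ • f (Pi.single j₀ (1 : Ω)) := by rw [hone, smul_eq_mul, mul_one]
      _ = f (x j₀ • (Pi.single j₀ (1 : Ω) : J → Ω)) := (map_smul f _ _).symm
      _ = f (x * Pi.single j₀ (1 : Ω)) := by rw [hx]
      _ = f x * f (Pi.single j₀ (1 : Ω)) := map_mul f _ _
      _ = f x := by rw [hone, mul_one]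

/-- A finite étale algebra over a separably closed field has as many points as its dimension. -/
theorem card_algHom_eq_finrank (Ω E : Type u) [Field Ω] [IsSepClosed Ω] [CommRing E] [Algebra Ω E]
    [Module.Finite Ω E] [Algebra.FormallyEtale Ω E] :
    Nat.card (E →ₐ[Ω] Ω) = Module.finrank Ω E := by
  classical
  haveI : IsArtinianRing E := IsArtinianRing.of_finite Ω E
  haveI : Finite (PrimeSpectrum E) := inferInstance
  haveI := Fintype.ofFinite (PrimeSpectrum E)
  let e : E ≃ₐ[Ω] (PrimeSpectrum E → Ω) := Algebra.FormallyEtale.equivPiOfIsSepClosed Ω E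
  have h1 : Module.finrank Ω E = Fintype.card (PrimeSpectrum E) := by
    rw [LinearEquiv.finrank_eq e.toLinearEquiv, Module.finrank_fintype_fun_eq_card]
  have h2 : Nat.card (E →ₐ[Ω] Ω) = Nat.card ((PrimeSpectrum E → Ω) →ₐ[Ω] Ω) :=
    Nat.card_congr (e.arrowCongr AlgEquiv.refl)
  rw [h1, h2, ← Nat.card_eq_fintype_card]
  exact (Nat.card_congr (Equiv.ofBijective _ (evalAlgHom_bijective Ω (PrimeSpectrum E)))).symm

/-- The lifts of a geometric point along a finite étale morphism are counted by the rank. -/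
theorem natCard_lifts_eq_finrank {X' X : Scheme.{u}} (π : X' ⟶ X) [IsFinite π]
    [AlgebraicGeometry.Etale π] [Flat π]
    (Ω : Type u) [Field Ω] [IsSepClosed Ω] (ξ : Spec (.of Ω) ⟶ X) (s : ↥(Spec (CommRingCat.of Ω))) :
    Nat.card {ξ' : Spec (.of Ω) ⟶ X' // ξ' ≫ π = ξ} = π.finrank (ξ s) := by
  have hT : IsAffine (pullback π ξ) := isAffine_of_isAffineHom (pullback.snd π ξ)
  obtain ⟨c, hcdef⟩ : ∃ c : pullback π ξ ⟶ Spec (CommRingCat.of Ω), c = pullback.snd π ξ := ⟨_, rfl⟩
  haveI : IsFinite c := hcdef ▸ inferInstance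
  haveI : AlgebraicGeometry.Etale c := hcdef ▸ inferInstance
  haveI : Flat c := hcdef ▸ inferInstance
  obtain ⟨ψ, hψdef⟩ : ∃ ψ : CommRingCat.of Ω ⟶ Γ(pullback π ξ, ⊤),
      ψ = (Scheme.ΓSpecIso (CommRingCat.of Ω)).inv ≫ c.appTop := ⟨_, rfl⟩
  have hc : c = (pullback π ξ).isoSpec.hom ≫ Spec.map ψ := by
    rw [hψdef, Spec.map_comp, Scheme.isoSpec_hom_naturality_assoc, Scheme.isoSpec_Spec_hom,
      ← Spec.map_comp, Iso.inv_hom_id, Spec.map_id, Category.comp_id]
  haveI : MorphismProperty.RespectsIso @IsFinite.{u} :=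
    MorphismProperty.IsStableUnderBaseChange.respectsIso
  haveI : MorphismProperty.RespectsIso @AlgebraicGeometry.Etale.{u} :=
    MorphismProperty.IsStableUnderBaseChange.respectsIso
  have hfin : IsFinite (Spec.map ψ) := by
    have : IsFinite ((pullback π ξ).isoSpec.hom ≫ Spec.map ψ) := hc ▸ inferInstance
    exact (MorphismProperty.cancel_left_of_respectsIso @IsFinite (pullback π ξ).isoSpec.hom
      (Spec.map ψ)).1 this
  have het : AlgebraicGeometry.Etale (Spec.map ψ) := by
    have : AlgebraicGeometry.Etale ((pullback π ξ).isoSpec.hom ≫ Spec.map ψ) := hc ▸ inferInstance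
    exact (MorphismProperty.cancel_left_of_respectsIso @AlgebraicGeometry.Etale
      (pullback π ξ).isoSpec.hom (Spec.map ψ)).1 this
  have hψfin : ψ.hom.Finite := (IsFinite.SpecMap_iff ψ).1 hfin
  have hflat : Flat (Spec.map ψ) := inferInstance
  have hψflat : ψ.hom.Flat := Flat.SpecMap_iff.1 hflat
  have hψet : ψ.hom.Etale := (HasRingHomProperty.Spec_iff (P := @AlgebraicGeometry.Etale)).1 het
  letI : Algebra Ω Γ(pullback π ξ, ⊤) := ψ.hom.toAlgebra
  have hmf : Module.Finite Ω Γ(pullback π ξ, ⊤) := hψfin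
  have hae : Algebra.Etale Ω Γ(pullback π ξ, ⊤) := hψet
  haveI : Algebra.FormallyEtale Ω Γ(pullback π ξ, ⊤) := hae.formallyEtale
  have h1 : c.finrank s = Module.finrank Ω Γ(pullback π ξ, ⊤) := by
    rw [hc, Scheme.Hom.finrank_comp_left_of_isIso, Scheme.Hom.finrank_SpecMap_eq_finrank hψfin hψflat]
    change Module.rankAtStalk (R := Ω) Γ(pullback π ξ, ⊤) s = _
    rw [Module.rankAtStalk_eq_finrank_of_free]
    rfl
  have h0 : c.finrank s = π.finrank (ξ s) := by
    rw [hcdef]
    exact Scheme.Hom.finrank_pullback_snd π ξ s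
  rw [← h0, h1, ← card_algHom_eq_finrank Ω Γ(pullback π ξ, ⊤)]
  -- the bijection
  have hsec : ∀ ξ' : {ξ' : Spec (.of Ω) ⟶ X' // ξ' ≫ π = ξ},
      ψ ≫ Spec.preimage (pullback.lift ξ'.1 (𝟙 _) (by rw [ξ'.2, Category.id_comp]) ≫
        (pullback π ξ).isoSpec.hom) = 𝟙 _ := by
    intro ξ'
    apply Spec.map_injective
    rw [Spec.map_comp, Spec.map_preimage, Category.assoc, ← hc, hcdef, pullback.lift_snd,
      Spec.map_id]
  refine Nat.card_congr (Equiv.ofBijective
    (fun ξ' => ({ (Spec.preimage (pullback.lift ξ'.1 (𝟙 _) (by rw [ξ'.2, Category.id_comp]) ≫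
        (pullback π ξ).isoSpec.hom)).hom with
      commutes' := fun r => congrArg (fun φ => φ.hom r) (hsec ξ') } :
        Γ(pullback π ξ, ⊤) →ₐ[Ω] Ω)) ⟨?_, ?_⟩)
  · intro ξ₁ ξ₂ h
    have h' : (Spec.preimage (pullback.lift ξ₁.1 (𝟙 _) (by rw [ξ₁.2, Category.id_comp]) ≫
        (pullback π ξ).isoSpec.hom)).hom =
        (Spec.preimage (pullback.lift ξ₂.1 (𝟙 _) (by rw [ξ₂.2, Category.id_comp]) ≫
        (pullback π ξ).isoSpec.hom)).hom := by
      ext r
      exact DFunLike.congr_fun h r
    have h2 := congrArg Spec.map (CommRingCat.hom_ext h')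
    rw [Spec.map_preimage, Spec.map_preimage, cancel_mono] at h2
    have h3 := congrArg (fun m => m ≫ pullback.fst π ξ) h2
    simp only [pullback.lift_fst] at h3
    exact Subtype.ext h3
  · intro a
    have hs : (Spec.map (CommRingCat.ofHom a.toRingHom) ≫ (pullback π ξ).isoSpec.inv) ≫
        pullback.snd π ξ = 𝟙 _ := by
      rw [← hcdef, hc, Category.assoc, Iso.inv_hom_id_assoc, ← Spec.map_comp]
      have : ψ ≫ CommRingCat.ofHom a.toRingHom = 𝟙 _ := by
        ext r
        exact a.commutes r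
      rw [this, Spec.map_id]
    refine ⟨⟨(Spec.map (CommRingCat.ofHom a.toRingHom) ≫ (pullback π ξ).isoSpec.inv) ≫
      pullback.fst π ξ, ?_⟩, ?_⟩
    · rw [Category.assoc, pullback.condition, ← Category.assoc, hs, Category.id_comp]
    · have hl : pullback.lift ((Spec.map (CommRingCat.ofHom a.toRingHom) ≫
          (pullback π ξ).isoSpec.inv) ≫ pullback.fst π ξ) (𝟙 _)
          (by rw [Category.assoc, pullback.condition, ← Category.assoc, hs, Category.id_comp]) =
          Spec.map (CommRingCat.ofHom a.toRingHom) ≫ (pullback π ξ).isoSpec.inv := by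
        apply pullback.hom_ext
        · rw [pullback.lift_fst]
        · rw [pullback.lift_snd, hs]
      refine AlgHom.ext fun r => ?_
      show (Spec.preimage (pullback.lift _ (𝟙 _) _ ≫ (pullback π ξ).isoSpec.hom)).hom r = a r
      have h4 : Spec.preimage (pullback.lift ((Spec.map (CommRingCat.ofHom a.toRingHom) ≫
          (pullback π ξ).isoSpec.inv) ≫ pullback.fst π ξ) (𝟙 _)
          (by rw [Category.assoc, pullback.condition, ← Category.assoc, hs, Category.id_comp]) ≫
          (pullback π ξ).isoSpec.hom) = CommRingCat.ofHom a.toRingHom := by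
        apply Spec.map_injective
        rw [Spec.map_preimage, hl, Category.assoc, Iso.inv_hom_id, Category.comp_id]
      exact congrArg (fun φ => φ.hom r) h4

end Helper15.FinEtCount
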