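import Groth.Prelude.Def_CAlgX
import Mathlib

/-! Lifting along small extensions: hyperplane patching, fibre products, filtration.
Used for S9315, S9316, S2481. -/

universe u
open IsLocalRing

namespace Groth.Agent.Lib.Helper15.SmallExt

section PT

variable {R S E : Type u} [CommRing R] [CommRing S] [CommRing E] [Algebra R S] [Algebra R E]
  [IsLocalRing E]

/-- The hyperplane of `V` cut out by the functional `l`, as an ideal of `E`. -/
def hyp (V : Ideal E) (l : ↥V →ₗ[E] (E ⧸ maximalIdeal E)) : Ideal E :=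
  Submodule.map (Submodule.subtype V) (LinearMap.ker l)

theorem mem_hyp {V : Ideal E} {l : ↥V →ₗ[E] (E ⧸ maximalIdeal E)} {x : E} :
    x ∈ hyp V l ↔ ∃ h : x ∈ V, l ⟨x, h⟩ = 0 := by
  unfold hyp
  rw [Submodule.mem_map]
  constructor
  · rintro ⟨y, hy, rfl⟩
    exact ⟨y.2, LinearMap.mem_ker.mp hy⟩
  · rintro ⟨h, hl⟩
    exact ⟨⟨x, h⟩, LinearMap.mem_ker.mpr hl, rfl⟩

theorem hyp_le (V : Ideal E) (l : ↥V →ₗ[E] (E ⧸ maximalIdeal E)) : hyp V l ≤ V := by
  intro x hx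
  exact (mem_hyp.mp hx).1

/-- Extension by zero of `l` to all of `E`. -/
noncomputable def Lz (V : Ideal E) (l : ↥V →ₗ[E] (E ⧸ maximalIdeal E)) (z : E) :
    E ⧸ maximalIdeal E :=
  open Classical in if hz : z ∈ V then l ⟨z, hz⟩ else 0

theorem Lz_of_mem {V : Ideal E} {l : ↥V →ₗ[E] (E ⧸ maximalIdeal E)} {z : E} (hz : z ∈ V) :
    Lz V l z = l ⟨z, hz⟩ := by
  unfold Lz
  rw [dif_pos hz]

theorem Lz_add {V : Ideal E} {l : ↥V →ₗ[E] (E ⧸ maximalIdeal E)} {x y : E}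
    (hx : x ∈ V) (hy : y ∈ V) : Lz V l (x + y) = Lz V l x + Lz V l y := by
  rw [Lz_of_mem hx, Lz_of_mem hy, Lz_of_mem (V.add_mem hx hy), ← map_add]
  rfl

theorem Lz_sub {V : Ideal E} {l : ↥V →ₗ[E] (E ⧸ maximalIdeal E)} {x y : E}
    (hx : x ∈ V) (hy : y ∈ V) : Lz V l (x - y) = Lz V l x - Lz V l y := by
  rw [Lz_of_mem hx, Lz_of_mem hy, Lz_of_mem (V.sub_mem hx hy), ← map_sub]
  rfl

theorem Lz_mul {V : Ideal E} {l : ↥V →ₗ[E] (E ⧸ maximalIdeal E)} (e : E) {x : E}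
    (hx : x ∈ V) : Lz V l (e * x) = Ideal.Quotient.mk (maximalIdeal E) e * Lz V l x := by
  rw [Lz_of_mem hx, Lz_of_mem (V.mul_mem_left e hx)]
  have h : (⟨e * x, V.mul_mem_left e hx⟩ : ↥V) = e • (⟨x, hx⟩ : ↥V) := rfl
  rw [h, map_smul, Algebra.smul_def]
  rfl

theorem Lz_eq_of_sub_mem_hyp {V : Ideal E} {l : ↥V →ₗ[E] (E ⧸ maximalIdeal E)} {x y : E}
    (hx : x ∈ V) (hy : y ∈ V) (h : x - y ∈ hyp V l) : Lz V l x = Lz V l y := by
  obtain ⟨h1, h2⟩ := mem_hyp.mp h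
  have h3 : Lz V l (x - y) = 0 := by rw [Lz_of_mem h1]; exact h2
  rw [Lz_sub hx hy] at h3
  exact sub_eq_zero.mp h3

/-- Patching lifts over all hyperplanes of a `κ`-vector space ideal `V`. -/
theorem exists_lift_of_hyperplanes (V : Ideal E)
    (hmV : ∀ a ∈ maximalIdeal E, ∀ v ∈ V, a * v = 0) (hVm : V ≤ maximalIdeal E)
    (ψ : S →ₐ[R] E ⧸ V)
    (H : ∀ l : ↥V →ₗ[E] (E ⧸ maximalIdeal E), l ≠ 0 →
      ∃ χ : S →ₐ[R] E ⧸ hyp V l,
        ∀ s e, χ s = Ideal.Quotient.mk _ e → ψ s = Ideal.Quotient.mk V e) :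
    ∃ χ : S →ₐ[R] E, ∀ s, Ideal.Quotient.mk V (χ s) = ψ s := by
  classical
  letI : Field (E ⧸ maximalIdeal E) := Ideal.Quotient.field _
  have htors : Module.IsTorsionBySet E ↥V (maximalIdeal E : Set E) := by
    intro v a
    apply Subtype.ext
    exact hmV a.1 a.2 v.1 v.2
  letI : Module (E ⧸ maximalIdeal E) ↥V := htors.module
  haveI : IsScalarTower E (E ⧸ maximalIdeal E) ↥V := htors.isScalarTower
  have hsurj : Function.Surjective (algebraMap E (E ⧸ maximalIdeal E)) :=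
    Ideal.Quotient.mk_surjective
  have hsmul : ∀ (e : E) (v : ↥V), Ideal.Quotient.mk (maximalIdeal E) e • v = e • v :=
    fun e v => algebraMap_smul (E ⧸ maximalIdeal E) e v
  -- the evaluation map
  obtain ⟨ι, hι⟩ : ∃ ι : ↥V →ₗ[E ⧸ maximalIdeal E]
      ((↥V →ₗ[E] (E ⧸ maximalIdeal E)) → (E ⧸ maximalIdeal E)), ∀ v l, ι v l = l v :=
    ⟨LinearMap.pi (fun l => l.extendScalarsOfSurjective hsurj), fun _ _ => rfl⟩
  have hker : LinearMap.ker ι = ⊥ := by
    rw [LinearMap.ker_eq_bot']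
    intro v hv
    rw [← Module.forall_dual_apply_eq_zero_iff (E ⧸ maximalIdeal E) v]
    intro f
    have h1 := congrFun hv (f.restrictScalars E)
    rw [hι] at h1
    exact h1
  obtain ⟨ρ, hρ⟩ := LinearMap.exists_leftInverse_of_injective ι hker
  have hρι : ∀ v, ρ (ι v) = v := fun v => LinearMap.congr_fun hρ v
  -- set-theoretic lifts
  have hσ' : ∀ s, ∃ e, Ideal.Quotient.mk V e = ψ s := fun s => Ideal.Quotient.mk_surjective _
  choose σ hσ using hσ'
  have hσadd : ∀ s t, σ s + σ t - σ (s + t) ∈ V := by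
    intro s t
    rw [← Ideal.Quotient.eq_zero_iff_mem, map_sub, map_add, hσ, hσ, hσ, map_add, sub_self]
  have hσmul : ∀ s t, σ s * σ t - σ (s * t) ∈ V := by
    intro s t
    rw [← Ideal.Quotient.eq_zero_iff_mem, map_sub, map_mul, hσ, hσ, hσ, map_mul, sub_self]
  have hσalg : ∀ r, algebraMap R E r - σ (algebraMap R S r) ∈ V := by
    intro r
    rw [← Ideal.Quotient.eq_zero_iff_mem, map_sub, hσ, AlgHom.commutes]
    exact sub_self _
  have hτ' : ∀ l : ↥V →ₗ[E] (E ⧸ maximalIdeal E), ∃ τ : S → E,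
      (∀ s, τ s - σ s ∈ V) ∧
      (∀ s t, τ (s + t) - τ s - τ t ∈ hyp V l) ∧
      (∀ s t, τ (s * t) - τ s * τ t ∈ hyp V l) ∧
      (∀ r, τ (algebraMap R S r) - algebraMap R E r ∈ hyp V l) := by
    intro l
    by_cases hl : l = 0
    · subst hl
      refine ⟨σ, fun s => by rw [sub_self]; exact V.zero_mem, fun s t => ?_, fun s t => ?_,
        fun r => ?_⟩
      · have h1 : σ (s + t) - σ s - σ t ∈ V := by
          have := V.neg_mem (hσadd s t)
          convert this using 1; ring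
        exact mem_hyp.mpr ⟨h1, rfl⟩
      · have h1 : σ (s * t) - σ s * σ t ∈ V := by
          have := V.neg_mem (hσmul s t)
          convert this using 1; ring
        exact mem_hyp.mpr ⟨h1, rfl⟩
      · have h1 : σ (algebraMap R S r) - algebraMap R E r ∈ V := by
          have := V.neg_mem (hσalg r)
          convert this using 1; ring
        exact mem_hyp.mpr ⟨h1, rfl⟩
    · obtain ⟨χl, hχl⟩ := H l hl
      have hτ'' : ∀ s, ∃ e, Ideal.Quotient.mk (hyp V l) e = χl s :=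
        fun s => Ideal.Quotient.mk_surjective _
      choose τ hτ using hτ''
      refine ⟨τ, fun s => ?_, fun s t => ?_, fun s t => ?_, fun r => ?_⟩
      · have h1 := hχl s (τ s) (hτ s).symm
        rw [← hσ s] at h1
        exact Ideal.Quotient.eq.mp h1.symm
      · rw [← Ideal.Quotient.eq_zero_iff_mem, map_sub, map_sub, hτ, hτ, hτ, map_add]
        ring
      · rw [← Ideal.Quotient.eq_zero_iff_mem, map_sub, map_mul, hτ, hτ, hτ, map_mul, sub_self]
      · rw [← Ideal.Quotient.eq_zero_iff_mem, map_sub, hτ, AlgHom.commutes]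
        exact sub_self _
  choose τ hτV hτadd hτmul hτalg using hτ'
  obtain ⟨c, hc⟩ : ∃ c : S → (↥V →ₗ[E] (E ⧸ maximalIdeal E)) → (E ⧸ maximalIdeal E),
      ∀ s l, c s l = Lz V l (τ l s - σ s) := ⟨_, fun _ _ => rfl⟩
  have hcadd : ∀ s t, c (s + t) = c s + c t + ι ⟨σ s + σ t - σ (s + t), hσadd s t⟩ := by
    intro s t
    funext l
    rw [Pi.add_apply, Pi.add_apply, hc, hc, hc, hι]
    have h1 : Lz V l (τ l (s + t) - σ (s + t)) =
        Lz V l ((τ l s - σ s) + (τ l t - σ t) + (σ s + σ t - σ (s + t))) := by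
      apply Lz_eq_of_sub_mem_hyp (hτV l _)
        (V.add_mem (V.add_mem (hτV l s) (hτV l t)) (hσadd s t))
      convert hτadd l s t using 1
      ring
    rw [h1, Lz_add (V.add_mem (hτV l s) (hτV l t)) (hσadd s t), Lz_add (hτV l s) (hτV l t),
      Lz_of_mem (hσadd s t)]
  have hcmul : ∀ s t, c (s * t) = Ideal.Quotient.mk (maximalIdeal E) (σ s) • c t +
      Ideal.Quotient.mk (maximalIdeal E) (σ t) • c s + ι ⟨σ s * σ t - σ (s * t), hσmul s t⟩ := by
    intro s t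
    funext l
    rw [Pi.add_apply, Pi.add_apply, Pi.smul_apply, Pi.smul_apply, smul_eq_mul, smul_eq_mul,
      hc, hc, hc, hι]
    have hab : (τ l s - σ s) * (τ l t - σ t) = 0 := hmV _ (hVm (hτV l s)) _ (hτV l t)
    have h1 : Lz V l (τ l (s * t) - σ (s * t)) =
        Lz V l (σ s * (τ l t - σ t) + σ t * (τ l s - σ s) + (σ s * σ t - σ (s * t))) := by
      apply Lz_eq_of_sub_mem_hyp (hτV l _)
        (V.add_mem (V.add_mem (V.mul_mem_left _ (hτV l t)) (V.mul_mem_left _ (hτV l s)))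
          (hσmul s t))
      have h2 : τ l (s * t) - σ (s * t) -
          (σ s * (τ l t - σ t) + σ t * (τ l s - σ s) + (σ s * σ t - σ (s * t))) =
          (τ l (s * t) - τ l s * τ l t) + (τ l s - σ s) * (τ l t - σ t) := by ring
      rw [h2, hab, add_zero]
      exact hτmul l s t
    rw [h1, Lz_add (V.add_mem (V.mul_mem_left _ (hτV l t)) (V.mul_mem_left _ (hτV l s)))
      (hσmul s t), Lz_add (V.mul_mem_left _ (hτV l t)) (V.mul_mem_left _ (hτV l s)),
      Lz_mul _ (hτV l t), Lz_mul _ (hτV l s), Lz_of_mem (hσmul s t)]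
  have hcalg : ∀ r, c (algebraMap R S r) =
      ι ⟨algebraMap R E r - σ (algebraMap R S r), hσalg r⟩ := by
    intro r
    funext l
    rw [hc, hι, ← Lz_of_mem (hσalg r)]
    apply Lz_eq_of_sub_mem_hyp (hτV l _) (hσalg r)
    convert hτalg l r using 1
    ring
  have hρadd : ∀ s t, ((ρ (c (s + t)) : ↥V) : E) =
      (ρ (c s) : ↥V) + (ρ (c t) : ↥V) + (σ s + σ t - σ (s + t)) := by
    intro s t
    rw [hcadd, map_add, map_add, hρι]
    rfl
  have hρmul : ∀ s t, ((ρ (c (s * t)) : ↥V) : E) =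
      σ s * (ρ (c t) : ↥V) + σ t * (ρ (c s) : ↥V) + (σ s * σ t - σ (s * t)) := by
    intro s t
    rw [hcmul, map_add, map_add, map_smul, map_smul, hρι, hsmul, hsmul]
    rfl
  have hρalg : ∀ r, ((ρ (c (algebraMap R S r)) : ↥V) : E) =
      algebraMap R E r - σ (algebraMap R S r) := by
    intro r
    rw [hcalg, hρι]
  obtain ⟨χ, hχ⟩ : ∃ χ : S → E, ∀ s, χ s = σ s + ((ρ (c s) : ↥V) : E) := ⟨_, fun _ => rfl⟩
  have hχadd : ∀ s t, χ (s + t) = χ s + χ t := by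
    intro s t
    rw [hχ, hχ, hχ, hρadd]
    ring
  have hχmul : ∀ s t, χ (s * t) = χ s * χ t := by
    intro s t
    rw [hχ, hχ, hχ, hρmul]
    have h0 : ((ρ (c s) : ↥V) : E) * ((ρ (c t) : ↥V) : E) = 0 :=
      hmV _ (hVm (ρ (c s)).2) _ (ρ (c t)).2
    linear_combination (-1 : E) * h0
  have hχalg : ∀ r, χ (algebraMap R S r) = algebraMap R E r := by
    intro r
    rw [hχ, hρalg]
    ring
  have hχ1 : χ 1 = 1 := by rw [← map_one (algebraMap R S), hχalg, map_one]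
  have hχ0 : χ 0 = 0 := by rw [← map_zero (algebraMap R S), hχalg, map_zero]
  refine ⟨{ toFun := χ, map_one' := hχ1, map_mul' := hχmul, map_zero' := hχ0,
            map_add' := hχadd, commutes' := hχalg }, ?_⟩
  intro s
  show Ideal.Quotient.mk V (χ s) = ψ s
  rw [hχ, map_add, hσ, Ideal.Quotient.eq_zero_iff_mem.mpr (ρ (c s)).2, add_zero]

end PT


section General

theorem residue_bijective_of_surjective {S B : Type*} [CommRing S] [CommRing B] [IsLocalRing S]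
    [IsLocalRing B] (f : S →+* B) [IsLocalHom f] (hf : Function.Surjective f) :
    Function.Bijective (ResidueField.map f) := by
  refine ⟨(ResidueField.map f).injective, ?_⟩
  intro x
  obtain ⟨b, rfl⟩ := IsLocalRing.residue_surjective x
  obtain ⟨s, rfl⟩ := hf b
  exact ⟨IsLocalRing.residue S s, ResidueField.map_residue f s⟩

theorem isLocalRing_quot {E : Type*} [CommRing E] [IsLocalRing E] (N : Ideal E)
    (hN : N ≤ maximalIdeal E) : IsLocalRing (E ⧸ N) := by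
  haveI : Nontrivial (E ⧸ N) := by
    rw [Ideal.Quotient.nontrivial_iff]
    intro h
    rw [h] at hN
    exact (maximalIdeal.isMaximal E).ne_top (top_le_iff.mp hN)
  exact IsLocalRing.of_surjective' (Ideal.Quotient.mk N) Ideal.Quotient.mk_surjective

theorem isLocalHom_mk {E : Type*} [CommRing E] [IsLocalRing E] (N : Ideal E)
    (hN : N ≤ maximalIdeal E) : IsLocalHom (Ideal.Quotient.mk N) :=
  isLocalHom_of_le_jacobson_bot N (by
    rw [IsLocalRing.jacobson_eq_maximalIdeal ⊥ bot_ne_top]; exact hN)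

theorem maximalIdeal_quot_le {E : Type*} [CommRing E] [IsLocalRing E] (N : Ideal E)
    [IsLocalRing (E ⧸ N)] :
    maximalIdeal (E ⧸ N) ≤ (maximalIdeal E).map (Ideal.Quotient.mk N) := by
  intro x hx
  obtain ⟨e, rfl⟩ := Ideal.Quotient.mk_surjective x
  apply Ideal.mem_map_of_mem
  rw [IsLocalRing.mem_maximalIdeal, mem_nonunits_iff] at hx ⊢
  exact fun he => hx (he.map _)

end General

section SE

variable {R S E : Type u} [CommRing R] [CommRing S] [CommRing E] [Algebra R S] [Algebra R E]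

/-- The small-extension lifting property (right-hand side of S9316). -/
def SmallLift (R S : Type u) [CommRing R] [CommRing S] [IsLocalRing R] [IsLocalRing S]
    [Algebra R S] : Prop :=
  ∀ (A : Type u) [CommRing A] [IsLocalRing A] [IsArtinianRing A] [Algebra R A]
    [IsLocalHom (algebraMap R A)] (J : Ideal A), J ^ 2 = ⊥ → Module.length A J = 1 →
    ∀ [IsLocalRing (A ⧸ J)] (ψ : S →ₐ[R] A ⧸ J) [IsLocalHom ψ.toRingHom],
      Function.Bijective (ResidueField.map ψ.toRingHom) →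
      ∃ χ : S →ₐ[R] A, (Ideal.Quotient.mkₐ R J).comp χ = ψ

theorem exists_lift_quot_of_simple [IsLocalRing R] [IsLocalRing S] [IsLocalRing E]
    [IsLocalHom (algebraMap R E)]
    (H3 : SmallLift R S) (V N : Ideal E) (hNV : N ≤ V)
    (hmV : ∀ a ∈ maximalIdeal E, ∀ v ∈ V, a * v = 0) (hVm : V ≤ maximalIdeal E)
    (hne : ∃ v ∈ V, v ∉ N) (hsimple : ∀ v ∈ V, v ∉ N → ∀ w ∈ V, ∃ e : E, w - e * v ∈ N)
    [IsArtinianRing (E ⧸ V)] (ψ : S →ₐ[R] E ⧸ V) (hψs : Function.Surjective ψ)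
    (hψl : ∀ s, IsUnit (ψ s) → IsUnit s) :
    ∃ χ : S →ₐ[R] E ⧸ N,
      ∀ s e, χ s = Ideal.Quotient.mk N e → ψ s = Ideal.Quotient.mk V e := by
  classical
  have hNm : N ≤ maximalIdeal E := hNV.trans hVm
  haveI : IsLocalRing (E ⧸ N) := isLocalRing_quot N hNm
  haveI : IsLocalRing (E ⧸ V) := isLocalRing_quot V hVm
  haveI hlocmk : IsLocalHom (Ideal.Quotient.mk N) := isLocalHom_mk N hNm
  haveI : IsLocalHom (algebraMap R (E ⧸ N)) :=
    (inferInstance : IsLocalHom ((Ideal.Quotient.mk N).comp (algebraMap R E)))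
  obtain ⟨J₁, hJ₁⟩ : ∃ J₁ : Ideal (E ⧸ N), J₁ = V.map (Ideal.Quotient.mkₐ R N) := ⟨_, rfl⟩
  have hmem : ∀ x : E ⧸ N, x ∈ J₁ ↔ ∃ v, v ∈ V ∧ Ideal.Quotient.mkₐ R N v = x := by
    intro x
    rw [hJ₁]
    exact Ideal.mem_map_iff_of_surjective (Ideal.Quotient.mkₐ R N)
      (Ideal.Quotient.mkₐ_surjective R N)
  have hV2 : V ^ 2 = ⊥ := by
    rw [eq_bot_iff, sq, Ideal.mul_le]
    intro a ha b hb
    rw [hmV a (hVm ha) b hb]
    exact Ideal.zero_mem _
  have hJ₁sq : J₁ ^ 2 = ⊥ := by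
    rw [hJ₁, ← Ideal.map_pow, hV2, Ideal.map_bot]
  have hsimp : IsSimpleModule (E ⧸ N) ↥J₁ := by
    rw [isSimpleModule_iff_toSpanSingleton_surjective]
    constructor
    · obtain ⟨v, hv, hvN⟩ := hne
      refine ⟨⟨⟨Ideal.Quotient.mk N v, (hmem _).mpr ⟨v, hv, rfl⟩⟩, 0, ?_⟩⟩
      intro h
      apply hvN
      have h1 : Ideal.Quotient.mk N v = 0 := congrArg Subtype.val h
      exact Ideal.Quotient.eq_zero_iff_mem.mp h1
    · intro x hx y
      obtain ⟨v, hv, hvx⟩ := (hmem x.1).mp x.2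
      obtain ⟨w, hw, hwy⟩ := (hmem y.1).mp y.2
      have hvN : v ∉ N := by
        intro h
        apply hx
        apply Subtype.ext
        rw [← hvx]
        exact Ideal.Quotient.eq_zero_iff_mem.mpr h
      obtain ⟨e, he⟩ := hsimple v hv hvN w hw
      refine ⟨Ideal.Quotient.mk N e, ?_⟩
      apply Subtype.ext
      show Ideal.Quotient.mk N e * x.1 = y.1
      rw [← hvx, ← hwy]
      have h1 : Ideal.Quotient.mk N w = Ideal.Quotient.mk N e * Ideal.Quotient.mk N v := by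
        rw [← map_mul]
        exact Ideal.Quotient.eq.mpr he
      exact h1.symm
  have hlen : Module.length (E ⧸ N) ↥J₁ = 1 := Module.length_eq_one_iff.mpr hsimp
  -- the double quotient
  obtain ⟨iso, hiso⟩ : ∃ iso : ((E ⧸ N) ⧸ J₁) ≃ₐ[R] E ⧸ V,
      ∀ e, iso (Ideal.Quotient.mk J₁ (Ideal.Quotient.mk N e)) = Ideal.Quotient.mk V e := by
    subst hJ₁
    exact ⟨DoubleQuot.quotQuotEquivQuotOfLEₐ R hNV, fun e => rfl⟩
  haveI : IsArtinianRing ((E ⧸ N) ⧸ J₁) := iso.symm.toRingEquiv.isArtinianRing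
  haveI : IsArtinian (E ⧸ N) ((E ⧸ N) ⧸ J₁) :=
    isArtinian_of_surjective_algebraMap (R := (E ⧸ N) ⧸ J₁) (M := (E ⧸ N) ⧸ J₁) (S := E ⧸ N)
      Ideal.Quotient.mk_surjective
  haveI : IsArtinian (E ⧸ N) ↥J₁ :=
    (isFiniteLength_iff_isNoetherian_isArtinian.mp
      (Module.length_ne_top_iff.mp (by rw [hlen]; exact ENat.one_ne_top))).2
  haveI : IsArtinianRing (E ⧸ N) :=
    isArtinian_of_range_eq_ker J₁.subtype J₁.mkQ (by
      rw [Submodule.range_subtype, Submodule.ker_mkQ])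
  haveI : Nontrivial ((E ⧸ N) ⧸ J₁) := iso.symm.injective.nontrivial
  haveI : IsLocalRing ((E ⧸ N) ⧸ J₁) :=
    IsLocalRing.of_surjective' (Ideal.Quotient.mk J₁) Ideal.Quotient.mk_surjective
  obtain ⟨ψl, hψl'⟩ : ∃ ψl : S →ₐ[R] (E ⧸ N) ⧸ J₁, ∀ s, iso (ψl s) = ψ s :=
    ⟨(iso.symm : (E ⧸ V) →ₐ[R] (E ⧸ N) ⧸ J₁).comp ψ, fun s => iso.apply_symm_apply (ψ s)⟩
  haveI : IsLocalHom ψl.toRingHom := ⟨fun s hs => hψl s (by
    have h1 : IsUnit (iso (ψl s)) := hs.map iso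
    rwa [hψl'] at h1)⟩
  have hsurj : Function.Surjective ψl.toRingHom := by
    intro y
    obtain ⟨s, hs⟩ := hψs (iso y)
    refine ⟨s, iso.injective ?_⟩
    rw [← hs]
    exact hψl' s
  have hbij : Function.Bijective (ResidueField.map ψl.toRingHom) :=
    residue_bijective_of_surjective ψl.toRingHom hsurj
  obtain ⟨χ, hχ⟩ := H3 (E ⧸ N) J₁ hJ₁sq hlen ψl hbij
  refine ⟨χ, fun s e hse => ?_⟩
  have h1 : (Ideal.Quotient.mkₐ R J₁) (χ s) = ψl s := AlgHom.congr_fun hχ s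
  rw [hse] at h1
  have h2 : iso (Ideal.Quotient.mk J₁ (Ideal.Quotient.mk N e)) = iso (ψl s) := congrArg iso h1
  rw [hψl', hiso] at h2
  exact h2.symm

theorem exists_lift_hyp [IsLocalRing R] [IsLocalRing S] [IsLocalRing E]
    [IsLocalHom (algebraMap R E)]
    (H3 : SmallLift R S) (V : Ideal E)
    (hmV : ∀ a ∈ maximalIdeal E, ∀ v ∈ V, a * v = 0) (hVm : V ≤ maximalIdeal E)
    [IsArtinianRing (E ⧸ V)] (ψ : S →ₐ[R] E ⧸ V) (hψs : Function.Surjective ψ)
    (hψl : ∀ s, IsUnit (ψ s) → IsUnit s)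
    (l : ↥V →ₗ[E] (E ⧸ maximalIdeal E)) (hl : l ≠ 0) :
    ∃ χ : S →ₐ[R] E ⧸ hyp V l,
      ∀ s e, χ s = Ideal.Quotient.mk _ e → ψ s = Ideal.Quotient.mk V e := by
  apply exists_lift_quot_of_simple H3 V (hyp V l) (hyp_le V l) hmV hVm ?_ ?_ ψ hψs hψl
  · by_contra hcon
    push_neg at hcon
    apply hl
    ext v
    obtain ⟨h, h0⟩ := mem_hyp.mp (hcon v.1 v.2)
    exact h0
  · intro v hv hvN w hw
    have hlv : l ⟨v, hv⟩ ≠ 0 := fun h => hvN (mem_hyp.mpr ⟨hv, h⟩)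
    obtain ⟨a, ha⟩ := Ideal.Quotient.mk_surjective (l ⟨v, hv⟩)
    obtain ⟨c, hc⟩ := Ideal.Quotient.mk_surjective (l ⟨w, hw⟩)
    have hau : IsUnit a := by
      by_contra hnu
      apply hlv
      rw [← ha]
      exact Ideal.Quotient.eq_zero_iff_mem.mpr ((IsLocalRing.mem_maximalIdeal a).mpr hnu)
    obtain ⟨b, hb⟩ := isUnit_iff_exists_inv.mp hau
    refine ⟨c * b, mem_hyp.mpr ⟨V.sub_mem hw (V.mul_mem_left _ hv), ?_⟩⟩
    rw [← Lz_of_mem (V.sub_mem hw (V.mul_mem_left _ hv)), Lz_sub hw (V.mul_mem_left _ hv),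
      Lz_mul _ hv, Lz_of_mem hw, Lz_of_mem hv, ← ha, ← hc, ← map_mul, ← map_sub]
    have h0 : c - c * b * a = 0 := by linear_combination (-c) * hb
    rw [h0, map_zero]

theorem exists_lift_of_smallLift [IsLocalRing R] [IsLocalRing S] [IsLocalRing E]
    [IsLocalHom (algebraMap R E)]
    (H3 : SmallLift R S) (V : Ideal E)
    (hmV : ∀ a ∈ maximalIdeal E, ∀ v ∈ V, a * v = 0) (hVm : V ≤ maximalIdeal E)
    [IsArtinianRing (E ⧸ V)] (ψ : S →ₐ[R] E ⧸ V) (hψs : Function.Surjective ψ)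
    (hψl : ∀ s, IsUnit (ψ s) → IsUnit s) :
    ∃ χ : S →ₐ[R] E, ∀ s, Ideal.Quotient.mk V (χ s) = ψ s :=
  exists_lift_of_hyperplanes V hmV hVm ψ
    (fun l hl => exists_lift_hyp H3 V hmV hVm ψ hψs hψl l hl)

end SE


section FP

theorem maximalIdeal_pow_quot {S : Type*} [CommRing S] [IsLocalRing S] (k : ℕ)
    [IsLocalRing (S ⧸ maximalIdeal S ^ k)] :
    maximalIdeal (S ⧸ maximalIdeal S ^ k) ^ k = ⊥ := by
  rw [eq_bot_iff]
  calc maximalIdeal (S ⧸ maximalIdeal S ^ k) ^ k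
      ≤ ((maximalIdeal S).map (Ideal.Quotient.mk (maximalIdeal S ^ k))) ^ k :=
        Ideal.pow_right_mono (maximalIdeal_quot_le _) k
    _ = (maximalIdeal S ^ k).map (Ideal.Quotient.mk (maximalIdeal S ^ k)) :=
        (Ideal.map_pow _ _ _).symm
    _ = ⊥ := Ideal.map_quotient_self _
    _ ≤ ⊥ := le_rfl

variable {R S : Type u} [CommRing R] [CommRing S] [Algebra R S]

/-- Elements over the maximal ideal of `S` kill the kernel of `π`. -/
def T1 {A' A'' : Type u} [CommRing A'] [CommRing A''] [Algebra R A'] [Algebra R A'']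
    [IsLocalRing S] (π : A' →ₐ[R] A'') (ψ : S →ₐ[R] A'') : Prop :=
  ∀ s ∈ maximalIdeal S, ∀ a : A', π a = ψ s → ∀ j ∈ RingHom.ker π, a * j = 0

theorem exists_lift_of_local {A' A'' : Type u} [CommRing A'] [CommRing A''] [Algebra R A']
    [Algebra R A''] [IsLocalRing R] [IsLocalRing S] [IsLocalHom (algebraMap R S)]
    (π : A' →ₐ[R] A'') (hπ : Function.Surjective π)
    (hsq : ∀ x ∈ RingHom.ker π, ∀ y ∈ RingHom.ker π, x * y = 0)
    (ψ : S →ₐ[R] A'') (k : ℕ) (hk0 : 0 < k) (hk : ∀ x ∈ maximalIdeal S ^ k, ψ x = 0)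
    (Hloc : ∀ (E : Type u) [CommRing E] [Algebra R E] [IsLocalRing E]
        [IsLocalHom (algebraMap R E)] (V : Ideal E), V ≤ maximalIdeal E →
        (∀ x ∈ V, ∀ y ∈ V, x * y = 0) → maximalIdeal E ^ (2 * k) = ⊥ →
        (T1 π ψ → ∀ a ∈ maximalIdeal E, ∀ v ∈ V, a * v = 0) →
        Nonempty ((E ⧸ V) ≃+* (S ⧸ maximalIdeal S ^ k)) →
        ∀ ψ' : S →ₐ[R] E ⧸ V, Function.Surjective ψ' → (∀ s, IsUnit (ψ' s) → IsUnit s) →
        ∃ χ' : S →ₐ[R] E, ∀ s, Ideal.Quotient.mk V (χ' s) = ψ' s) :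
    ∃ χ : S →ₐ[R] A', π.comp χ = ψ := by
  classical
  have hkm : maximalIdeal S ^ k ≤ maximalIdeal S := Ideal.pow_le_self hk0.ne'
  haveI : IsLocalRing (S ⧸ maximalIdeal S ^ k) := isLocalRing_quot _ hkm
  haveI : IsLocalHom (Ideal.Quotient.mk (maximalIdeal S ^ k)) := isLocalHom_mk _ hkm
  obtain ⟨ψb, hψb⟩ : ∃ ψb : (S ⧸ maximalIdeal S ^ k) →ₐ[R] A'',
      ∀ s, ψb (Ideal.Quotient.mk _ s) = ψ s :=
    ⟨Ideal.Quotient.liftₐ _ ψ hk, fun s => rfl⟩
  obtain ⟨Eq, hEq⟩ : ∃ Eq : Subalgebra R (A' × (S ⧸ maximalIdeal S ^ k)),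
      ∀ x, x ∈ Eq ↔ π x.1 = ψb x.2 :=
    ⟨AlgHom.equalizer (π.comp (AlgHom.fst R A' (S ⧸ maximalIdeal S ^ k)))
      (ψb.comp (AlgHom.snd R A' (S ⧸ maximalIdeal S ^ k))), fun x => Iff.rfl⟩
  obtain ⟨p₁, hp₁⟩ : ∃ p₁ : ↥Eq →ₐ[R] A', ∀ x, p₁ x = x.1.1 :=
    ⟨(AlgHom.fst R A' _).comp Eq.val, fun _ => rfl⟩
  obtain ⟨p₂, hp₂⟩ : ∃ p₂ : ↥Eq →ₐ[R] (S ⧸ maximalIdeal S ^ k), ∀ x, p₂ x = x.1.2 :=
    ⟨(AlgHom.snd R A' _).comp Eq.val, fun _ => rfl⟩
  have hcomm : ∀ x : ↥Eq, π (p₁ x) = ψb (p₂ x) := by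
    intro x
    rw [hp₁, hp₂]
    exact (hEq x.1).mp x.2
  have hp₂s : Function.Surjective p₂ := by
    intro t
    obtain ⟨a, ha⟩ := hπ (ψb t)
    exact ⟨⟨(a, t), (hEq _).mpr ha⟩, by rw [hp₂]⟩
  have hinj : ∀ x y : ↥Eq, p₁ x = p₁ y → p₂ x = p₂ y → x = y := by
    intro x y h1 h2
    rw [hp₁, hp₁] at h1
    rw [hp₂, hp₂] at h2
    exact Subtype.ext (Prod.ext h1 h2)
  obtain ⟨V, hV⟩ : ∃ V : Ideal ↥Eq, V = RingHom.ker p₂ := ⟨_, rfl⟩
  have hVmem : ∀ x, x ∈ V ↔ p₂ x = 0 := by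
    intro x
    rw [hV, RingHom.mem_ker]
  have hVker : ∀ x ∈ V, p₁ x ∈ RingHom.ker π := by
    intro x hx
    rw [RingHom.mem_ker, hcomm, (hVmem x).mp hx, map_zero]
  have hVV : ∀ x ∈ V, ∀ y ∈ V, x * y = 0 := by
    intro x hx y hy
    apply hinj
    · rw [map_mul, map_zero]
      exact hsq _ (hVker x hx) _ (hVker y hy)
    · rw [map_mul, map_zero, (hVmem x).mp hx, zero_mul]
  have hp₂u : ∀ x, IsUnit (p₂ x) → IsUnit x := by
    intro x hx
    obtain ⟨y', hy'⟩ := isUnit_iff_exists_inv.mp hx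
    obtain ⟨y, rfl⟩ := hp₂s y'
    have hv : x * y - 1 ∈ V := by
      rw [hVmem, map_sub, map_mul, map_one, hy', sub_self]
    have hvv := hVV _ hv _ hv
    apply isUnit_iff_exists_inv.mpr
    refine ⟨y * (2 - x * y), ?_⟩
    linear_combination (-1 : ↥Eq) * hvv
  haveI : IsLocalHom p₂.toRingHom := ⟨fun x hx => hp₂u x hx⟩
  haveI : IsLocalRing ↥Eq := RingHom.domain_isLocalRing p₂.toRingHom
  haveI : IsLocalHom (algebraMap R ↥Eq) := ⟨fun r hr => by
    have h1 : IsUnit (p₂ (algebraMap R ↥Eq r)) := hr.map p₂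
    rw [AlgHom.commutes] at h1
    have h2 : IsUnit (Ideal.Quotient.mk (maximalIdeal S ^ k) (algebraMap R S r)) := h1
    exact (isUnit_map_iff (algebraMap R S) r).mp
      ((isUnit_map_iff (Ideal.Quotient.mk (maximalIdeal S ^ k)) _).mp h2)⟩
  have hVm : V ≤ maximalIdeal ↥Eq := by
    intro x hx
    rw [IsLocalRing.mem_maximalIdeal, mem_nonunits_iff]
    intro hu
    have h1 := hu.map p₂
    rw [(hVmem x).mp hx] at h1
    exact not_isUnit_zero h1
  have hi : ∀ x ∈ maximalIdeal ↥Eq, p₂ x ∈ maximalIdeal (S ⧸ maximalIdeal S ^ k) := by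
    intro x hx
    rw [IsLocalRing.mem_maximalIdeal, mem_nonunits_iff] at hx ⊢
    exact fun h => hx (hp₂u x h)
  have hmk : maximalIdeal ↥Eq ^ k ≤ V := by
    intro x hx
    rw [hVmem]
    have h1 : p₂ x ∈ (maximalIdeal ↥Eq ^ k).map p₂ := Ideal.mem_map_of_mem _ hx
    rw [Ideal.map_pow] at h1
    have h2 : (maximalIdeal ↥Eq).map p₂ ≤ maximalIdeal (S ⧸ maximalIdeal S ^ k) :=
      Ideal.map_le_iff_le_comap.mpr (fun y hy => hi y hy)
    have h3 := Ideal.pow_right_mono h2 k h1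
    rw [maximalIdeal_pow_quot] at h3
    exact (Submodule.mem_bot _).mp h3
  have hm2k : maximalIdeal ↥Eq ^ (2 * k) = ⊥ := by
    rw [eq_bot_iff, pow_mul', sq]
    refine (Ideal.mul_mono hmk hmk).trans ?_
    rw [Ideal.mul_le]
    intro a ha b hb
    rw [hVV a ha b hb]
    exact Ideal.zero_mem _
  have hT1 : T1 π ψ → ∀ a ∈ maximalIdeal ↥Eq, ∀ v ∈ V, a * v = 0 := by
    intro hT a ha v hv
    have h1 := maximalIdeal_quot_le _ (hi a ha)
    obtain ⟨s, hs, hsa⟩ :=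
      (Ideal.mem_map_iff_of_surjective _ Ideal.Quotient.mk_surjective).mp h1
    apply hinj
    · rw [map_mul, map_zero]
      apply hT s hs (p₁ a) _ (p₁ v) (hVker v hv)
      rw [hcomm, ← hsa, hψb]
    · rw [map_mul, map_zero, (hVmem v).mp hv, mul_zero]
  obtain ⟨e, he⟩ : ∃ e : (↥Eq ⧸ V) ≃ₐ[R] (S ⧸ maximalIdeal S ^ k),
      ∀ x, e (Ideal.Quotient.mk V x) = p₂ x := by
    subst hV
    exact ⟨Ideal.quotientKerAlgEquivOfSurjective hp₂s, fun x => rfl⟩
  obtain ⟨ψ', hψ'⟩ : ∃ ψ' : S →ₐ[R] ↥Eq ⧸ V, ∀ s, e (ψ' s) = Ideal.Quotient.mk _ s :=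
    ⟨(e.symm : _ →ₐ[R] _).comp (Ideal.Quotient.mkₐ R (maximalIdeal S ^ k)),
      fun s => e.apply_symm_apply _⟩
  have hψ's : Function.Surjective ψ' := by
    intro y
    obtain ⟨s, hs⟩ := Ideal.Quotient.mk_surjective (e y)
    exact ⟨s, e.injective (by rw [hψ', hs])⟩
  have hψ'u : ∀ s, IsUnit (ψ' s) → IsUnit s := by
    intro s hs
    have h1 : IsUnit (e (ψ' s)) := hs.map e
    rw [hψ'] at h1
    exact (isUnit_map_iff (Ideal.Quotient.mk (maximalIdeal S ^ k)) s).mp h1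
  obtain ⟨χ', hχ'⟩ := Hloc ↥Eq V hVm hVV hm2k hT1 ⟨e.toRingEquiv⟩ ψ' hψ's hψ'u
  refine ⟨p₁.comp χ', AlgHom.ext fun s => ?_⟩
  have h1 : p₂ (χ' s) = Ideal.Quotient.mk _ s := by rw [← he, hχ', hψ']
  show π (p₁ (χ' s)) = ψ s
  rw [hcomm, h1, hψb]

end FP


section Main

theorem kills_pow_of_local {R S A : Type*} [CommRing R] [CommRing S] [CommRing A] [Algebra R S]
    [Algebra R A] [IsLocalRing S] [IsLocalRing A]
    (J : Ideal A) [IsLocalRing (A ⧸ J)] (n : ℕ) (hn : maximalIdeal A ^ n = ⊥)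
    (ψ : S →ₐ[R] A ⧸ J) [IsLocalHom ψ.toRingHom] : ∀ x ∈ maximalIdeal S ^ n, ψ x = 0 := by
  intro x hx
  have h1 : ψ x ∈ (maximalIdeal S ^ n).map ψ.toRingHom := Ideal.mem_map_of_mem ψ.toRingHom hx
  rw [Ideal.map_pow] at h1
  have h2 : (maximalIdeal S).map ψ.toRingHom ≤ maximalIdeal (A ⧸ J) :=
    Ideal.map_le_iff_le_comap.mpr (fun y hy => map_nonunit ψ.toRingHom y hy)
  have h3 := Ideal.pow_right_mono (h2.trans (maximalIdeal_quot_le J)) n h1
  rw [← Ideal.map_pow, hn, Ideal.map_bot] at h3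
  exact (Submodule.mem_bot _).mp h3

theorem exists_pow_maximalIdeal_eq_bot (A : Type*) [CommRing A] [IsLocalRing A]
    [IsArtinianRing A] : ∃ n : ℕ, maximalIdeal A ^ n = ⊥ := by
  have h := IsArtinianRing.isNilpotent_jacobson_bot (R := A)
  rw [IsLocalRing.jacobson_eq_maximalIdeal ⊥ bot_ne_top] at h
  exact h

theorem isArtinianRing_quot_pow {S : Type*} [CommRing S] [IsLocalRing S] [IsNoetherianRing S]
    (k : ℕ) (hk0 : 0 < k) : IsArtinianRing (S ⧸ maximalIdeal S ^ k) := by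
  haveI : IsLocalRing (S ⧸ maximalIdeal S ^ k) :=
    isLocalRing_quot _ (Ideal.pow_le_self hk0.ne')
  exact (isArtinianRing_iff_isNilpotent_maximalIdeal _).mpr ⟨k, maximalIdeal_pow_quot k⟩

variable {R S : Type u} [CommRing R] [CommRing S] [Algebra R S]

/-- The lifting property on the right-hand side of S9315. -/
def NilpLift (R S : Type u) [CommRing R] [CommRing S] [IsLocalRing R] [IsLocalRing S]
    [Algebra R S] : Prop :=
  ∀ (A : Type u) [CommRing A] [IsLocalRing A] [Algebra R A] [IsLocalHom (algebraMap R A)]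
    (J : Ideal A), J ^ 2 = ⊥ → (∃ n : ℕ, maximalIdeal A ^ n = ⊥) →
    ∀ [IsLocalRing (A ⧸ J)] (ψ : S →ₐ[R] A ⧸ J) [IsLocalHom ψ.toRingHom],
      Function.Bijective (ResidueField.map ψ.toRingHom) →
      ∃ χ : S →ₐ[R] A, (Ideal.Quotient.mkₐ R J).comp χ = ψ

theorem nilpLift_of_adic [IsLocalRing R] [IsLocalRing S]
    (h : CAlgX.IsAdicFormallySmooth R S (maximalIdeal S)) : NilpLift R S := by
  intro A _ _ _ _ J hJ hn _ ψ _ _
  obtain ⟨n, hn⟩ := hn
  exact h A J hJ ψ ⟨n, kills_pow_of_local J n hn ψ⟩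

theorem smallLift_of_adic [IsLocalRing R] [IsLocalRing S]
    (h : CAlgX.IsAdicFormallySmooth R S (maximalIdeal S)) : SmallLift R S := by
  intro A _ _ _ _ _ J hJ _ _ ψ _ _
  obtain ⟨n, hn⟩ := exists_pow_maximalIdeal_eq_bot A
  exact h A J hJ ψ ⟨n, kills_pow_of_local J n hn ψ⟩

theorem adic_of_nilpLift [IsLocalRing R] [IsLocalRing S] [IsLocalHom (algebraMap R S)]
    (H2 : NilpLift R S) : CAlgX.IsAdicFormallySmooth R S (maximalIdeal S) := by
  intro A _ _ J hJ ψ hk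
  obtain ⟨k, hk⟩ := hk
  have hk' : ∀ x ∈ maximalIdeal S ^ (k + 1), ψ x = 0 :=
    fun x hx => hk x (Ideal.pow_le_pow_right (Nat.le_succ k) hx)
  apply exists_lift_of_local (Ideal.Quotient.mkₐ R J) (Ideal.Quotient.mkₐ_surjective R J) ?_ ψ
    (k + 1) (Nat.succ_pos k) hk' ?_
  · intro x hx y hy
    have hx' : x ∈ J := Ideal.Quotient.eq_zero_iff_mem.mp (RingHom.mem_ker.mp hx)
    have hy' : y ∈ J := Ideal.Quotient.eq_zero_iff_mem.mp (RingHom.mem_ker.mp hy)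
    have h1 : x * y ∈ J ^ 2 := by rw [sq]; exact Ideal.mul_mem_mul hx' hy'
    rw [hJ] at h1
    exact (Submodule.mem_bot _).mp h1
  · intro E _ _ _ _ V hVm hVV hnil _ _ ψ' hψ's hψ'u
    haveI : IsLocalRing (E ⧸ V) := isLocalRing_quot V hVm
    haveI : IsLocalHom ψ'.toRingHom := ⟨fun s hs => hψ'u s hs⟩
    have hV2 : V ^ 2 = ⊥ := by
      rw [eq_bot_iff, sq, Ideal.mul_le]
      intro a ha b hb
      rw [hVV a ha b hb]
      exact Ideal.zero_mem _
    obtain ⟨χ', hχ'⟩ := H2 E V hV2 ⟨_, hnil⟩ ψ'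
      (residue_bijective_of_surjective ψ'.toRingHom hψ's)
    exact ⟨χ', fun s => AlgHom.congr_fun hχ' s⟩

/-- Filtration argument: lifting in the `T1` case implies adic formal smoothness. -/
theorem adic_of_T1_lift [IsLocalRing R] [IsLocalRing S]
    (HT1 : ∀ (A' A'' : Type u) [CommRing A'] [CommRing A''] [Algebra R A'] [Algebra R A'']
      (π : A' →ₐ[R] A''), Function.Surjective π →
      (∀ x ∈ RingHom.ker π, ∀ y ∈ RingHom.ker π, x * y = 0) → ∀ (ψ : S →ₐ[R] A'') (k : ℕ),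
      0 < k → (∀ x ∈ maximalIdeal S ^ k, ψ x = 0) → T1 π ψ →
      ∃ χ : S →ₐ[R] A', π.comp χ = ψ) :
    CAlgX.IsAdicFormallySmooth R S (maximalIdeal S) := by
  intro A _ _ J hJ ψ hk
  obtain ⟨k, hk⟩ := hk
  obtain ⟨K, hK⟩ : ∃ K : Ideal A, K = Ideal.comap (Ideal.Quotient.mk J)
      (Ideal.map ψ.toRingHom (maximalIdeal S)) := ⟨_, rfl⟩
  have hKmem : ∀ a, a ∈ K ↔
      Ideal.Quotient.mk J a ∈ Ideal.map ψ.toRingHom (maximalIdeal S) := by
    intro a
    rw [hK, Ideal.mem_comap]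
  have hJJ : ∀ a ∈ J, ∀ b ∈ J, a * b = 0 := by
    intro a ha b hb
    have h1 : a * b ∈ J ^ 2 := by rw [sq]; exact Ideal.mul_mem_mul ha hb
    rw [hJ] at h1
    exact (Submodule.mem_bot _).mp h1
  have hKk : K ^ (k + 1) ≤ J := by
    intro a ha
    rw [← Ideal.Quotient.eq_zero_iff_mem]
    have h1 : Ideal.Quotient.mk J a ∈ (K ^ (k + 1)).map (Ideal.Quotient.mk J) :=
      Ideal.mem_map_of_mem _ ha
    rw [Ideal.map_pow] at h1
    have h2 : K.map (Ideal.Quotient.mk J) ≤ Ideal.map ψ.toRingHom (maximalIdeal S) :=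
      Ideal.map_le_iff_le_comap.mpr (fun a ha => (hKmem a).mp ha)
    have h3 := Ideal.pow_right_mono h2 (k + 1) h1
    rw [← Ideal.map_pow] at h3
    have h4 : Ideal.map ψ.toRingHom (maximalIdeal S ^ (k + 1)) = ⊥ := by
      rw [eq_bot_iff, Ideal.map_le_iff_le_comap]
      intro x hx
      rw [Ideal.mem_comap]
      exact (Submodule.mem_bot _).mpr (hk x (Ideal.pow_le_pow_right (Nat.le_succ k) hx))
    rw [h4] at h3
    exact (Submodule.mem_bot _).mp h3
  have hK2n : K ^ (2 * (k + 1)) = ⊥ := by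
    rw [eq_bot_iff, pow_mul', sq]
    calc K ^ (k + 1) * K ^ (k + 1) ≤ J * J := Ideal.mul_mono hKk hKk
      _ = ⊥ := by rw [← sq, hJ]
  have hind : ∀ i : ℕ, ∃ χ : S →ₐ[R] A ⧸ (K ^ i * J),
      ∀ s a, χ s = Ideal.Quotient.mk _ a → ψ s = Ideal.Quotient.mk J a := by
    intro i
    induction i with
    | zero =>
      have h0 : K ^ 0 * J = J := by rw [pow_zero, one_mul]
      refine ⟨(Ideal.Quotient.factorₐ R (le_of_eq h0.symm)).comp ψ, ?_⟩
      intro s a hsa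
      obtain ⟨b, hb⟩ := Ideal.Quotient.mk_surjective (ψ s)
      have h1 : Ideal.Quotient.mk (K ^ 0 * J) b = Ideal.Quotient.mk (K ^ 0 * J) a := by
        rw [← hsa]
        show _ = Ideal.Quotient.factorₐ R (le_of_eq h0.symm) (ψ s)
        rw [← hb]
        rfl
      rw [← hb]
      have h2 := Ideal.Quotient.eq.mp h1
      rw [h0] at h2
      exact Ideal.Quotient.eq.mpr h2
    | succ i ih =>
      obtain ⟨χi, hχi⟩ := ih
      have hle : K ^ (i + 1) * J ≤ K ^ i * J := by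
        rw [pow_succ, mul_assoc]
        exact Ideal.mul_mono_right Ideal.mul_le_right
      obtain ⟨πi, hπi⟩ : ∃ πi : (A ⧸ (K ^ (i + 1) * J)) →ₐ[R] A ⧸ (K ^ i * J),
          ∀ a, πi (Ideal.Quotient.mk _ a) = Ideal.Quotient.mk _ a :=
        ⟨Ideal.Quotient.factorₐ R hle, fun a => rfl⟩
      have hπis : Function.Surjective πi := by
        intro x
        obtain ⟨a, rfl⟩ := Ideal.Quotient.mk_surjective x
        exact ⟨Ideal.Quotient.mk _ a, hπi a⟩
      have hχK : ∀ s ∈ maximalIdeal S, ∀ a, χi s = Ideal.Quotient.mk _ a → a ∈ K := by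
        intro s hs a hsa
        rw [hKmem, ← hχi s a hsa]
        exact Ideal.mem_map_of_mem ψ.toRingHom hs
      have hkill : ∀ x ∈ maximalIdeal S ^ (2 * (k + 1)), χi x = 0 := by
        intro x hx
        have h1 : χi x ∈ (maximalIdeal S ^ (2 * (k + 1))).map χi.toRingHom :=
          Ideal.mem_map_of_mem χi.toRingHom hx
        rw [Ideal.map_pow] at h1
        have h2 : (maximalIdeal S).map χi.toRingHom ≤
            K.map (Ideal.Quotient.mk (K ^ i * J)) := by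
          rw [Ideal.map_le_iff_le_comap]
          intro s hs
          rw [Ideal.mem_comap]
          obtain ⟨a, ha⟩ := Ideal.Quotient.mk_surjective (χi s)
          show χi s ∈ _
          rw [← ha]
          exact Ideal.mem_map_of_mem _ (hχK s hs a ha.symm)
        have h3 := Ideal.pow_right_mono h2 _ h1
        rw [← Ideal.map_pow, hK2n, Ideal.map_bot] at h3
        exact (Submodule.mem_bot _).mp h3
      have hker : ∀ x : A ⧸ (K ^ (i + 1) * J), x ∈ RingHom.ker πi →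
          ∃ a ∈ K ^ i * J, Ideal.Quotient.mk _ a = x := by
        intro x hx
        obtain ⟨a, rfl⟩ := Ideal.Quotient.mk_surjective x
        refine ⟨a, ?_, rfl⟩
        have h1 := RingHom.mem_ker.mp hx
        rw [hπi] at h1
        exact Ideal.Quotient.eq_zero_iff_mem.mp h1
      have hIJ : K ^ i * J ≤ J := Ideal.mul_le_right
      have hsqi : ∀ x ∈ RingHom.ker πi, ∀ y ∈ RingHom.ker πi, x * y = 0 := by
        intro x hx y hy
        obtain ⟨a, ha, rfl⟩ := hker x hx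
        obtain ⟨b, hb, rfl⟩ := hker y hy
        rw [← map_mul, hJJ a (hIJ ha) b (hIJ hb), map_zero]
      have hT1 : T1 πi χi := by
        intro s hs a' ha' j hj
        obtain ⟨a, rfl⟩ := Ideal.Quotient.mk_surjective a'
        obtain ⟨b, hb, rfl⟩ := hker j hj
        rw [hπi] at ha'
        have haK : a ∈ K := hχK s hs a ha'.symm
        rw [← map_mul, Ideal.Quotient.eq_zero_iff_mem, pow_succ', mul_assoc]
        exact Ideal.mul_mem_mul haK hb
      obtain ⟨χ', hχ'⟩ := HT1 _ _ πi hπis hsqi χi (2 * (k + 1)) (by omega) hkill hT1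
      refine ⟨χ', fun s a hsa => ?_⟩
      apply hχi s a
      have h1 : πi (χ' s) = χi s := AlgHom.congr_fun hχ' s
      rw [← h1, hsa, hπi]
  obtain ⟨χn, hχn⟩ := hind (k + 1)
  have hbot : K ^ (k + 1) * J = ⊥ := by
    rw [eq_bot_iff]
    calc K ^ (k + 1) * J ≤ J * J := Ideal.mul_mono_left hKk
      _ = ⊥ := by rw [← sq, hJ]
  have hq : ∀ a ∈ K ^ (k + 1) * J, (AlgHom.id R A) a = 0 := by
    intro a ha
    rw [hbot] at ha
    exact (Submodule.mem_bot _).mp ha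
  refine ⟨(Ideal.Quotient.liftₐ _ (AlgHom.id R A) hq).comp χn, AlgHom.ext fun s => ?_⟩
  obtain ⟨a, ha⟩ := Ideal.Quotient.mk_surjective (χn s)
  show Ideal.Quotient.mk J (Ideal.Quotient.liftₐ _ (AlgHom.id R A) hq (χn s)) = ψ s
  rw [← ha, hχn s a ha.symm]
  rfl

theorem adic_of_smallLift [IsLocalRing R] [IsLocalRing S] [IsNoetherianRing S]
    [IsLocalHom (algebraMap R S)]
    (H3 : SmallLift R S) : CAlgX.IsAdicFormallySmooth R S (maximalIdeal S) := by
  apply adic_of_T1_lift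
  intro A' A'' _ _ _ _ π hπ hsq ψ k hk0 hk hT1
  apply exists_lift_of_local π hπ hsq ψ k hk0 hk
  intro E _ _ _ _ V hVm hVV _ hmV e ψ' hψ's hψ'u
  obtain ⟨e⟩ := e
  haveI : IsArtinianRing (S ⧸ maximalIdeal S ^ k) := isArtinianRing_quot_pow k hk0
  haveI : IsArtinianRing (E ⧸ V) := e.symm.isArtinianRing
  exact exists_lift_of_smallLift H3 V (hmV hT1) hVm ψ' hψ's hψ'u

end Main

end Groth.Agent.Lib.Helper15.SmallExt
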