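import Mathlib
import Groth.Prelude.Def_ARSys

/-!
# Helper15: exact linear functors and projective systems up to translation

An additive exact functor `G` preserves null systems and AR-isomorphisms; if moreover it is linear
over a Noetherian ring `A`, it preserves universal quotients modulo (finitely generated) ideals,
hence adic systems and AR-adic systems.
-/

set_option autoImplicit false
set_option backward.isDefEq.respectTransparency false

universe w v v' u u'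

open CategoryTheory CategoryTheory.Limits Opposite

namespace Helper15.ARFun

open ARSys

section Null

variable {C : Type u} [Category.{v} C] {D : Type u'} [Category.{v'} D]

theorem isARNull_comp [HasZeroMorphisms C] [HasZeroMorphisms D] (G : C ⥤ D)
    [G.PreservesZeroMorphisms] {K : PS C} (h : IsARNull K) : IsARNull (K ⋙ G) := by
  obtain ⟨r, hr⟩ := h
  refine ⟨r, fun n => ?_⟩
  have h1 : K.map (homOfLE (Nat.le_add_right n r)).op = 0 := hr n
  show G.map (K.map (homOfLE (Nat.le_add_right n r)).op) = 0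
  rw [h1, G.map_zero]

theorem isARNull_of_iso [HasZeroMorphisms C] {K K' : PS C} (e : K ≅ K') (h : IsARNull K) :
    IsARNull K' := by
  obtain ⟨r, hr⟩ := h
  refine ⟨r, fun n => ?_⟩
  have h1 : K.map (homOfLE (Nat.le_add_right n r)).op = 0 := hr n
  have h2 := e.hom.naturality (homOfLE (Nat.le_add_right n r)).op
  rw [h1, zero_comp] at h2
  show K'.map (homOfLE (Nat.le_add_right n r)).op = 0
  exact (cancel_epi (e.hom.app (op (n + r)))).1 (h2.symm.trans comp_zero.symm)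

end Null

section Iso

variable {C : Type u} [Category.{v} C] [Abelian C] {D : Type u'} [Category.{v'} D] [Abelian D]
  (G : C ⥤ D) [G.Additive] [PreservesFiniteLimits G] [PreservesFiniteColimits G]

theorem isARIso_whisker {X Y : PS C} (φ : X ⟶ Y) (h : IsARIso φ) :
    IsARIso (Functor.whiskerRight φ G) := by
  obtain ⟨hk, hc⟩ := h
  constructor
  · exact isARNull_of_iso (PreservesKernel.iso ((Functor.whiskeringRight ℕᵒᵖ C D).obj G) φ)
      (isARNull_comp G hk)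
  · exact isARNull_of_iso (PreservesCokernel.iso ((Functor.whiskeringRight ℕᵒᵖ C D).obj G) φ)
      (isARNull_comp G hc)

end Iso

section Quot

variable {A : Type w} [CommRing A] {C : Type u} [Category.{v} C] [Preadditive C] [Linear A C]

theorem homKilledBy_of_src {I : Ideal A} {Q Y : C} (hQ : KilledBy I Q) (ψ : Q ⟶ Y) :
    HomKilledBy I ψ := by
  intro a ha
  have h : a • ψ = (a • 𝟙 Q) ≫ ψ := by rw [Linear.smul_comp, Category.id_comp]
  rw [h, hQ a ha, zero_comp]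

theorem homKilledBy_of_tgt {I : Ideal A} {X Q : C} (hQ : KilledBy I Q) (p : X ⟶ Q) :
    HomKilledBy I p := by
  intro a ha
  have h : a • p = p ≫ (a • 𝟙 Q) := by rw [Linear.comp_smul, Category.comp_id]
  rw [h, hQ a ha, comp_zero]

theorem isQuot_epi {I : Ideal A} {X Q : C} {p : X ⟶ Q} (h : IsQuot I p) : Epi p := by
  constructor
  intro Z g g' hgg
  have hk : HomKilledBy I (p ≫ g) := fun a ha => by
    rw [← Linear.comp_smul, homKilledBy_of_src h.1 g a ha, comp_zero]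
  obtain ⟨ψ, _, hu⟩ := h.2 Z (p ≫ g) hk
  exact (hu g rfl).trans (hu g' hgg.symm).symm

theorem isQuot_mk {I : Ideal A} {X Q : C} (p : X ⟶ Q) [Epi p] (hQ : KilledBy I Q)
    (hex : ∀ (Y : C) (φ : X ⟶ Y), HomKilledBy I φ → ∃ ψ : Q ⟶ Y, p ≫ ψ = φ) : IsQuot I p :=
  ⟨hQ, fun Y φ hφ => by
    obtain ⟨ψ, hψ⟩ := hex Y φ hφ
    exact ⟨ψ, hψ, fun ψ' hψ' => (cancel_epi p).1 (hψ'.trans hψ.symm)⟩⟩

theorem isQuot_unique {I : Ideal A} {X Q Q' : C} {p : X ⟶ Q} {p' : X ⟶ Q'}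
    (h : IsQuot I p) (h' : IsQuot I p') : ∃ e : Q ≅ Q', p ≫ e.hom = p' := by
  have := isQuot_epi h
  have := isQuot_epi h'
  obtain ⟨ψ, hψ, -⟩ := h.2 Q' p' (homKilledBy_of_tgt h'.1 p')
  obtain ⟨ψ', hψ', -⟩ := h'.2 Q p (homKilledBy_of_tgt h.1 p)
  refine ⟨⟨ψ, ψ', ?_, ?_⟩, hψ⟩
  · exact (cancel_epi p).1 (by rw [← Category.assoc, hψ, hψ', Category.comp_id])
  · exact (cancel_epi p').1 (by rw [← Category.assoc, hψ', hψ, Category.comp_id])

theorem killedBy_of_iso {I : Ideal A} {Q Q' : C} (e : Q ≅ Q') (h : KilledBy I Q) :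
    KilledBy I Q' := by
  intro a ha
  have h1 : a • 𝟙 Q' = e.inv ≫ (a • 𝟙 Q) ≫ e.hom := by
    rw [Linear.smul_comp, Linear.comp_smul, Category.id_comp, e.inv_hom_id]
  rw [h1, h a ha, zero_comp, comp_zero]

theorem isQuot_comp_iso {I : Ideal A} {X Q Q' : C} {p : X ⟶ Q} (h : IsQuot I p) (e : Q ≅ Q') :
    IsQuot I (p ≫ e.hom) := by
  have := isQuot_epi h
  refine isQuot_mk _ (killedBy_of_iso e h.1) (fun Y φ hφ => ?_)
  obtain ⟨ψ, hψ, -⟩ := h.2 Y φ hφ
  exact ⟨e.inv ≫ ψ, by rw [Category.assoc, e.hom_inv_id_assoc, hψ]⟩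

theorem isQuot_comp {I₁ I₂ : Ideal A} {X Q₁ Q₂ : C} {p₁ : X ⟶ Q₁} {p₂ : Q₁ ⟶ Q₂}
    (h₁ : IsQuot I₁ p₁) (h₂ : IsQuot I₂ p₂) : IsQuot (I₁ ⊔ I₂) (p₁ ≫ p₂) := by
  have := isQuot_epi h₁
  have := isQuot_epi h₂
  refine isQuot_mk _ ?_ (fun Y φ hφ => ?_)
  · intro a ha
    obtain ⟨a₁, ha₁, a₂, ha₂, rfl⟩ := Submodule.mem_sup.1 ha
    have e1 : a₁ • 𝟙 Q₂ = 0 := by
      apply (cancel_epi p₂).1
      rw [comp_zero, Linear.comp_smul, Category.comp_id]
      have : a₁ • p₂ = (a₁ • 𝟙 Q₁) ≫ p₂ := by rw [Linear.smul_comp, Category.id_comp]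
      rw [this, h₁.1 a₁ ha₁, zero_comp]
    rw [add_smul, e1, h₂.1 a₂ ha₂, add_zero]
  · have hφ₁ : HomKilledBy I₁ φ := fun a ha => hφ a (Submodule.mem_sup_left ha)
    obtain ⟨ψ₁, hψ₁, -⟩ := h₁.2 Y φ hφ₁
    have hψ₁k : HomKilledBy I₂ ψ₁ := by
      intro a ha
      apply (cancel_epi p₁).1
      rw [comp_zero, Linear.comp_smul, hψ₁]
      exact hφ a (Submodule.mem_sup_right ha)
    obtain ⟨ψ₂, hψ₂, -⟩ := h₂.2 Y ψ₁ hψ₁k
    exact ⟨ψ₂, by rw [Category.assoc, hψ₂, hψ₁]⟩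

theorem isQuot_cokernel {X : C} (f : X ⟶ X) (a : A) (hf : f = a • 𝟙 X) [HasCokernel f] :
    IsQuot (Ideal.span {a}) (cokernel.π f) := by
  have hπ : HomKilledBy (Ideal.span {a}) (cokernel.π f) := by
    intro b hb
    obtain ⟨c, rfl⟩ := Ideal.mem_span_singleton'.1 hb
    have h1 : a • cokernel.π f = 0 := by
      have h2 : a • cokernel.π f = (a • 𝟙 X) ≫ cokernel.π f := by
        rw [Linear.smul_comp, Category.id_comp]
      have h3 : (a • 𝟙 X) ≫ cokernel.π f = f ≫ cokernel.π f := by rw [← hf]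
      rw [h2, h3, cokernel.condition]
    rw [mul_smul, h1, smul_zero]
  refine isQuot_mk _ ?_ (fun Y φ hφ => ?_)
  · intro b hb
    apply (cancel_epi (cokernel.π f)).1
    rw [comp_zero, Linear.comp_smul, Category.comp_id]
    exact hπ b hb
  · have h0 : f ≫ φ = 0 := by
      rw [hf, Linear.smul_comp, Category.id_comp]
      exact hφ a (Ideal.mem_span_singleton_self a)
    exact ⟨cokernel.desc f φ h0, cokernel.π_desc f φ h0⟩

end Quot

section Pres

variable {A : Type w} [CommRing A] {C : Type u} [Category.{v} C] [Abelian C] [Linear A C]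
  {D : Type u'} [Category.{v'} D] [Abelian D] [Linear A D]
  (G : C ⥤ D) [G.Additive] [G.Linear A] [PreservesFiniteColimits G]

/-- Quotients modulo `I` exist in `C` and are preserved by `G`. -/
def Pres (I : Ideal A) : Prop :=
  (∀ X : C, ∃ (Q : C) (p : X ⟶ Q), IsQuot I p) ∧
    ∀ (X Q : C) (p : X ⟶ Q), IsQuot I p → IsQuot I (G.map p)

theorem pres_span (a : A) : Pres G (Ideal.span {a}) := by
  refine ⟨fun X => ⟨_, cokernel.π (a • 𝟙 X), isQuot_cokernel _ a rfl⟩, fun X Q p h => ?_⟩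
  obtain ⟨f, hf⟩ : ∃ f : X ⟶ X, f = a • 𝟙 X := ⟨_, rfl⟩
  obtain ⟨e, he⟩ := isQuot_unique (isQuot_cokernel f a hf) h
  have hGf : G.map f = a • 𝟙 (G.obj X) := by rw [hf, G.map_smul, G.map_id]
  have h1 := isQuot_cokernel (G.map f) a hGf
  have h2 := isQuot_comp_iso h1 (asIso (cokernelComparison f G) ≪≫ G.mapIso e)
  have h3 : cokernel.π (G.map f) ≫ (asIso (cokernelComparison f G) ≪≫ G.mapIso e).hom =
      G.map p := by
    rw [Iso.trans_hom, asIso_hom, Functor.mapIso_hom, ← Category.assoc,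
      π_comp_cokernelComparison, ← G.map_comp, he]
  rwa [h3] at h2

theorem pres_sup {I₁ I₂ : Ideal A} (h₁ : Pres G I₁) (h₂ : Pres G I₂) : Pres G (I₁ ⊔ I₂) := by
  have hex : ∀ X : C, ∃ (Q₁ Q₂ : C) (p₁ : X ⟶ Q₁) (p₂ : Q₁ ⟶ Q₂),
      IsQuot I₁ p₁ ∧ IsQuot I₂ p₂ := by
    intro X
    obtain ⟨Q₁, p₁, hp₁⟩ := h₁.1 X
    obtain ⟨Q₂, p₂, hp₂⟩ := h₂.1 Q₁
    exact ⟨Q₁, Q₂, p₁, p₂, hp₁, hp₂⟩
  refine ⟨fun X => ?_, fun X Q p h => ?_⟩
  · obtain ⟨Q₁, Q₂, p₁, p₂, hp₁, hp₂⟩ := hex X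
    exact ⟨Q₂, p₁ ≫ p₂, isQuot_comp hp₁ hp₂⟩
  · obtain ⟨Q₁, Q₂, p₁, p₂, hp₁, hp₂⟩ := hex X
    obtain ⟨e, he⟩ := isQuot_unique (isQuot_comp hp₁ hp₂) h
    have h3 := isQuot_comp_iso (isQuot_comp (h₁.2 _ _ _ hp₁) (h₂.2 _ _ _ hp₂)) (G.mapIso e)
    have h4 : (G.map p₁ ≫ G.map p₂) ≫ (G.mapIso e).hom = G.map p := by
      rw [Functor.mapIso_hom, ← G.map_comp, ← G.map_comp, he]
    rwa [h4] at h3

theorem isQuot_map {I : Ideal A} (hI : I.FG) {X Q : C} {p : X ⟶ Q} (h : IsQuot I p) :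
    IsQuot I (G.map p) :=
  (Submodule.fg_induction (motive := fun N _ => Pres G N) (fun a => pres_span G a)
    (fun _ _ _ _ h₁ h₂ => pres_sup G h₁ h₂) I hI).2 X Q p h

theorem killedBy_map {I : Ideal A} {X : C} (h : KilledBy I X) : KilledBy I (G.obj X) := by
  intro a ha
  rw [← G.map_id, ← G.map_smul, h a ha, G.map_zero]

theorem termKilled_comp {J : Ideal A} {F : PS C} (h : TermKilled J F) : TermKilled J (F ⋙ G) :=
  fun n => killedBy_map G (h n)

theorem isAdic_comp [IsNoetherianRing A] {J : Ideal A} {Y : PS C} (h : IsAdic J Y) :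
    IsAdic J (Y ⋙ G) :=
  ⟨termKilled_comp G h.1, fun n m hnm => isQuot_map G (IsNoetherian.noetherian _) (h.2 n m hnm)⟩

theorem arAdic_comp [IsNoetherianRing A] [PreservesFiniteLimits G] (J : Ideal A) (F : PS C)
    (PC : C → Prop) (PD : D → Prop) (hP : ∀ X, PC X → PD (G.obj X))
    (hF : TermKilled J F ∧ ∃ (Y : PS C) (v : Y ⟶ F), IsAdic J Y ∧
      (∀ n : ℕ, PC (Y.obj (op n))) ∧ IsARIso v) :
    TermKilled J (F ⋙ G) ∧ ∃ (Y : PS D) (v : Y ⟶ F ⋙ G), IsAdic J Y ∧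
      (∀ n : ℕ, PD (Y.obj (op n))) ∧ IsARIso v := by
  obtain ⟨hk, Y, v, hY, hc, hv⟩ := hF
  exact ⟨termKilled_comp G hk, Y ⋙ G, Functor.whiskerRight v G, isAdic_comp G hY,
    fun n => hP _ (hc n), isARIso_whisker G v hv⟩

end Pres

end Helper15.ARFun
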