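import Mathlib
import Groth.Prelude.Def_EtBase
import Groth.Prelude.Def_EtRestW
import Groth.Prelude.Def_EtMod2

set_option autoImplicit false
set_option backward.isDefEq.respectTransparency false

universe u

open CategoryTheory CategoryTheory.Limits AlgebraicGeometry Opposite

namespace Helper15.BcOver

section Abstract

universe v₁ u₁ v₂ u₂ w w'

variable {C : Type u₁} [Category.{v₁} C] {D : Type u₂} [Category.{v₂} D]
variable (G : C ⥤ D)

section Site

variable [HasBinaryProducts C] [HasBinaryProducts D]
  [∀ U V : C, PreservesLimit (pair U V) G]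

lemma star_hom (U V : C) : ((Over.star U).obj V).hom = (prod.fst : U ⨯ V ⟶ U) :=
  (Over.star_obj_hom U V).trans (prod.lift_fst _ _)

/-- `G(U × V) → G(U)` is `G(U) × G(V) → G(U)`, naturally in `V`. -/
noncomputable def starPostIso (U : C) :
    Over.star U ⋙ Over.post G ≅ G ⋙ Over.star (G.obj U) :=
  NatIso.ofComponents
    (fun V => Over.isoMk (PreservesLimitPair.iso G U V) (by
      rw [PreservesLimitPair.iso_hom]
      exact (congrArg (fun t => prodComparison G U V ≫ t) (star_hom (G.obj U) (G.obj V))).trans
        ((prodComparison_fst G U V).trans (congrArg G.map (star_hom U V)).symm)))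
    (by
      intro V V' g
      ext
      refine Eq.trans (b := G.map (prod.map (𝟙 U) g) ≫ prodComparison G U V') rfl
        (Eq.trans (prodComparison_natural G (𝟙 U) g) ?_)
      rw [G.map_id]
      rfl)

end Site

section Sheaves

variable [HasBinaryProducts C] [HasBinaryProducts D]
  [∀ U V : C, PreservesLimit (pair U V) G]
variable (J : GrothendieckTopology C) (K : GrothendieckTopology D)
  (A : Type w) [Category.{w'} A]
  [G.IsContinuous J K]
  (U : C) [(Over.post (X := U) G).IsContinuous (J.over U) (K.over (G.obj U))]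

/-- The two composite "right adjoints" agree. -/
noncomputable def rightIso :
    (Over.star (G.obj U)).sheafPushforwardContinuous A K (K.over (G.obj U)) ⋙
        G.sheafPushforwardContinuous A J K ≅
    (Over.post (X := U) G).sheafPushforwardContinuous A (J.over U) (K.over (G.obj U)) ⋙
        (Over.star U).sheafPushforwardContinuous A J (J.over U) := by
  haveI : (Over.star U ⋙ Over.post G).IsContinuous J (K.over (G.obj U)) :=
    Functor.isContinuous_comp (Over.star U) (Over.post G) J (J.over U) (K.over (G.obj U))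
  exact Functor.sheafPushforwardContinuousComp' (F := G) (G := Over.star (G.obj U))
      (FG := Over.star U ⋙ Over.post G) (starPostIso G U).symm A J K (K.over (G.obj U)) ≪≫
    (Functor.sheafPushforwardContinuousComp (Over.star U) (Over.post G) A J (J.over U)
      (K.over (G.obj U))).symm

variable [(G.sheafPushforwardContinuous A J K).IsRightAdjoint]
  [((Over.post (X := U) G).sheafPushforwardContinuous A (J.over U)
    (K.over (G.obj U))).IsRightAdjoint]

/-- Restriction to `G(U)` of the pullback is the (over-site) pullback of the restriction to `U`. -/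
noncomputable def overIso :
    G.sheafPullback A J K ⋙ K.overPullback A (G.obj U) ≅
    J.overPullback A U ⋙
      (Over.post (X := U) G).sheafPullback A (J.over U) (K.over (G.obj U)) :=
  Adjunction.leftAdjointUniq
    ((G.sheafAdjunctionContinuous A J K).comp
      ((Over.forgetAdjStar (G.obj U)).sheafPushforwardContinuous (E := A) (K.over (G.obj U)) K))
    ((((Over.forgetAdjStar U).sheafPushforwardContinuous (E := A) (J.over U) J).comp
      ((Over.post (X := U) G).sheafAdjunctionContinuous A (J.over U)
        (K.over (G.obj U)))).ofNatIsoRight (rightIso G J K A U).symm)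

/-- The image under `Over.post G` of the terminal object of `Over U` is terminal. -/
noncomputable def postTerminal : IsTerminal ((Over.post (X := U) G).obj (Over.mk (𝟙 U))) :=
  IsTerminal.ofIso Over.mkIdTerminal (Over.isoMk (Iso.refl _) (by
    show 𝟙 _ ≫ G.map (𝟙 U) = 𝟙 _
    rw [G.map_id, Category.id_comp]))

variable [HasWeakSheafify (J.over U) A] [HasWeakSheafify (K.over (G.obj U)) A]

/-- Over-site pullback sends constant sheaves to constant sheaves. -/
noncomputable def constIso :
    constantSheaf (J.over U) A ⋙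
      (Over.post (X := U) G).sheafPullback A (J.over U) (K.over (G.obj U)) ≅
    constantSheaf (K.over (G.obj U)) A :=
  Adjunction.leftAdjointUniq
    ((constantSheafAdj (J.over U) A (Over.mkIdTerminal (X := U))).comp
      ((Over.post (X := U) G).sheafAdjunctionContinuous A (J.over U) (K.over (G.obj U))))
    ((constantSheafAdj (K.over (G.obj U)) A (postTerminal G U)).ofNatIsoRight
      (NatIso.ofComponents (fun _ => Iso.refl _) (by
        intro X Y f
        exact (Category.comp_id _).trans (Category.id_comp _).symm)))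

/-- Main abstract statement: if `F|_U` is constant with value `M` then `(G^* F)|_{G(U)}` is
constant with value `M`. -/
noncomputable def constOverIso (F : Sheaf J A) (M : A)
    (e : F.over U ≅ (constantSheaf (J.over U) A).obj M) :
    ((G.sheafPullback A J K).obj F).over (G.obj U) ≅
      (constantSheaf (K.over (G.obj U)) A).obj M :=
  (overIso G J K A U).app F ≪≫
    ((Over.post (X := U) G).sheafPullback A (J.over U) (K.over (G.obj U))).mapIso e ≪≫
    (constIso G J K A U).app M

end Sheaves

end Abstract

section Concrete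

variable {X Y : Scheme.{u}} (f : X ⟶ Y)

instance overPost_bc_flat (U : Y.Etale) :
    RepresentablyFlat (Over.post (X := U) (EtCoh.bc f)) := by
  haveI : HasFiniteLimits (Over U) := inferInstance
  haveI : PreservesFiniteLimits (Over.post (X := U) (EtCoh.bc f)) := inferInstance
  exact flat_of_preservesFiniteLimits _

instance overPost_bc_continuous (U : Y.Etale) :
    (Over.post (X := U) (EtCoh.bc f)).IsContinuous
      (Y.smallEtaleTopology.over U) (X.smallEtaleTopology.over ((EtCoh.bc f).obj U)) :=
  Functor.isContinuous_of_coverPreserving (compatiblePreservingOfFlat _ _)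
    ((EtCoh.coverPreserving_bc f).overPost U)

theorem covers_bc {ι : Type u} {U : ι → Y.Etale} (hU : EtCoh.Covers U) :
    EtCoh.Covers (fun i => (EtCoh.bc f).obj (U i)) := by
  intro x
  obtain ⟨i, y, hy⟩ := hU (f.base x)
  obtain ⟨z, hz1, hz2⟩ :=
    Scheme.Pullback.exists_preimage_pullback (f := (U i).hom) (g := f) y x hy
  exact ⟨i, z, hz2⟩

theorem lc_pull (G : EtCoh.Ab Y) (h : EtRest.IsLocallyConstant G) :
    EtRest.IsLocallyConstant ((EtCoh.pull f).obj G) := by
  obtain ⟨ι, U, hU, hc⟩ := h
  refine ⟨ι, fun i => (EtCoh.bc f).obj (U i), covers_bc f hU, fun i => ?_⟩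
  obtain ⟨M, inst, ⟨e⟩⟩ := hc i
  exact ⟨M, inst, ⟨constOverIso (EtCoh.bc f) Y.smallEtaleTopology X.smallEtaleTopology
    AddCommGrpCat.{u+1} (U i) G _ e⟩⟩

theorem flc_pull (G : EtCoh.Ab Y) (h : EtCoh.IsFiniteLocallyConstant G) :
    EtCoh.IsFiniteLocallyConstant ((EtCoh.pull f).obj G) := by
  obtain ⟨ι, U, hU, hc⟩ := h
  refine ⟨ι, fun i => (EtCoh.bc f).obj (U i), covers_bc f hU, fun i => ?_⟩
  obtain ⟨M, inst, hfin, ⟨e⟩⟩ := hc i
  exact ⟨M, inst, hfin, ⟨constOverIso (EtCoh.bc f) Y.smallEtaleTopology X.smallEtaleTopology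
    AddCommGrpCat.{u+1} (U i) G _ e⟩⟩

theorem ft_pull (Λ : Type (u + 1)) [CommRing Λ] (G : EtModW.Mod Λ Y)
    (h : EtModW.IsFTLocConst Λ G) : EtModW.IsFTLocConst Λ ((EtModW.pull Λ f).obj G) := by
  obtain ⟨ι, U, hU, hc⟩ := h
  refine ⟨ι, fun i => (EtCoh.bc f).obj (U i), covers_bc f hU, fun i => ?_⟩
  obtain ⟨M, inst, inst2, hfin, ⟨e⟩⟩ := hc i
  exact ⟨M, inst, inst2, hfin, ⟨constOverIso (EtCoh.bc f) Y.smallEtaleTopology
    X.smallEtaleTopology (ModuleCat.{u+1} Λ) (U i) G _ e⟩⟩

theorem S6642 :
    (∀ G : EtCoh.Ab Y, EtRest.IsLocallyConstant G → EtRest.IsLocallyConstant ((EtCoh.pull f).obj G)) ∧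
    (∀ G : EtCoh.Ab Y, EtCoh.IsFiniteLocallyConstant G → EtCoh.IsFiniteLocallyConstant ((EtCoh.pull f).obj G)) ∧
    (∀ (Λ : Type (u + 1)) [CommRing Λ] (G : EtModW.Mod Λ Y),
      EtModW.IsFTLocConst Λ G → EtModW.IsFTLocConst Λ ((EtModW.pull Λ f).obj G)) :=
  ⟨lc_pull f, flc_pull f, fun Λ _ G h => ft_pull f Λ G h⟩

end Concrete

end Helper15.BcOver
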