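import Mathlib
import Groth.Prelude.Def_PBC
import Groth.Prelude.Def_EtCore
import Groth.Agent.Lib.Helper15.BcOver

set_option autoImplicit false
set_option backward.isDefEq.respectTransparency false

universe u

open CategoryTheory CategoryTheory.Limits AlgebraicGeometry Opposite Topology

namespace Helper15.Constr

section Top

variable {X : Type*} [TopologicalSpace X]

/-- `A` is constructible in the subspace `S`. -/
def CIn (S A : Set X) : Prop := Topology.IsConstructible ((Subtype.val : S → X) ⁻¹' A)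

theorem CIn.inter {S A B : Set X} (hA : CIn S A) (hB : CIn S B) : CIn S (A ∩ B) := by
  unfold CIn at *
  rw [Set.preimage_inter]
  exact hA.inter hB

theorem CIn.diff {S A B : Set X} (hA : CIn S A) (hB : CIn S B) : CIn S (A \ B) := by
  unfold CIn at *
  rw [Set.preimage_diff]
  exact hA.sdiff hB

theorem CIn.of_open {S W : Set X} (hWo : IsOpen W)
    (hr : IsRetrocompact ((Subtype.val : S → X) ⁻¹' W)) : CIn S W :=
  hr.isConstructible (hWo.preimage continuous_subtype_val)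

theorem CIn.mono_open {S W A : Set X} (hWS : W ⊆ S) (hWo : IsOpen W)
    (hr : IsRetrocompact ((Subtype.val : S → X) ⁻¹' W)) (hAW : A ⊆ W) (h : CIn W A) :
    CIn S A := by
  have hrange : Set.range (Set.inclusion hWS) = (Subtype.val : S → X) ⁻¹' W :=
    Set.range_inclusion hWS
  have hemb : IsOpenEmbedding (Set.inclusion hWS) :=
    ⟨IsEmbedding.inclusion hWS, by
      rw [hrange]; exact hWo.preimage continuous_subtype_val⟩
  have h2 := IsConstructible.image_of_isOpenEmbedding hemb (by rw [hrange]; exact hr) h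
  unfold CIn
  convert h2 using 1
  ext ⟨x, hx⟩
  constructor
  · intro hxA
    exact ⟨⟨x, hAW hxA⟩, hxA, rfl⟩
  · rintro ⟨⟨y, hy⟩, hyA, hxy⟩
    have : y = x := congrArg Subtype.val hxy
    subst this
    exact hyA

theorem retro_of_qs {S W : Set X} (hS : IsQuasiSeparated S) (hSo : IsOpen S) (hWS : W ⊆ S)
    (hWo : IsOpen W) (hWc : IsCompact W) :
    IsRetrocompact ((Subtype.val : S → X) ⁻¹' W) := by
  haveI : QuasiSeparatedSpace S := (isQuasiSeparated_iff_quasiSeparatedSpace S hSo).mp hS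
  refine IsCompact.isRetrocompact ?_ (hWo.preimage continuous_subtype_val)
  rw [IsEmbedding.subtypeVal.isCompact_iff, Subtype.image_preimage_coe,
    Set.inter_eq_right.mpr hWS]
  exact hWc

end Top

section Adapted

variable {X : Scheme.{u}}

/-- `AdaptedStrata` with an arbitrary finite index type. -/
def Adapted' (F : EtCoh.Ab X) (S : Set X) : Prop :=
  ∃ (κ : Type) (_ : Finite κ) (T : κ → Scheme.{u}) (g : ∀ k, T k ⟶ X),
    (∀ k, IsImmersion (g k)) ∧
    (∀ k, CIn S (Set.range (g k))) ∧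
    Pairwise (fun i j => Disjoint (Set.range (g i)) (Set.range (g j))) ∧
    (⋃ k, Set.range (g k)) = S ∧
    ∀ k, EtCoh.IsFiniteLocallyConstant ((EtCoh.pull (g k)).obj F)

theorem adapted'_of_adapted {F : EtCoh.Ab X} {S : Set X} (h : EtPBC.AdaptedStrata F S) :
    Adapted' F S := by
  obtain ⟨n, T, g, h1, h2, h3, h4, h5⟩ := h
  exact ⟨Fin n, inferInstance, T, g, h1, h2, h3, h4, fun k => h5 k⟩

theorem adapted_of_adapted' {F : EtCoh.Ab X} {S : Set X} (h : Adapted' F S) :
    EtPBC.AdaptedStrata F S := by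
  obtain ⟨κ, hκ, T, g, h1, h2, h3, h4, h5⟩ := h
  obtain ⟨n, ⟨e⟩⟩ := Finite.exists_equiv_fin κ
  refine ⟨n, fun i => T (e.symm i), fun i => g (e.symm i), fun i => h1 _, fun i => h2 _, ?_, ?_,
    fun i _ => h5 _⟩
  · intro i j hij
    exact h3 (fun h => hij (e.symm.injective h))
  · rw [← h4]
    exact e.symm.surjective.iUnion_comp (fun k => Set.range (g k))

theorem flc_of_iso {F F' : EtCoh.Ab X} (e : F ≅ F') (h : EtCoh.IsFiniteLocallyConstant F) :
    EtCoh.IsFiniteLocallyConstant F' := by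
  obtain ⟨ι, U, hU, hc⟩ := h
  refine ⟨ι, U, hU, fun i => ?_⟩
  obtain ⟨M, i1, i2, ⟨a⟩⟩ := hc i
  exact ⟨M, i1, i2,
    ⟨((X.smallEtaleTopology.overPullback AddCommGrpCat.{u+1} (U i)).mapIso e).symm ≪≫ a⟩⟩

theorem flc_pull_comp {T S : Scheme.{u}} (a : T ⟶ S) (b : S ⟶ X) (F : EtCoh.Ab X)
    (h : EtCoh.IsFiniteLocallyConstant ((EtCoh.pull b).obj F)) :
    EtCoh.IsFiniteLocallyConstant ((EtCoh.pull (a ≫ b)).obj F) :=
  flc_of_iso ((EtCore.pullComp a b).app F).symm (BcOver.flc_pull a _ h)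

theorem flc_pull_congr {T : Scheme.{u}} {a a' : T ⟶ X} (e : a = a') (F : EtCoh.Ab X)
    (h : EtCoh.IsFiniteLocallyConstant ((EtCoh.pull a).obj F)) :
    EtCoh.IsFiniteLocallyConstant ((EtCoh.pull a').obj F) := by
  subst e; exact h

theorem exists_immersion_range_diff (W' : X.Opens) (W : Set X) (hW : IsOpen W) :
    ∃ (C : Scheme.{u}) (c : C ⟶ X), IsImmersion c ∧ Set.range c = (W' : Set X) \ W := by
  obtain ⟨Z, hZ⟩ : ∃ Z : TopologicalSpace.Closeds W'.toScheme,
      (Z : Set W'.toScheme) = (W'.ι ⁻¹' W)ᶜ :=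
    ⟨⟨_, (hW.preimage W'.ι.continuous).isClosed_compl⟩, rfl⟩
  refine ⟨_, (Scheme.IdealSheafData.vanishingIdeal Z).subschemeι ≫ W'.ι, inferInstance, ?_⟩
  have hr : Set.range (Scheme.IdealSheafData.vanishingIdeal Z).subschemeι = (W'.ι ⁻¹' W)ᶜ := by
    rw [Scheme.IdealSheafData.range_subschemeι, Scheme.IdealSheafData.coe_support_vanishingIdeal,
      hZ]
  ext x
  constructor
  · rintro ⟨y, rfl⟩
    have hy : (Scheme.IdealSheafData.vanishingIdeal Z).subschemeι y ∈ (W'.ι ⁻¹' W)ᶜ :=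
      hr ▸ ⟨y, rfl⟩
    exact ⟨((Scheme.IdealSheafData.vanishingIdeal Z).subschemeι y).2, hy⟩
  · rintro ⟨hx1, hx2⟩
    have hx : (⟨x, hx1⟩ : W'.toScheme) ∈
        Set.range (Scheme.IdealSheafData.vanishingIdeal Z).subschemeι := by
      rw [hr]; exact hx2
    obtain ⟨y, hy⟩ := hx
    refine ⟨y, ?_⟩
    rw [Scheme.Hom.comp_apply, hy]
    rfl

theorem adapted_empty (F : EtCoh.Ab X) : Adapted' F (∅ : Set X) :=
  ⟨Empty, inferInstance, fun k => k.elim, fun k => k.elim, fun k => k.elim, fun k => k.elim,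
    fun i => i.elim, Set.iUnion_of_empty _, fun k => k.elim⟩

theorem adapted_union (F : EtCoh.Ab X) (W : Set X) (hWo : IsOpen W) (W' : X.Opens)
    (r : IsRetrocompact ((Subtype.val : ↥(W ∪ (W' : Set X)) → X) ⁻¹' W))
    (r' : IsRetrocompact ((Subtype.val : ↥(W ∪ (W' : Set X)) → X) ⁻¹' (W' : Set X)))
    (h : Adapted' F W) (h' : Adapted' F (W' : Set X)) : Adapted' F (W ∪ (W' : Set X)) := by
  obtain ⟨κ, hκ, T, g, h1, h2, h3, h4, h5⟩ := h
  obtain ⟨κ', hκ', T', g', h1', h2', h3', h4', h5'⟩ := h'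
  obtain ⟨C, c, hc, hcr⟩ := exists_immersion_range_diff W' W hWo
  have hsub : ∀ k, Set.range (g k) ⊆ W := fun k =>
    h4 ▸ Set.subset_iUnion (fun k => Set.range (g k)) k
  have hsub' : ∀ k, Set.range (g' k) ⊆ (W' : Set X) := fun k =>
    h4' ▸ Set.subset_iUnion (fun k => Set.range (g' k)) k
  have hr' : ∀ k, Set.range (pullback.fst (g' k) c ≫ g' k) = Set.range (g' k) \ W := by
    intro k
    rw [Scheme.Pullback.range_fst_comp, hcr]
    ext x; constructor
    · rintro ⟨hx1, hx2, hx3⟩; exact ⟨hx1, hx3⟩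
    · rintro ⟨hx1, hx3⟩; exact ⟨hx1, hsub' k hx1, hx3⟩
  refine ⟨κ ⊕ κ', inferInstance, Sum.elim T (fun k => pullback (g' k) c),
    fun s => match s with
      | Sum.inl k => g k
      | Sum.inr k => pullback.fst (g' k) c ≫ g' k, ?_, ?_, ?_, ?_, ?_⟩
  · rintro (k | k)
    · exact h1 k
    · haveI := h1' k
      show IsImmersion (pullback.fst (g' k) c ≫ g' k)
      infer_instance
  · rintro (k | k)
    · exact CIn.mono_open Set.subset_union_left hWo r (hsub k) (h2 k)
    · show CIn _ (Set.range (pullback.fst (g' k) c ≫ g' k))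
      rw [hr']
      exact CIn.diff (CIn.mono_open Set.subset_union_right W'.isOpen r' (hsub' k) (h2' k))
        (CIn.of_open hWo r)
  · rintro (i | i) (j | j) hij
    · exact h3 (fun e => hij (congrArg Sum.inl e))
    · show Disjoint (Set.range (g i)) (Set.range (pullback.fst (g' j) c ≫ g' j))
      rw [hr']
      exact Set.disjoint_left.mpr fun x hx hx' => hx'.2 (hsub i hx)
    · show Disjoint (Set.range (pullback.fst (g' i) c ≫ g' i)) (Set.range (g j))
      rw [hr']
      exact Set.disjoint_left.mpr fun x hx hx' => hx.2 (hsub j hx')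
    · show Disjoint (Set.range (pullback.fst (g' i) c ≫ g' i))
        (Set.range (pullback.fst (g' j) c ≫ g' j))
      rw [hr', hr']
      exact (h3' (fun e => hij (congrArg Sum.inr e))).mono Set.diff_subset Set.diff_subset
  · rw [Set.iUnion_sum]
    show (⋃ k, Set.range (g k)) ∪ (⋃ k, Set.range (pullback.fst (g' k) c ≫ g' k)) = _
    simp_rw [hr']
    rw [h4, ← Set.iUnion_diff, h4', Set.union_diff_self]
  · rintro (k | k)
    · exact h5 k
    · exact flc_pull_comp (pullback.fst (g' k) c) (g' k) F (h5' k)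

theorem adapted_of_local (F : EtCoh.Ab X) (U : X.Opens) (hqs : IsQuasiSeparated (U : Set X))
    (hc : IsCompact (U : Set X))
    (h : ∀ x ∈ (U : Set X), ∃ W : X.Opens, x ∈ (W : Set X) ∧ (W : Set X) ⊆ (U : Set X) ∧
      IsCompact (W : Set X) ∧ Adapted' F (W : Set X)) :
    Adapted' F (U : Set X) := by
  classical
  choose W hxW hWU hWc hWa using h
  obtain ⟨t, ht⟩ := hc.elim_nhds_subcover' (fun x hx => (W x hx : Set X))
    (fun x hx => (W x hx).isOpen.mem_nhds (hxW x hx))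
  have key : ∀ s : Finset ↥(U : Set X), Adapted' F (⋃ x ∈ s, (W x.1 x.2 : Set X)) := by
    intro s
    induction s using Finset.induction_on with
    | empty => simpa using adapted_empty F
    | insert a s ha ih =>
      rw [Finset.set_biUnion_insert, Set.union_comm]
      have ho : IsOpen (⋃ x ∈ s, (W x.1 x.2 : Set X)) :=
        isOpen_biUnion (fun x _ => (W x.1 x.2).isOpen)
      have hcpt : IsCompact (⋃ x ∈ s, (W x.1 x.2 : Set X)) :=
        s.isCompact_biUnion (fun x _ => hWc x.1 x.2)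
      have hsubU : (⋃ x ∈ s, (W x.1 x.2 : Set X)) ∪ (W a.1 a.2 : Set X) ⊆ (U : Set X) :=
        Set.union_subset (Set.iUnion₂_subset fun x _ => hWU x.1 x.2) (hWU a.1 a.2)
      have hqs' := hqs.of_subset hsubU
      have hSo : IsOpen ((⋃ x ∈ s, (W x.1 x.2 : Set X)) ∪ (W a.1 a.2 : Set X)) :=
        ho.union (W a.1 a.2).isOpen
      exact adapted_union F _ ho (W a.1 a.2)
        (retro_of_qs hqs' hSo Set.subset_union_left ho hcpt)
        (retro_of_qs hqs' hSo Set.subset_union_right (W a.1 a.2).isOpen (hWc a.1 a.2))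
        ih (hWa a.1 a.2)
  have hU : (⋃ x ∈ t, (W x.1 x.2 : Set X)) = (U : Set X) :=
    Set.Subset.antisymm (Set.iUnion₂_subset fun x _ => hWU x.1 x.2) ht
  rw [← hU]; exact key t

end Adapted

section Transfer

theorem adapted_pull {X Y : Scheme.{u}} (f : X ⟶ Y) (F : EtCoh.Ab Y) (F' : EtCoh.Ab X)
    (H : ∀ (T : Scheme.{u}) (h : T ⟶ X),
      EtCoh.IsFiniteLocallyConstant ((EtCoh.pull (h ≫ f)).obj F) →
        EtCoh.IsFiniteLocallyConstant ((EtCoh.pull h).obj F'))
    (V : Y.Opens) (W : X.Opens) (hWV : (W : Set X) ⊆ f ⁻¹' (V : Set Y))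
    (h : Adapted' F (V : Set Y)) : Adapted' F' (W : Set X) := by
  obtain ⟨κ, hκ, T, g, h1, h2, h3, h4, h5⟩ := h
  have hrange : Set.range (W.ι ≫ f) ⊆ Set.range V.ι := by
    rintro _ ⟨x, rfl⟩
    rw [Scheme.Opens.range_ι]
    exact hWV x.2
  obtain ⟨fW, hfW⟩ : ∃ fW : W.toScheme ⟶ V.toScheme, fW ≫ V.ι = W.ι ≫ f :=
    ⟨IsOpenImmersion.lift V.ι (W.ι ≫ f) hrange, IsOpenImmersion.lift_fac _ _ _⟩
  have hrg : ∀ k, Set.range (pullback.snd (g k) (W.ι ≫ f) ≫ W.ι) =
      (W : Set X) ∩ f ⁻¹' Set.range (g k) := by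
    intro k
    ext x
    constructor
    · rintro ⟨z, rfl⟩
      refine ⟨(pullback.snd (g k) (W.ι ≫ f) z).2, pullback.fst (g k) (W.ι ≫ f) z, ?_⟩
      have e : (pullback.fst (g k) (W.ι ≫ f) ≫ g k) z =
          (pullback.snd (g k) (W.ι ≫ f) ≫ W.ι ≫ f) z := by rw [pullback.condition]
      simpa [Scheme.Hom.comp_apply] using e
    · rintro ⟨hxW, y, hy⟩
      obtain ⟨z, hz1, hz2⟩ := Scheme.Pullback.exists_preimage_pullback (f := g k)
        (g := W.ι ≫ f) y ⟨x, hxW⟩ (by rw [hy, Scheme.Hom.comp_apply]; rfl)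
      exact ⟨z, by rw [Scheme.Hom.comp_apply, hz2]; rfl⟩
  refine ⟨κ, hκ, fun k => pullback (g k) (W.ι ≫ f),
    fun k => pullback.snd (g k) (W.ι ≫ f) ≫ W.ι, ?_, ?_, ?_, ?_, ?_⟩
  · intro k; haveI := h1 k; infer_instance
  · intro k
    rw [hrg]
    show IsConstructible (W.ι ⁻¹' ((W : Set X) ∩ f ⁻¹' Set.range (g k)))
    have hk : IsConstructible (V.ι ⁻¹' Set.range (g k)) := h2 k
    have h3 := Scheme.Hom.isConstructible_preimage fW hk
    convert h3 using 1
    ext x
    have e : V.ι (fW x) = f (W.ι x) := by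
      rw [← Scheme.Hom.comp_apply, hfW, Scheme.Hom.comp_apply]
    simp only [Set.mem_preimage, Set.mem_inter_iff]
    rw [e]
    exact ⟨fun h => h.2, fun h => ⟨x.2, h⟩⟩
  · intro i j hij
    rw [hrg, hrg]
    exact ((h3 hij).preimage f).mono Set.inter_subset_right Set.inter_subset_right
  · simp_rw [hrg]
    rw [← Set.inter_iUnion, ← Set.preimage_iUnion, h4]
    exact Set.inter_eq_left.mpr hWV
  · intro k
    apply H
    have e : (pullback.snd (g k) (W.ι ≫ f) ≫ W.ι) ≫ f = pullback.fst (g k) (W.ι ≫ f) ≫ g k := by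
      rw [Category.assoc, ← pullback.condition]
    exact flc_pull_congr e.symm F (flc_pull_comp _ (g k) F (h5 k))

theorem adapted_of_openImmersion {V X : Scheme.{u}} (j : V ⟶ X) [IsOpenImmersion j]
    (F : EtCoh.Ab X) (W' : V.Opens) (h : Adapted' ((EtCoh.pull j).obj F) (W' : Set V)) :
    Adapted' F ((j ''ᵁ W' : X.Opens) : Set X) := by
  obtain ⟨κ, hκ, T, g, h1, h2, h3, h4, h5⟩ := h
  have hinj : Function.Injective j := j.isOpenEmbedding.injective
  have hr : ∀ k, Set.range (g k ≫ j) = j '' Set.range (g k) := fun k => by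
    ext x; constructor
    · rintro ⟨z, rfl⟩; exact ⟨g k z, ⟨z, rfl⟩, (Scheme.Hom.comp_apply _ _ _).symm⟩
    · rintro ⟨_, ⟨z, rfl⟩, rfl⟩; exact ⟨z, Scheme.Hom.comp_apply _ _ _⟩
  have hrange : Set.range (j ''ᵁ W').ι ⊆ Set.range (W'.ι ≫ j) := by
    rw [Scheme.Opens.range_ι]
    rintro _ ⟨w, hw, rfl⟩
    exact ⟨⟨w, hw⟩, Scheme.Hom.comp_apply _ _ _⟩
  obtain ⟨φ, hφ⟩ : ∃ φ : (j ''ᵁ W').toScheme ⟶ W'.toScheme, φ ≫ W'.ι ≫ j = (j ''ᵁ W').ι :=
    ⟨IsOpenImmersion.lift (W'.ι ≫ j) (j ''ᵁ W').ι hrange, IsOpenImmersion.lift_fac _ _ _⟩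
  refine ⟨κ, hκ, T, fun k => g k ≫ j, ?_, ?_, ?_, ?_, ?_⟩
  · intro k; haveI := h1 k; infer_instance
  · intro k
    rw [hr]
    show IsConstructible ((j ''ᵁ W').ι ⁻¹' (j '' Set.range (g k)))
    have hk : IsConstructible (W'.ι ⁻¹' Set.range (g k)) := h2 k
    have h3 := Scheme.Hom.isConstructible_preimage φ hk
    convert h3 using 1
    ext x
    have e : (j ''ᵁ W').ι x = j (W'.ι (φ x)) := by
      rw [← hφ, Scheme.Hom.comp_apply, Scheme.Hom.comp_apply]
    simp only [Set.mem_preimage]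
    rw [e]
    exact hinj.mem_set_image
  · intro a b hab
    rw [hr, hr]
    exact (Set.disjoint_image_iff hinj).mpr (h3 hab)
  · simp_rw [hr]
    rw [← Set.image_iUnion, h4]
    rfl
  · intro k
    exact flc_of_iso ((EtCore.pullComp (g k) j).app F).symm (h5 k)

end Transfer

section Main

theorem S0128 (X : Scheme.{u}) [CompactSpace X] [QuasiSeparatedSpace X] (F : EtCoh.Ab X) :
    EtPBC.IsConstructible F ↔ EtPBC.AdaptedStrata F (Set.univ : Set X) := by
  constructor
  · intro h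
    have h1 : Adapted' F ((⊤ : X.Opens) : Set X) := by
      apply adapted_of_local F ⊤ (IsQuasiSeparated.of_quasiSeparatedSpace _)
        (by simpa using isCompact_univ)
      intro x _
      obtain ⟨W, hW, hxW, -⟩ := exists_isAffineOpen_mem_and_subset (x := x) (U := ⊤) trivial
      exact ⟨W, hxW, fun _ _ => trivial, hW.isCompact, adapted'_of_adapted (h W hW)⟩
    exact adapted_of_adapted' (by simpa using h1)
  · intro h U hU
    apply adapted_of_adapted'
    have h' : Adapted' F ((⊤ : X.Opens) : Set X) := by simpa using adapted'_of_adapted h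
    refine adapted_pull (𝟙 X) F F ?_ ⊤ U (fun _ _ => trivial) h'
    intro T a ha
    exact flc_pull_congr (Category.comp_id a) F ha

theorem S0129 {X : Scheme.{u}} (F : EtCoh.Ab X) {ι : Type u} (U : ι → X.Opens)
    (hU : ⨆ i, U i = ⊤) [∀ i, EtCoh.BCCont (U i).ι]
    (h : ∀ i, EtPBC.IsConstructible ((EtCoh.pull (U i).ι).obj F)) :
    EtPBC.IsConstructible F := by
  intro V hV
  apply adapted_of_adapted'
  apply adapted_of_local F V hV.isQuasiSeparated hV.isCompact
  intro x hx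
  have hx' : x ∈ ⨆ i, U i := hU ▸ trivial
  obtain ⟨i, hi⟩ := TopologicalSpace.Opens.mem_iSup.mp hx'
  obtain ⟨W, hW, hxW, hWsub⟩ :=
    exists_isAffineOpen_mem_and_subset (x := x) (U := V ⊓ U i) ⟨hx, hi⟩
  have hWU : W ≤ U i := fun y hy => (hWsub hy).2
  have himg : (U i).ι ''ᵁ ((U i).ι ⁻¹ᵁ W) = W := by
    rw [Scheme.Hom.image_preimage_eq_opensRange_inf, Scheme.Opens.opensRange_ι]
    exact inf_eq_right.mpr hWU
  have hW' : IsAffineOpen ((U i).ι ⁻¹ᵁ W) :=
    hW.preimage_of_isOpenImmersion (U i).ι (by rw [Scheme.Opens.opensRange_ι]; exact hWU)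
  have h2 := adapted_of_openImmersion (U i).ι F _ (adapted'_of_adapted (h i _ hW'))
  rw [himg] at h2
  exact ⟨W, hxW, fun y hy => (hWsub hy).1, hW.isCompact, h2⟩

theorem S0127 {X Y : Scheme.{u}} (f : X ⟶ Y) [EtCoh.BCCont f]
    (F : EtCoh.Ab Y) (hF : EtPBC.IsConstructible F) :
    EtPBC.IsConstructible ((EtCoh.pull f).obj F) := by
  intro U hU
  apply adapted_of_adapted'
  apply adapted_of_local _ U hU.isQuasiSeparated hU.isCompact
  intro x hx
  obtain ⟨V, hV, hxV, -⟩ := exists_isAffineOpen_mem_and_subset (x := f x) (U := ⊤) trivial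
  obtain ⟨W, hW, hxW, hWsub⟩ :=
    exists_isAffineOpen_mem_and_subset (x := x) (U := U ⊓ f ⁻¹ᵁ V) ⟨hx, hxV⟩
  refine ⟨W, hxW, fun y hy => (hWsub hy).1, hW.isCompact, ?_⟩
  refine adapted_pull f F _ ?_ V W (fun y hy => (hWsub hy).2) (adapted'_of_adapted (hF V hV))
  intro T a ha
  exact flc_of_iso ((EtCore.pullComp a f).app F) ha

end Main

end Helper15.Constr
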