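import Groth.Prelude.Def_BigSite
import Groth.Prelude.Def_SGA4b
import Groth.Agent.Lib.Helper13.NonAbTorsor
import Groth.Agent.Lib.Helper13.EtSecPull

/-!
# Helper15: gluing sections of sheaves on the small etale site over disjoint open pieces

* `mem_iff`: pointwise criterion for covering sieves of the small etale site.
* `glue`: sections over a family of pairwise disjoint, jointly surjective "pieces" (monomorphisms
  on underlying schemes) of an etale `X`-scheme glue uniquely.
* `piece`, `pieceι`: an open of `X ×_Y V` as an object of the small etale site of `X` over the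
  base change of `V`.
* `extend_by_zero`: extension by zero of a section of an abelian sheaf over an open and closed piece.
-/

universe u
open CategoryTheory CategoryTheory.Limits AlgebraicGeometry Opposite
open Groth.Agent.Lib.Helper13

namespace Groth.Agent.Lib.Helper15
namespace EtGlue

set_option backward.isDefEq.respectTransparency.types false in
lemma mem_iff {X : Scheme.{u}} (W : X.Etale) (R : Sieve W) :
    R ∈ X.smallEtaleTopology W ↔
      ∀ x : W.left, ∃ (Z : X.Etale) (g : Z ⟶ W) (z : Z.left), R g ∧ g.left z = x := by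
  have eX : X.smallEtaleTopology =
      (X.smallPretopology (P := EtCoh.etaleMP) (Q := EtCoh.etaleMP)).toGrothendieck :=
    Scheme.smallGrothendieckTopology_eq_toGrothendieck_smallPretopology X le_rfl
  rw [eX]
  constructor
  · intro h x
    obtain ⟨Z, g, z, hg, -, hz⟩ := (Scheme.mem_toGrothendieck_smallPretopology W R).1 h x
    exact ⟨Z, g, z, hg, hz⟩
  · intro h
    refine (Scheme.mem_toGrothendieck_smallPretopology W R).2 ?_
    intro x
    obtain ⟨Z, g, z, hg, hz⟩ := h x
    exact ⟨Z, g, z, hg, inferInstance, hz⟩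

set_option backward.isDefEq.respectTransparency.types false in
lemma bot_mem_of_isEmpty {X : Scheme.{u}} (W : X.Etale) (h : IsEmpty W.left) :
    (⊥ : Sieve W) ∈ X.smallEtaleTopology W := by
  rw [mem_iff]
  intro x
  exact (h.false x).elim

set_option backward.isDefEq.respectTransparency.types false in
lemma ofArrows_mem {X : Scheme.{u}} {T : X.Etale} {μ : Type*} (Wobj : μ → X.Etale)
    (ι : ∀ a, Wobj a ⟶ T) (hcov : ∀ x : T.left, ∃ a p, (ι a).left p = x) :
    Sieve.ofArrows Wobj ι ∈ X.smallEtaleTopology T := by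
  rw [mem_iff]
  intro x
  obtain ⟨a, p, hp⟩ := hcov x
  exact ⟨Wobj a, ι a, p, Sieve.ofArrows_mk _ _ a, hp⟩

lemma subsingleton_of_isEmpty {X : Scheme.{u}} (F : EtDesc.Sh X) (Z : X.Etale)
    (h : IsEmpty Z.left) : Subsingleton (F.obj.obj (op Z)) :=
  ⟨fun _ _ => NonAbTorsor.sheaf_ext F ⊥ (bot_mem_of_isEmpty Z h)
    (fun _ f hf => ((Sieve.bot_apply f).1 hf).elim)⟩

/-- Two sections which agree locally (around every point) are equal. -/
lemma eq_of_locally {X : Scheme.{u}} (F : EtDesc.Sh X) {U : X.Etale} (s t : F.obj.obj (op U))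
    (h : ∀ u : U.left, ∃ (Z : X.Etale) (g : Z ⟶ U) (z : Z.left),
      g.left z = u ∧ F.obj.map g.op s = F.obj.map g.op t) : s = t := by
  let S : Sieve U :=
    { arrows := fun Z g => F.obj.map g.op s = F.obj.map g.op t
      downward_closed := by
        intro A B g hg b
        change F.obj.map (b ≫ g).op s = F.obj.map (b ≫ g).op t
        rw [op_comp, Functor.map_comp_apply, Functor.map_comp_apply, hg] }
  have hS : S ∈ X.smallEtaleTopology U := by
    rw [mem_iff]
    intro u
    obtain ⟨Z, g, z, hz, hg⟩ := h u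
    exact ⟨Z, g, z, hg, hz⟩
  exact NonAbTorsor.sheaf_ext F S hS (fun V g hg => hg)

/-- Two sections which agree on a jointly surjective family are equal. -/
lemma eq_of_ofArrows {X : Scheme.{u}} (F : EtDesc.Sh X) {T : X.Etale} {μ : Type*}
    (Wobj : μ → X.Etale) (ι : ∀ a, Wobj a ⟶ T) (hcov : ∀ x : T.left, ∃ a p, (ι a).left p = x)
    (s t : F.obj.obj (op T)) (h : ∀ a, F.obj.map (ι a).op s = F.obj.map (ι a).op t) : s = t := by
  refine eq_of_locally F s t ?_
  intro x
  obtain ⟨a, p, hp⟩ := hcov x
  exact ⟨Wobj a, ι a, p, hp, h a⟩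

set_option backward.isDefEq.respectTransparency.types false in
/-- Gluing over pairwise disjoint pieces. -/
theorem glue {X : Scheme.{u}} (F : EtDesc.Sh X) {T : X.Etale} {μ : Type*} (Wobj : μ → X.Etale)
    (ι : ∀ a, Wobj a ⟶ T) (hmono : ∀ a, Mono (ι a).left)
    (hdisj : ∀ a b, a ≠ b → ∀ (p : (Wobj a).left) (q : (Wobj b).left),
      (ι a).left p ≠ (ι b).left q)
    (hcov : ∀ x : T.left, ∃ a p, (ι a).left p = x)
    (s : ∀ a, F.obj.obj (op (Wobj a))) :
    ∃! t : F.obj.obj (op T), ∀ a, F.obj.map (ι a).op t = s a := by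
  have hsh : Presieve.IsSheafFor F.obj (Presieve.ofArrows Wobj ι) := by
    rw [Presieve.isSheafFor_iff_generate]
    exact NonAbTorsor.isSheaf_type F _ (ofArrows_mem Wobj ι hcov)
  rw [Presieve.isSheafFor_arrows_iff] at hsh
  refine hsh s ?_
  intro a b Z ga gb hab
  by_cases h : a = b
  · subst h
    have e : ga = gb := by
      apply MorphismProperty.Over.Hom.ext
      have h1 : ga.left ≫ (ι a).left = gb.left ≫ (ι a).left := congrArg (fun φ => φ.left) hab
      haveI := hmono a
      exact (cancel_mono (ι a).left).1 h1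
    rw [e]
  · have hZ : IsEmpty Z.left := ⟨fun z => hdisj a b h (ga.left z) (gb.left z) (by
      have h1 : ga.left ≫ (ι a).left = gb.left ≫ (ι b).left := congrArg (fun φ => φ.left) hab
      have h2 : (ga.left ≫ (ι a).left) z = (gb.left ≫ (ι b).left) z := by rw [h1]
      rw [Scheme.Hom.comp_apply, Scheme.Hom.comp_apply] at h2
      exact h2)⟩
    exact (subsingleton_of_isEmpty F Z hZ).elim _ _

section pieces

variable {X Y V : Scheme.{u}} (f : X ⟶ Y) (v : V ⟶ Y) [Etale v]

/-- An open of `X ×_Y V` as an object of the small etale site of `X`. -/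
noncomputable def piece (W : (pullback f v).Opens) : X.Etale :=
  Scheme.Etale.mk (W.ι ≫ pullback.fst f v)

set_option backward.isDefEq.respectTransparency.types false in
/-- The inclusion of a piece into the base change of `V`. -/
noncomputable def pieceι (W : (pullback f v).Opens) :
    piece f v W ⟶ (EtCoh.bc f).obj (Scheme.Etale.mk v) :=
  MorphismProperty.Over.homMk (W.ι ≫ (pullbackSymmetry v f).inv) (by
    change (W.ι ≫ (pullbackSymmetry v f).inv) ≫ pullback.snd v f = W.ι ≫ pullback.fst f v
    rw [Category.assoc, pullbackSymmetry_inv_comp_snd])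

set_option backward.isDefEq.respectTransparency.types false in
lemma pieceι_left (W : (pullback f v).Opens) :
    (pieceι f v W).left = W.ι ≫ (pullbackSymmetry v f).inv := rfl

lemma piece_hom (W : (pullback f v).Opens) : (piece f v W).hom = W.ι ≫ pullback.fst f v := rfl

lemma symm_inv_hom_apply (y : (pullback f v : Scheme.{u})) :
    (pullbackSymmetry v f).hom ((pullbackSymmetry v f).inv y) = y := by
  have : ((pullbackSymmetry v f).inv ≫ (pullbackSymmetry v f).hom) y = y := by
    rw [Iso.inv_hom_id]; rfl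
  rwa [Scheme.Hom.comp_apply] at this

lemma symm_hom_inv_apply (y : (pullback v f : Scheme.{u})) :
    (pullbackSymmetry v f).inv ((pullbackSymmetry v f).hom y) = y := by
  have : ((pullbackSymmetry v f).hom ≫ (pullbackSymmetry v f).inv) y = y := by
    rw [Iso.hom_inv_id]; rfl
  rwa [Scheme.Hom.comp_apply] at this

set_option backward.isDefEq.respectTransparency.types false in
lemma pieceι_apply (W : (pullback f v).Opens) (p : (W : Scheme.{u})) :
    (pullbackSymmetry v f).hom ((W.ι ≫ (pullbackSymmetry v f).inv) p) = W.ι p := by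
  rw [Scheme.Hom.comp_apply, symm_inv_hom_apply]

lemma ι_mem (W : (pullback f v).Opens) (p : (W : Scheme.{u})) : W.ι p ∈ W := by
  have h : W.ι p ∈ Set.range W.ι := ⟨p, rfl⟩
  rw [Scheme.Opens.range_ι] at h
  exact h

set_option backward.isDefEq.respectTransparency.types false in
lemma pieceι_mem (W : (pullback f v).Opens) (p : (piece f v W).left) :
    (pullbackSymmetry v f).hom ((pieceι f v W).left p) ∈ W := by
  have h := pieceι_apply f v W p
  have h2 := ι_mem f v W p
  rw [← h] at h2
  exact h2

set_option backward.isDefEq.respectTransparency.types false in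
lemma exists_pieceι_eq (W : (pullback f v).Opens)
    (x : ((EtCoh.bc f).obj (Scheme.Etale.mk v)).left)
    (hx : (pullbackSymmetry v f).hom x ∈ W) : ∃ p, (pieceι f v W).left p = x := by
  obtain ⟨p, hp⟩ : (pullbackSymmetry v f).hom x ∈ Set.range W.ι := by
    rw [Scheme.Opens.range_ι]; exact hx
  refine ⟨p, ?_⟩
  have h1 := pieceι_apply f v W p
  rw [hp] at h1
  have h2 := congrArg (fun y => (pullbackSymmetry v f).inv y) h1
  simp only [symm_hom_inv_apply] at h2
  exact h2

set_option backward.isDefEq.respectTransparency.types false in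
instance pieceι_mono (W : (pullback f v).Opens) : Mono (pieceι f v W).left := by
  rw [pieceι_left]
  exact mono_comp W.ι (pullbackSymmetry v f).inv

set_option backward.isDefEq.respectTransparency.types false in
lemma pieceι_ne {W W' : (pullback f v).Opens} (h : Disjoint W W')
    (p : (piece f v W).left) (q : (piece f v W').left) :
    (pieceι f v W).left p ≠ (pieceι f v W').left q := by
  intro e
  have h1 := pieceι_mem f v W p
  have h2 := pieceι_mem f v W' q
  rw [e] at h1
  exact Set.disjoint_left.1 (TopologicalSpace.Opens.coe_disjoint.2 h) h1 h2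

omit [Etale v] in
/-- Pure fibre product algebra behind `bc_map_symm`. -/
lemma symm_conj_eq {V' : Scheme.{u}} (v' : V' ⟶ V) (m : pullback (v' ≫ v) f ⟶ pullback v f)
    (e1 : m ≫ pullback.snd v f = pullback.snd (v' ≫ v) f)
    (e2 : m ≫ pullback.fst v f = pullback.fst (v' ≫ v) f ≫ v') :
    (pullbackSymmetry (v' ≫ v) f).inv ≫ m ≫ (pullbackSymmetry v f).hom =
      pullback.map f (v' ≫ v) f v (𝟙 X) v' (𝟙 Y) (by simp) (by simp) := by
  apply pullback.hom_ext
  · rw [Category.assoc, Category.assoc, pullbackSymmetry_hom_comp_fst, e1,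
      pullbackSymmetry_inv_comp_snd, pullback.lift_fst, Category.comp_id]
  · rw [Category.assoc, Category.assoc, pullbackSymmetry_hom_comp_snd, e2,
      ← Category.assoc, pullbackSymmetry_inv_comp_fst, pullback.lift_snd]

set_option backward.isDefEq.respectTransparency.types false in
/-- Compatibility of the base change of `V' ⟶ V` with the symmetry of the fibre product. -/
lemma bc_map_symm {V' : Scheme.{u}} (v' : V' ⟶ V) [Etale v'] [Etale (v' ≫ v)]
    (a : Scheme.Etale.mk (v' ≫ v) ⟶ Scheme.Etale.mk v) (ha : a.left = v') :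
    (pullbackSymmetry (v' ≫ v) f).inv ≫ ((EtCoh.bc f).map a).left ≫ (pullbackSymmetry v f).hom =
      pullback.map f (v' ≫ v) f v (𝟙 X) v' (𝟙 Y) (by simp) (by simp) := by
  have e1 : ((EtCoh.bc f).map a).left ≫ pullback.snd v f = pullback.snd (v' ≫ v) f :=
    MorphismProperty.Over.w ((EtCoh.bc f).map a)
  have e2 : ((EtCoh.bc f).map a).left ≫ pullback.fst v f = pullback.fst (v' ≫ v) f ≫ v' := by
    have := (EtCoh.isPullback_bc_map f a).w
    rw [ha] at this
    exact this
  exact symm_conj_eq f v v' ((EtCoh.bc f).map a).left e1 e2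

end pieces

section abelian

variable {X : Scheme.{u}}

/-- The sheaf of sets underlying an abelian sheaf. -/
noncomputable abbrev toSh (F : EtCoh.Ab X) : EtDesc.Sh X :=
  (sheafCompose X.smallEtaleTopology (forget AddCommGrpCat.{u + 1})).obj F

theorem glueAb (F : EtCoh.Ab X) {T : X.Etale} {μ : Type*} (Wobj : μ → X.Etale)
    (ι : ∀ a, Wobj a ⟶ T) (hmono : ∀ a, Mono (ι a).left)
    (hdisj : ∀ a b, a ≠ b → ∀ (p : (Wobj a).left) (q : (Wobj b).left),
      (ι a).left p ≠ (ι b).left q)
    (hcov : ∀ x : T.left, ∃ a p, (ι a).left p = x)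
    (s : ∀ a, F.obj.obj (op (Wobj a))) :
    ∃! t : F.obj.obj (op T), ∀ a, F.obj.map (ι a).op t = s a :=
  glue (toSh F) Wobj ι hmono hdisj hcov s

lemma eq_of_locally_ab (F : EtCoh.Ab X) {U : X.Etale} (s t : F.obj.obj (op U))
    (h : ∀ u : U.left, ∃ (Z : X.Etale) (g : Z ⟶ U) (z : Z.left),
      g.left z = u ∧ F.obj.map g.op s = F.obj.map g.op t) : s = t :=
  eq_of_locally (toSh F) s t h

lemma mono_of_injective_ab {F G : EtCoh.Ab X} (φ : F ⟶ G)
    (h : ∀ U : X.Etaleᵒᵖ, Function.Injective (φ.hom.app U)) : Mono φ := by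
  have : ∀ U, Mono (φ.hom.app U) := fun U => (AddCommGrpCat.mono_iff_injective _).mpr (h U)
  have : Mono φ.hom := NatTrans.mono_of_mono_app _
  exact Sheaf.Hom.mono_of_presheaf_mono _ _ φ

lemma injective_of_mono_ab {F G : EtCoh.Ab X} (ψ : F ⟶ G) [Mono ψ] (V : X.Etaleᵒᵖ) :
    Function.Injective (ψ.hom.app V) := by
  have : Mono ((sheafToPresheaf X.smallEtaleTopology AddCommGrpCat.{u + 1} ⋙
      (evaluation _ _).obj V).map ψ) := inferInstance
  exact (AddCommGrpCat.mono_iff_injective _).mp this

lemma ab_hom_nat {F G : EtCoh.Ab X} (φ : F ⟶ G) {U V : X.Etaleᵒᵖ} (a : U ⟶ V)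
    (x : F.obj.obj U) : φ.hom.app V (F.obj.map a x) = G.obj.map a (φ.hom.app U x) :=
  ConcreteCategory.congr_hom (φ.hom.naturality a) x

lemma ab_map_comp (F : EtCoh.Ab X) {U V W : X.Etaleᵒᵖ} (a : U ⟶ V) (b : V ⟶ W)
    (x : F.obj.obj U) : F.obj.map (a ≫ b) x = F.obj.map b (F.obj.map a x) := by
  rw [Functor.map_comp]; rfl

end abelian

section extend

variable {X Y V : Scheme.{u}} (f : X ⟶ Y) (v : V ⟶ Y) [Etale v]

set_option backward.isDefEq.respectTransparency.types false in
/-- Extension by zero over an open and closed piece. -/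
theorem extend_by_zero (F : EtCoh.Ab X) (W Wc : (pullback f v).Opens) (hd : Disjoint W Wc)
    (hc : ∀ x, x ∈ W ∨ x ∈ Wc) (s : F.obj.obj (op (piece f v W))) :
    ∃ t : F.obj.obj (op ((EtCoh.bc f).obj (Scheme.Etale.mk v))),
      F.obj.map (pieceι f v W).op t = s ∧ F.obj.map (pieceι f v Wc).op t = 0 := by
  obtain ⟨t, ht, -⟩ := glueAb F (fun b : Bool => piece f v (bif b then W else Wc))
    (fun b => pieceι f v (bif b then W else Wc)) (fun b => inferInstance)
    (by
      intro a b hab p q
      cases a <;> cases b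
      · exact (hab rfl).elim
      · exact pieceι_ne f v hd.symm p q
      · exact pieceι_ne f v hd p q
      · exact (hab rfl).elim)
    (by
      intro x
      rcases hc ((pullbackSymmetry v f).hom x) with h | h
      · obtain ⟨p, hp⟩ := exists_pieceι_eq f v W x h
        exact ⟨true, p, hp⟩
      · obtain ⟨p, hp⟩ := exists_pieceι_eq f v Wc x h
        exact ⟨false, p, hp⟩)
    (fun b => match b with
      | true => s
      | false => 0)
  exact ⟨t, ht true, ht false⟩

set_option backward.isDefEq.respectTransparency.types false in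
lemma eq_of_restrict_eq (F : EtCoh.Ab X) (W Wc : (pullback f v).Opens)
    (hc : ∀ x, x ∈ W ∨ x ∈ Wc)
    (t t' : F.obj.obj (op ((EtCoh.bc f).obj (Scheme.Etale.mk v))))
    (h1 : F.obj.map (pieceι f v W).op t = F.obj.map (pieceι f v W).op t')
    (h2 : F.obj.map (pieceι f v Wc).op t = F.obj.map (pieceι f v Wc).op t') : t = t' := by
  refine eq_of_locally_ab F t t' ?_
  intro x
  rcases hc ((pullbackSymmetry v f).hom x) with h | h
  · obtain ⟨p, hp⟩ := exists_pieceι_eq f v W x h
    exact ⟨_, pieceι f v W, p, hp, h1⟩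
  · obtain ⟨p, hp⟩ := exists_pieceι_eq f v Wc x h
    exact ⟨_, pieceι f v Wc, p, hp, h2⟩

end extend

end EtGlue
end Groth.Agent.Lib.Helper15
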