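import Mathlib
import Groth.Prelude.Def_EtBase
import Groth.Prelude.Def_EtRestW
import Groth.Agent.Lib.Helper15.EtGlue
import Groth.Agent.Lib.Helper15.BcOver

set_option autoImplicit false
set_option backward.isDefEq.respectTransparency false

universe u

open CategoryTheory CategoryTheory.Limits AlgebraicGeometry Opposite

namespace Helper15.LcStruct

/-- Separatedness of sheaves of abelian groups, on sections. -/
theorem sec_ext {C : Type (u+1)} [Category.{u} C] (K : GrothendieckTopology C)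
    (Q : Sheaf K AddCommGrpCat.{u+1}) {Y : C} (S : Sieve Y) (hS : S ∈ K Y)
    (s t : Q.obj.obj (op Y))
    (h : ∀ ⦃Z : C⦄ (f : Z ⟶ Y), S f → Q.obj.map f.op s = Q.obj.map f.op t) : s = t := by
  have hsh : Presieve.IsSheaf K (Q.obj ⋙ forget AddCommGrpCat.{u+1}) :=
    (isSheaf_iff_isSheaf_of_type K _).mp
      ((Presheaf.isSheaf_iff_isSheaf_forget K Q.obj (forget AddCommGrpCat.{u+1})).mp Q.property)
  exact (hsh.isSeparated S hS).ext (fun Z f hf => h f hf)

theorem iInf_mem {C : Type*} [Category C] (K : GrothendieckTopology C) {V : C} {ι : Type*}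
    [Finite ι] (S : ι → Sieve V) (hS : ∀ i, S i ∈ K V) : (⨅ i, S i) ∈ K V := by
  classical
  cases nonempty_fintype ι
  rw [← Finset.inf_univ_eq_iInf]
  exact Finset.inf_induction (p := (· ∈ K V)) (K.top_mem V)
    (fun a ha b hb => K.intersection_covering ha hb) (fun i _ => hS i)

variable {X : Scheme.{u}}

noncomputable abbrev cst (X : Scheme.{u}) (M : AddCommGrpCat.{u+1}) : EtCoh.Ab X :=
  (constantSheaf X.smallEtaleTopology AddCommGrpCat.{u+1}).obj M

/-- The canonical map from `M` to the sections of the constant sheaf. -/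
noncomputable def eta (M : AddCommGrpCat.{u+1}) (V : X.Etale) : M ⟶ (cst X M).obj.obj (op V) :=
  (toSheafify X.smallEtaleTopology ((Functor.const X.Etaleᵒᵖ).obj M)).app (op V)

theorem eta_map (M : AddCommGrpCat.{u+1}) {V V' : X.Etale} (k : V' ⟶ V) :
    eta M V ≫ (cst X M).obj.map k.op = eta M V' := by
  have e := (toSheafify X.smallEtaleTopology ((Functor.const X.Etaleᵒᵖ).obj M)).naturality k.op
  simp only [Functor.const_obj_obj, Functor.const_obj_map, Category.id_comp] at e
  exact e.symm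

theorem eta_map_apply (M : AddCommGrpCat.{u+1}) {V V' : X.Etale} (k : V' ⟶ V) (m : M) :
    (cst X M).obj.map k.op (eta M V m) = eta M V' m := by
  rw [← eta_map M k]; rfl

theorem eta_nat {M N : AddCommGrpCat.{u+1}} (h : M ⟶ N) (V : X.Etale) :
    eta M V ≫ ((constantSheaf X.smallEtaleTopology AddCommGrpCat.{u+1}).map h).hom.app (op V) =
      h ≫ eta N V := by
  have e := toSheafify_naturality X.smallEtaleTopology ((Functor.const X.Etaleᵒᵖ).map h)
  have e' := congrArg (fun t => t.app (op V)) e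
  simp only [NatTrans.comp_app, Functor.const_map_app] at e'
  exact e'.symm

theorem eta_nat_apply {M N : AddCommGrpCat.{u+1}} (h : M ⟶ N) (V : X.Etale) (m : M) :
    ((constantSheaf X.smallEtaleTopology AddCommGrpCat.{u+1}).map h).hom.app (op V) (eta M V m) =
      eta N V (h m) := by
  have e := ConcreteCategory.congr_hom (eta_nat h V) m
  simpa using e

theorem eta_injective (N : AddCommGrpCat.{u+1}) (V : X.Etale)
    (hV : (⊥ : Sieve V) ∉ X.smallEtaleTopology V) : Function.Injective (eta N V) := by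
  intro n n' h
  by_contra hne
  apply hV
  have hmem := Presheaf.equalizerSieve_mem X.smallEtaleTopology
    (toSheafify X.smallEtaleTopology ((Functor.const X.Etaleᵒᵖ).obj N)) (X := op V) n n' h
  refine X.smallEtaleTopology.superset_covering ?_ hmem
  intro W k hk
  exact (hne (by simpa [Presheaf.equalizerSieve] using hk)).elim

theorem hom_eq_of_bot_mem {V : X.Etale} (hV : (⊥ : Sieve V) ∈ X.smallEtaleTopology V)
    {P Q : Sheaf (X.smallEtaleTopology.over V) AddCommGrpCat.{u+1}} (a b : P ⟶ Q) : a = b := by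
  apply Sheaf.hom_ext
  ext ⟨g⟩ s
  refine sec_ext (X.smallEtaleTopology.over V) Q ⊥ ?_ _ _
    (fun Z f hf => ((Sieve.bot_apply f).1 hf).elim)
  rw [GrothendieckTopology.mem_over_iff, (Sieve.overEquiv g).map_bot]
  have h2 := X.smallEtaleTopology.pullback_stable g.hom hV
  refine X.smallEtaleTopology.superset_covering ?_ h2
  intro W k hk
  exact hk

theorem hom_ext_of_eta {V : X.Etale} (M : AddCommGrpCat.{u+1})
    {Q : Sheaf (X.smallEtaleTopology.over V) AddCommGrpCat.{u+1}}
    (a b : (cst X M).over V ⟶ Q)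
    (h : ∀ m : M, a.hom.app (op (Over.mk (𝟙 V))) (eta M V m) =
      b.hom.app (op (Over.mk (𝟙 V))) (eta M V m)) : a = b := by
  apply Sheaf.hom_ext
  ext ⟨g⟩ s
  have hS := Presheaf.imageSieve_mem X.smallEtaleTopology
    (toSheafify X.smallEtaleTopology ((Functor.const X.Etaleᵒᵖ).obj M)) (U := op g.left) s
  refine sec_ext (X.smallEtaleTopology.over V) Q ((Sieve.overEquiv g).symm _)
    (X.smallEtaleTopology.overEquiv_symm_mem_over g _ hS) _ _ ?_
  intro g' k hk
  rw [Sieve.overEquiv_symm_iff] at hk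
  obtain ⟨m, hm⟩ := hk
  have key : ∀ c : (cst X M).over V ⟶ Q, Q.obj.map k.op (c.hom.app (op g) s) =
      Q.obj.map (Over.homMk g'.hom : g' ⟶ Over.mk (𝟙 V)).op
        (c.hom.app (op (Over.mk (𝟙 V))) (eta M V m)) := by
    intro c
    have n1 := NatTrans.naturality_apply c.hom k.op s
    have n2 := NatTrans.naturality_apply c.hom
      (Over.homMk g'.hom : g' ⟶ Over.mk (𝟙 V)).op (eta M V m)
    rw [← n1, ← n2]
    congr 1
    show (cst X M).obj.map k.left.op s = (cst X M).obj.map g'.hom.op (eta M V m)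
    rw [eta_map_apply]
    exact hm.symm
  rw [key a, key b, h m]

theorem K1 {V : X.Etale} (M N : AddCommGrpCat.{u+1}) [Finite M]
    (ψ : (cst X M).over V ⟶ (cst X N).over V) :
    ∃ S : Sieve V, S ∈ X.smallEtaleTopology V ∧ ∀ ⦃V' : X.Etale⦄ (f : V' ⟶ V), S f →
      ∃ h : M ⟶ N, (X.smallEtaleTopology.overMapPullback AddCommGrpCat.{u+1} f).map ψ =
        (X.smallEtaleTopology.overMapPullback AddCommGrpCat.{u+1} f).map
          ((X.smallEtaleTopology.overPullback AddCommGrpCat.{u+1} V).map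
            ((constantSheaf X.smallEtaleTopology AddCommGrpCat.{u+1}).map h)) := by
  obtain ⟨t, ht⟩ : ∃ t : M → (cst X N).obj.obj (op V),
      ∀ m, t m = ψ.hom.app (op (Over.mk (𝟙 V))) (eta M V m) := ⟨_, fun _ => rfl⟩
  have htadd : ∀ m m', t (m + m') = t m + t m' := by
    intro m m'; rw [ht, ht, ht, map_add, map_add]
  refine ⟨⨅ m, Presheaf.imageSieve
      (toSheafify X.smallEtaleTopology ((Functor.const X.Etaleᵒᵖ).obj N)) (t m),
    iInf_mem _ _ (fun m => Presheaf.imageSieve_mem X.smallEtaleTopology _ (U := op V) (t m)), ?_⟩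
  intro V' f hf
  simp only [iInf, Sieve.sInf_apply, Set.mem_range, forall_exists_index,
    forall_apply_eq_imp_iff] at hf
  have hf' : ∀ m, ∃ n : N, eta N V' n = (cst X N).obj.map f.op (t m) := fun m => hf m
  by_cases hE : (⊥ : Sieve V') ∈ X.smallEtaleTopology V'
  · exact ⟨0, hom_eq_of_bot_mem hE _ _⟩
  · have hinj := eta_injective N V' hE
    choose n hn using hf'
    have hadd : ∀ m m', n (m + m') = n m + n m' := by
      intro m m'
      apply hinj
      rw [hn, htadd, map_add, map_add, hn, hn]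
    refine ⟨AddCommGrpCat.ofHom (AddMonoidHom.mk' n hadd), ?_⟩
    refine hom_ext_of_eta (V := V') M _ _ ?_
    intro m
    have n1 := NatTrans.naturality_apply ψ.hom
      (Over.homMk f : (Over.map f).obj (Over.mk (𝟙 V')) ⟶ Over.mk (𝟙 V)).op (eta M V m)
    have e1 : (cst X M).obj.map f.op (eta M V m) = eta M V' m := eta_map_apply M f m
    have lhs : ψ.hom.app (op ((Over.map f).obj (Over.mk (𝟙 V')))) (eta M V' m) =
        eta N V' (n m) := by
      rw [← e1]
      refine Eq.trans n1 ?_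
      rw [hn m, ht m]
      rfl
    have rhs : ((constantSheaf X.smallEtaleTopology AddCommGrpCat.{u+1}).map
        (AddCommGrpCat.ofHom (AddMonoidHom.mk' n hadd))).hom.app (op V') (eta M V' m) =
        eta N V' (n m) := eta_nat_apply _ V' m
    exact lhs.trans rhs.symm

noncomputable def starTerminal (V : X.Etale) : IsTerminal ((Over.star V).obj (EtCoh.top X)) :=
  IsTerminal.isTerminalObj (Over.star V) _ (EtCore.topIsTerminal X)

/-- The restriction of a global constant sheaf to an over-site is the constant sheaf. -/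
noncomputable def kappa (V : X.Etale) :
    constantSheaf X.smallEtaleTopology AddCommGrpCat.{u+1} ⋙
      X.smallEtaleTopology.overPullback AddCommGrpCat.{u+1} V ≅
    constantSheaf (X.smallEtaleTopology.over V) AddCommGrpCat.{u+1} :=
  Adjunction.leftAdjointUniq
    ((constantSheafAdj X.smallEtaleTopology AddCommGrpCat.{u+1} (EtCore.topIsTerminal X)).comp
      ((Over.forgetAdjStar V).sheafPushforwardContinuous (E := AddCommGrpCat.{u+1})
        (X.smallEtaleTopology.over V) X.smallEtaleTopology))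
    ((constantSheafAdj (X.smallEtaleTopology.over V) AddCommGrpCat.{u+1}
      (starTerminal V)).ofNatIsoRight
      (NatIso.ofComponents (fun _ => Iso.refl _) (by
        intro A B f
        exact (Category.comp_id _).trans (Category.id_comp _).symm)))

/-- Transitivity of restriction. -/
noncomputable def rho {V V' : X.Etale} (f : V' ⟶ V) :
    X.smallEtaleTopology.overPullback AddCommGrpCat.{u+1} V ⋙
      X.smallEtaleTopology.overMapPullback AddCommGrpCat.{u+1} f ≅
    X.smallEtaleTopology.overPullback AddCommGrpCat.{u+1} V' :=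
  Iso.refl _

theorem core {V : X.Etale} (F G : EtCoh.Ab X) (φ : F ⟶ G) (M N : AddCommGrpCat.{u+1}) [Finite M]
    (α : F.over V ≅ (cst X M).over V) (β : G.over V ≅ (cst X N).over V) :
    ∃ S : Sieve V, S ∈ X.smallEtaleTopology V ∧ ∀ ⦃V' : X.Etale⦄ (f : V' ⟶ V), S f →
      ∃ (h : M ⟶ N)
        (α' : F.over V' ≅ (constantSheaf (X.smallEtaleTopology.over V') AddCommGrpCat.{u+1}).obj M)
        (β' : G.over V' ≅ (constantSheaf (X.smallEtaleTopology.over V') AddCommGrpCat.{u+1}).obj N),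
        (X.smallEtaleTopology.overPullback AddCommGrpCat.{u+1} V').map φ ≫ β'.hom =
          α'.hom ≫ (constantSheaf (X.smallEtaleTopology.over V') AddCommGrpCat.{u+1}).map h := by
  obtain ⟨ψ, hψ⟩ : ∃ ψ : (cst X M).over V ⟶ (cst X N).over V,
      ψ = α.inv ≫ (X.smallEtaleTopology.overPullback AddCommGrpCat.{u+1} V).map φ ≫ β.hom :=
    ⟨_, rfl⟩
  obtain ⟨S, hS, hK⟩ := K1 M N ψ
  refine ⟨S, hS, ?_⟩
  intro V' f hf
  obtain ⟨h, hh⟩ := hK f hf
  refine ⟨h,
    (rho f).symm.app F ≪≫
      (X.smallEtaleTopology.overMapPullback AddCommGrpCat.{u+1} f).mapIso α ≪≫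
      (rho f).app (cst X M) ≪≫ (kappa V').app M,
    (rho f).symm.app G ≪≫
      (X.smallEtaleTopology.overMapPullback AddCommGrpCat.{u+1} f).mapIso β ≪≫
      (rho f).app (cst X N) ≪≫ (kappa V').app N, ?_⟩
  have e1 := (rho f).inv.naturality φ
  have e2 : (X.smallEtaleTopology.overPullback AddCommGrpCat.{u+1} V).map φ ≫ β.hom =
      α.hom ≫ ψ := by rw [hψ]; simp
  have e4 := (rho f).hom.naturality
    ((constantSheaf X.smallEtaleTopology AddCommGrpCat.{u+1}).map h)
  have e5 := (kappa V').hom.naturality h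
  simp only [Iso.trans_hom, Iso.app_hom, Iso.symm_hom, Functor.mapIso_hom, Category.assoc]
  simp only [Functor.comp_map] at e1 e4 e5
  rw [reassoc_of% e1, ← Functor.map_comp_assoc, e2, Functor.map_comp_assoc, hh,
    reassoc_of% e4, e5]

section Prod

/-- The fibre product of two étale `X`-schemes, as an object of the small étale site. -/
noncomputable def prodObj (U U' : X.Etale) : X.Etale :=
  haveI : Etale U.hom := U.prop
  haveI : Etale U'.hom := U'.prop
  Scheme.Etale.mk (pullback.fst U.hom U'.hom ≫ U.hom)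

noncomputable def prodFst (U U' : X.Etale) : prodObj U U' ⟶ U :=
  MorphismProperty.Over.homMk (pullback.fst U.hom U'.hom) rfl trivial

noncomputable def prodSnd (U U' : X.Etale) : prodObj U U' ⟶ U' :=
  MorphismProperty.Over.homMk (pullback.snd U.hom U'.hom)
    (by
      show pullback.snd U.hom U'.hom ≫ U'.hom = pullback.fst U.hom U'.hom ≫ U.hom
      exact pullback.condition.symm) trivial

theorem prod_point (U U' : X.Etale) (y : U.left) (y' : U'.left) (h : U.hom y = U'.hom y') :
    ∃ w : (prodObj U U').left, (prodFst U U').left w = y ∧ (prodSnd U U').left w = y' :=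
  Scheme.Pullback.exists_preimage_pullback y y' h

end Prod

theorem S6647 (F G : EtCoh.Ab X) (φ : F ⟶ G)
    (hF : EtCoh.IsFiniteLocallyConstant F) (hG : EtRest.IsLocallyConstant G) :
    ∃ (ι : Type u) (U : ι → X.Etale), EtCoh.Covers U ∧ ∀ i, ∃ (M N : Type (u + 1)) (_ : AddCommGroup M) (_ : AddCommGroup N)
      (h : M →+ N)
      (α : EtCoh.restr F (U i) ≅ (constantSheaf (X.smallEtaleTopology.over (U i)) AddCommGrpCat.{u + 1}).obj (AddCommGrpCat.of M))
      (β : EtCoh.restr G (U i) ≅ (constantSheaf (X.smallEtaleTopology.over (U i)) AddCommGrpCat.{u + 1}).obj (AddCommGrpCat.of N)),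
      (X.smallEtaleTopology.overPullback AddCommGrpCat.{u + 1} (U i)).map φ ≫ β.hom = α.hom ≫ (constantSheaf (X.smallEtaleTopology.over (U i)) AddCommGrpCat.{u + 1}).map (AddCommGrpCat.ofHom h) := by
  obtain ⟨ι₁, U₁, hU₁, hc₁⟩ := hF
  obtain ⟨ι₂, U₂, hU₂, hc₂⟩ := hG
  choose M₁ iM₁ fM₁ α₁ using hc₁
  choose N₂ iN₂ β₂ using hc₂
  have loc : ∀ (i : ι₁) (j : ι₂) (w : (prodObj (U₁ i) (U₂ j)).left),
      ∃ (Z : X.Etale) (g : Z ⟶ prodObj (U₁ i) (U₂ j)) (z : Z.left), g.left z = w ∧
        ∃ (h : AddCommGrpCat.of (ULift.{u+1} (M₁ i)) ⟶ AddCommGrpCat.of (N₂ j))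
          (α' : F.over Z ≅ (constantSheaf (X.smallEtaleTopology.over Z)
            AddCommGrpCat.{u+1}).obj (AddCommGrpCat.of (ULift.{u+1} (M₁ i))))
          (β' : G.over Z ≅ (constantSheaf (X.smallEtaleTopology.over Z)
            AddCommGrpCat.{u+1}).obj (AddCommGrpCat.of (N₂ j))),
          (X.smallEtaleTopology.overPullback AddCommGrpCat.{u+1} Z).map φ ≫ β'.hom =
            α'.hom ≫ (constantSheaf (X.smallEtaleTopology.over Z) AddCommGrpCat.{u+1}).map h := by
    intro i j w
    haveI := fM₁ i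
    obtain ⟨a⟩ := α₁ i
    obtain ⟨b⟩ := β₂ j
    have aW : F.over (prodObj (U₁ i) (U₂ j)) ≅
        (cst X (AddCommGrpCat.of (ULift.{u+1} (M₁ i)))).over (prodObj (U₁ i) (U₂ j)) :=
      (rho (prodFst (U₁ i) (U₂ j))).symm.app F ≪≫
        (X.smallEtaleTopology.overMapPullback AddCommGrpCat.{u+1}
          (prodFst (U₁ i) (U₂ j))).mapIso (a ≪≫ ((kappa (U₁ i)).app _).symm) ≪≫
        (rho (prodFst (U₁ i) (U₂ j))).app (cst X _)
    have bW : G.over (prodObj (U₁ i) (U₂ j)) ≅
        (cst X (AddCommGrpCat.of (N₂ j))).over (prodObj (U₁ i) (U₂ j)) :=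
      (rho (prodSnd (U₁ i) (U₂ j))).symm.app G ≪≫
        (X.smallEtaleTopology.overMapPullback AddCommGrpCat.{u+1}
          (prodSnd (U₁ i) (U₂ j))).mapIso (b ≪≫ ((kappa (U₂ j)).app _).symm) ≪≫
        (rho (prodSnd (U₁ i) (U₂ j))).app (cst X _)
    obtain ⟨S, hS, hcore⟩ := core F G φ _ _ aW bW
    obtain ⟨Z, g, z, hg, hz⟩ := (Groth.Agent.Lib.Helper15.EtGlue.mem_iff _ S).1 hS w
    obtain ⟨h, α', β', e⟩ := hcore g hg
    exact ⟨Z, g, z, hz, h, α', β', e⟩
  choose Z g z hz h α' β' e using loc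
  refine ⟨Σ i : ι₁, Σ j : ι₂, (prodObj (U₁ i) (U₂ j)).left, fun t => Z t.1 t.2.1 t.2.2, ?_, ?_⟩
  · intro x
    obtain ⟨i, y, hy⟩ := hU₁ x
    obtain ⟨j, y', hy'⟩ := hU₂ x
    obtain ⟨w, hw1, hw2⟩ := prod_point (U₁ i) (U₂ j) y y' (hy.trans hy'.symm)
    refine ⟨⟨i, j, w⟩, z i j w, ?_⟩
    have e1 : (g i j w).left ≫ (prodObj (U₁ i) (U₂ j)).hom = (Z i j w).hom :=
      MorphismProperty.Over.w (g i j w)
    have e2 : (prodObj (U₁ i) (U₂ j)).hom = (prodFst (U₁ i) (U₂ j)).left ≫ (U₁ i).hom := rfl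
    show (Z i j w).hom (z i j w) = x
    rw [← e1, e2, Scheme.Hom.comp_apply, Scheme.Hom.comp_apply]
    exact (congrArg (fun t => (U₁ i).hom ((prodFst (U₁ i) (U₂ j)).left t)) (hz i j w)).trans
      ((congrArg (fun t => (U₁ i).hom t) hw1).trans hy)
  · rintro ⟨i, j, w⟩
    exact ⟨ULift.{u+1} (M₁ i), N₂ j, inferInstance, iN₂ j, (h i j w).hom, α' i j w, β' i j w,
      e i j w⟩

end Helper15.LcStruct
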