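import Mathlib
import Groth.Agent.Lib.Helper15.LcStruct

set_option autoImplicit false
set_option backward.isDefEq.respectTransparency false

universe u

open CategoryTheory CategoryTheory.Limits AlgebraicGeometry Opposite

namespace Helper15.LcStruct

variable {X : Scheme.{u}}

/-- General local structure of a map between locally constant sheaves (source with finite
values). -/
theorem hom_struct (F G : EtCoh.Ab X) (φ : F ⟶ G)
    {ι₁ : Type u} (U₁ : ι₁ → X.Etale) (hU₁ : EtCoh.Covers U₁) (Mo : ι₁ → AddCommGrpCat.{u+1})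
    [∀ i, Finite (Mo i)]
    (α₁ : ∀ i, Nonempty (F.over (U₁ i) ≅
      (constantSheaf (X.smallEtaleTopology.over (U₁ i)) AddCommGrpCat.{u+1}).obj (Mo i)))
    {ι₂ : Type u} (U₂ : ι₂ → X.Etale) (hU₂ : EtCoh.Covers U₂) (No : ι₂ → AddCommGrpCat.{u+1})
    (β₂ : ∀ j, Nonempty (G.over (U₂ j) ≅
      (constantSheaf (X.smallEtaleTopology.over (U₂ j)) AddCommGrpCat.{u+1}).obj (No j))) :
    ∃ (ι : Type u) (U : ι → X.Etale), EtCoh.Covers U ∧ ∀ t, ∃ (i : ι₁) (j : ι₂)
      (h : Mo i ⟶ No j)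
      (α : F.over (U t) ≅
        (constantSheaf (X.smallEtaleTopology.over (U t)) AddCommGrpCat.{u+1}).obj (Mo i))
      (β : G.over (U t) ≅
        (constantSheaf (X.smallEtaleTopology.over (U t)) AddCommGrpCat.{u+1}).obj (No j)),
      (X.smallEtaleTopology.overPullback AddCommGrpCat.{u+1} (U t)).map φ ≫ β.hom =
        α.hom ≫ (constantSheaf (X.smallEtaleTopology.over (U t)) AddCommGrpCat.{u+1}).map h := by
  have loc : ∀ (i : ι₁) (j : ι₂) (w : (prodObj (U₁ i) (U₂ j)).left),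
      ∃ (Z : X.Etale) (g : Z ⟶ prodObj (U₁ i) (U₂ j)) (z : Z.left), g.left z = w ∧
        ∃ (h : Mo i ⟶ No j)
          (α' : F.over Z ≅ (constantSheaf (X.smallEtaleTopology.over Z)
            AddCommGrpCat.{u+1}).obj (Mo i))
          (β' : G.over Z ≅ (constantSheaf (X.smallEtaleTopology.over Z)
            AddCommGrpCat.{u+1}).obj (No j)),
          (X.smallEtaleTopology.overPullback AddCommGrpCat.{u+1} Z).map φ ≫ β'.hom =
            α'.hom ≫ (constantSheaf (X.smallEtaleTopology.over Z) AddCommGrpCat.{u+1}).map h := by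
    intro i j w
    obtain ⟨a⟩ := α₁ i
    obtain ⟨b⟩ := β₂ j
    have aW : F.over (prodObj (U₁ i) (U₂ j)) ≅
        (cst X (Mo i)).over (prodObj (U₁ i) (U₂ j)) :=
      (rho (prodFst (U₁ i) (U₂ j))).symm.app F ≪≫
        (X.smallEtaleTopology.overMapPullback AddCommGrpCat.{u+1}
          (prodFst (U₁ i) (U₂ j))).mapIso (a ≪≫ ((kappa (U₁ i)).app _).symm) ≪≫
        (rho (prodFst (U₁ i) (U₂ j))).app (cst X _)
    have bW : G.over (prodObj (U₁ i) (U₂ j)) ≅
        (cst X (No j)).over (prodObj (U₁ i) (U₂ j)) :=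
      (rho (prodSnd (U₁ i) (U₂ j))).symm.app G ≪≫
        (X.smallEtaleTopology.overMapPullback AddCommGrpCat.{u+1}
          (prodSnd (U₁ i) (U₂ j))).mapIso (b ≪≫ ((kappa (U₂ j)).app _).symm) ≪≫
        (rho (prodSnd (U₁ i) (U₂ j))).app (cst X _)
    obtain ⟨S, hS, hcore⟩ := core F G φ _ _ aW bW
    obtain ⟨Z, g, z, hg, hz⟩ := (Groth.Agent.Lib.Helper15.EtGlue.mem_iff _ S).1 hS w
    obtain ⟨h, α', β', e⟩ := hcore g hg
    exact ⟨Z, g, z, hz, h, α', β', e⟩
  choose Z g z hz h α' β' e using loc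
  refine ⟨Σ i : ι₁, Σ j : ι₂, (prodObj (U₁ i) (U₂ j)).left, fun t => Z t.1 t.2.1 t.2.2, ?_, ?_⟩
  · intro x
    obtain ⟨i, y, hy⟩ := hU₁ x
    obtain ⟨j, y', hy'⟩ := hU₂ x
    obtain ⟨w, hw1, hw2⟩ := prod_point (U₁ i) (U₂ j) y y' (hy.trans hy'.symm)
    refine ⟨⟨i, j, w⟩, z i j w, ?_⟩
    have e1 : (g i j w).left ≫ (prodObj (U₁ i) (U₂ j)).hom = (Z i j w).hom :=
      MorphismProperty.Over.w (g i j w)
    have e2 : (prodObj (U₁ i) (U₂ j)).hom = (prodFst (U₁ i) (U₂ j)).left ≫ (U₁ i).hom := rfl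
    show (Z i j w).hom (z i j w) = x
    rw [← e1, e2, Scheme.Hom.comp_apply, Scheme.Hom.comp_apply]
    exact (congrArg (fun t => (U₁ i).hom ((prodFst (U₁ i) (U₂ j)).left t)) (hz i j w)).trans
      ((congrArg (fun t => (U₁ i).hom t) hw1).trans hy)
  · rintro ⟨i, j, w⟩
    exact ⟨i, j, h i j w, α' i j w, β' i j w, e i j w⟩

/-- A copy of `Fin n` carrying no algebraic instances. -/
def FinCopy (n : ℕ) : Type := Fin n

instance (n : ℕ) : Finite (FinCopy n) := inferInstanceAs (Finite (Fin n))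

theorem exists_small_finite (K : AddCommGrpCat.{u+1}) [Finite K] :
    ∃ (M : Type) (_ : AddCommGroup M) (_ : Finite M),
      Nonempty (K ≅ AddCommGrpCat.of (ULift.{u+1} M)) := by
  obtain ⟨n, ⟨e⟩⟩ := Finite.exists_equiv_fin K
  obtain ⟨e', -⟩ : ∃ e' : K ≃ FinCopy n, e' = e := ⟨e, rfl⟩
  letI inst : AddCommGroup (FinCopy n) := e'.symm.addCommGroup
  refine ⟨FinCopy n, inst, inferInstance, ⟨?_⟩⟩
  have ae : K ≃+ (AddCommGrpCat.of (ULift.{u+1} (FinCopy n))) :=
    { toEquiv := e'.trans Equiv.ulift.symm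
      map_add' := fun a b => by
        apply ULift.ext
        show e' (a + b) = e' a + e' b
        exact ((Equiv.add_def e'.symm (e' a) (e' b)).trans (by simp)).symm }
  exact AddEquiv.toAddCommGrpIso ae

instance constantSheaf_preservesFiniteLimits {C : Type (u+1)} [Category.{u} C]
    (K : GrothendieckTopology C) [HasSheafify K AddCommGrpCat.{u+1}] :
    PreservesFiniteLimits (constantSheaf K AddCommGrpCat.{u+1}) := by
  show PreservesFiniteLimits (Functor.const Cᵒᵖ ⋙ presheafToSheaf K AddCommGrpCat.{u+1})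
  infer_instance

theorem flc_kernel_cokernel (F G : EtCoh.Ab X) (φ : F ⟶ G)
    (hF : EtCoh.IsFiniteLocallyConstant F) (hG : EtCoh.IsFiniteLocallyConstant G) :
    EtCoh.IsFiniteLocallyConstant (kernel φ) ∧ EtCoh.IsFiniteLocallyConstant (cokernel φ) := by
  obtain ⟨ι₁, U₁, hU₁, hc₁⟩ := hF
  obtain ⟨ι₂, U₂, hU₂, hc₂⟩ := hG
  choose M₁ iM₁ fM₁ α₁ using hc₁
  choose N₂ iN₂ fN₂ β₂ using hc₂
  haveI : ∀ i, Finite (AddCommGrpCat.of (ULift.{u+1} (M₁ i))) := fun i => by
    haveI := fM₁ i; show Finite (ULift.{u+1} (M₁ i)); infer_instance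
  haveI hfinN : ∀ j, Finite (AddCommGrpCat.of (ULift.{u+1} (N₂ j))) := fun j => by
    haveI := fN₂ j; show Finite (ULift.{u+1} (N₂ j)); infer_instance
  obtain ⟨ι, U, hU, hs⟩ := hom_struct F G φ U₁ hU₁
    (fun i => AddCommGrpCat.of (ULift.{u+1} (M₁ i))) α₁ U₂ hU₂
    (fun j => AddCommGrpCat.of (ULift.{u+1} (N₂ j))) β₂
  constructor
  · refine ⟨ι, U, hU, fun t => ?_⟩
    obtain ⟨i, j, h, α, β, e⟩ := hs t
    haveI : Finite (kernel h : AddCommGrpCat.{u+1}) :=
      Finite.of_injective _ ((AddCommGrpCat.mono_iff_injective (kernel.ι h)).mp inferInstance)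
    obtain ⟨M, iM, fM, ⟨em⟩⟩ := exists_small_finite (kernel h)
    refine ⟨M, iM, fM, ⟨?_⟩⟩
    exact PreservesKernel.iso (X.smallEtaleTopology.overPullback AddCommGrpCat.{u+1} (U t)) φ ≪≫
      kernel.mapIso _ _ α β e ≪≫
      (PreservesKernel.iso (constantSheaf (X.smallEtaleTopology.over (U t))
        AddCommGrpCat.{u+1}) h).symm ≪≫
      (constantSheaf (X.smallEtaleTopology.over (U t)) AddCommGrpCat.{u+1}).mapIso em
  · refine ⟨ι, U, hU, fun t => ?_⟩
    obtain ⟨i, j, h, α, β, e⟩ := hs t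
    haveI := hfinN j
    haveI : Finite (cokernel h : AddCommGrpCat.{u+1}) :=
      Finite.of_surjective _ ((AddCommGrpCat.epi_iff_surjective (cokernel.π h)).mp inferInstance)
    obtain ⟨M, iM, fM, ⟨em⟩⟩ := exists_small_finite (cokernel h)
    refine ⟨M, iM, fM, ⟨?_⟩⟩
    haveI : PreservesColimitsOfSize.{0, 0}
        (X.smallEtaleTopology.overPullback AddCommGrpCat.{u+1} (U t)) :=
      ((Over.forgetAdjStar (U t)).sheafPushforwardContinuous (E := AddCommGrpCat.{u+1})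
        (X.smallEtaleTopology.over (U t)) X.smallEtaleTopology).leftAdjoint_preservesColimits
    exact PreservesCokernel.iso (X.smallEtaleTopology.overPullback AddCommGrpCat.{u+1} (U t)) φ ≪≫
      cokernel.mapIso _ _ α β e ≪≫
      (PreservesCokernel.iso (constantSheaf (X.smallEtaleTopology.over (U t))
        AddCommGrpCat.{u+1}) h).symm ≪≫
      (constantSheaf (X.smallEtaleTopology.over (U t)) AddCommGrpCat.{u+1}).mapIso em

end Helper15.LcStruct
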