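import Mathlib
import Groth.Agent.Lib.Helper13.ExtPresheaf

/-!
# (helper15) Universe-generalised copy of `Helper13.CechBasic` (hom-sets only `w`-small, via `Shrink`)

# Čech complexes of presheaves of abelian groups: element API and acyclicity of injective presheaves

`D` is a category with finite products whose `Hom`-sets live in the universe `w` of the index type
`ι` of the family `Y : ι → D` and of the coefficient groups.

* `proj`, `mk`, `ext_elem`, `d_apply`, `map_proj`: element-level API for Mathlib's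
  `cechComplexFunctor`.
* `Kp Y n`: the free presheaf `V ↦ ℤ[(Σ j, V ⟶ Y j)^{n+1}]`, which corepresents the degree `n`
  term of the Čech complex (`Θ`, `liftK`, `Θc_injective`), `Kd` its differential (`Θ_Kd`),
  `Kexact` its exactness.
* `exactAt_of_injective`, `isZero_homology_of_injective`: the Čech complex of an injective presheaf
  is exact in positive degrees.
-/
set_option autoImplicit false
universe w v u'
open CategoryTheory CategoryTheory.Limits Opposite

noncomputable section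

namespace Groth.Agent.Lib.Helper15.CechGen

section Std
/-! ### The standard complex `ℤ[S^{n+1}]` -/

variable (S : Type w)

/-- the differential of the standard complex `ℤ[S^{n+2}] → ℤ[S^{n+1}]`. -/
def bd (n : ℕ) : FreeAbelianGroup (Fin (n + 2) → S) →+ FreeAbelianGroup (Fin (n + 1) → S) :=
  ∑ k : Fin (n + 2), (-1 : ℤ) ^ (k : ℕ) •
    FreeAbelianGroup.map (fun x : Fin (n + 2) → S => x ∘ k.succAbove)

lemma bd_of (n : ℕ) (x : Fin (n + 2) → S) : bd S n (FreeAbelianGroup.of x) =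
    ∑ k : Fin (n + 2), (-1 : ℤ) ^ (k : ℕ) • FreeAbelianGroup.of (x ∘ k.succAbove) := by
  simp only [bd, AddMonoidHom.finsetSum_apply, AddMonoidHom.smul_apply,
    FreeAbelianGroup.map_of_apply]

variable {S}

/-- the cone operator `x ↦ (s₀, x)`. -/
def cone (s₀ : S) (n : ℕ) :
    FreeAbelianGroup (Fin (n + 1) → S) →+ FreeAbelianGroup (Fin (n + 2) → S) :=
  FreeAbelianGroup.map (fun x : Fin (n + 1) → S => (Fin.cons s₀ x : Fin (n + 2) → S))

lemma bd_cone (s₀ : S) (n : ℕ) (x : FreeAbelianGroup (Fin (n + 2) → S)) :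
    bd S (n + 1) (cone s₀ (n + 1) x) = x - cone s₀ n (bd S n x) := by
  have : (bd S (n + 1)).comp (cone s₀ (n + 1)) =
      AddMonoidHom.id _ - (cone s₀ n).comp (bd S n) := by
    apply FreeAbelianGroup.lift_ext
    intro f
    simp only [AddMonoidHom.comp_apply, AddMonoidHom.sub_apply, AddMonoidHom.id_apply, cone,
      FreeAbelianGroup.map_of_apply, bd_of, map_sum, map_zsmul]
    rw [Fin.sum_univ_succ]
    have h0 : (Fin.cons s₀ f : Fin (n + 3) → S) ∘ (0 : Fin (n + 3)).succAbove = f := by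
      funext j
      simp
    have hs : ∀ k : Fin (n + 2), (Fin.cons s₀ f : Fin (n + 3) → S) ∘ k.succ.succAbove =
        Fin.cons s₀ (f ∘ k.succAbove) := by
      intro k
      funext j
      refine Fin.cases ?_ (fun j' => ?_) j
      · simp
      · simp
    rw [h0]
    simp only [hs, Fin.val_zero, pow_zero, one_smul, Fin.val_succ, pow_succ, mul_neg, mul_one,
      neg_smul, Finset.sum_neg_distrib]
    abel
  exact DFunLike.congr_fun this x

lemma eq_zero_of_isEmpty {α : Type w} [IsEmpty α] (x : FreeAbelianGroup α) : x = 0 := by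
  induction x using FreeAbelianGroup.induction_on with
  | zero => rfl
  | of a => exact isEmptyElim a
  | neg a _ => exact isEmptyElim a
  | add x y hx hy => rw [hx, hy, add_zero]

/-- exactness of the standard complex (for any type `S`, empty or not). -/
lemma exists_bd_eq (n : ℕ) (x : FreeAbelianGroup (Fin (n + 2) → S)) (hx : bd S n x = 0) :
    ∃ y, bd S (n + 1) y = x := by
  by_cases h : Nonempty S
  · obtain ⟨s₀⟩ := h
    exact ⟨cone s₀ (n + 1) x, by rw [bd_cone, hx, map_zero, sub_zero]⟩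
  · rw [not_nonempty_iff] at h
    have : IsEmpty (Fin (n + 2) → S) := ⟨fun f => h.elim (f 0)⟩
    exact ⟨0, by rw [map_zero, eq_zero_of_isEmpty x]⟩

end Std

section API
/-! ### Element API for the Čech complex -/

variable {D : Type u'} [Category.{v} D] [HasFiniteProducts D] {ι : Type w} (Y : ι → D)

/-- the face morphism `Y_{i_0} × ⋯ × Y_{i_{n+1}} ⟶ Y_{i_0} × ⋯ (omit k) ⋯ × Y_{i_{n+1}}`. -/
def face {n : ℕ} (i : Fin (n + 2) → ι) (k : Fin (n + 2)) :
    ∏ᶜ (Y ∘ i) ⟶ ∏ᶜ (Y ∘ (i ∘ k.succAbove)) :=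
  Pi.lift (fun a => Pi.π (Y ∘ i) (k.succAbove a))

@[reassoc (attr := simp)]
lemma face_π {n : ℕ} (i : Fin (n + 2) → ι) (k : Fin (n + 2)) (a : Fin (n + 1)) :
    face Y i k ≫ Pi.π (Y ∘ (i ∘ k.succAbove)) a = Pi.π (Y ∘ i) (k.succAbove a) :=
  Pi.lift_π _ _

variable (P : Dᵒᵖ ⥤ AddCommGrpCat.{w})

/-- The Čech complex of the presheaf `P` with respect to the family `Y`. -/
abbrev cx : CochainComplex AddCommGrpCat.{w} ℕ := (cechComplexFunctor Y).obj P

/-- the projection of the degree `n` term of the Čech complex to the component of index `i`. -/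
def proj (n : ℕ) (i : Fin (n + 1) → ι) : (cx Y P).X n ⟶ P.obj (op (∏ᶜ (Y ∘ i))) :=
  Pi.π (fun i : Fin (n + 1) → ι => P.obj (op (∏ᶜ (Y ∘ i)))) i

/-- the coface maps of the Čech complex. -/
def coface (n : ℕ) (k : Fin (n + 2)) : (cx Y P).X n ⟶ (cx Y P).X (n + 1) :=
  ((FormalCoproduct.cosimplicialObjectFunctor (FormalCoproduct.mk _ Y).cech).obj P).δ k

lemma d_eq (n : ℕ) : (cx Y P).d n (n + 1) =
    ∑ k : Fin (n + 2), (-1 : ℤ) ^ (k : ℕ) • coface Y P n k :=
  CochainComplex.of_d (fun n => ((FormalCoproduct.cosimplicialObjectFunctor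
      (FormalCoproduct.mk _ Y).cech).obj P).obj (SimplexCategory.mk n))
    (AlgebraicTopology.AlternatingCofaceMapComplex.objD
      ((FormalCoproduct.cosimplicialObjectFunctor (FormalCoproduct.mk _ Y).cech).obj P)) n

lemma coface_proj (n : ℕ) (k : Fin (n + 2)) (i : Fin (n + 2) → ι) :
    coface Y P n k ≫ proj Y P (n + 1) i =
      proj Y P n (i ∘ k.succAbove) ≫ P.map (face Y i k).op :=
  Pi.lift_π _ _

lemma d_proj (n : ℕ) (i : Fin (n + 2) → ι) :
    (cx Y P).d n (n + 1) ≫ proj Y P (n + 1) i =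
      ∑ k : Fin (n + 2), (-1 : ℤ) ^ (k : ℕ) •
        (proj Y P n (i ∘ k.succAbove) ≫ P.map (face Y i k).op) := by
  rw [d_eq, Preadditive.sum_comp]
  refine Finset.sum_congr rfl (fun k _ => ?_)
  rw [Preadditive.zsmul_comp, coface_proj]

lemma d_apply (n : ℕ) (x : (cx Y P).X n) (i : Fin (n + 2) → ι) :
    (proj Y P (n + 1) i).hom (((cx Y P).d n (n + 1)).hom x) =
      ∑ k : Fin (n + 2), (-1 : ℤ) ^ (k : ℕ) •
        (P.map (face Y i k).op).hom ((proj Y P n (i ∘ k.succAbove)).hom x) := by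
  have h := ConcreteCategory.congr_hom (d_proj Y P n i) x
  refine h.trans ?_
  have h2 : ∀ (s : Finset (Fin (n + 2))) (f : Fin (n + 2) → ((cx Y P).X n ⟶ P.obj (op (∏ᶜ (Y ∘ i))))),
      (∑ k ∈ s, f k).hom x = ∑ k ∈ s, (f k).hom x := by
    intro s f
    induction s using Finset.induction_on with
    | empty => simp
    | insert a s ha ih => rw [Finset.sum_insert ha, Finset.sum_insert ha, ← ih]; rfl
  refine (h2 _ _).trans ?_
  rfl

lemma ext_elem {n : ℕ} {x y : (cx Y P).X n}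
    (h : ∀ i, (proj Y P n i).hom x = (proj Y P n i).hom y) : x = y := by
  apply (Concrete.productEquiv (fun i : Fin (n + 1) → ι => P.obj (op (∏ᶜ (Y ∘ i))))).injective
  funext i
  rw [Concrete.productEquiv_apply_apply, Concrete.productEquiv_apply_apply]
  exact h i

/-- the element of the degree `n` term of the Čech complex with given components. -/
def mk {n : ℕ} (c : ∀ i : Fin (n + 1) → ι, P.obj (op (∏ᶜ (Y ∘ i)))) : (cx Y P).X n :=
  (Concrete.productEquiv (fun i : Fin (n + 1) → ι => P.obj (op (∏ᶜ (Y ∘ i))))).symm c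

@[simp]
lemma proj_mk {n : ℕ} (c : ∀ i : Fin (n + 1) → ι, P.obj (op (∏ᶜ (Y ∘ i))))
    (i : Fin (n + 1) → ι) : (proj Y P n i).hom (mk Y P c) = c i :=
  Concrete.productEquiv_symm_apply_π _ _ _

variable {P} in
lemma map_proj {P' : Dᵒᵖ ⥤ AddCommGrpCat.{w}} (τ : P ⟶ P') (n : ℕ) (i : Fin (n + 1) → ι) :
    ((cechComplexFunctor Y).map τ).f n ≫ proj Y P' n i =
      proj Y P n i ≫ τ.app (op (∏ᶜ (Y ∘ i))) := by
  have : ((cechComplexFunctor Y).map τ).f n =
      Limits.Pi.map (fun i : Fin (n + 1) → ι => τ.app (op (∏ᶜ (Y ∘ i)))) := rfl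
  rw [this]
  exact Pi.map_π _ _

end API

section Free
/-! ### The free presheaves corepresenting the terms of the Čech complex -/

variable {D : Type u'} [Category.{v} D] [LocallySmall.{w} D] [HasFiniteProducts D] {ι : Type w}
  (Y : ι → D)

/-- `n`-simplices over `V`: `(n+1)`-tuples of pairs `(j, V ⟶ Y j)`. -/
abbrev Simp (n : ℕ) (V : D) : Type w := Fin (n + 1) → Σ j : ι, Shrink.{w} (V ⟶ Y j)

variable {Y}

/-- restriction of simplices along `a : V' ⟶ V`. -/
abbrev Simp.pre {n : ℕ} {V V' : D} (a : V' ⟶ V) (x : Simp Y n V) : Simp Y n V' :=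
  fun b => ⟨(x b).1, equivShrink _ (a ≫ (equivShrink _).symm (x b).2)⟩

lemma Simp.pre_id {n : ℕ} {V : D} (x : Simp Y n V) : Simp.pre (𝟙 V) x = x := by
  funext b
  simp [Simp.pre]

lemma Simp.pre_comp {n : ℕ} {V V' V'' : D} (a : V' ⟶ V) (a' : V'' ⟶ V') (x : Simp Y n V) :
    Simp.pre (a' ≫ a) x = Simp.pre a' (Simp.pre a x) := by
  funext b
  simp [Simp.pre]

/-- the index tuple of a simplex. -/
abbrev idx {n : ℕ} {V : D} (x : Simp Y n V) : Fin (n + 1) → ι := fun a => (x a).1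

/-- the morphism to the iterated product determined by a simplex. -/
def tup {n : ℕ} {V : D} (x : Simp Y n V) : V ⟶ ∏ᶜ (Y ∘ idx x) :=
  Pi.lift (fun a => (equivShrink (V ⟶ Y (x a).1)).symm (x a).2)

/-- the canonical simplex over the iterated product. -/
abbrev can {n : ℕ} (i : Fin (n + 1) → ι) : Simp Y n (∏ᶜ (Y ∘ i)) :=
  fun a => ⟨i a, equivShrink _ (Pi.π (Y ∘ i) a)⟩

lemma pre_tup_can {n : ℕ} {V : D} (x : Simp Y n V) : Simp.pre (tup x) (can (idx x)) = x := by
  funext b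
  change (⟨(x b).1, equivShrink _ (tup x ≫ (equivShrink _).symm
    (equivShrink _ (Pi.π (Y ∘ idx x) b)))⟩ : Σ j : ι, Shrink.{w} (V ⟶ Y j)) = x b
  rw [Equiv.symm_apply_apply, tup, Pi.lift_π, Equiv.apply_symm_apply]

lemma tup_pre {n : ℕ} {V V' : D} (a : V' ⟶ V) (x : Simp Y n V) :
    tup (Simp.pre a x) = a ≫ tup x := by
  apply Pi.hom_ext
  intro b
  change tup (Simp.pre a x) ≫ Pi.π (Y ∘ idx x) b = (a ≫ tup x) ≫ Pi.π (Y ∘ idx x) b
  rw [Category.assoc]
  have h1 : tup x ≫ Pi.π (Y ∘ idx x) b = (equivShrink _).symm (x b).2 := Pi.lift_π _ _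
  have h2 : tup (Simp.pre a x) ≫ Pi.π (Y ∘ idx x) b = a ≫ (equivShrink _).symm (x b).2 :=
    (Pi.lift_π (fun b => (equivShrink (V' ⟶ Y (x b).1)).symm
      (equivShrink _ (a ≫ (equivShrink _).symm (x b).2))) b).trans (Equiv.symm_apply_apply _ _)
  rw [h1, h2]

lemma tup_can {n : ℕ} (i : Fin (n + 1) → ι) : tup (can (Y := Y) i) = 𝟙 (∏ᶜ (Y ∘ i)) := by
  apply Pi.hom_ext
  intro b
  rw [Category.id_comp]
  exact (Pi.lift_π _ _).trans (Equiv.symm_apply_apply _ _)

variable (Y)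

/-- The free presheaf `V ↦ ℤ[Simp Y n V]`. -/
def Kp (n : ℕ) : Dᵒᵖ ⥤ AddCommGrpCat.{w} where
  obj V := AddCommGrpCat.of (FreeAbelianGroup (Simp Y n V.unop))
  map a := AddCommGrpCat.ofHom (FreeAbelianGroup.map (Simp.pre a.unop))
  map_id V := by
    apply AddCommGrpCat.hom_ext
    apply FreeAbelianGroup.lift_ext
    intro x
    change FreeAbelianGroup.map (Simp.pre (𝟙 V.unop)) (FreeAbelianGroup.of x) = FreeAbelianGroup.of x
    rw [FreeAbelianGroup.map_of_apply, Simp.pre_id]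
  map_comp {V V' V''} a a' := by
    apply AddCommGrpCat.hom_ext
    apply FreeAbelianGroup.lift_ext
    intro x
    change FreeAbelianGroup.map (Simp.pre (a'.unop ≫ a.unop)) (FreeAbelianGroup.of x) =
      FreeAbelianGroup.map (Simp.pre a'.unop) (FreeAbelianGroup.map (Simp.pre a.unop)
        (FreeAbelianGroup.of x))
    rw [FreeAbelianGroup.map_of_apply, FreeAbelianGroup.map_of_apply, FreeAbelianGroup.map_of_apply,
      Simp.pre_comp]

lemma Kp_map_of (n : ℕ) {V V' : D} (a : V' ⟶ V) (x : Simp Y n V) :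
    ((Kp Y n).map a.op).hom (FreeAbelianGroup.of x) = FreeAbelianGroup.of (Simp.pre a x) :=
  FreeAbelianGroup.map_of_apply _

variable (Q : Dᵒᵖ ⥤ AddCommGrpCat.{w})

/-- components of the Čech cochain attached to a morphism `Kp Y n ⟶ Q`. -/
def Θc {n : ℕ} (i : Fin (n + 1) → ι) : (Kp Y n ⟶ Q) →+ Q.obj (op (∏ᶜ (Y ∘ i))) where
  toFun φ := (φ.app (op (∏ᶜ (Y ∘ i)))).hom (FreeAbelianGroup.of (can i))
  map_zero' := rfl
  map_add' _ _ := rfl

/-- the Čech cochain attached to a morphism `Kp Y n ⟶ Q`. -/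
def Θ {n : ℕ} (φ : Kp Y n ⟶ Q) : (cx Y Q).X n := mk Y Q (fun i => Θc Y Q i φ)

@[simp]
lemma proj_Θ {n : ℕ} (φ : Kp Y n ⟶ Q) (i : Fin (n + 1) → ι) :
    (proj Y Q n i).hom (Θ Y Q φ) = Θc Y Q i φ :=
  proj_mk _ _ _ _

variable {Q} in
lemma app_of {n : ℕ} (φ : Kp Y n ⟶ Q) {V : D} (x : Simp Y n V) :
    (φ.app (op V)).hom (FreeAbelianGroup.of x) = (Q.map (tup x).op).hom (Θc Y Q (idx x) φ) := by
  have h := ConcreteCategory.congr_hom (φ.naturality (tup x).op) (FreeAbelianGroup.of (can (idx x)))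
  refine Eq.trans ?_ h
  change _ = (φ.app (op V)).hom (((Kp Y n).map (tup x).op).hom (FreeAbelianGroup.of (can (idx x))))
  rw [Kp_map_of, pre_tup_can]

variable {Q} in
lemma Θc_injective {n : ℕ} (φ φ' : Kp Y n ⟶ Q) (h : ∀ i, Θc Y Q i φ = Θc Y Q i φ') : φ = φ' := by
  apply NatTrans.ext
  funext V
  apply AddCommGrpCat.hom_ext
  apply FreeAbelianGroup.lift_ext
  intro (x : Simp Y n V.unop)
  exact (app_of Y φ x).trans ((congrArg _ (h _)).trans (app_of Y φ' x).symm)

/-- the morphism `Kp Y n ⟶ Q` attached to a family of sections. -/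
def liftK {n : ℕ} (c : ∀ i : Fin (n + 1) → ι, Q.obj (op (∏ᶜ (Y ∘ i)))) : Kp Y n ⟶ Q where
  app V := AddCommGrpCat.ofHom (FreeAbelianGroup.lift
    (fun x : Simp Y n V.unop => (Q.map (tup x).op).hom (c (idx x))))
  naturality V V' a := by
    apply AddCommGrpCat.hom_ext
    apply FreeAbelianGroup.lift_ext
    intro (x : Simp Y n V.unop)
    change FreeAbelianGroup.lift (fun x : Simp Y n V'.unop => (Q.map (tup x).op).hom (c (idx x)))
        (FreeAbelianGroup.map (Simp.pre a.unop) (FreeAbelianGroup.of x)) =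
      (Q.map a).hom (FreeAbelianGroup.lift
        (fun x : Simp Y n V.unop => (Q.map (tup x).op).hom (c (idx x))) (FreeAbelianGroup.of x))
    rw [FreeAbelianGroup.map_of_apply, FreeAbelianGroup.lift_apply_of,
      FreeAbelianGroup.lift_apply_of]
    change (Q.map (tup (Simp.pre a.unop x)).op).hom (c (idx x)) = _
    rw [tup_pre, op_comp, Q.map_comp]
    rfl

lemma Θc_liftK {n : ℕ} (c : ∀ i : Fin (n + 1) → ι, Q.obj (op (∏ᶜ (Y ∘ i))))
    (i : Fin (n + 1) → ι) : Θc Y Q i (liftK Y Q c) = c i := by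
  change FreeAbelianGroup.lift (fun x : Simp Y n (∏ᶜ (Y ∘ i)) => (Q.map (tup x).op).hom (c (idx x)))
    (FreeAbelianGroup.of (can i)) = c i
  rw [FreeAbelianGroup.lift_apply_of]
  change (Q.map (tup (can (Y := Y) i)).op).hom (c i) = c i
  rw [tup_can, op_id, Q.map_id]
  rfl

lemma Θ_surjective {n : ℕ} (c : (cx Y Q).X n) : ∃ φ : Kp Y n ⟶ Q, Θ Y Q φ = c := by
  refine ⟨liftK Y Q (fun i => (proj Y Q n i).hom c), ?_⟩
  apply ext_elem
  intro i
  rw [proj_Θ, Θc_liftK]

/-- the face maps of the simplicial presheaf `Kp Y •`. -/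
def Kface (n : ℕ) (k : Fin (n + 2)) : Kp Y (n + 1) ⟶ Kp Y n where
  app V := AddCommGrpCat.ofHom (FreeAbelianGroup.map
    (fun x : Simp Y (n + 1) V.unop => (x ∘ k.succAbove : Simp Y n V.unop)))
  naturality V V' a := by
    apply AddCommGrpCat.hom_ext
    apply FreeAbelianGroup.lift_ext
    intro (x : Simp Y (n + 1) V.unop)
    change FreeAbelianGroup.map (fun x : Simp Y (n + 1) V'.unop => (x ∘ k.succAbove : Simp Y n V'.unop))
        (FreeAbelianGroup.map (Simp.pre a.unop) (FreeAbelianGroup.of x)) =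
      FreeAbelianGroup.map (Simp.pre a.unop) (FreeAbelianGroup.map
        (fun x : Simp Y (n + 1) V.unop => (x ∘ k.succAbove : Simp Y n V.unop))
        (FreeAbelianGroup.of x))
    simp only [FreeAbelianGroup.map_of_apply]
    rfl

/-- the differential of the complex of presheaves `Kp Y •`. -/
def Kd (n : ℕ) : Kp Y (n + 1) ⟶ Kp Y n :=
  ∑ k : Fin (n + 2), (-1 : ℤ) ^ (k : ℕ) • Kface Y n k

lemma Kd_app_hom (n : ℕ) (V : Dᵒᵖ) :
    ((Kd Y n).app V).hom = bd (Σ j : ι, Shrink.{w} (V.unop ⟶ Y j)) n := by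
  have h1 : (Kd Y n).app V = ∑ k : Fin (n + 2), (-1 : ℤ) ^ (k : ℕ) • (Kface Y n k).app V := by
    simp [Kd, NatTrans.app_sum]
  rw [h1]
  have h2 : ∀ (s : Finset (Fin (n + 2)))
      (f : Fin (n + 2) → ((Kp Y (n + 1)).obj V ⟶ (Kp Y n).obj V)),
      (∑ k ∈ s, f k).hom = ∑ k ∈ s, (f k).hom := by
    intro s f
    induction s using Finset.induction_on with
    | empty => simp
    | insert a s ha ih => rw [Finset.sum_insert ha, Finset.sum_insert ha, ← ih]; rfl
  rw [h2]
  rfl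

variable {Q} in
lemma Θc_Kface {n : ℕ} (φ : Kp Y n ⟶ Q) (k : Fin (n + 2)) (i : Fin (n + 2) → ι) :
    Θc Y Q i (Kface Y n k ≫ φ) = (Q.map (face Y i k).op).hom (Θc Y Q (i ∘ k.succAbove) φ) := by
  have h := ConcreteCategory.congr_hom (φ.naturality (face Y i k).op)
    (FreeAbelianGroup.of (can (i ∘ k.succAbove)))
  refine Eq.trans ?_ h
  change (φ.app (op (∏ᶜ (Y ∘ i)))).hom (FreeAbelianGroup.map
      (fun x : Simp Y (n + 1) (∏ᶜ (Y ∘ i)) => (x ∘ k.succAbove : Simp Y n (∏ᶜ (Y ∘ i))))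
      (FreeAbelianGroup.of (can i))) =
    (φ.app (op (∏ᶜ (Y ∘ i)))).hom (((Kp Y n).map (face Y i k).op).hom
      (FreeAbelianGroup.of (can (i ∘ k.succAbove))))
  rw [Kp_map_of, FreeAbelianGroup.map_of_apply]
  congr 2
  funext a
  change (⟨i (k.succAbove a), equivShrink _ (Pi.π (Y ∘ i) (k.succAbove a))⟩ :
      Σ j : ι, Shrink.{w} (∏ᶜ (Y ∘ i) ⟶ Y j)) =
    ⟨i (k.succAbove a), equivShrink _ (face Y i k ≫ (equivShrink _).symm
      (equivShrink _ (Pi.π (Y ∘ (i ∘ k.succAbove)) a)))⟩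
  rw [Equiv.symm_apply_apply, face_π]

variable {Q} in
lemma Θ_Kd {n : ℕ} (φ : Kp Y n ⟶ Q) :
    Θ Y Q (Kd Y n ≫ φ) = ((cx Y Q).d n (n + 1)).hom (Θ Y Q φ) := by
  apply ext_elem
  intro i
  rw [proj_Θ, d_apply, Kd, Preadditive.sum_comp, map_sum]
  refine Finset.sum_congr rfl (fun k _ => ?_)
  rw [Preadditive.zsmul_comp, map_zsmul, Θc_Kface, proj_Θ]

lemma Θ_zero {n : ℕ} : Θ Y Q (0 : Kp Y n ⟶ Q) = 0 := by
  apply ext_elem
  intro i
  rw [proj_Θ, map_zero, map_zero]

variable {Q} in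
lemma eq_zero_of_Θ_eq_zero {n : ℕ} (φ : Kp Y n ⟶ Q) (h : Θ Y Q φ = 0) : φ = 0 := by
  apply Θc_injective
  intro i
  rw [← proj_Θ, h, map_zero, map_zero]

lemma Kd_comp (n : ℕ) : Kd Y (n + 1) ≫ Kd Y n = 0 := by
  have h : Kd Y (n + 1) ≫ Kd Y n ≫ 𝟙 (Kp Y n) = 0 := by
    apply eq_zero_of_Θ_eq_zero
    rw [Θ_Kd, Θ_Kd]
    exact ConcreteCategory.congr_hom ((cx Y (Kp Y n)).d_comp_d n (n + 1) (n + 2)) _
  rwa [Category.comp_id] at h

/-- the complex of presheaves `Kp Y •` is exact in positive degrees. -/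
lemma Kexact (n : ℕ) : (ShortComplex.mk (Kd Y (n + 1)) (Kd Y n) (Kd_comp Y n)).Exact := by
  apply Groth.Agent.Lib.Helper13.ExtPresheaf.exact_of_evaluation
  intro V
  rw [ShortComplex.ab_exact_iff]
  intro x hx
  have hx' : bd (Σ j : ι, Shrink.{w} (V.unop ⟶ Y j)) n x = 0 := by
    rw [← Kd_app_hom]
    exact hx
  obtain ⟨y, hy⟩ := exists_bd_eq n x hx'
  refine ⟨y, ?_⟩
  rw [← Kd_app_hom] at hy
  exact hy

/-- **The Čech complex of an injective presheaf is exact in positive degrees.** -/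
theorem exactAt_of_injective [Injective Q] (n : ℕ) : (cx Y Q).ExactAt (n + 1) := by
  rw [HomologicalComplex.exactAt_iff' _ n (n + 1) (n + 2) (by simp) (by simp),
    ShortComplex.ab_exact_iff]
  intro c hc
  obtain ⟨φ, rfl⟩ := Θ_surjective Y Q c
  have h0 : Kd Y (n + 1) ≫ φ = 0 := by
    apply eq_zero_of_Θ_eq_zero
    rw [Θ_Kd]
    exact hc
  refine ⟨Θ Y Q ((Kexact Y n).descToInjective φ h0), ?_⟩
  have := Θ_Kd Y ((Kexact Y n).descToInjective φ h0)
  rw [(Kexact Y n).comp_descToInjective] at this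
  exact this.symm

theorem isZero_homology_of_injective [Injective Q] (n : ℕ) :
    IsZero ((cx Y Q).homology (n + 1)) :=
  (HomologicalComplex.exactAt_iff_isZero_homology _ _).1 (exactAt_of_injective Y Q n)

end Free

end Groth.Agent.Lib.Helper15.CechGen
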