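import Mathlib
import Groth.Agent.Lib.Helper15.LcStruct2
import Groth.Agent.Lib.Helper5.EtCechFlasque

set_option autoImplicit false
set_option backward.isDefEq.respectTransparency false

universe u

open CategoryTheory CategoryTheory.Limits AlgebraicGeometry Opposite

namespace Helper15.LcStruct

variable {X : Scheme.{u}}

theorem map_comp_app (F : EtCoh.Ab X) {Y Y' Y'' : X.Etale} (k' : Y'' ⟶ Y') (k : Y' ⟶ Y)
    (s : F.obj.obj (op Y)) :
    F.obj.map (k' ≫ k).op s = F.obj.map k'.op (F.obj.map k.op s) := by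
  rw [op_comp, Functor.map_comp, ConcreteCategory.comp_apply]

theorem iso_inv_hom_apply {C : Type (u+1)} [Category.{u} C] {K : GrothendieckTopology C}
    {P Q : Sheaf K AddCommGrpCat.{u+1}} (α : P ≅ Q) (Y : Cᵒᵖ) (x : P.obj.obj Y) :
    α.inv.hom.app Y (α.hom.hom.app Y x) = x := by
  have h := congrArg (fun t => t.hom.app Y) α.hom_inv_id
  exact ConcreteCategory.congr_hom h x

theorem iso_hom_inv_apply {C : Type (u+1)} [Category.{u} C] {K : GrothendieckTopology C}
    {P Q : Sheaf K AddCommGrpCat.{u+1}} (α : P ≅ Q) (Y : Cᵒᵖ) (x : Q.obj.obj Y) :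
    α.hom.hom.app Y (α.inv.hom.app Y x) = x := by
  have h := congrArg (fun t => t.hom.app Y) α.inv_hom_id
  exact ConcreteCategory.congr_hom h x

/-- The sieve of arrows on which `s` becomes a (restricted) constant section. -/
def cSieve (F : EtCoh.Ab X) {V : X.Etale} {M : Type*} (c : M → F.obj.obj (op V)) {Y : X.Etale}
    (h : Y ⟶ V) (s : F.obj.obj (op Y)) : Sieve Y where
  arrows Y' k := ∃ m, F.obj.map k.op s = F.obj.map (k ≫ h).op (c m)
  downward_closed := by
    rintro Y' Y'' k ⟨m, hm⟩ k'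
    refine ⟨m, ?_⟩
    rw [map_comp_app F k' k s, hm, ← map_comp_app F k' (k ≫ h) (c m), Category.assoc]

/-- `F` restricted to `V` is constant with value `M`, with `c` giving the constant sections. -/
structure IsConstVia (F : EtCoh.Ab X) (V : X.Etale) (M : Type (u+1)) [AddCommGroup M]
    (c : M →+ F.obj.obj (op V)) : Prop where
  surj : ∀ {Y : X.Etale} (h : Y ⟶ V) (s : F.obj.obj (op Y)),
    cSieve F c h s ∈ X.smallEtaleTopology Y
  inj : ∀ {Y : X.Etale} (h : Y ⟶ V) (m : M), (⊥ : Sieve Y) ∉ X.smallEtaleTopology Y →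
    F.obj.map h.op (c m) = 0 → m = 0

theorem IsConstVia.restrict {F : EtCoh.Ab X} {V : X.Etale} {M : Type (u+1)} [AddCommGroup M]
    {c : M →+ F.obj.obj (op V)} (hc : IsConstVia F V M c) {V' : X.Etale} (f : V' ⟶ V) :
    IsConstVia F V' M ((F.obj.map f.op).hom.comp c) where
  surj := by
    intro Y h s
    refine X.smallEtaleTopology.superset_covering ?_ (hc.surj (h ≫ f) s)
    rintro Y' k ⟨m, hm⟩
    refine ⟨m, ?_⟩
    exact hm.trans ((congrArg (fun t => F.obj.map t.op (c m)) (Category.assoc k h f).symm).trans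
      (map_comp_app F (k ≫ h) f (c m)))
  inj := by
    intro Y h m hY hm
    refine hc.inj (h ≫ f) m hY ?_
    exact (map_comp_app F h f (c m)).trans hm

/-- The constant sections coming from a trivialisation. -/
noncomputable def csOf {F : EtCoh.Ab X} {V : X.Etale} (M : AddCommGrpCat.{u+1})
    (α : F.over V ≅ (cst X M).over V) : M →+ F.obj.obj (op V) :=
  AddMonoidHom.mk' (fun m => α.inv.hom.app (op (Over.mk (𝟙 V))) (eta M V m))
    (by intro a b; rw [map_add, map_add])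

theorem csOf_nat {F : EtCoh.Ab X} {V : X.Etale} (M : AddCommGrpCat.{u+1})
    (α : F.over V ≅ (cst X M).over V) (g : Over V) (m : M) :
    α.inv.hom.app (op g) (eta M g.left m) = F.obj.map g.hom.op (csOf M α m) := by
  have n1 := NatTrans.naturality_apply α.inv.hom
    (Over.homMk g.hom : g ⟶ Over.mk (𝟙 V)).op (eta M V m)
  have e1 : (cst X M).obj.map g.hom.op (eta M V m) = eta M g.left m := eta_map_apply M g.hom m
  rw [← e1]
  exact n1

theorem isConstVia_of_iso {F : EtCoh.Ab X} {V : X.Etale} (M : AddCommGrpCat.{u+1})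
    (α : F.over V ≅ (cst X M).over V) : IsConstVia F V M (csOf M α) where
  surj := by
    intro Y h s
    obtain ⟨t, ht⟩ : ∃ t : (cst X M).obj.obj (op Y), t = α.hom.hom.app (op (Over.mk h)) s :=
      ⟨_, rfl⟩
    have hS := Presheaf.imageSieve_mem X.smallEtaleTopology
      (toSheafify X.smallEtaleTopology ((Functor.const X.Etaleᵒᵖ).obj M)) (U := op Y) t
    refine X.smallEtaleTopology.superset_covering ?_ hS
    rintro Y' k ⟨m, hm⟩
    refine ⟨m, ?_⟩
    have hm' : eta M Y' m = (cst X M).obj.map k.op t := hm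
    have n1 := NatTrans.naturality_apply α.hom.hom
      (Over.homMk k : Over.mk (k ≫ h) ⟶ Over.mk h).op s
    have e2 : α.hom.hom.app (op (Over.mk (k ≫ h))) (F.obj.map k.op s) = eta M Y' m := by
      rw [hm', ht]; exact n1
    have e3 : α.inv.hom.app (op (Over.mk (k ≫ h))) (eta M Y' m) =
        F.obj.map (k ≫ h).op (csOf M α m) := csOf_nat M α (Over.mk (k ≫ h)) m
    exact ((iso_inv_hom_apply α (op (Over.mk (k ≫ h))) (F.obj.map k.op s)).symm.trans
      (congrArg (fun z => α.inv.hom.app (op (Over.mk (k ≫ h))) z) e2)).trans e3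
  inj := by
    intro Y h m hY hm
    have e3 : α.inv.hom.app (op (Over.mk h)) (eta M Y m) = F.obj.map h.op (csOf M α m) :=
      csOf_nat M α (Over.mk h) m
    have e5 : eta M Y m = 0 :=
      (iso_hom_inv_apply α (op (Over.mk h)) (eta M Y m)).symm.trans
        ((congrArg (fun z => α.hom.hom.app (op (Over.mk h)) z) (e3.trans hm)).trans
          (map_zero (α.hom.hom.app (op (Over.mk h))).hom))
    exact eta_injective M Y hY (e5.trans (map_zero (eta M Y).hom).symm)

section ConstIso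

variable (F : EtCoh.Ab X) (V : X.Etale) (M : Type (u+1)) [AddCommGroup M]
  (c : M →+ F.obj.obj (op V))

/-- The presheaf map from the constant presheaf given by constant sections. -/
noncomputable def tauPre :
    (Functor.const (Over V)ᵒᵖ).obj (AddCommGrpCat.of M) ⟶ (F.over V).obj where
  app g := AddCommGrpCat.ofHom ((F.obj.map g.unop.hom.op).hom.comp c)
  naturality := by
    intro g g' k
    ext m
    have w : k.unop.left ≫ g.unop.hom = g'.unop.hom := Over.w k.unop
    show F.obj.map g'.unop.hom.op (c m) = F.obj.map k.unop.left.op (F.obj.map g.unop.hom.op (c m))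
    rw [← map_comp_app F k.unop.left g.unop.hom (c m), w]

noncomputable def lam :
    (constantSheaf (X.smallEtaleTopology.over V) AddCommGrpCat.{u+1}).obj (AddCommGrpCat.of M) ⟶
      F.over V :=
  ((sheafificationAdjunction (X.smallEtaleTopology.over V) AddCommGrpCat.{u+1}).homEquiv
    ((Functor.const (Over V)ᵒᵖ).obj (AddCommGrpCat.of M)) (F.over V)).symm (tauPre F V M c)

theorem lam_fac : toSheafify (X.smallEtaleTopology.over V) _ ≫ (lam F V M c).hom =
    tauPre F V M c := by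
  have h := ((sheafificationAdjunction (X.smallEtaleTopology.over V)
    AddCommGrpCat.{u+1}).homEquiv ((Functor.const (Over V)ᵒᵖ).obj (AddCommGrpCat.of M))
      (F.over V)).apply_symm_apply (tauPre F V M c)
  rw [Adjunction.homEquiv_unit] at h
  exact h

variable {F V M c}

theorem tauPre_locSurj (hc : IsConstVia F V M c) :
    Presheaf.IsLocallySurjective (X.smallEtaleTopology.over V) (tauPre F V M c) where
  imageSieve_mem := by
    intro g s
    have hT := hc.surj g.hom s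
    refine (X.smallEtaleTopology.over V).superset_covering ?_
      (X.smallEtaleTopology.overEquiv_symm_mem_over g _ hT)
    intro g' k hk
    rw [Sieve.overEquiv_symm_iff] at hk
    obtain ⟨m, hm⟩ := hk
    refine ⟨m, ?_⟩
    have w : k.left ≫ g.hom = g'.hom := Over.w k
    show F.obj.map g'.hom.op (c m) = F.obj.map k.left.op s
    rw [hm, w]

theorem tauPre_locInj (hc : IsConstVia F V M c) :
    Presheaf.IsLocallyInjective (X.smallEtaleTopology.over V) (tauPre F V M c) where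
  equalizerSieve_mem := by
    intro g x y hxy
    by_cases hE : (⊥ : Sieve g.unop.left) ∈ X.smallEtaleTopology g.unop.left
    · have hb : (⊥ : Sieve g.unop) ∈ (X.smallEtaleTopology.over V) g.unop := by
        rw [GrothendieckTopology.mem_over_iff, (Sieve.overEquiv g.unop).map_bot]
        exact hE
      exact (X.smallEtaleTopology.over V).superset_covering bot_le hb
    · have hxy' : F.obj.map g.unop.hom.op (c x) = F.obj.map g.unop.hom.op (c y) := hxy
      have h0 : (x - y : M) = 0 := hc.inj g.unop.hom (x - y) hE (by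
        rw [map_sub, map_sub, hxy', sub_self])
      have hxy2 : x = y := sub_eq_zero.mp h0
      subst hxy2
      rw [Presheaf.equalizerSieve_self_eq_top]
      exact (X.smallEtaleTopology.over V).top_mem _

theorem constIso_of_isConstVia (hc : IsConstVia F V M c) :
    Nonempty (F.over V ≅ (constantSheaf (X.smallEtaleTopology.over V) AddCommGrpCat.{u+1}).obj
      (AddCommGrpCat.of M)) := by
  have := tauPre_locSurj hc
  have := tauPre_locInj hc
  have h1 : Presheaf.IsLocallyInjective (X.smallEtaleTopology.over V) (lam F V M c).hom :=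
    Presheaf.isLocallyInjective_of_isLocallyInjective_of_isLocallySurjective_fac _
      (tauPre F V M c) (lam_fac F V M c)
  have h2 : Presheaf.IsLocallySurjective (X.smallEtaleTopology.over V) (lam F V M c).hom :=
    Presheaf.isLocallySurjective_of_isLocallySurjective_fac _ (lam_fac F V M c)
  have : IsIso (lam F V M c) := (Sheaf.isLocallyBijective_iff_isIso (lam F V M c)).1 ⟨h1, h2⟩
  exact ⟨(asIso (lam F V M c)).symm⟩

end ConstIso

theorem addSubgroup_of_finite {G : Type*} [AddCommGroup G] (T : Set G) (hfin : T.Finite)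
    (hne : T.Nonempty) (hadd : ∀ a ∈ T, ∀ b ∈ T, a + b ∈ T) :
    ∃ H : AddSubgroup G, (H : Set G) = T := by
  have : Finite T := hfin.to_subtype
  have key : ∀ a ∈ T, ∀ b ∈ T, ∃ t ∈ T, a + t = b := by
    intro a ha b hb
    have hinj : Function.Injective (fun t : T => (⟨a + t.1, hadd a ha t.1 t.2⟩ : T)) := by
      intro t t' h
      have h' : a + t.1 = a + t'.1 := congrArg Subtype.val h
      exact Subtype.ext (add_left_cancel h')
    obtain ⟨t, ht⟩ := Finite.surjective_of_injective hinj ⟨b, hb⟩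
    exact ⟨t.1, t.2, congrArg Subtype.val ht⟩
  obtain ⟨a, ha⟩ := hne
  have h0 : (0 : G) ∈ T := by
    obtain ⟨t, ht, e⟩ := key a ha a ha
    have e' : t = 0 := by simpa using e
    exact e' ▸ ht
  refine ⟨{ carrier := T
            add_mem' := fun {x y} hx hy => hadd x hx y hy
            zero_mem' := h0
            neg_mem' := ?_ }, rfl⟩
  intro x hx
  obtain ⟨t, ht, e⟩ := key x hx 0 h0
  have e' : t = -x := eq_neg_of_add_eq_zero_right e
  exact e' ▸ ht

open Groth.Agent.Lib.Helper5.EtCechFlasque in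
theorem ext_constVia (S : ShortComplex (EtCoh.Ab X)) (hS : S.ShortExact) (V : X.Etale)
    (M N : AddCommGrpCat.{u+1}) [Finite M] [Finite N]
    (c₁ : M →+ S.X₁.obj.obj (op V)) (c₃ : N →+ S.X₃.obj.obj (op V))
    (h₁ : IsConstVia S.X₁ V M c₁) (h₃ : IsConstVia S.X₃ V N c₃)
    (σ : N → S.X₂.obj.obj (op V)) (mm : N → N → M)
    (hσ : ∀ n, S.g.hom.app (op V) (σ n) = c₃ n)
    (hmm : ∀ n n', σ (n + n') - σ n - σ n' = S.f.hom.app (op V) (c₁ (mm n n'))) :
    ∃ (E : AddSubgroup (S.X₂.obj.obj (op V))), Finite E ∧ IsConstVia S.X₂ V E E.subtype := by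
  classical
  obtain ⟨θ, hθ⟩ : ∃ θ : M × N → S.X₂.obj.obj (op V),
      ∀ p, θ p = S.f.hom.app (op V) (c₁ p.1) + σ p.2 := ⟨_, fun _ => rfl⟩
  have hadd : ∀ a ∈ Set.range θ, ∀ b ∈ Set.range θ, a + b ∈ Set.range θ := by
    rintro _ ⟨⟨m, n⟩, rfl⟩ _ ⟨⟨m', n'⟩, rfl⟩
    refine ⟨(m + m' - mm n n', n + n'), ?_⟩
    rw [hθ, hθ, hθ]
    simp only [map_sub, map_add]
    rw [← hmm n n']
    abel
  obtain ⟨E, hE⟩ := addSubgroup_of_finite (Set.range θ) (Set.finite_range θ)
    ⟨θ (0, 0), ⟨_, rfl⟩⟩ hadd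
  have memE : ∀ e : S.X₂.obj.obj (op V), e ∈ E ↔
      ∃ m n, e = S.f.hom.app (op V) (c₁ m) + σ n := by
    intro e
    rw [← SetLike.mem_coe, hE]
    constructor
    · rintro ⟨⟨m, n⟩, rfl⟩; exact ⟨m, n, hθ _⟩
    · rintro ⟨m, n, rfl⟩; exact ⟨(m, n), hθ _⟩
  have σ0 : σ 0 = - S.f.hom.app (op V) (c₁ (mm 0 0)) := by
    have h00 := hmm 0 0
    rw [add_zero] at h00
    rw [← h00]; abel
  refine ⟨E, ?_, ?_, ?_⟩
  · have hf : (E : Set (S.X₂.obj.obj (op V))).Finite := by rw [hE]; exact Set.finite_range θ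
    exact hf.to_subtype
  · intro Y h s
    have hT₃ := h₃.surj h (S.g.hom.app (op Y) s)
    refine X.smallEtaleTopology.transitive hT₃ _ ?_
    rintro Y' k ⟨n, hn⟩
    obtain ⟨s', hs'⟩ : ∃ s' : S.X₂.obj.obj (op Y'),
        s' = S.X₂.obj.map k.op s - S.X₂.obj.map (k ≫ h).op (σ n) := ⟨_, rfl⟩
    have hg : S.g.hom.app (op Y') s' = 0 := by
      rw [hs', map_sub, NatTrans.naturality_apply S.g.hom k.op s,
        NatTrans.naturality_apply S.g.hom (k ≫ h).op (σ n), hn, hσ, sub_self]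
    obtain ⟨a, ha⟩ := sections_exact hS Y' s' hg
    have ha' : S.f.hom.app (op Y') a = s' := ha
    have hT₁ := h₁.surj (k ≫ h) a
    refine X.smallEtaleTopology.superset_covering ?_ hT₁
    rintro Y'' k' ⟨m, hm⟩
    refine ⟨⟨S.f.hom.app (op V) (c₁ m) + σ n, (memE _).2 ⟨m, n, rfl⟩⟩, ?_⟩
    show S.X₂.obj.map (k' ≫ k).op s =
      S.X₂.obj.map ((k' ≫ k) ≫ h).op (S.f.hom.app (op V) (c₁ m) + σ n)
    have e1 : S.X₂.obj.map k.op s = s' + S.X₂.obj.map (k ≫ h).op (σ n) := by rw [hs']; abel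
    have e2 : S.X₂.obj.map k'.op s' =
        S.X₂.obj.map (k' ≫ k ≫ h).op (S.f.hom.app (op V) (c₁ m)) := by
      rw [← ha']
      refine (NatTrans.naturality_apply S.f.hom k'.op a).symm.trans ?_
      rw [hm]
      exact NatTrans.naturality_apply S.f.hom (k' ≫ k ≫ h).op (c₁ m)
    rw [map_comp_app S.X₂ k' k s, e1]
    simp only [map_add]
    rw [e2, ← map_comp_app S.X₂ k' (k ≫ h) (σ n), Category.assoc]
  · intro Y h e hY he
    obtain ⟨m, n, hmn⟩ := (memE e.1).1 e.2
    have he' : S.X₂.obj.map h.op e.1 = 0 := he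
    have hz : S.g.hom.app (op V) (S.f.hom.app (op V) (c₁ m)) = 0 := sections_zero hS V (c₁ m)
    have hg : S.X₃.obj.map h.op (c₃ n) = 0 := by
      have h1 := congrArg (fun z => S.g.hom.app (op Y) z) he'
      simp only [map_zero] at h1
      rw [NatTrans.naturality_apply S.g.hom h.op e.1, hmn, map_add, hz, zero_add, hσ] at h1
      exact h1
    have hn : n = 0 := h₃.inj h n hY hg
    subst hn
    have he2 : e.1 = S.f.hom.app (op V) (c₁ (m - mm 0 0)) := by
      rw [hmn, σ0, map_sub, map_sub]; abel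
    have h1 : S.X₁.obj.map h.op (c₁ (m - mm 0 0)) = 0 := by
      apply sections_injective hS Y
      refine (NatTrans.naturality_apply S.f.hom h.op (c₁ (m - mm 0 0))).trans ?_
      rw [← he2]; exact he'
    have hm0 : m - mm 0 0 = 0 := h₁.inj h _ hY h1
    apply Subtype.ext
    show e.1 = 0
    rw [he2, hm0, map_zero, map_zero]

open Groth.Agent.Lib.Helper5.EtCechFlasque in
theorem ext_refine (S : ShortComplex (EtCoh.Ab X)) (hS : S.ShortExact) (V : X.Etale)
    (M N : AddCommGrpCat.{u+1}) [Finite N]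
    (c₁ : M →+ S.X₁.obj.obj (op V)) (c₃ : N →+ S.X₃.obj.obj (op V))
    (h₁ : IsConstVia S.X₁ V M c₁) (w : V.left) :
    ∃ (W : X.Etale) (f : W ⟶ V) (w' : W.left), f.left w' = w ∧
      ∃ (σ : N → S.X₂.obj.obj (op W)) (mm : N → N → M),
        (∀ n, S.g.hom.app (op W) (σ n) = S.X₃.obj.map f.op (c₃ n)) ∧
        (∀ n n', σ (n + n') - σ n - σ n' =
          S.f.hom.app (op W) (S.X₁.obj.map f.op (c₁ (mm n n')))) := by
  have hls : Presheaf.IsLocallySurjective X.smallEtaleTopology S.g.hom :=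
    (Sheaf.isLocallySurjective_iff_epi' _ S.g).2 hS.epi_g
  have hS₁ : (⨅ n : N, Presheaf.imageSieve S.g.hom (c₃ n)) ∈ X.smallEtaleTopology V :=
    iInf_mem _ _ (fun n => Presheaf.imageSieve_mem X.smallEtaleTopology S.g.hom (U := op V) (c₃ n))
  obtain ⟨V', f₁, w₁, hf₁, hw₁⟩ := (Groth.Agent.Lib.Helper15.EtGlue.mem_iff _ _).1 hS₁ w
  simp only [iInf, Sieve.sInf_apply, Set.mem_range, forall_exists_index,
    forall_apply_eq_imp_iff] at hf₁
  have hf₁' : ∀ n, ∃ t : S.X₂.obj.obj (op V'),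
      S.g.hom.app (op V') t = S.X₃.obj.map f₁.op (c₃ n) := fun n => hf₁ n
  choose σ₁ hσ₁ using hf₁'
  have hd : ∀ n n', ∃ a : S.X₁.obj.obj (op V'),
      S.f.hom.app (op V') a = σ₁ (n + n') - σ₁ n - σ₁ n' := by
    intro n n'
    have hz : S.g.hom.app (op V') (σ₁ (n + n') - σ₁ n - σ₁ n') = 0 := by
      rw [map_sub, map_sub, hσ₁, hσ₁, hσ₁, map_add, map_add]; abel
    obtain ⟨a, ha⟩ := sections_exact hS V' _ hz
    exact ⟨a, ha⟩
  choose a ha using hd
  have hS₂ : (⨅ p : N × N, cSieve S.X₁ c₁ f₁ (a p.1 p.2)) ∈ X.smallEtaleTopology V' :=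
    iInf_mem _ _ (fun p => h₁.surj f₁ (a p.1 p.2))
  obtain ⟨W, f₂, w₂, hf₂, hw₂⟩ := (Groth.Agent.Lib.Helper15.EtGlue.mem_iff _ _).1 hS₂ w₁
  simp only [iInf, Sieve.sInf_apply, Set.mem_range, forall_exists_index,
    forall_apply_eq_imp_iff] at hf₂
  have hf₂' : ∀ p : N × N, ∃ m : M,
      S.X₁.obj.map f₂.op (a p.1 p.2) = S.X₁.obj.map (f₂ ≫ f₁).op (c₁ m) := fun p => hf₂ p
  choose mm hmm using hf₂'
  refine ⟨W, f₂ ≫ f₁, w₂, ?_, fun n => S.X₂.obj.map f₂.op (σ₁ n), fun n n' => mm (n, n'),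
    ?_, ?_⟩
  · have e0 : (f₂ ≫ f₁).left = f₂.left ≫ f₁.left := rfl
    rw [e0, Scheme.Hom.comp_apply, hw₂, hw₁]
  · intro n
    rw [NatTrans.naturality_apply S.g.hom f₂.op (σ₁ n), hσ₁, ← map_comp_app S.X₃ f₂ f₁ (c₃ n)]
  · intro n n'
    rw [← map_sub, ← map_sub, ← ha n n', ← hmm (n, n')]
    exact (NatTrans.naturality_apply S.f.hom f₂.op (a n n')).symm

theorem flc_extension (S : ShortComplex (EtCoh.Ab X)) (hS : S.ShortExact)
    (h1 : EtCoh.IsFiniteLocallyConstant S.X₁) (h3 : EtCoh.IsFiniteLocallyConstant S.X₃) :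
    EtCoh.IsFiniteLocallyConstant S.X₂ := by
  obtain ⟨ι₁, U₁, hU₁, hc₁⟩ := h1
  obtain ⟨ι₃, U₃, hU₃, hc₃⟩ := h3
  choose M₁ iM₁ fM₁ α₁ using hc₁
  choose N₃ iN₃ fN₃ β₃ using hc₃
  have loc : ∀ (i : ι₁) (j : ι₃) (w : (prodObj (U₁ i) (U₃ j)).left),
      ∃ (W : X.Etale) (f : W ⟶ prodObj (U₁ i) (U₃ j)) (w' : W.left), f.left w' = w ∧
        ∃ (M : Type) (_ : AddCommGroup M) (_ : Finite M),
          Nonempty (S.X₂.over W ≅ (constantSheaf (X.smallEtaleTopology.over W)
            AddCommGrpCat.{u+1}).obj (AddCommGrpCat.of (ULift.{u+1} M))) := by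
    intro i j w
    have : Finite (AddCommGrpCat.of (ULift.{u+1} (M₁ i))) := by
      have := fM₁ i; show Finite (ULift.{u+1} (M₁ i)); infer_instance
    have : Finite (AddCommGrpCat.of (ULift.{u+1} (N₃ j))) := by
      have := fN₃ j; show Finite (ULift.{u+1} (N₃ j)); infer_instance
    obtain ⟨a⟩ := α₁ i
    obtain ⟨b⟩ := β₃ j
    have a' : S.X₁.over (U₁ i) ≅ (cst X (AddCommGrpCat.of (ULift.{u+1} (M₁ i)))).over (U₁ i) :=
      a ≪≫ ((kappa (U₁ i)).app _).symm
    have b' : S.X₃.over (U₃ j) ≅ (cst X (AddCommGrpCat.of (ULift.{u+1} (N₃ j)))).over (U₃ j) :=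
      b ≪≫ ((kappa (U₃ j)).app _).symm
    have k₁ := (isConstVia_of_iso _ a').restrict (prodFst (U₁ i) (U₃ j))
    have k₃ := (isConstVia_of_iso _ b').restrict (prodSnd (U₁ i) (U₃ j))
    obtain ⟨W, f, w', hw', σ, mm, hσ, hmm⟩ :=
      ext_refine S hS (prodObj (U₁ i) (U₃ j)) (AddCommGrpCat.of (ULift.{u+1} (M₁ i)))
        (AddCommGrpCat.of (ULift.{u+1} (N₃ j))) _
        ((S.X₃.obj.map (prodSnd (U₁ i) (U₃ j)).op).hom.comp (csOf _ b')) k₁ w
    obtain ⟨E, hEfin, hE⟩ := ext_constVia S hS W (AddCommGrpCat.of (ULift.{u+1} (M₁ i)))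
      (AddCommGrpCat.of (ULift.{u+1} (N₃ j))) _ _ (k₁.restrict f) (k₃.restrict f) σ mm hσ hmm
    obtain ⟨e⟩ := constIso_of_isConstVia hE
    have : Finite (AddCommGrpCat.of E) := hEfin
    obtain ⟨M, iM, fM, ⟨em⟩⟩ := exists_small_finite (AddCommGrpCat.of E)
    exact ⟨W, f, w', hw', M, iM, fM, ⟨e ≪≫ (constantSheaf _ _).mapIso em⟩⟩
  choose W f w' hw' M iM fM e using loc
  refine ⟨Σ i : ι₁, Σ j : ι₃, (prodObj (U₁ i) (U₃ j)).left, fun t => W t.1 t.2.1 t.2.2, ?_, ?_⟩
  · intro x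
    obtain ⟨i, y, hy⟩ := hU₁ x
    obtain ⟨j, y', hy'⟩ := hU₃ x
    obtain ⟨w, hw1, hw2⟩ := prod_point (U₁ i) (U₃ j) y y' (hy.trans hy'.symm)
    refine ⟨⟨i, j, w⟩, w' i j w, ?_⟩
    have e1 : (f i j w).left ≫ (prodObj (U₁ i) (U₃ j)).hom = (W i j w).hom :=
      MorphismProperty.Over.w (f i j w)
    have e2 : (prodObj (U₁ i) (U₃ j)).hom = (prodFst (U₁ i) (U₃ j)).left ≫ (U₁ i).hom := rfl
    show (W i j w).hom (w' i j w) = x
    rw [← e1, e2, Scheme.Hom.comp_apply, Scheme.Hom.comp_apply]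
    exact (congrArg (fun t => (U₁ i).hom ((prodFst (U₁ i) (U₃ j)).left t)) (hw' i j w)).trans
      ((congrArg (fun t => (U₁ i).hom t) hw1).trans hy)
  · rintro ⟨i, j, w⟩
    exact ⟨M i j w, iM i j w, fM i j w, e i j w⟩

end Helper15.LcStruct
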