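import Mathlib

/-!
# Lifting étale algebras along a surjection, with a point

`exists_lift_etale`: for `A → B` surjective, `C` étale over `B` and a ring map `ω : C → Ω` to a
field, there is an étale `A`-algebra `D`, a `B`-algebra map `τ : C → B ⊗[A] D` and compatible points
`δ : D → Ω`, `ε : B ⊗[A] D → Ω`.
-/

set_option autoImplicit false
universe u v

namespace Groth.Agent.Lib.Helper15.ClosedNbhdRing

open Polynomial TensorProduct

theorem exists_lift_etale {A B C : Type u} [CommRing A] [CommRing B] [CommRing C] [Algebra A B]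
    [Algebra B C] (hAB : Function.Surjective (algebraMap A B)) [Algebra.Etale B C]
    {Ω : Type v} [Field Ω] (ω : C →+* Ω) :
    ∃ (D : Type u) (_ : CommRing D) (_ : Algebra A D) (_ : Algebra.Etale A D)
      (τ : C →ₐ[B] B ⊗[A] D) (δ : D →+* Ω) (ε : B ⊗[A] D →+* Ω),
      (∀ a, δ (algebraMap A D a) = ω (algebraMap B C (algebraMap A B a))) ∧
      (∀ d, ε (1 ⊗ₜ d) = δ d) ∧ (∀ b, ε (b ⊗ₜ 1) = ω (algebraMap B C b)) ∧
      (∀ c, ε (τ c) = ω c) := by
  classical
  haveI hprime : (RingHom.ker ω).IsPrime := RingHom.ker_isPrime ω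
  obtain ⟨g, hg, hstd⟩ := Algebra.IsEtaleAt.exists_isStandardEtale (R := B) (RingHom.ker ω)
  obtain ⟨P⟩ := hstd.nonempty_standardEtalePresentation
  have hgne : ω g ≠ 0 := fun h0 => hg ((RingHom.mem_ker).2 h0)
  letI : Algebra B Ω := (ω.comp (algebraMap B C)).toAlgebra
  letI : Algebra A Ω := ((ω.comp (algebraMap B C)).comp (algebraMap A B)).toAlgebra
  haveI : IsScalarTower A B Ω := IsScalarTower.of_algebraMap_eq (fun _ => rfl)
  obtain ⟨ωB, hωB⟩ : ∃ ωB : C →ₐ[B] Ω, ∀ c, ωB c = ω c :=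
    ⟨{ ω with commutes' := fun b => rfl }, fun c => rfl⟩
  have hunit : ∀ y : Submonoid.powers g, IsUnit (ωB y) := by
    rintro ⟨_, n, rfl⟩
    rw [map_pow, hωB]
    exact (IsUnit.mk0 _ hgne).pow n
  obtain ⟨ω', hω'⟩ : ∃ ω' : Localization.Away g →ₐ[B] Ω,
      ∀ c, ω' (algebraMap C (Localization.Away g) c) = ω c :=
    ⟨IsLocalization.liftAlgHom (M := Submonoid.powers g) hunit,
      fun c => (IsLocalization.lift_eq hunit c).trans (hωB c)⟩
  haveI : Nontrivial C := ω.domain_nontrivial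
  haveI : Nontrivial B := (algebraMap B C).domain_nontrivial
  obtain ⟨fA, hfA, -, hfAm⟩ := Polynomial.lifts_and_degree_eq_and_monic
    (Polynomial.mem_lifts_of_surjective hAB P.f) P.monic_f
  obtain ⟨gA, hgA⟩ := Polynomial.map_surjective (algebraMap A B) hAB P.g
  obtain ⟨PA, hPAf, hPAg⟩ : ∃ PA : StandardEtalePair A, PA.f = fA ∧ PA.g = gA * derivative fA :=
    ⟨⟨fA, hfAm, gA * derivative fA, ⟨gA, 0, 1, by ring⟩⟩, rfl, rfl⟩
  refine ⟨PA.Ring, inferInstance, inferInstance, inferInstance, ?_⟩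
  -- the element `1 ⊗ X`
  obtain ⟨x', hx'⟩ : ∃ x' : B ⊗[A] PA.Ring, x' = 1 ⊗ₜ PA.X := ⟨_, rfl⟩
  have haev : ∀ r : A[X], aeval (R := B) x' (r.map (algebraMap A B)) =
      (Algebra.TensorProduct.includeRight : PA.Ring →ₐ[A] B ⊗[A] PA.Ring) (aeval PA.X r) := by
    intro r
    rw [Polynomial.aeval_map_algebraMap, ← Polynomial.aeval_algHom_apply, hx']
    rfl
  have hgX : IsUnit (aeval PA.X gA) := by
    have h2 := PA.hasMap_X.2
    rw [hPAg, map_mul] at h2
    exact isUnit_of_mul_isUnit_left h2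
  have hmapτ : P.P.HasMap x' := by
    constructor
    · rw [← hfA, haev, ← hPAf, PA.hasMap_X.1, map_zero]
    · rw [← hgA, haev]
      exact hgX.map _
  -- the point of `PA.Ring`
  have key : ∀ r : A[X], aeval (R := A) (ω' P.x) r =
      ω' (aeval (R := B) P.x (r.map (algebraMap A B))) := by
    intro r
    rw [← Polynomial.aeval_algHom_apply, Polynomial.aeval_map_algebraMap]
  have hmapΩ : PA.HasMap (ω' P.x) := by
    constructor
    · rw [hPAf, key, hfA, P.hasMap.1, map_zero]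
    · rw [hPAg, map_mul, key, key, hgA, ← Polynomial.derivative_map, hfA]
      exact (P.hasMap.2.map ω').mul (P.hasMap.isUnit_derivative_f.map ω')
  obtain ⟨δ, hδ⟩ : ∃ δ : PA.Ring →ₐ[A] Ω, δ PA.X = ω' P.x :=
    ⟨PA.lift _ hmapΩ, PA.lift_X _ hmapΩ⟩
  obtain ⟨ε, hε⟩ : ∃ ε : B ⊗[A] PA.Ring →ₐ[B] Ω,
      ∀ (b : B) (d : PA.Ring), ε (b ⊗ₜ d) = algebraMap B Ω b * δ d :=
    ⟨Algebra.TensorProduct.lift (Algebra.ofId B Ω) δ (fun _ _ => Commute.all _ _),
      fun b d => Algebra.TensorProduct.lift_tmul _ _ _ b d⟩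
  obtain ⟨τ₁, hτ₁⟩ : ∃ τ₁ : Localization.Away g →ₐ[B] B ⊗[A] PA.Ring, τ₁ P.x = x' :=
    ⟨(P.P.lift x' hmapτ).comp P.equivRing.toAlgHom, by
      show P.P.lift x' hmapτ (P.equivRing P.x) = x'
      rw [P.equivRing_x, P.P.lift_X]⟩
  have hcomp : ε.comp τ₁ = ω' := by
    apply P.hom_ext
    show ε (τ₁ P.x) = ω' P.x
    rw [hτ₁, hx', hε, map_one, one_mul, hδ]
  refine ⟨τ₁.comp (IsScalarTower.toAlgHom B C (Localization.Away g)), δ.toRingHom, ε.toRingHom,
    ?_, ?_, ?_, ?_⟩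
  · intro a
    exact δ.commutes a
  · intro d
    show ε (1 ⊗ₜ d) = δ d
    rw [hε, map_one, one_mul]
  · intro b
    show ε (b ⊗ₜ 1) = ω (algebraMap B C b)
    rw [hε, map_one, mul_one]
    rfl
  · intro c
    show ε (τ₁ (algebraMap C (Localization.Away g) c)) = ω c
    rw [← hω' c, ← hcomp]
    rfl

end Groth.Agent.Lib.Helper15.ClosedNbhdRing
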