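import Mathlib
import Groth.Agent.Lib.Helper15.ClosedNbhdRing

/-!
# Lifting étale neighbourhoods along a closed immersion

`exists_lift_nbhd`: for a closed immersion `i : Z ⟶ X`, an étale `q : V ⟶ Z` and a point
`v : Spec Ω ⟶ V`, there are an étale `p : U ⟶ X`, a point `u : Spec Ω ⟶ U` over `v ≫ q ≫ i` and a
`Z`-morphism `t : U ×_X Z ⟶ V` carrying the induced point to `v`.
-/

set_option autoImplicit false
universe u

namespace Groth.Agent.Lib.Helper15.ClosedNbhd

open CategoryTheory Limits AlgebraicGeometry TensorProduct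

theorem exists_lift_nbhd {Z X V : Scheme.{u}} (i : Z ⟶ X) [IsClosedImmersion i] (q : V ⟶ Z)
    [Etale q] {Ω : Type u} [Field Ω] (v : Spec (CommRingCat.of Ω) ⟶ V) :
    ∃ (U : Scheme.{u}) (p : U ⟶ X) (_ : Etale p) (u : Spec (CommRingCat.of Ω) ⟶ U)
      (h1 : u ≫ p = (v ≫ q) ≫ i) (t : pullback p i ⟶ V),
      t ≫ q = pullback.snd p i ∧ pullback.lift u (v ≫ q) h1 ≫ t = v := by
  -- Step 1: an affine open of `X`
  obtain ⟨A, jX, hjX, ⟨a₁, ha₁⟩, -⟩ := Scheme.exists_affine_mem_range_and_range_subset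
    (x := ((v ≫ q) ≫ i).base (default : Spec (CommRingCat.of Ω))) (U := ⊤) (by simp)
  haveI := hjX
  -- Step 2: the closed subscheme of `Spec A`
  obtain ⟨I, eZ, heZ⟩ := (IsClosedImmersion.Spec_iff (f := pullback.fst jX i)).1 inferInstance
  -- Step 3: an affine open of `V`
  have hmemO : v.base default ∈ (q ⁻¹ᵁ (pullback.snd jX i).opensRange) := by
    obtain ⟨z, -, hz⟩ := Scheme.Pullback.exists_preimage_pullback (f := jX) (g := i) a₁
      (q.base (v.base default)) ha₁
    show q.base (v.base default) ∈ Set.range (pullback.snd jX i).base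
    exact ⟨z, hz⟩
  obtain ⟨C, jV, hjV, ⟨c₁, hc₁⟩, hrange⟩ := Scheme.exists_affine_mem_range_and_range_subset
    (x := v.base default) (U := q ⁻¹ᵁ (pullback.snd jX i).opensRange) hmemO
  haveI := hjV
  have hrange' : Set.range (jV ≫ q).base ⊆ Set.range (pullback.snd jX i).base := by
    rintro _ ⟨y, rfl⟩
    exact hrange ⟨y, rfl⟩
  obtain ⟨qC, hqC⟩ : ∃ qC : Spec C ⟶ pullback jX i, qC ≫ pullback.snd jX i = jV ≫ q :=
    ⟨IsOpenImmersion.lift _ _ hrange', IsOpenImmersion.lift_fac _ _ _⟩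
  haveI : Etale qC := by
    haveI : Etale (qC ≫ pullback.snd jX i) := by rw [hqC]; infer_instance
    exact Etale.of_comp (f := qC) (pullback.snd jX i)
  obtain ⟨β, hβ⟩ := Spec.map_surjective (qC ≫ eZ.hom)
  have hβet : β.hom.Etale := by
    haveI : Etale (Spec.map β) := by rw [hβ]; infer_instance
    exact (HasRingHomProperty.Spec_iff (P := @Etale)).1 inferInstance
  have hvrange : Set.range v.base ⊆ Set.range jV.base := by
    rintro _ ⟨y, rfl⟩
    rw [Subsingleton.elim y default]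
    exact ⟨c₁, hc₁⟩
  obtain ⟨vC, hvC⟩ : ∃ vC : Spec (CommRingCat.of Ω) ⟶ Spec C, vC ≫ jV = v :=
    ⟨IsOpenImmersion.lift jV v hvrange, IsOpenImmersion.lift_fac _ _ _⟩
  obtain ⟨ω, hω⟩ := Spec.map_surjective vC
  -- Step 4: the ring-level lifting
  letI : Algebra (A ⧸ I) C := β.hom.toAlgebra
  haveI : Algebra.Etale (A ⧸ I) C := hβet
  obtain ⟨D, instD, algD, etD, τ, δ, ε, r1, r2, r3, r4⟩ :=
    ClosedNbhdRing.exists_lift_etale (A := (A : Type u)) (B := A ⧸ I) (C := C)
      Ideal.Quotient.mk_surjective ω.hom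
  -- Step 5
  obtain ⟨p₀, hp₀⟩ : ∃ p₀ : Spec (CommRingCat.of D) ⟶ Spec A,
      p₀ = Spec.map (CommRingCat.ofHom (algebraMap A D)) := ⟨_, rfl⟩
  haveI : Etale p₀ := by
    rw [hp₀]
    exact (HasRingHomProperty.Spec_iff (P := @Etale)).2 (RingHom.etale_algebraMap.2 inferInstance)
  have hF1 : qC ≫ pullback.fst jX i =
      Spec.map β ≫ Spec.map (CommRingCat.ofHom (Ideal.Quotient.mk I)) := by
    rw [heZ, ← Category.assoc, hβ]
  have hF2 : v ≫ q = vC ≫ qC ≫ pullback.snd jX i := by
    rw [hqC, ← Category.assoc, hvC]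
  have h_ring : CommRingCat.ofHom (algebraMap A D) ≫ CommRingCat.ofHom δ =
      CommRingCat.ofHom (Ideal.Quotient.mk I) ≫ β ≫ ω := by
    ext a
    exact r1 a
  have h1 : Spec.map (CommRingCat.ofHom δ) ≫ p₀ ≫ jX = (v ≫ q) ≫ i := by
    rw [hF2, Category.assoc, Category.assoc, ← pullback.condition, ← Category.assoc qC, hF1,
      ← Category.assoc, hp₀, ← Spec.map_comp, h_ring, Spec.map_comp, Spec.map_comp, hω]
    simp only [Category.assoc]
  -- Step 6: the pullback square
  have hS1 := isPullback_SpecMap_of_isPushout _ _ _ _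
    (CommRingCat.isPushout_tensorProduct A (A ⧸ I) D)
  have hS1' : IsPullback
      (Spec.map (CommRingCat.ofHom (S := (A ⧸ I) ⊗[A] D)
        Algebra.TensorProduct.includeLeftRingHom) ≫ eZ.inv)
      (Spec.map (CommRingCat.ofHom (S := (A ⧸ I) ⊗[A] D)
        (Algebra.TensorProduct.includeRight : D →ₐ[A] (A ⧸ I) ⊗[A] D).toRingHom))
      (pullback.fst jX i) p₀ := by
    refine hS1.of_iso (Iso.refl _) eZ.symm (Iso.refl _) (Iso.refl _) ?_ ?_ ?_ ?_
    · simp
    · simp
    · rw [heZ]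
      simp
    · rw [hp₀]
      simp
  have hP := (hS1'.paste_horiz (IsPullback.of_hasPullback jX i).flip).flip
  -- Step 7
  have hT1 : Spec.map (CommRingCat.ofHom τ.toRingHom) ≫ qC =
      Spec.map (CommRingCat.ofHom (S := (A ⧸ I) ⊗[A] D)
        Algebra.TensorProduct.includeLeftRingHom) ≫ eZ.inv := by
    rw [Iso.eq_comp_inv, Category.assoc, ← hβ, ← Spec.map_comp]
    congr 1
    ext b
    exact τ.commutes b
  refine ⟨Spec (CommRingCat.of D), p₀ ≫ jX, inferInstance, Spec.map (CommRingCat.ofHom δ), h1,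
    hP.isoPullback.inv ≫ Spec.map (CommRingCat.ofHom τ.toRingHom) ≫ jV, ?_, ?_⟩
  · have h5 : (Spec.map (CommRingCat.ofHom τ.toRingHom) ≫ jV) ≫ q =
        (Spec.map (CommRingCat.ofHom (S := (A ⧸ I) ⊗[A] D)
          Algebra.TensorProduct.includeLeftRingHom) ≫ eZ.inv) ≫ pullback.snd jX i := by
      rw [Category.assoc, ← hqC, ← Category.assoc, hT1]
    rw [Category.assoc, h5]
    exact hP.isoPullback_inv_snd
  · have hℓ : pullback.lift (Spec.map (CommRingCat.ofHom δ)) (v ≫ q) h1 ≫ hP.isoPullback.inv =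
        Spec.map (CommRingCat.ofHom ε) := by
      apply hP.hom_ext
      · rw [Category.assoc, hP.isoPullback_inv_fst, pullback.lift_fst, ← Spec.map_comp]
        congr 1
        ext d
        exact (r2 d).symm
      · rw [Category.assoc, hP.isoPullback_inv_snd, pullback.lift_snd, hF2, ← hω]
        have h3 : CommRingCat.ofHom (S := (A ⧸ I) ⊗[A] D)
            Algebra.TensorProduct.includeLeftRingHom ≫ CommRingCat.ofHom ε = β ≫ ω := by
          ext b
          exact r3 b
        rw [← Category.assoc (Spec.map (CommRingCat.ofHom ε)), ← Category.assoc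
          (Spec.map (CommRingCat.ofHom ε)), ← Spec.map_comp, h3, Spec.map_comp, hβ]
        simp only [Category.assoc, Iso.hom_inv_id_assoc]
    rw [← Category.assoc, hℓ, ← Category.assoc, ← Spec.map_comp]
    have h4 : CommRingCat.ofHom τ.toRingHom ≫ CommRingCat.ofHom ε = ω := by
      ext c
      exact r4 c
    rw [h4, hω, hvC]

end Groth.Agent.Lib.Helper15.ClosedNbhd
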