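import Mathlib
import Groth.Prelude.Def_EtBase
import Groth.Prelude.Def_EtShriek2
import Groth.Agent.S0067
import Groth.Agent.Lib.Helper13.StalkPull
import Groth.Agent.Lib.Helper13.StalkConservative
import Groth.Agent.Lib.Helper13.EtaleRestr
import Groth.Agent.Lib.Helper15.EtGlue

/-!
# Stalks of `i_*`, `j_!` for a closed immersion `i` and the complementary open immersion `j`

* `exists_factor`: a geometric point landing in a closed subscheme factors through it.
* `isZero_stalk_of_vanish`: a sheaf vanishing on etale schemes missing `Z` has zero stalks off `Z`.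
* `isZero_push_sections`: sections of `i_* N` vanish on etale schemes missing `Z`.
* `isIso_stalk_unit`: the unit `F ⟶ i_* i^{-1} F` is an isomorphism on stalks at points of `Z`.
* `isIso_stalk_counit`: the counit `j_! j^{-1} F ⟶ F` is an isomorphism on stalks at points of `U`.
-/

set_option autoImplicit false
universe u

namespace Groth.Agent.Lib.Helper15.ClosedStalk

open CategoryTheory Limits AlgebraicGeometry Opposite
open Groth.Agent.Lib.Helper13 Groth.Agent.Lib.Helper13.StalkPull
  Groth.Agent.Lib.Helper13.StalkConservative Groth.Agent.Lib.Helper13.EtaleRestr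
  Groth.Agent.Lib.Helper13.ExtZeroExact

section homological

variable {A : Type*} [Category A] [Abelian A]

lemma shortExact_of_isZero_X₁ (S : ShortComplex A) (h : IsZero S.X₁) (hg : IsIso S.g) :
    S.ShortExact := by
  haveI := hg
  haveI : Mono S.f := ⟨fun _ _ _ => h.eq_of_tgt _ _⟩
  have hf : S.f = 0 := h.eq_of_src _ _
  exact ShortComplex.ShortExact.mk' ((S.exact_iff_mono hf).2 inferInstance) inferInstance
    inferInstance

lemma shortExact_of_isZero_X₃ (S : ShortComplex A) (h : IsZero S.X₃) (hf : IsIso S.f) :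
    S.ShortExact := by
  haveI := hf
  haveI : Epi S.g := ⟨fun _ _ _ => h.eq_of_src _ _⟩
  have hg : S.g = 0 := h.eq_of_tgt _ _
  exact ShortComplex.ShortExact.mk' ((S.exact_iff_epi hg).2 inferInstance) inferInstance
    inferInstance

end homological

/-- A point of `Spec` of a field landing in a closed subscheme factors through it. -/
lemma exists_factor {Z X : Scheme.{u}} (i : Z ⟶ X) [IsClosedImmersion i] {Ω : Type u} [Field Ω]
    (ξ : Spec (CommRingCat.of Ω) ⟶ X) (h : ξ.base default ∈ Set.range i.base) :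
    ∃ ζ : Spec (CommRingCat.of Ω) ⟶ Z, ζ ≫ i = ξ := by
  haveI : Surjective (pullback.fst ξ i) := by
    constructor
    intro s
    obtain ⟨z, hz⟩ := h
    obtain ⟨w, hw1, -⟩ := Scheme.Pullback.exists_preimage_pullback (f := ξ) (g := i) default z
      hz.symm
    exact ⟨w, hw1.trans (Subsingleton.elim _ _)⟩
  haveI : IsIso (pullback.fst ξ i) := isIso_of_isClosedImmersion_of_surjective _
  exact ⟨inv (pullback.fst ξ i) ≫ pullback.snd ξ i, by
    rw [Category.assoc, ← pullback.condition, IsIso.inv_hom_id_assoc]⟩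

set_option backward.isDefEq.respectTransparency.types false in
/-- Sections of `i_* N` vanish over etale `X`-schemes missing `Z`. -/
lemma isZero_push_sections {Z X : Scheme.{u}} (i : Z ⟶ X) (N : EtCoh.Ab Z) (V : X.Etale)
    (hV : Disjoint (Set.range V.hom.base) (Set.range i.base)) :
    IsZero (((EtCoh.push i).obj N).obj.obj (op V)) := by
  have hempty : IsEmpty ((EtCoh.bc i).obj V).left := by
    constructor
    intro w
    have hc : (pullback.fst V.hom i ≫ V.hom).base w = (pullback.snd V.hom i ≫ i).base w := by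
      rw [pullback.condition]
    exact Set.disjoint_left.1 hV ⟨(pullback.fst V.hom i).base w, rfl⟩
      ⟨(pullback.snd V.hom i).base w, hc.symm⟩
  haveI : Subsingleton ↑(N.obj.obj (op ((EtCoh.bc i).obj V))) :=
    EtGlue.subsingleton_of_isEmpty (EtGlue.toSh N) _ hempty
  exact AddCommGrpCat.isZero_of_subsingleton (N.obj.obj (op ((EtCoh.bc i).obj V)))

/-- Refining an etale neighbourhood of a point off `Z` to one missing `Z`. -/
lemma exists_refine {Z X V : Scheme.{u}} (i : Z ⟶ X) [IsClosedImmersion i] (q : V ⟶ X)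
    {Ω : Type u} [Field Ω] (v : Spec (CommRingCat.of Ω) ⟶ V)
    (ξ : Spec (CommRingCat.of Ω) ⟶ X) (hvq : v ≫ q = ξ)
    (hξ : ξ.base default ∉ Set.range i.base) :
    ∃ (W : Scheme.{u}) (ι : W ⟶ V) (_ : IsOpenImmersion ι) (l : Spec (CommRingCat.of Ω) ⟶ W),
      l ≫ ι = v ∧ Disjoint (Set.range (ι ≫ q).base) (Set.range i.base) := by
  subst hvq
  obtain ⟨Uc, hUc⟩ : ∃ Uc : X.Opens, (Uc : Set X) = (Set.range i.base)ᶜ :=
    ⟨⟨(Set.range i.base)ᶜ, i.isClosedEmbedding.isClosed_range.isOpen_compl⟩, rfl⟩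
  have hrange : Set.range v.base ⊆ Set.range (q ⁻¹ᵁ Uc).ι.base := by
    rintro _ ⟨s', rfl⟩
    rw [Scheme.Opens.range_ι]
    show q.base (v.base s') ∈ (Uc : Set X)
    rw [hUc, Subsingleton.elim s' default]
    exact hξ
  refine ⟨(q ⁻¹ᵁ Uc).toScheme, (q ⁻¹ᵁ Uc).ι, inferInstance, IsOpenImmersion.lift _ v hrange,
    IsOpenImmersion.lift_fac _ _ _, ?_⟩
  rw [Set.disjoint_left]
  rintro _ ⟨y, rfl⟩ hy
  have h3 : (q ⁻¹ᵁ Uc).ι.base y ∈ ((q ⁻¹ᵁ Uc : V.Opens) : Set V) := by
    rw [← Scheme.Opens.range_ι]; exact ⟨y, rfl⟩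
  have hy2 : q.base ((q ⁻¹ᵁ Uc).ι.base y) ∈ (Uc : Set X) := h3
  rw [hUc] at hy2
  exact hy2 hy

set_option backward.isDefEq.respectTransparency.types false in
/-- A sheaf whose sections vanish over etale schemes missing `Z` has zero stalks off `Z`. -/
lemma isZero_stalk_of_vanish {Z X : Scheme.{u}} (i : Z ⟶ X) [IsClosedImmersion i]
    (M : EtCoh.Ab X)
    (hM : ∀ V : X.Etale, Disjoint (Set.range V.hom.base) (Set.range i.base) →
      IsZero (M.obj.obj (op V)))
    {Ω : Type u} [Field Ω] [IsSepClosed Ω] (ξ : Spec (CommRingCat.of Ω) ⟶ X)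
    (hξ : ξ.base default ∉ Set.range i.base) :
    IsZero ((EtCoh.stalk ξ).obj M) := by
  have hsub : ∀ t : ToType ((Scheme.pointSmallEtale ξ).presheafFiber.obj M.obj), t = 0 := by
    intro t
    obtain ⟨V, v, s, rfl⟩ := (Scheme.pointSmallEtale ξ).toPresheafFiber_jointly_surjective t
    haveI : Etale V.hom := V.prop
    have hvw : v.left ≫ V.hom = ξ := Over.w v
    obtain ⟨W, ι, hι, l, hl, hdisj⟩ := exists_refine i V.hom v.left ξ hvw hξ
    haveI := hι
    obtain ⟨g, hg⟩ : ∃ g : Scheme.Etale.mk (ι ≫ V.hom) ⟶ V, g.left = ι :=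
      ⟨MorphismProperty.Over.homMk ι rfl trivial, rfl⟩
    obtain ⟨v', hv'⟩ : ∃ v' : (Scheme.pointSmallEtale ξ).fiber.obj
        (Scheme.Etale.mk (ι ≫ V.hom)), v'.left = l :=
      ⟨Over.homMk l (by
        show l ≫ (ι ≫ V.hom) = ξ
        exact ((Category.assoc _ _ _).symm.trans (congrArg (· ≫ V.hom) hl)).trans hvw), rfl⟩
    have hv : (Scheme.pointSmallEtale ξ).fiber.map g v' = v := by
      apply Over.OverMorphism.ext
      show v'.left ≫ g.left = v.left
      exact (congrArg₂ (· ≫ ·) hv' hg).trans hl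
    haveI := AddCommGrpCat.subsingleton_of_isZero (hM (Scheme.Etale.mk (ι ≫ V.hom)) hdisj)
    have h0 : M.obj.map g.op s = 0 := Subsingleton.elim _ _
    rw [← hv, ← (Scheme.pointSmallEtale ξ).toPresheafFiber_w_apply, h0, map_zero]
  haveI : Subsingleton ↑((EtCoh.stalk ξ).obj M) := ⟨fun a b => (hsub a).trans (hsub b).symm⟩
  exact AddCommGrpCat.isZero_of_subsingleton _

/-- The unit `F ⟶ i_* i^{-1} F` is an isomorphism on stalks at geometric points of `Z`. -/
lemma isIso_stalk_unit {Z X : Scheme.{u}} (i : Z ⟶ X) [IsClosedImmersion i] (F : EtCoh.Ab X)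
    {Ω : Type u} [Field Ω] [IsSepClosed Ω] (ξ : Spec (CommRingCat.of Ω) ⟶ X)
    (ζ : Spec (CommRingCat.of Ω) ⟶ Z) (hζ : ζ ≫ i = ξ) :
    IsIso ((EtCoh.stalk ξ).map ((EtCoh.pullPushAdj i).unit.app F)) := by
  subst hζ
  obtain ⟨hfull, hfaith⟩ := Groth.Agent.S0067.result i
  haveI := hfull
  haveI := hfaith
  haveI h1 : IsIso ((EtCoh.pull i).map ((EtCoh.pullPushAdj i).unit.app F)) := by
    have htri := (EtCoh.pullPushAdj i).left_triangle_components F
    haveI : IsIso ((EtCoh.pullPushAdj i).counit.app ((EtCoh.pull i).obj F)) := inferInstance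
    haveI : IsIso ((EtCoh.pull i).map ((EtCoh.pullPushAdj i).unit.app F) ≫
        (EtCoh.pullPushAdj i).counit.app ((EtCoh.pull i).obj F)) := by
      rw [htri]; exact IsIso.id _
    exact IsIso.of_isIso_comp_right _ ((EtCoh.pullPushAdj i).counit.app ((EtCoh.pull i).obj F))
  refine (NatIso.isIso_map_iff (stalkPullIso i ζ) ((EtCoh.pullPushAdj i).unit.app F)).1 ?_
  show IsIso ((EtCoh.stalk ζ).map ((EtCoh.pull i).map ((EtCoh.pullPushAdj i).unit.app F)))
  infer_instance

/-- The counit `j_! j^{-1} F ⟶ F` is an isomorphism on stalks at geometric points of `U`. -/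
lemma isIso_stalk_counit {U X : Scheme.{u}} (j : U ⟶ X) [Etale j] [Mono j] (F : EtCoh.Ab X)
    {Ω : Type u} [Field Ω] [IsSepClosed Ω] (ξ : Spec (CommRingCat.of Ω) ⟶ X)
    (v : Spec (CommRingCat.of Ω) ⟶ U) (hv : v ≫ j = ξ) :
    IsIso ((EtCoh.stalk ξ).map ((EtShriek.extZeroAdj j).counit.app F)) := by
  subst hv
  haveI h1 : IsIso ((EtShriek.restrAlong j).map ((EtShriek.extZeroAdj j).counit.app F)) := by
    have htri := (EtShriek.extZeroAdj j).right_triangle_components F
    haveI : IsIso ((EtShriek.extZeroAdj j).unit.app ((EtShriek.restrAlong j).obj F)) :=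
      inferInstance
    haveI : IsIso ((EtShriek.extZeroAdj j).unit.app ((EtShriek.restrAlong j).obj F) ≫
        (EtShriek.restrAlong j).map ((EtShriek.extZeroAdj j).counit.app F)) := by
      rw [htri]; exact IsIso.id _
    exact IsIso.of_isIso_comp_left
      ((EtShriek.extZeroAdj j).unit.app ((EtShriek.restrAlong j).obj F)) _
  refine (NatIso.isIso_map_iff (stalkRestrIso j v) ((EtShriek.extZeroAdj j).counit.app F)).1 ?_
  show IsIso ((EtCoh.stalk v).map
    ((EtShriek.restrAlong j).map ((EtShriek.extZeroAdj j).counit.app F)))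
  infer_instance

end Groth.Agent.Lib.Helper15.ClosedStalk
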