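import Mathlib
import Groth.Agent.Lib.Helper15.Constr

set_option autoImplicit false
set_option backward.isDefEq.respectTransparency false

universe u

open CategoryTheory CategoryTheory.Limits AlgebraicGeometry Opposite Topology

namespace Helper15.Constr

section TopCT

variable {X : Type*} [TopologicalSpace X]

theorem cin_univ {A : Set X} (h : CIn Set.univ A) : IsConstructible A := by
  have h2 := IsConstructible.image_of_isOpenEmbedding (isOpen_univ.isOpenEmbedding_subtypeVal)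
    (by rw [Subtype.range_coe]; exact IsRetrocompact.univ) h
  rwa [Subtype.image_preimage_coe, Set.univ_inter] at h2

theorem cin_univ' {A : Set X} (h : IsConstructible A) : CIn Set.univ A :=
  h.preimage_of_isOpenEmbedding isOpen_univ.isOpenEmbedding_subtypeVal

theorem isOpen_ct_of_isConstructible [CompactSpace X] {A : Set X} (hA : IsConstructible A) :
    IsOpen[constructibleTopology X] A ∧ IsOpen[constructibleTopology X] Aᶜ := by
  induction hA using IsConstructible.empty_union_induction with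
  | open_retrocompact U hUo hUc =>
    refine ⟨hUc.isCompact.isOpen_constructibleTopology_of_isOpen hUo, ?_⟩
    exact IsCompact.isOpen_constructibleTopology_of_isClosed
      (by rw [compl_compl]; exact hUc.isCompact) hUo.isClosed_compl
  | union s hs t ht hs' ht' =>
    refine ⟨?_, ?_⟩
    · letI : TopologicalSpace X := constructibleTopology X
      exact IsOpen.union hs'.1 ht'.1
    · rw [Set.compl_union]
      letI : TopologicalSpace X := constructibleTopology X
      exact IsOpen.inter hs'.2 ht'.2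
  | compl s hs hs' =>
    exact ⟨hs'.2, by rw [compl_compl]; exact hs'.1⟩

theorem exists_finite_cover_of_constructible [CompactSpace X] [QuasiSober X] [PrespectralSpace X]
    [QuasiSeparatedSpace X] {ι : Type*} (L : ι → Set X) (hL : ∀ i, IsConstructible (L i))
    (hcov : (⋃ i, L i) = Set.univ) :
    ∃ t : Finset ι, (⋃ i ∈ t, L i) = Set.univ := by
  have hopen : ∀ i, IsOpen
      ((WithTopology.ofTopology : WithConstructibleTopology X → X) ⁻¹' L i) := by
    intro i
    rw [WithConstructibleTopology.isOpen_iff]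
    exact (isOpen_ct_of_isConstructible (hL i)).1
  obtain ⟨t, ht⟩ := isCompact_univ.elim_finite_subcover _ hopen (by
    intro y _
    have hy : WithTopology.ofTopology y ∈ ⋃ i, L i := hcov ▸ Set.mem_univ _
    obtain ⟨i, hi⟩ := Set.mem_iUnion.mp hy
    exact Set.mem_iUnion.mpr ⟨i, hi⟩)
  refine ⟨t, Set.eq_univ_of_forall fun x => ?_⟩
  have hx := ht (Set.mem_univ (WithTopology.toTopology _ x))
  simp only [Set.mem_iUnion, Set.mem_preimage] at hx ⊢
  exact hx

end TopCT

section Adapted2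

variable {X : Scheme.{u}}

/-- Strata with ranges constructible in the ambient scheme. -/
def Adapted2 (F : EtCoh.Ab X) (S : Set X) : Prop :=
  ∃ (κ : Type) (_ : Finite κ) (T : κ → Scheme.{u}) (g : ∀ k, T k ⟶ X),
    (∀ k, IsImmersion (g k)) ∧
    (∀ k, IsConstructible (Set.range (g k))) ∧
    Pairwise (fun i j => Disjoint (Set.range (g i)) (Set.range (g j))) ∧
    (⋃ k, Set.range (g k)) = S ∧
    ∀ k, EtCoh.IsFiniteLocallyConstant ((EtCoh.pull (g k)).obj F)

theorem adapted2_empty (F : EtCoh.Ab X) : Adapted2 F (∅ : Set X) :=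
  ⟨Empty, inferInstance, fun k => k.elim, fun k => k.elim, fun k => k.elim, fun k => k.elim,
    fun i => i.elim, Set.iUnion_of_empty _, fun k => k.elim⟩

theorem adapted2_constructible {F : EtCoh.Ab X} {S : Set X} (h : Adapted2 F S) :
    IsConstructible S := by
  obtain ⟨κ, hκ, T, g, h1, h2, h3, h4, h5⟩ := h
  rw [← h4]; exact IsConstructible.iUnion h2

theorem adapted'_of_adapted2_univ {F : EtCoh.Ab X} (h : Adapted2 F Set.univ) :
    Adapted' F Set.univ := by
  obtain ⟨κ, hκ, T, g, h1, h2, h3, h4, h5⟩ := h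
  exact ⟨κ, hκ, T, g, h1, fun k => cin_univ' (h2 k), h3, h4, h5⟩

theorem adapted2_inter (F : EtCoh.Ab X) {S : Set X} (h : Adapted2 F S) {C : Scheme.{u}}
    (c : C ⟶ X) [IsImmersion c] (hc : IsConstructible (Set.range c)) :
    Adapted2 F (S ∩ Set.range c) := by
  obtain ⟨κ, hκ, T, g, h1, h2, h3, h4, h5⟩ := h
  refine ⟨κ, hκ, fun k => pullback (g k) c, fun k => pullback.fst (g k) c ≫ g k,
    ?_, ?_, ?_, ?_, ?_⟩
  · intro k; haveI := h1 k; infer_instance
  · intro k; rw [Scheme.Pullback.range_fst_comp]; exact (h2 k).inter hc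
  · intro i j hij
    rw [Scheme.Pullback.range_fst_comp, Scheme.Pullback.range_fst_comp]
    exact (h3 hij).mono Set.inter_subset_left Set.inter_subset_left
  · simp_rw [Scheme.Pullback.range_fst_comp]; rw [← Set.iUnion_inter, h4]
  · intro k; exact flc_pull_comp _ (g k) F (h5 k)

theorem adapted2_union_disjoint (F : EtCoh.Ab X) {S S' : Set X} (h : Adapted2 F S)
    (h' : Adapted2 F S') (hd : Disjoint S S') : Adapted2 F (S ∪ S') := by
  obtain ⟨κ, hκ, T, g, h1, h2, h3, h4, h5⟩ := h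
  obtain ⟨κ', hκ', T', g', h1', h2', h3', h4', h5'⟩ := h'
  have hsub : ∀ k, Set.range (g k) ⊆ S := fun k =>
    h4 ▸ Set.subset_iUnion (fun k => Set.range (g k)) k
  have hsub' : ∀ k, Set.range (g' k) ⊆ S' := fun k =>
    h4' ▸ Set.subset_iUnion (fun k => Set.range (g' k)) k
  refine ⟨κ ⊕ κ', inferInstance, Sum.elim T T',
    fun s => match s with
      | Sum.inl k => g k
      | Sum.inr k => g' k, ?_, ?_, ?_, ?_, ?_⟩
  · rintro (k | k)
    · exact h1 k
    · exact h1' k
  · rintro (k | k)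
    · exact h2 k
    · exact h2' k
  · rintro (i | i) (j | j) hij
    · exact h3 (fun e => hij (congrArg Sum.inl e))
    · exact hd.mono (hsub i) (hsub' j)
    · exact hd.symm.mono (hsub' i) (hsub j)
    · exact h3' (fun e => hij (congrArg Sum.inr e))
  · rw [Set.iUnion_sum]
    show (⋃ k, Set.range (g k)) ∪ (⋃ k, Set.range (g' k)) = _
    rw [h4, h4']
  · rintro (k | k)
    · exact h5 k
    · exact h5' k

theorem adapted2_diff_basic (F : EtCoh.Ab X) {S : Set X} (h : Adapted2 F S) (O V : Set X)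
    (hO : IsOpen O) (hOr : IsRetrocompact O) (hV : IsOpen V) (hVr : IsRetrocompact V) :
    Adapted2 F (S \ (O \ V)) := by
  obtain ⟨C, c, hc, hcr⟩ := exists_immersion_range_diff (⊤ : X.Opens) O hO
  haveI := hc
  have hcr' : Set.range c = Oᶜ := by
    rw [hcr]; ext x; simp
  have h1 := adapted2_inter F h c (by rw [hcr']; exact (hOr.isConstructible hO).compl)
  obtain ⟨OV, hOV⟩ : ∃ OV : X.Opens, (OV : Set X) = O ∩ V := ⟨⟨_, hO.inter hV⟩, rfl⟩
  have h2 := adapted2_inter F h OV.ι (by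
    rw [Scheme.Opens.range_ι, hOV]
    exact (hOr.isConstructible hO).inter (hVr.isConstructible hV))
  rw [hcr'] at h1
  rw [Scheme.Opens.range_ι, hOV] at h2
  have h3 := adapted2_union_disjoint F h1 h2 (by
    refine Set.disjoint_left.mpr ?_
    rintro x ⟨-, hx1⟩ ⟨-, hx2, -⟩
    exact hx1 hx2)
  convert h3 using 1
  ext x
  simp only [Set.mem_diff, Set.mem_union, Set.mem_inter_iff, Set.mem_compl_iff]
  tauto

theorem adapted2_diff (F : EtCoh.Ab X) {E : Set X} (hE : IsConstructible E) :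
    ∀ S : Set X, Adapted2 F S → Adapted2 F (S \ E) := by
  induction E, hE using BooleanSubalgebra.closure_sdiff_sup_induction with
  | isSublattice =>
    exact ⟨fun s hs t ht ↦ ⟨hs.1.union ht.1, hs.2.union ht.2⟩,
      fun s hs t ht ↦ ⟨hs.1.inter ht.1, hs.2.inter_isOpen ht.2 ht.1⟩⟩
  | bot_mem => exact ⟨isOpen_empty, .empty⟩
  | top_mem => exact ⟨isOpen_univ, .univ⟩
  | sdiff U hU V hV =>
    intro S hS
    exact adapted2_diff_basic F hS U V hU.1 hU.2 hV.1 hV.2
  | sup s _ t _ hs' ht' =>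
    intro S hS
    have h2 := ht' _ (hs' S hS)
    rwa [Set.diff_diff] at h2

theorem adapted2_union (F : EtCoh.Ab X) {S S' : Set X} (h : Adapted2 F S)
    (h' : Adapted2 F S') : Adapted2 F (S ∪ S') := by
  have h1 := adapted2_diff F (adapted2_constructible h') S h
  have h2 := adapted2_union_disjoint F h1 h' Set.disjoint_sdiff_left
  rwa [Set.diff_union_self] at h2

theorem adapted2_biUnion (F : EtCoh.Ab X) {ι : Type*} (t : Finset ι) (L : ι → Set X)
    (h : ∀ i ∈ t, Adapted2 F (L i)) : Adapted2 F (⋃ i ∈ t, L i) := by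
  classical
  induction t using Finset.induction_on with
  | empty => simpa using adapted2_empty F
  | insert a s ha ih =>
    rw [Finset.set_biUnion_insert]
    exact adapted2_union F (h a (Finset.mem_insert_self a s))
      (ih fun i hi => h i (Finset.mem_insert_of_mem hi))

theorem exists_closedImmersion_compl (W' : X.Opens) (W : Set X) (hW : IsOpen W) :
    ∃ (C : Scheme.{u}) (c' : C ⟶ W'.toScheme), IsClosedImmersion c' ∧
      Set.range c' = (W'.ι ⁻¹' W)ᶜ := by
  obtain ⟨Z, hZ⟩ : ∃ Z : TopologicalSpace.Closeds W'.toScheme,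
      (Z : Set W'.toScheme) = (W'.ι ⁻¹' W)ᶜ :=
    ⟨⟨_, (hW.preimage W'.ι.continuous).isClosed_compl⟩, rfl⟩
  refine ⟨_, (Scheme.IdealSheafData.vanishingIdeal Z).subschemeι, inferInstance, ?_⟩
  rw [Scheme.IdealSheafData.range_subschemeι, Scheme.IdealSheafData.coe_support_vanishingIdeal,
    hZ]

theorem adapted2_basic_of_subset_range [CompactSpace X] [QuasiSeparatedSpace X]
    (F : EtCoh.Ab X) {T : Scheme.{u}} (g : T ⟶ X) [IsImmersion g]
    (hF : EtPBC.IsConstructible ((EtCoh.pull g).obj F))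
    (U V : Set X) (hU : IsOpen U) (hUr : IsRetrocompact U) (hV : IsOpen V)
    (hVr : IsRetrocompact V) (hsub : U \ V ⊆ Set.range g) : Adapted2 F (U \ V) := by
  obtain ⟨Uo, rfl⟩ : ∃ Uo : X.Opens, (Uo : Set X) = U := ⟨⟨U, hU⟩, rfl⟩
  obtain ⟨C, c', hc', hcr'⟩ := exists_closedImmersion_compl Uo V hV
  haveI := hc'
  have hcfun : ∀ z, (c' ≫ Uo.ι) z = Uo.ι (c' z) := fun z => Scheme.Hom.comp_apply _ _ _
  have hcr : Set.range (c' ≫ Uo.ι) = (Uo : Set X) \ V := by
    ext x; constructor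
    · rintro ⟨z, rfl⟩
      have hz : c' z ∈ (Uo.ι ⁻¹' V)ᶜ := hcr' ▸ ⟨z, rfl⟩
      rw [hcfun]
      exact ⟨(c' z).2, hz⟩
    · rintro ⟨hx1, hx2⟩
      have hx : (⟨x, hx1⟩ : Uo.toScheme) ∈ Set.range c' := by rw [hcr']; exact hx2
      obtain ⟨z, hz⟩ := hx
      exact ⟨z, by rw [hcfun, hz]; rfl⟩
  have hsurj : Set.range (pullback.snd g (c' ≫ Uo.ι)) = Set.univ := by
    rw [Scheme.Pullback.range_snd]
    exact Set.eq_univ_of_forall fun z => hsub (hcr ▸ ⟨z, rfl⟩)
  have hqemb : IsEmbedding (pullback.snd g (c' ≫ Uo.ι)) :=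
    (pullback.snd g (c' ≫ Uo.ι)).isEmbedding
  have hqo : IsOpenEmbedding (pullback.snd g (c' ≫ Uo.ι)) :=
    ⟨hqemb, by rw [hsurj]; exact isOpen_univ⟩
  have hqc : IsClosedEmbedding (pullback.snd g (c' ≫ Uo.ι)) :=
    ⟨hqemb, by rw [hsurj]; exact isClosed_univ⟩
  haveI : CompactSpace Uo.toScheme := isCompact_iff_compactSpace.mp hUr.isCompact
  haveI : CompactSpace C := c'.isClosedEmbedding.compactSpace
  haveI : CompactSpace ↥(pullback g (c' ≫ Uo.ι)) := hqc.compactSpace
  haveI : QuasiSeparatedSpace ↥(pullback g (c' ≫ Uo.ι)) :=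
    quasiSeparatedSpace_of_quasiSeparated (pullback.fst g (c' ≫ Uo.ι) ≫ g)
  have hFQ : EtPBC.IsConstructible ((EtCoh.pull (pullback.fst g (c' ≫ Uo.ι))).obj
      ((EtCoh.pull g).obj F)) := S0127 _ _ hF
  obtain ⟨κ, hκ, Qk, h, h1, h2, h3, h4, h5⟩ := adapted'_of_adapted ((S0128 _ _).mp hFQ)
  have hcond : ∀ z, g (pullback.fst g (c' ≫ Uo.ι) z) =
      Uo.ι (c' (pullback.snd g (c' ≫ Uo.ι) z)) := by
    intro z
    have e : (pullback.fst g (c' ≫ Uo.ι) ≫ g) z =
        (pullback.snd g (c' ≫ Uo.ι) ≫ c' ≫ Uo.ι) z := by rw [pullback.condition]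
    simpa [Scheme.Hom.comp_apply] using e
  have hrk : ∀ k, Set.range ((h k ≫ pullback.fst g (c' ≫ Uo.ι)) ≫ g) =
      (fun z => g (pullback.fst g (c' ≫ Uo.ι) z)) '' Set.range (h k) := by
    intro k; ext x; constructor
    · rintro ⟨w, rfl⟩
      exact ⟨h k w, ⟨w, rfl⟩, by simp [Scheme.Hom.comp_apply]⟩
    · rintro ⟨_, ⟨w, rfl⟩, rfl⟩
      exact ⟨w, by simp [Scheme.Hom.comp_apply]⟩
  have hpinj : Function.Injective (fun z => g (pullback.fst g (c' ≫ Uo.ι) z)) :=
    g.isEmbedding.injective.comp (pullback.fst g (c' ≫ Uo.ι)).isEmbedding.injective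
  refine ⟨κ, hκ, Qk, fun k => (h k ≫ pullback.fst g (c' ≫ Uo.ι)) ≫ g, ?_, ?_, ?_, ?_, ?_⟩
  · intro k; haveI := h1 k; infer_instance
  · intro k
    have hA : IsConstructible (Set.range (h k)) := cin_univ (h2 k)
    have hB := hA.image_of_isOpenEmbedding hqo (by rw [hsurj]; exact IsRetrocompact.univ)
    have hC := hB.image_of_isClosedEmbedding c'.isClosedEmbedding (by
      rw [hcr', compl_compl]
      exact hVr.preimage_of_isOpenEmbedding Uo.ι.isOpenEmbedding)
    have hD := hC.image_of_isOpenEmbedding Uo.ι.isOpenEmbedding (by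
      rw [Scheme.Opens.range_ι]; exact hUr)
    rw [hrk]
    convert hD using 1
    ext x; constructor
    · rintro ⟨z, hz, rfl⟩
      exact ⟨_, ⟨_, ⟨z, hz, rfl⟩, rfl⟩, (hcond z).symm⟩
    · rintro ⟨_, ⟨_, ⟨z, hz, rfl⟩, rfl⟩, rfl⟩
      exact ⟨z, hz, hcond z⟩
  · intro i j hij
    rw [hrk, hrk]
    exact (Set.disjoint_image_iff hpinj).mpr (h3 hij)
  · simp_rw [hrk]
    rw [← Set.image_iUnion, h4, Set.image_univ]
    have e1 : Set.range (fun z => g (pullback.fst g (c' ≫ Uo.ι) z)) =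
        Set.range (pullback.fst g (c' ≫ Uo.ι) ≫ g) := by
      ext x; constructor
      · rintro ⟨z, rfl⟩; exact ⟨z, Scheme.Hom.comp_apply _ _ _⟩
      · rintro ⟨z, rfl⟩; exact ⟨z, (Scheme.Hom.comp_apply _ _ _).symm⟩
    rw [e1, Scheme.Pullback.range_fst_comp, hcr]
    exact Set.inter_eq_right.mpr hsub
  · intro k
    exact flc_of_iso ((EtCore.pullComp (h k ≫ pullback.fst g (c' ≫ Uo.ι)) g).app F ≪≫
      (EtCore.pullComp (h k) (pullback.fst g (c' ≫ Uo.ι))).app _).symm (h5 k)

theorem adapted2_of_subset_range [CompactSpace X] [QuasiSeparatedSpace X]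
    (F : EtCoh.Ab X) {T : Scheme.{u}} (g : T ⟶ X) [IsImmersion g]
    (hF : EtPBC.IsConstructible ((EtCoh.pull g).obj F)) {E : Set X} (hE : IsConstructible E) :
    E ⊆ Set.range g → Adapted2 F E := by
  induction E, hE using BooleanSubalgebra.closure_sdiff_sup_induction with
  | isSublattice =>
    exact ⟨fun s hs t ht ↦ ⟨hs.1.union ht.1, hs.2.union ht.2⟩,
      fun s hs t ht ↦ ⟨hs.1.inter ht.1, hs.2.inter_isOpen ht.2 ht.1⟩⟩
  | bot_mem => exact ⟨isOpen_empty, .empty⟩
  | top_mem => exact ⟨isOpen_univ, .univ⟩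
  | sdiff U hU V hV =>
    intro hs
    exact adapted2_basic_of_subset_range F g hF U V hU.1 hU.2 hV.1 hV.2 hs
  | sup s _ t _ hs' ht' =>
    intro hst
    exact adapted2_union F (hs' (Set.subset_union_left.trans hst))
      (ht' (Set.subset_union_right.trans hst))

theorem S0130 (X : Scheme.{u}) [CompactSpace X] [QuasiSeparatedSpace X]
    (F : EtCoh.Ab X) {ι : Type u} (T : ι → Scheme.{u}) (g : ∀ i, T i ⟶ X) [∀ i, IsImmersion (g i)]
    [∀ i, EtCoh.BCCont (g i)]
    (hc : ∀ i, Topology.IsConstructible (Set.range (g i)))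
    (hcov : (⋃ i, Set.range (g i)) = Set.univ)
    (h : ∀ i, EtPBC.IsConstructible ((EtCoh.pull (g i)).obj F)) :
    EtPBC.IsConstructible F := by
  obtain ⟨t, ht⟩ := exists_finite_cover_of_constructible (fun i => Set.range (g i)) hc hcov
  have h1 : Adapted2 F (⋃ i ∈ t, Set.range (g i)) :=
    adapted2_biUnion F t _ (fun i _ => adapted2_of_subset_range F (g i) (h i) (hc i) subset_rfl)
  rw [ht] at h1
  rw [S0128]
  exact adapted_of_adapted' (adapted'_of_adapted2_univ h1)

end Adapted2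

end Helper15.Constr
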