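import Mathlib
import Groth.Agent.Lib.Helper15.Constr2

set_option autoImplicit false
set_option backward.isDefEq.respectTransparency false

universe u

open CategoryTheory CategoryTheory.Limits AlgebraicGeometry Opposite Topology

namespace Helper15.Constr

section Noeth

variable {Y : Scheme.{u}}

theorem isConstructible_of_isLocallyClosed [TopologicalSpace.NoetherianSpace Y] {s : Set Y}
    (hs : IsLocallyClosed s) : IsConstructible s := by
  obtain ⟨O, Z, hO, hZ, rfl⟩ := hs
  have r : ∀ t : Set Y, IsRetrocompact t := fun t K _ _ =>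
    TopologicalSpace.NoetherianSpace.isCompact _
  exact ((r O).isConstructible hO).inter ((r Zᶜ).isConstructible hZ.isOpen_compl).of_compl

theorem adapted2_single (G : EtCoh.Ab Y) {T : Scheme.{u}} (g : T ⟶ Y) [IsImmersion g]
    (hc : IsConstructible (Set.range g))
    (hflc : EtCoh.IsFiniteLocallyConstant ((EtCoh.pull g).obj G)) : Adapted2 G (Set.range g) :=
  ⟨Unit, inferInstance, fun _ => T, fun _ => g, fun _ => inferInstance, fun _ => hc,
    fun i j hij => (hij (Subsingleton.elim i j)).elim, Set.iUnion_const _, fun _ => hflc⟩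

theorem adapted2_closed_of_local [TopologicalSpace.NoetherianSpace Y] (G : EtCoh.Ab Y)
    (hloc : ∀ y : Y, ∃ (V : Y.Opens) (T : Scheme.{u}) (g : T ⟶ Y), IsImmersion g ∧ y ∈ V ∧
        Set.range g = (V : Set Y) ∩ closure {y} ∧
        EtCoh.IsFiniteLocallyConstant ((EtCoh.pull g).obj G))
    (Z : TopologicalSpace.Closeds Y) : Adapted2 G (Z : Set Y) := by
  apply wellFounded_lt.induction Z; clear Z
  intro Z H
  rcases eq_or_ne Z ⊥ with rfl | h₀
  · simpa using adapted2_empty G
  · by_cases h₁ : IsPreirreducible (Z : Set Y)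
    · have hirr : IsIrreducible (Z : Set Y) :=
        ⟨TopologicalSpace.Closeds.coe_nonempty.2 h₀, h₁⟩
      obtain ⟨y, hy⟩ : ∃ y, closure ({y} : Set Y) = (Z : Set Y) :=
        ⟨_, isGenericPoint_def.mp (hirr.isGenericPoint_genericPoint Z.isClosed)⟩
      obtain ⟨V, T, g, hg, hyV, hr, hflc⟩ := hloc y
      haveI := hg
      obtain ⟨Z', hZ'⟩ : ∃ Z' : TopologicalSpace.Closeds Y,
          (Z' : Set Y) = (Z : Set Y) \ (V : Set Y) := ⟨⟨_, Z.isClosed.sdiff V.isOpen⟩, rfl⟩
      have hyZ : y ∈ (Z : Set Y) := hy ▸ subset_closure (Set.mem_singleton y)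
      have hlt : Z' < Z := by
        refine lt_of_le_of_ne (fun x hx => ?_) ?_
        · have hx' : x ∈ (Z : Set Y) \ (V : Set Y) := hZ' ▸ hx
          exact hx'.1
        · intro e
          have hyZ' : y ∈ (Z' : Set Y) := e ▸ hyZ
          rw [hZ'] at hyZ'; exact hyZ'.2 hyV
      have h1 := H Z' hlt
      have h2 : Adapted2 G (Set.range g) :=
        adapted2_single G g (isConstructible_of_isLocallyClosed g.isLocallyClosed_range) hflc
      have h3 := adapted2_union_disjoint G h1 h2 (by
        rw [hZ', hr]; exact Set.disjoint_left.mpr fun x hx hx' => hx.2 hx'.1)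
      convert h3 using 1
      rw [hZ', hr, hy]
      ext x
      simp only [Set.mem_union, Set.mem_diff, Set.mem_inter_iff]
      tauto
    · simp only [isPreirreducible_iff_isClosed_union_isClosed, not_forall, not_or] at h₁
      obtain ⟨z₁, z₂, hz₁, hz₂, h, hz₁', hz₂'⟩ := h₁
      lift z₁ to TopologicalSpace.Closeds Y using hz₁
      lift z₂ to TopologicalSpace.Closeds Y using hz₂
      have h1 := H (Z ⊓ z₁) (inf_lt_left.2 hz₁')
      have h2 := H (Z ⊓ z₂) (inf_lt_left.2 hz₂')
      have h3 := adapted2_union G h1 h2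
      convert h3 using 1
      rw [TopologicalSpace.Closeds.coe_inf, TopologicalSpace.Closeds.coe_inf,
        ← Set.inter_union_distrib_left]
      exact (Set.inter_eq_left.mpr h).symm

end Noeth

theorem S8527 {X : Scheme.{u}} [IsLocallyNoetherian X] (F : EtCoh.Ab X) :
    EtPBC.IsConstructible F ↔
      ∀ x : X, ∃ (V : X.Opens) (T : Scheme.{u}) (g : T ⟶ X), IsImmersion g ∧ x ∈ V ∧
        Set.range g.base = (V : Set X) ∩ closure {x} ∧
        EtCoh.IsFiniteLocallyConstant ((EtCoh.pull g).obj F) := by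
  constructor
  · intro hF x
    obtain ⟨U, hU, hxU, -⟩ := exists_isAffineOpen_mem_and_subset (x := x) (U := ⊤) trivial
    obtain ⟨κ, hκ, T, g, h1, h2, h3, h4, h5⟩ := adapted'_of_adapted (hF U hU)
    have hx : x ∈ ⋃ k, Set.range (g k) := h4 ▸ hxU
    obtain ⟨k, hk⟩ := Set.mem_iUnion.mp hx
    haveI := h1 k
    obtain ⟨O, Zc, hO, hZc, hOZ⟩ := (g k).isLocallyClosed_range
    have hk' : x ∈ O ∩ Zc := hOZ ▸ hk
    have hcl : closure {x} ⊆ Zc :=
      hZc.closure_subset_iff.mpr (Set.singleton_subset_iff.mpr hk'.2)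
    obtain ⟨V, hV⟩ : ∃ V : X.Opens, (V : Set X) = O := ⟨⟨O, hO⟩, rfl⟩
    obtain ⟨C, c, hc, hcr⟩ :=
      exists_immersion_range_diff V (closure {x})ᶜ isClosed_closure.isOpen_compl
    haveI := hc
    have hcr' : Set.range c = (V : Set X) ∩ closure {x} := by
      rw [hcr]; ext y; simp
    refine ⟨V, pullback (g k) c, pullback.fst (g k) c ≫ g k, inferInstance,
      (show x ∈ (V : Set X) from hV.symm ▸ hk'.1), ?_,
      flc_pull_comp _ (g k) F (h5 k)⟩
    show Set.range (pullback.fst (g k) c ≫ g k) = _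
    rw [Scheme.Pullback.range_fst_comp, hcr', hOZ, hV]
    ext y; constructor
    · rintro ⟨-, h⟩; exact h
    · rintro ⟨hyO, hyc⟩; exact ⟨⟨hyO, hcl hyc⟩, hyO, hyc⟩
  · intro hloc U hU
    haveI : IsNoetherianRing Γ(X, U) := IsLocallyNoetherian.component_noetherian ⟨U, hU⟩
    haveI : TopologicalSpace.NoetherianSpace U := noetherianSpace_of_isAffineOpen U hU
    have hloc' : ∀ y : U.toScheme, ∃ (V : U.toScheme.Opens) (T : Scheme.{u})
        (g : T ⟶ U.toScheme), IsImmersion g ∧ y ∈ V ∧
        Set.range g = (V : Set U.toScheme) ∩ closure {y} ∧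
        EtCoh.IsFiniteLocallyConstant ((EtCoh.pull g).obj ((EtCoh.pull U.ι).obj F)) := by
      intro y
      obtain ⟨V, T, g, hg, hyV, hr, hflc⟩ := hloc (U.ι y)
      haveI := hg
      refine ⟨U.ι ⁻¹ᵁ V, pullback g U.ι, pullback.snd g U.ι, inferInstance, hyV, ?_, ?_⟩
      · rw [Scheme.Pullback.range_snd]
        have hr' : Set.range g = (V : Set X) ∩ closure {U.ι y} := hr
        rw [hr', Set.preimage_inter]
        congr 1
        rw [U.ι.isOpenEmbedding.isInducing.closure_eq_preimage_closure_image,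
          Set.image_singleton]
      · have e : pullback.snd g U.ι ≫ U.ι = pullback.fst g U.ι ≫ g := pullback.condition.symm
        exact flc_of_iso ((EtCore.pullComp (pullback.snd g U.ι) U.ι).app F)
          (flc_pull_congr e.symm F (flc_pull_comp _ g F hflc))
    have h1 := adapted2_closed_of_local ((EtCoh.pull U.ι).obj F) hloc' ⊤
    have h2 : Adapted' ((EtCoh.pull U.ι).obj F)
        (((⊤ : U.toScheme.Opens) : Set U.toScheme)) := by
      simpa using adapted'_of_adapted2_univ (by simpa using h1)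
    have h3 := adapted_of_openImmersion U.ι F ⊤ h2
    rw [Scheme.Opens.ι_image_top] at h3
    exact adapted_of_adapted' h3

end Helper15.Constr
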