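import Mathlib
import Groth.Agent.Lib.Helper15.Constr
import Groth.Agent.Lib.Helper15.LcStruct2
import Groth.Agent.Lib.Helper13.FlatPullback

set_option autoImplicit false
set_option backward.isDefEq.respectTransparency false

universe u

open CategoryTheory CategoryTheory.Limits AlgebraicGeometry Opposite Topology

namespace Helper15.Constr

open Helper15.LcStruct

variable {X : Scheme.{u}}

/-- Common refinement of two adapted stratifications. -/
theorem adapted_common (F G : EtCoh.Ab X) {S : Set X} (hF : Adapted' F S) (hG : Adapted' G S) :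
    ∃ (κ : Type) (_ : Finite κ) (T : κ → Scheme.{u}) (g : ∀ k, T k ⟶ X),
      (∀ k, IsImmersion (g k)) ∧ (∀ k, CIn S (Set.range (g k))) ∧
      Pairwise (fun i j => Disjoint (Set.range (g i)) (Set.range (g j))) ∧
      (⋃ k, Set.range (g k)) = S ∧
      (∀ k, EtCoh.IsFiniteLocallyConstant ((EtCoh.pull (g k)).obj F)) ∧
      (∀ k, EtCoh.IsFiniteLocallyConstant ((EtCoh.pull (g k)).obj G)) := by
  obtain ⟨κ, hκ, T, g, h1, h2, h3, h4, h5⟩ := hF
  obtain ⟨κ', hκ', T', g', h1', h2', h3', h4', h5'⟩ := hG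
  have hr : ∀ p : κ × κ', Set.range (pullback.fst (g p.1) (g' p.2) ≫ g p.1) =
      Set.range (g p.1) ∩ Set.range (g' p.2) := fun p => Scheme.Pullback.range_fst_comp _ _
  refine ⟨κ × κ', inferInstance, fun p => pullback (g p.1) (g' p.2),
    fun p => pullback.fst (g p.1) (g' p.2) ≫ g p.1, ?_, ?_, ?_, ?_, ?_, ?_⟩
  · intro p; haveI := h1 p.1; haveI := h1' p.2; infer_instance
  · intro p; rw [hr]; exact (h2 p.1).inter (h2' p.2)
  · intro p q hpq
    rw [hr, hr]
    by_cases h : p.1 = q.1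
    · have h' : p.2 ≠ q.2 := fun e => hpq (Prod.ext h e)
      exact (h3' h').mono Set.inter_subset_right Set.inter_subset_right
    · exact (h3 h).mono Set.inter_subset_left Set.inter_subset_left
  · simp_rw [hr]
    ext x
    constructor
    · intro hx
      obtain ⟨p, hp⟩ := Set.mem_iUnion.mp hx
      exact h4 ▸ Set.mem_iUnion.mpr ⟨p.1, hp.1⟩
    · intro hx
      obtain ⟨k, hk⟩ := Set.mem_iUnion.mp (h4 ▸ hx : x ∈ ⋃ k, Set.range (g k))
      obtain ⟨l, hl⟩ := Set.mem_iUnion.mp (h4' ▸ hx : x ∈ ⋃ k, Set.range (g' k))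
      exact Set.mem_iUnion.mpr ⟨(k, l), hk, hl⟩
  · intro p; exact flc_pull_comp _ (g p.1) F (h5 p.1)
  · intro p
    exact flc_pull_congr pullback.condition.symm G (flc_pull_comp _ (g' p.2) G (h5' p.2))

open Groth.Agent.Lib.Helper13.FlatPullback in
theorem S0131 {F G : EtCoh.Ab X} (φ : F ⟶ G)
    (n : ℕ) (hn : 0 < n) (hFn : EtCoh.KilledBy n F) (hGn : EtCoh.KilledBy n G)
    (hF : EtPBC.IsConstructible F) (hG : EtPBC.IsConstructible G) :
    EtPBC.IsConstructible (kernel φ) ∧ EtPBC.IsConstructible (cokernel φ) := by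
  constructor
  · intro U hU
    obtain ⟨κ, hκ, T, g, h1, h2, h3, h4, h5, h6⟩ :=
      adapted_common F G (adapted'_of_adapted (hF U hU)) (adapted'_of_adapted (hG U hU))
    refine adapted_of_adapted' ⟨κ, hκ, T, g, h1, h2, h3, h4, fun k => ?_⟩
    exact flc_of_iso (PreservesKernel.iso (EtCoh.pull (g k)) φ).symm
      (flc_kernel_cokernel _ _ ((EtCoh.pull (g k)).map φ) (h5 k) (h6 k)).1
  · intro U hU
    obtain ⟨κ, hκ, T, g, h1, h2, h3, h4, h5, h6⟩ :=
      adapted_common F G (adapted'_of_adapted (hF U hU)) (adapted'_of_adapted (hG U hU))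
    refine adapted_of_adapted' ⟨κ, hκ, T, g, h1, h2, h3, h4, fun k => ?_⟩
    haveI : PreservesColimitsOfSize.{0, 0} (EtCoh.pull (g k)) :=
      (EtCoh.pullPushAdj (g k)).leftAdjoint_preservesColimits
    exact flc_of_iso (PreservesCokernel.iso (EtCoh.pull (g k)) φ).symm
      (flc_kernel_cokernel _ _ ((EtCoh.pull (g k)).map φ) (h5 k) (h6 k)).2

end Helper15.Constr
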