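import Mathlib
import Groth.Agent.Lib.Helper15.ExtFlc
import Groth.Agent.Lib.Helper15.Constr4
import Groth.Agent.Lib.Helper15.Constr3

set_option autoImplicit false
set_option backward.isDefEq.respectTransparency false

universe u

open CategoryTheory CategoryTheory.Limits AlgebraicGeometry Opposite Topology

namespace Helper15.LcStruct

variable {X : Scheme.{u}}

theorem nonempty_of_bot_not_mem (W : X.Etale)
    (h : (⊥ : Sieve W) ∉ X.smallEtaleTopology W) : Nonempty W.left := by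
  by_contra hne
  exact h (Groth.Agent.Lib.Helper15.EtGlue.bot_mem_of_isEmpty W (not_nonempty_iff.mp hne))

theorem bot_not_mem_of_nonempty (W : X.Etale) [hW : Nonempty W.left] :
    (⊥ : Sieve W) ∉ X.smallEtaleTopology W := by
  intro h
  obtain ⟨x⟩ := hW
  obtain ⟨Z, g, z, hg, -⟩ := (Groth.Agent.Lib.Helper15.EtGlue.mem_iff W ⊥).1 h x
  exact ((Sieve.bot_apply g).1 hg).elim

section Fib

variable {V Y₁ Y₂ : X.Etale} (h₁ : Y₁ ⟶ V) (h₂ : Y₂ ⟶ V)

/-- Fibre product over `V` in the small étale site. -/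
noncomputable def fibObj : X.Etale :=
  Scheme.Etale.mk (pullback.fst h₁.left h₂.left ≫ Y₁.hom)

noncomputable def fibFst : fibObj h₁ h₂ ⟶ Y₁ :=
  MorphismProperty.Over.homMk (pullback.fst h₁.left h₂.left) rfl trivial

noncomputable def fibSnd : fibObj h₁ h₂ ⟶ Y₂ :=
  MorphismProperty.Over.homMk (pullback.snd h₁.left h₂.left)
    (by
      show pullback.snd h₁.left h₂.left ≫ Y₂.hom = pullback.fst h₁.left h₂.left ≫ Y₁.hom
      calc pullback.snd h₁.left h₂.left ≫ Y₂.hom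
          = pullback.snd h₁.left h₂.left ≫ h₂.left ≫ V.hom := by
            rw [MorphismProperty.Over.w h₂]
        _ = pullback.fst h₁.left h₂.left ≫ h₁.left ≫ V.hom := by
            rw [← Category.assoc, ← pullback.condition, Category.assoc]
        _ = pullback.fst h₁.left h₂.left ≫ Y₁.hom := by
            rw [MorphismProperty.Over.w h₁]) trivial

theorem fib_w : fibFst h₁ h₂ ≫ h₁ = fibSnd h₁ h₂ ≫ h₂ := by
  apply MorphismProperty.Over.Hom.ext
  exact pullback.condition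

theorem fib_point (y₁ : Y₁.left) (y₂ : Y₂.left) (h : h₁.left y₁ = h₂.left y₂) :
    ∃ w : (fibObj h₁ h₂).left, (fibFst h₁ h₂).left w = y₁ ∧ (fibSnd h₁ h₂).left w = y₂ :=
  Scheme.Pullback.exists_preimage_pullback y₁ y₂ h

theorem fib_nonempty [PreirreducibleSpace V.left] [Nonempty Y₁.left] [Nonempty Y₂.left] :
    Nonempty (fibObj h₁ h₂).left := by
  have o₁ : IsOpen (Set.range h₁.left) := h₁.left.isOpenMap.isOpen_range
  have o₂ : IsOpen (Set.range h₂.left) := h₂.left.isOpenMap.isOpen_range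
  obtain ⟨v, ⟨y₁, e₁⟩, ⟨y₂, e₂⟩⟩ :=
    nonempty_preirreducible_inter o₁ o₂ (Set.range_nonempty _) (Set.range_nonempty _)
  obtain ⟨w, -, -⟩ := fib_point h₁ h₂ y₁ y₂ (e₁.trans e₂.symm)
  exact ⟨w⟩

end Fib

open Groth.Agent.Lib.Helper5.EtCechFlasque in
theorem sections_inj_of_mono {F G : EtCoh.Ab X} (ι : G ⟶ F) [Mono ι] (Y : X.Etale) :
    Function.Injective (ι.hom.app (op Y)) := by
  have h : Mono ((Γ Y).map ι) := inferInstance
  rw [AddCommGrpCat.mono_iff_injective] at h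
  exact h

/-- A subsheaf of a sheaf which is constant on an irreducible étale `V` is constant on some
nonempty étale `W → V`. -/
theorem sub_const (F G : EtCoh.Ab X) (ι : G ⟶ F) [Mono ι] (V : X.Etale) [IrreducibleSpace V.left]
    (M : AddCommGrpCat.{u+1}) [Finite M] (cF : M →+ F.obj.obj (op V))
    (hF : IsConstVia F V M cF) :
    ∃ (W : X.Etale) (_ : W ⟶ V) (_ : Nonempty W.left) (A' : AddSubgroup M)
      (c : A' →+ G.obj.obj (op W)), IsConstVia G W A' c := by
  classical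
  have inj := sections_inj_of_mono ι
  have nat : ∀ {Y Y' : X.Etale} (k : Y' ⟶ Y) (s : G.obj.obj (op Y)),
      ι.hom.app (op Y') (G.obj.map k.op s) = F.obj.map k.op (ι.hom.app (op Y) s) :=
    fun k s => NatTrans.naturality_apply ι.hom k.op s
  obtain ⟨good, hgood⟩ : ∃ good : M → Prop, ∀ m, good m ↔
      ∃ (Y : X.Etale) (h : Y ⟶ V), Nonempty Y.left ∧ ∃ s : G.obj.obj (op Y),
        ι.hom.app (op Y) s = F.obj.map h.op (cF m) := ⟨_, fun _ => Iff.rfl⟩
  have g0 : good 0 :=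
    (hgood 0).2 ⟨V, 𝟙 V, inferInstance, 0, by rw [map_zero, map_zero, map_zero]⟩
  have gneg : ∀ m, good m → good (-m) := by
    intro m hm
    obtain ⟨Y, h, hne, s, hs⟩ := (hgood m).1 hm
    exact (hgood _).2 ⟨Y, h, hne, -s, by rw [map_neg, hs, map_neg, map_neg]⟩
  have gadd : ∀ m₁ m₂, good m₁ → good m₂ → good (m₁ + m₂) := by
    intro m₁ m₂ h1 h2
    obtain ⟨Y₁, h₁, ne₁, s₁, e₁⟩ := (hgood m₁).1 h1
    obtain ⟨Y₂, h₂, ne₂, s₂, e₂⟩ := (hgood m₂).1 h2
    refine (hgood _).2 ⟨fibObj h₁ h₂, fibFst h₁ h₂ ≫ h₁, fib_nonempty h₁ h₂,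
      G.obj.map (fibFst h₁ h₂).op s₁ + G.obj.map (fibSnd h₁ h₂).op s₂, ?_⟩
    rw [map_add, nat, nat, e₁, e₂, ← map_comp_app F (fibFst h₁ h₂) h₁ (cF m₁),
      ← map_comp_app F (fibSnd h₁ h₂) h₂ (cF m₂), ← fib_w h₁ h₂]
    simp only [map_add]
  obtain ⟨A', hA'⟩ : ∃ A' : AddSubgroup M, ∀ m, m ∈ A' ↔ good m :=
    ⟨{ carrier := {m | good m}
       add_mem' := fun {a b} ha hb => gadd a b ha hb
       zero_mem' := g0
       neg_mem' := fun {a} ha => gneg a ha }, fun _ => Iff.rfl⟩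
  have common : ∀ S : Finset A', ∃ (W : X.Etale) (f : W ⟶ V), Nonempty W.left ∧
      ∀ m ∈ S, ∃ s : G.obj.obj (op W), ι.hom.app (op W) s = F.obj.map f.op (cF m.1) := by
    intro S
    induction S using Finset.induction_on with
    | empty => exact ⟨V, 𝟙 V, inferInstance, fun m hm => (Finset.notMem_empty m hm).elim⟩
    | insert a S ha ih =>
      obtain ⟨W, f, hne, hs⟩ := ih
      obtain ⟨Y, h, hne', sa, ea⟩ := (hgood a.1).1 ((hA' a.1).1 a.2)
      refine ⟨fibObj f h, fibFst f h ≫ f, fib_nonempty f h, ?_⟩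
      intro m hm
      rcases Finset.mem_insert.1 hm with rfl | hm'
      · refine ⟨G.obj.map (fibSnd f h).op sa, ?_⟩
        rw [nat, ea, ← map_comp_app F (fibSnd f h) h (cF m.1), ← fib_w f h]
      · obtain ⟨s, es⟩ := hs m hm'
        refine ⟨G.obj.map (fibFst f h).op s, ?_⟩
        rw [nat, es, ← map_comp_app F (fibFst f h) f (cF m.1)]
  haveI : Fintype A' := Fintype.ofFinite A'
  obtain ⟨W, f, hne, hs⟩ := common Finset.univ
  have hs' : ∀ m : A', ∃ s : G.obj.obj (op W),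
      ι.hom.app (op W) s = F.obj.map f.op (cF m.1) := fun m => hs m (Finset.mem_univ m)
  choose t ht using hs'
  have tadd : ∀ m m' : A', t (m + m') = t m + t m' := by
    intro m m'
    apply inj W
    rw [map_add, ht, ht, ht]
    show F.obj.map f.op (cF (m.1 + m'.1)) = _
    rw [map_add, map_add]
  refine ⟨W, f, hne, A', AddMonoidHom.mk' t tadd, ⟨?_, ?_⟩⟩
  · intro Y h s
    have hT := (hF.restrict f).surj h (ι.hom.app (op Y) s)
    refine X.smallEtaleTopology.superset_covering ?_ hT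
    rintro Y' k ⟨m, hm⟩
    have hm' : F.obj.map k.op (ι.hom.app (op Y) s) =
        F.obj.map (k ≫ h).op (F.obj.map f.op (cF m)) := hm
    by_cases hE : (⊥ : Sieve Y') ∈ X.smallEtaleTopology Y'
    · refine ⟨0, ?_⟩
      exact sec_ext X.smallEtaleTopology G ⊥ hE _ _
        (fun Z g hg => ((Sieve.bot_apply g).1 hg).elim)
    · have hne' : Nonempty Y'.left := nonempty_of_bot_not_mem Y' hE
      have hgm : good m := (hgood m).2 ⟨Y', (k ≫ h) ≫ f, hne', G.obj.map k.op s, by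
        rw [nat, hm', ← map_comp_app F (k ≫ h) f (cF m)]⟩
      refine ⟨⟨m, (hA' m).2 hgm⟩, ?_⟩
      apply inj Y'
      rw [nat, nat, hm']
      show _ = F.obj.map (k ≫ h).op (ι.hom.app (op W) (t ⟨m, (hA' m).2 hgm⟩))
      rw [ht]
  · intro Y h m hY hm
    have hm' : G.obj.map h.op (t m) = 0 := hm
    have h0 : F.obj.map h.op (((F.obj.map f.op).hom.comp cF) m.1) = 0 := by
      show F.obj.map h.op (F.obj.map f.op (cF m.1)) = 0
      rw [← ht, ← nat, hm', map_zero]
    have := (hF.restrict f).inj h m.1 hY h0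
    exact Subtype.ext this

theorem exists_irreducible_open {T : Scheme.{u}} [IsLocallyNoetherian T] (U : T.Etale)
    [hU : Nonempty U.left] : ∃ (V : T.Etale) (_ : V ⟶ U), IrreducibleSpace V.left := by
  have : IsLocallyNoetherian U.left := LocallyOfFiniteType.isLocallyNoetherian (Y := T) U.hom
  obtain ⟨u⟩ := hU
  obtain ⟨O, hO, huO, -⟩ := exists_isAffineOpen_mem_and_subset (x := u) (U := ⊤) trivial
  have : IsNoetherianRing Γ(U.left, O) := IsLocallyNoetherian.component_noetherian ⟨O, hO⟩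
  have hN : TopologicalSpace.NoetherianSpace O := noetherianSpace_of_isAffineOpen O hO
  obtain ⟨o, ho, hne, hoZ⟩ :=
    @TopologicalSpace.NoetherianSpace.exists_isOpen_nonempty_subset_irreducibleComponent O _ hN
      (irreducibleComponent (⟨u, huO⟩ : O)) (irreducibleComponent_mem_irreducibleComponents _)
  have hirr : IsIrreducible o :=
    ⟨hne, (isIrreducible_irreducibleComponent).isPreirreducible.open_subset ho hoZ⟩
  have hirr' : IsIrreducible (Subtype.val '' o : Set U.left) :=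
    hirr.image _ continuous_subtype_val.continuousOn
  have hopen : IsOpen (Subtype.val '' o : Set U.left) :=
    O.isOpen.isOpenEmbedding_subtypeVal.isOpenMap o ho
  obtain ⟨O', hO'⟩ : ∃ O' : U.left.Opens, (O' : Set U.left) = Subtype.val '' o :=
    ⟨⟨_, hopen⟩, rfl⟩
  refine ⟨Scheme.Etale.mk (O'.ι ≫ U.hom), MorphismProperty.Over.homMk O'.ι rfl trivial, ?_⟩
  have : IrreducibleSpace ↥O' := Subtype.irreducibleSpace (hO' ▸ hirr')
  exact this

theorem flc_pull_of_over {T T' : Scheme.{u}} (j : T' ⟶ T) (G : EtCoh.Ab T) (W : T.Etale)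
    (hW : Set.range j ⊆ Set.range W.hom)
    (M : Type) [AddCommGroup M] [Finite M]
    (e : G.over W ≅ (constantSheaf (T.smallEtaleTopology.over W) AddCommGrpCat.{u+1}).obj
      (AddCommGrpCat.of (ULift.{u+1} M))) :
    EtCoh.IsFiniteLocallyConstant ((EtCoh.pull j).obj G) := by
  refine ⟨PUnit.{u+1}, fun _ => (EtCoh.bc j).obj W, ?_, fun _ => ⟨M, inferInstance, inferInstance,
    ⟨BcOver.constOverIso (EtCoh.bc j) T.smallEtaleTopology T'.smallEtaleTopology
      AddCommGrpCat.{u+1} W G _ e⟩⟩⟩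
  intro x
  obtain ⟨w, hw⟩ := hW ⟨x, rfl⟩
  obtain ⟨z, hz1, hz2⟩ :=
    Scheme.Pullback.exists_preimage_pullback (f := W.hom) (g := j) w x hw
  exact ⟨PUnit.unit, z, hz2⟩

theorem sub_generic {T : Scheme.{u}} [IsLocallyNoetherian T] [hT : Nonempty T]
    (F' G' : EtCoh.Ab T) (ι : G' ⟶ F') [Mono ι] (hF : EtCoh.IsFiniteLocallyConstant F') :
    ∃ O : T.Opens, (O : Set T).Nonempty ∧
      EtCoh.IsFiniteLocallyConstant ((EtCoh.pull O.ι).obj G') := by
  obtain ⟨ι₁, U, hU, hc⟩ := hF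
  obtain ⟨t⟩ := hT
  obtain ⟨i, y, hy⟩ := hU t
  haveI : Nonempty (U i).left := ⟨y⟩
  obtain ⟨M, iM, fM, ⟨a⟩⟩ := hc i
  obtain ⟨V₀, f₀, hirr⟩ := exists_irreducible_open (U i)
  have : Finite (AddCommGrpCat.of (ULift.{u+1} M)) := by
    show Finite (ULift.{u+1} M); infer_instance
  have a' : F'.over (U i) ≅ (cst T (AddCommGrpCat.of (ULift.{u+1} M))).over (U i) :=
    a ≪≫ ((kappa (U i)).app _).symm
  have kF := (isConstVia_of_iso _ a').restrict f₀
  obtain ⟨W, f, hne, A', c, hG⟩ := sub_const F' G' ι V₀ _ _ kF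
  obtain ⟨e⟩ := constIso_of_isConstVia hG
  have : Finite (AddCommGrpCat.of A') := by show Finite A'; infer_instance
  obtain ⟨M', iM', fM', ⟨em⟩⟩ := exists_small_finite (AddCommGrpCat.of A')
  obtain ⟨O, hO⟩ : ∃ O : T.Opens, (O : Set T) = Set.range W.hom :=
    ⟨⟨_, W.hom.isOpenMap.isOpen_range⟩, rfl⟩
  refine ⟨O, ?_, ?_⟩
  · rw [hO]
    obtain ⟨w⟩ := hne
    exact ⟨W.hom w, w, rfl⟩
  · exact flc_pull_of_over O.ι G' W (by rw [Scheme.Opens.range_ι, hO]) M'
      (e ≪≫ (constantSheaf _ _).mapIso em)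

end Helper15.LcStruct

namespace Helper15.Constr

open Helper15.LcStruct

theorem constructible_of_iso {X : Scheme.{u}} {F F' : EtCoh.Ab X} (e : F ≅ F')
    (h : EtPBC.IsConstructible F) : EtPBC.IsConstructible F' := by
  intro U hU
  obtain ⟨κ, hκ, T, g, h1, h2, h3, h4, h5⟩ := adapted'_of_adapted (h U hU)
  exact adapted_of_adapted' ⟨κ, hκ, T, g, h1, h2, h3, h4,
    fun k => flc_of_iso ((EtCoh.pull (g k)).mapIso e) (h5 k)⟩

open Groth.Agent.Lib.Helper13.FlatPullback in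
theorem S0140 (X : Scheme.{u}) [IsNoetherian X]
    {F G : EtCoh.Ab X} (ι : G ⟶ F) [Mono ι] (n : ℕ) (hn : 0 < n) (hFn : EtCoh.KilledBy n F)
    (hF : EtPBC.IsConstructible F) :
    EtPBC.IsConstructible G := by
  refine (S8527 G).2 ?_
  intro x
  obtain ⟨V, T, g, hg, hxV, hrange, hflc⟩ := (S8527 F).1 hF x
  haveI := hg
  haveI : IsLocallyNoetherian T := LocallyOfFiniteType.isLocallyNoetherian g
  have hxr : x ∈ Set.range g.base := by rw [hrange]; exact ⟨hxV, subset_closure rfl⟩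
  obtain ⟨t₀, ht₀⟩ := hxr
  haveI : Nonempty T := ⟨t₀⟩
  haveI : Mono ((EtCoh.pull g).map ι) := inferInstance
  obtain ⟨O, hOne, hO⟩ := sub_generic _ _ ((EtCoh.pull g).map ι) hflc
  obtain ⟨V'', hV''o, hV''⟩ := g.isEmbedding.isInducing.isOpen_iff.1 O.isOpen
  have hr : Set.range (O.ι ≫ g).base = V'' ∩ Set.range g.base := by
    ext p
    constructor
    · rintro ⟨q, rfl⟩
      refine ⟨?_, ⟨O.ι.base q, rfl⟩⟩
      have hq : O.ι.base q ∈ g.base ⁻¹' V'' := by rw [hV'']; exact q.2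
      exact hq
    · rintro ⟨hp, q, rfl⟩
      have hq : q ∈ (O : Set T) := by rw [← hV'']; exact hp
      exact ⟨⟨q, hq⟩, rfl⟩
  have hxV'' : x ∈ V'' := by
    obtain ⟨q, hq⟩ := hOne
    have h1 : g.base q ∈ V'' := by
      have : q ∈ g.base ⁻¹' V'' := by rw [hV'']; exact hq
      exact this
    have h2 : g.base q ∈ closure ({x} : Set X) := by
      have : g.base q ∈ Set.range g.base := ⟨q, rfl⟩
      rw [hrange] at this
      exact this.2
    obtain ⟨_, h3, rfl⟩ := mem_closure_iff.1 h2 V'' hV''o h1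
    exact h3
  refine ⟨V ⊓ ⟨V'', hV''o⟩, O.toScheme, O.ι ≫ g, inferInstance, ⟨hxV, hxV''⟩, ?_, ?_⟩
  · rw [hr, hrange]
    ext p
    simp only [Set.mem_inter_iff, TopologicalSpace.Opens.coe_inf, TopologicalSpace.Opens.coe_mk]
    tauto
  · exact flc_of_iso ((EtCore.pullComp O.ι g).app G).symm hO

theorem killedBy_of_mono {X : Scheme.{u}} {F G : EtCoh.Ab X} (ι : G ⟶ F) [Mono ι] (n : ℕ)
    (hFn : EtCoh.KilledBy n F) : EtCoh.KilledBy n G := by
  intro U s
  apply sections_inj_of_mono ι U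
  rw [map_nsmul, map_zero]
  exact hFn U _

theorem S0141 (X : Scheme.{u}) [IsNoetherian X]
    {F Q : EtCoh.Ab X} (π : F ⟶ Q) [Epi π] (n : ℕ) (hn : 0 < n) (hFn : EtCoh.KilledBy n F)
    (hF : EtPBC.IsConstructible F) :
    EtPBC.IsConstructible Q := by
  have hK : EtPBC.IsConstructible (kernel π) := S0140 X (kernel.ι π) n hn hFn hF
  have hKn : EtCoh.KilledBy n (kernel π) := killedBy_of_mono (kernel.ι π) n hFn
  have hC := (S0131 (kernel.ι π) n hn hKn hFn hK hF).2
  have hcolim :=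
    Abelian.epiIsCokernelOfKernel (limit.cone (parallelPair π 0)) (limit.isLimit _)
  exact constructible_of_iso
    (IsColimit.coconePointUniqueUpToIso (colimit.isColimit _) hcolim) hC

end Helper15.Constr
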