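import Mathlib
import Groth.Agent.Lib.Helper15.SubConst
import Groth.Agent.Lib.Helper15.ClosedStalk
import Groth.Agent.Lib.Helper13.StalkConservative
import Groth.Agent.Lib.Helper13.StalkPull

set_option autoImplicit false
set_option backward.isDefEq.respectTransparency false

universe u

open CategoryTheory CategoryTheory.Limits AlgebraicGeometry Opposite Topology

namespace Helper15.LcStruct

variable {X : Scheme.{u}}

section Good

variable {F G : EtCoh.Ab X} (ι : G ⟶ F) {V : X.Etale} {M : AddCommGrpCat.{u+1}}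
  (cF : M →+ F.obj.obj (op V))

/-- `m` occurs as the (constant) value of a section of the subsheaf over a nonempty étale. -/
def Good (m : M) : Prop :=
  ∃ (Y : X.Etale) (h : Y ⟶ V), Nonempty Y.left ∧ ∃ s : G.obj.obj (op Y),
    ι.hom.app (op Y) s = F.obj.map h.op (cF m)

theorem iota_nat {Y Y' : X.Etale} (k : Y' ⟶ Y) (s : G.obj.obj (op Y)) :
    ι.hom.app (op Y') (G.obj.map k.op s) = F.obj.map k.op (ι.hom.app (op Y) s) :=
  NatTrans.naturality_apply ι.hom k.op s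

variable [IrreducibleSpace V.left]

theorem good_zero : Good ι cF 0 :=
  ⟨V, 𝟙 V, inferInstance, 0, by rw [map_zero, map_zero, map_zero]⟩

theorem good_neg {m : M} (hm : Good ι cF m) : Good ι cF (-m) := by
  obtain ⟨Y, h, hne, s, hs⟩ := hm
  exact ⟨Y, h, hne, -s, by rw [map_neg, hs, map_neg, map_neg]⟩

theorem good_add {m₁ m₂ : M} (h1 : Good ι cF m₁) (h2 : Good ι cF m₂) :
    Good ι cF (m₁ + m₂) := by
  obtain ⟨Y₁, h₁, ne₁, s₁, e₁⟩ := h1
  obtain ⟨Y₂, h₂, ne₂, s₂, e₂⟩ := h2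
  refine ⟨fibObj h₁ h₂, fibFst h₁ h₂ ≫ h₁, fib_nonempty h₁ h₂,
    G.obj.map (fibFst h₁ h₂).op s₁ + G.obj.map (fibSnd h₁ h₂).op s₂, ?_⟩
  rw [map_add, iota_nat ι, iota_nat ι, e₁, e₂, ← map_comp_app F (fibFst h₁ h₂) h₁ (cF m₁),
    ← map_comp_app F (fibSnd h₁ h₂) h₂ (cF m₂), ← fib_w h₁ h₂]
  simp only [map_add]

/-- The subgroup of good values. -/
def goodSub : AddSubgroup M where
  carrier := {m | Good ι cF m}
  add_mem' := fun ha hb => good_add ι cF ha hb
  zero_mem' := good_zero ι cF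
  neg_mem' := fun ha => good_neg ι cF ha

theorem good_sections [Finite M] (A' : AddSubgroup M) (hA' : ∀ m ∈ A', Good ι cF m) :
    ∃ (W : X.Etale) (f : W ⟶ V) (_ : Nonempty W.left) (t : A' → G.obj.obj (op W)),
      ∀ a : A', ι.hom.app (op W) (t a) = F.obj.map f.op (cF a.1) := by
  classical
  have common : ∀ S : Finset A', ∃ (W : X.Etale) (f : W ⟶ V), Nonempty W.left ∧
      ∀ m ∈ S, ∃ s : G.obj.obj (op W), ι.hom.app (op W) s = F.obj.map f.op (cF m.1) := by
    intro S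
    induction S using Finset.induction_on with
    | empty => exact ⟨V, 𝟙 V, inferInstance, fun m hm => (Finset.notMem_empty m hm).elim⟩
    | insert a S ha ih =>
      obtain ⟨W, f, hne, hs⟩ := ih
      obtain ⟨Y, h, hne', sa, ea⟩ := hA' a.1 a.2
      refine ⟨fibObj f h, fibFst f h ≫ f, fib_nonempty f h, ?_⟩
      intro m hm
      rcases Finset.mem_insert.1 hm with rfl | hm'
      · refine ⟨G.obj.map (fibSnd f h).op sa, ?_⟩
        rw [iota_nat ι, ea, ← map_comp_app F (fibSnd f h) h (cF m.1), ← fib_w f h]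
      · obtain ⟨s, es⟩ := hs m hm'
        refine ⟨G.obj.map (fibFst f h).op s, ?_⟩
        rw [iota_nat ι, es, ← map_comp_app F (fibFst f h) f (cF m.1)]
  haveI : Fintype A' := Fintype.ofFinite A'
  obtain ⟨W, f, hne, hs⟩ := common Finset.univ
  have hs' : ∀ m : A', ∃ s : G.obj.obj (op W),
      ι.hom.app (op W) s = F.obj.map f.op (cF m.1) := fun m => hs m (Finset.mem_univ m)
  choose t ht using hs'
  exact ⟨W, f, hne, t, ht⟩

theorem constVia_of_good [Mono ι] (hF : IsConstVia F V M cF) (A' : AddSubgroup M)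
    (hA' : ∀ m, Good ι cF m → m ∈ A') {W : X.Etale} (f : W ⟶ V) (t : A' → G.obj.obj (op W))
    (ht : ∀ a : A', ι.hom.app (op W) (t a) = F.obj.map f.op (cF a.1)) :
    ∃ c : A' →+ G.obj.obj (op W), (∀ a, c a = t a) ∧ IsConstVia G W A' c := by
  have inj := sections_inj_of_mono ι
  have tadd : ∀ m m' : A', t (m + m') = t m + t m' := by
    intro m m'
    apply inj W
    rw [map_add, ht, ht, ht]
    show F.obj.map f.op (cF (m.1 + m'.1)) = _
    rw [map_add, map_add]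
  refine ⟨AddMonoidHom.mk' t tadd, fun _ => rfl, ⟨?_, ?_⟩⟩
  · intro Y h s
    have hT := (hF.restrict f).surj h (ι.hom.app (op Y) s)
    refine X.smallEtaleTopology.superset_covering ?_ hT
    rintro Y' k ⟨m, hm⟩
    have hm' : F.obj.map k.op (ι.hom.app (op Y) s) =
        F.obj.map (k ≫ h).op (F.obj.map f.op (cF m)) := hm
    by_cases hE : (⊥ : Sieve Y') ∈ X.smallEtaleTopology Y'
    · refine ⟨0, ?_⟩
      exact sec_ext X.smallEtaleTopology G ⊥ hE _ _
        (fun Z g hg => ((Sieve.bot_apply g).1 hg).elim)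
    · have hne' : Nonempty Y'.left := nonempty_of_bot_not_mem Y' hE
      have hgm : Good ι cF m := ⟨Y', (k ≫ h) ≫ f, hne', G.obj.map k.op s, by
        rw [iota_nat ι, hm', ← map_comp_app F (k ≫ h) f (cF m)]⟩
      refine ⟨⟨m, hA' m hgm⟩, ?_⟩
      apply inj Y'
      rw [iota_nat ι, iota_nat ι, hm']
      show _ = F.obj.map (k ≫ h).op (ι.hom.app (op W) (t ⟨m, hA' m hgm⟩))
      rw [ht]
  · intro Y h m hY hm
    have hm' : G.obj.map h.op (t m) = 0 := hm
    have h0 : F.obj.map h.op (((F.obj.map f.op).hom.comp cF) m.1) = 0 := by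
      show F.obj.map h.op (F.obj.map f.op (cF m.1)) = 0
      rw [← ht, ← iota_nat ι, hm', map_zero]
    have := (hF.restrict f).inj h m.1 hY h0
    exact Subtype.ext this

end Good

section Germ

theorem germ_refine {C : Type*} [Category C] {J : GrothendieckTopology C} (Φ : J.Point) {Y W : C}
    (y : Φ.fiber.obj Y) (w : Φ.fiber.obj W) :
    ∃ (Z : C) (z : Φ.fiber.obj Z) (f₁ : Z ⟶ Y) (f₂ : Z ⟶ W),
      Φ.fiber.map f₁ z = y ∧ Φ.fiber.map f₂ z = w := by
  have h1 := IsCofiltered.minToLeft (Φ.fiber.elementsMk Y y) (Φ.fiber.elementsMk W w)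
  have h2 := IsCofiltered.minToRight (Φ.fiber.elementsMk Y y) (Φ.fiber.elementsMk W w)
  exact ⟨_, _, h1.1, h2.1, h1.2, h2.2⟩

variable {T : Scheme.{u}} {Ω : Type u} [Field Ω] [IsSepClosed Ω]
  (ζ : Spec (CommRingCat.of Ω) ⟶ T)

theorem fiber_nonempty_of_mem_range (W : T.Etale)
    (h : ζ.base default ∈ Set.range W.hom.base) :
    Nonempty ((Scheme.pointSmallEtale ζ).fiber.obj W) := by
  obtain ⟨w, hw⟩ := h
  obtain ⟨x', -⟩ :=
    Scheme.pointSmallEtaleFiberObjToPreimage_surjective ζ hw.symm W ⟨w, by simp⟩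
  exact ⟨x'⟩

open Groth.Agent.Lib.Helper13.StalkConservative in
theorem stalk_surj_of_constVia {G₀ G₁ : EtCoh.Ab T} (v : G₀ ⟶ G₁) (W : T.Etale)
    {A : Type (u+1)} [AddCommGroup A] (c₁ : A →+ G₁.obj.obj (op W)) (h₁ : IsConstVia G₁ W A c₁)
    (t : A → G₀.obj.obj (op W)) (ht : ∀ a, v.hom.app (op W) (t a) = c₁ a)
    (hζ : ζ.base default ∈ Set.range W.hom.base) :
    Function.Surjective ((EtCoh.stalk ζ).map v) := by
  intro p
  obtain ⟨Y, y, s, rfl⟩ := (Scheme.pointSmallEtale ζ).toPresheafFiber_jointly_surjective p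
  obtain ⟨w⟩ := fiber_nonempty_of_mem_range ζ W hζ
  obtain ⟨Z, z, f₁, f₂, e₁, e₂⟩ := germ_refine (Scheme.pointSmallEtale ζ) y w
  have hsieve := h₁.surj f₂ (G₁.obj.map f₁.op s)
  obtain ⟨Z', k, ⟨a₀, ha₀⟩, z', ez'⟩ :=
    (Scheme.pointSmallEtale ζ).jointly_surjective _ hsieve z
  refine ⟨(Scheme.pointSmallEtale ζ).toPresheafFiber Z' z' G₀.obj
    (G₀.obj.map (k ≫ f₂).op (t a₀)), ?_⟩
  have e3 : v.hom.app (op Z') (G₀.obj.map (k ≫ f₂).op (t a₀)) =
      G₁.obj.map k.op (G₁.obj.map f₁.op s) := by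
    rw [NatTrans.naturality_apply v.hom (k ≫ f₂).op (t a₀), ht, ← ha₀]
  calc (EtCoh.stalk ζ).map v ((Scheme.pointSmallEtale ζ).toPresheafFiber Z' z' G₀.obj
        (G₀.obj.map (k ≫ f₂).op (t a₀)))
      = (Scheme.pointSmallEtale ζ).toPresheafFiber Z' z' G₁.obj
          (v.hom.app (op Z') (G₀.obj.map (k ≫ f₂).op (t a₀))) :=
        (Scheme.pointSmallEtale ζ).toPresheafFiber_naturality_apply v.hom Z' z' _
    _ = (Scheme.pointSmallEtale ζ).toPresheafFiber Z' z' G₁.obj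
          (G₁.obj.map k.op (G₁.obj.map f₁.op s)) := by rw [e3]
    _ = (Scheme.pointSmallEtale ζ).toPresheafFiber Z
          ((Scheme.pointSmallEtale ζ).fiber.map k z') G₁.obj (G₁.obj.map f₁.op s) :=
        (Scheme.pointSmallEtale ζ).toPresheafFiber_w_apply k z' G₁.obj _
    _ = (Scheme.pointSmallEtale ζ).toPresheafFiber Z z G₁.obj (G₁.obj.map f₁.op s) := by
        rw [ez']
    _ = (Scheme.pointSmallEtale ζ).toPresheafFiber Y
          ((Scheme.pointSmallEtale ζ).fiber.map f₁ z) G₁.obj s :=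
        (Scheme.pointSmallEtale ζ).toPresheafFiber_w_apply f₁ z G₁.obj s
    _ = _ := by rw [e₁]; rfl

end Germ

theorem exists_factor_immersion {T X : Scheme.{u}} (g : T ⟶ X) [IsImmersion g] {Ω : Type u}
    [Field Ω] (ξ : Spec (CommRingCat.of Ω) ⟶ X) (h : ξ.base default ∈ Set.range g.base) :
    ∃ ζ : Spec (CommRingCat.of Ω) ⟶ T, ζ ≫ g = ξ := by
  obtain ⟨t, ht⟩ := h
  have hsub : Set.range ξ ⊆ Set.range g.coborderRange.ι := by
    rintro _ ⟨a, rfl⟩
    rw [Subsingleton.elim a default, Scheme.Opens.range_ι]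
    have : ξ.base default ∈ coborder (Set.range g.base) := ht ▸ subset_coborder ⟨t, rfl⟩
    exact this
  obtain ⟨ξ₁, hξ₁⟩ : ∃ ξ₁, ξ₁ ≫ g.coborderRange.ι = ξ :=
    ⟨IsOpenImmersion.lift g.coborderRange.ι ξ hsub, IsOpenImmersion.lift_fac _ _ _⟩
  have h1 : ξ₁.base default ∈ Set.range g.liftCoborder.base := by
    refine ⟨t, ?_⟩
    apply g.coborderRange.ι.isOpenEmbedding.injective
    have e1 : g.coborderRange.ι (g.liftCoborder t) = g t := by
      rw [← Scheme.Hom.comp_apply, g.liftCoborder_ι]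
    have e2 : g.coborderRange.ι (ξ₁ default) = ξ default := by
      rw [← Scheme.Hom.comp_apply, hξ₁]
    exact e1.trans (ht.trans e2.symm)
  obtain ⟨ζ, hζ⟩ := Groth.Agent.Lib.Helper15.ClosedStalk.exists_factor g.liftCoborder ξ₁ h1
  exact ⟨ζ, by rw [← g.liftCoborder_ι, ← Category.assoc, hζ, hξ₁]⟩

open Groth.Agent.Lib.Helper13.StalkConservative in
theorem chain_generic {T : Scheme.{u}} [IsLocallyNoetherian T] [hT : Nonempty T]
    (F' : EtCoh.Ab T) (hF : EtCoh.IsFiniteLocallyConstant F') (G' : ℕ → EtCoh.Ab T)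
    (ι : ∀ m, G' m ⟶ F') [∀ m, Mono (ι m)] (v : ∀ m m', m ≤ m' → (G' m ⟶ G' m'))
    (hv : ∀ m m' (h : m ≤ m'), v m m' h ≫ ι m' = ι m) :
    ∃ (N₀ : ℕ) (O : T.Opens), (O : Set T).Nonempty ∧ ∀ (m : ℕ) (h : N₀ ≤ m) (Ω : Type u)
      [Field Ω] [IsSepClosed Ω] (ζ : Spec (CommRingCat.of Ω) ⟶ T),
        ζ.base default ∈ (O : Set T) → Function.Surjective ((EtCoh.stalk ζ).map (v N₀ m h)) := by
  obtain ⟨ι₁, U, hU, hc⟩ := hF
  obtain ⟨t⟩ := hT
  obtain ⟨i, y, hy⟩ := hU t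
  haveI : Nonempty (U i).left := ⟨y⟩
  obtain ⟨M, iM, fM, ⟨a⟩⟩ := hc i
  obtain ⟨V₀, f₀, hirr⟩ := exists_irreducible_open (U i)
  have hfin : Finite (AddCommGrpCat.of (ULift.{u+1} M)) := by
    show Finite (ULift.{u+1} M); infer_instance
  have a' : F'.over (U i) ≅ (cst T (AddCommGrpCat.of (ULift.{u+1} M))).over (U i) :=
    a ≪≫ ((kappa (U i)).app _).symm
  have kF := (isConstVia_of_iso _ a').restrict f₀
  obtain ⟨cF, hcF⟩ : ∃ cF : (AddCommGrpCat.of (ULift.{u+1} M)) →+ F'.obj.obj (op V₀),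
      IsConstVia F' V₀ (AddCommGrpCat.of (ULift.{u+1} M)) cF := ⟨_, kF⟩
  have hvapp : ∀ m m' (h : m ≤ m') (Y : T.Etale) (s : (G' m).obj.obj (op Y)),
      (ι m').hom.app (op Y) ((v m m' h).hom.app (op Y) s) = (ι m).hom.app (op Y) s := by
    intro m m' h Y s
    have := congrArg (fun φ => φ.hom.app (op Y)) (hv m m' h)
    exact ConcreteCategory.congr_hom this s
  have hmono : ∀ m m' (_ : m ≤ m') x, Good (ι m) cF x → Good (ι m') cF x := by
    rintro m m' h x ⟨Y, k, hne, s, hs⟩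
    exact ⟨Y, k, hne, (v m m' h).hom.app (op Y) s, (hvapp m m' h Y s).trans hs⟩
  haveI : Finite (AddSubgroup (AddCommGrpCat.of (ULift.{u+1} M))) :=
    Finite.of_injective (fun H => (H : Set (AddCommGrpCat.of (ULift.{u+1} M))))
      SetLike.coe_injective
  obtain ⟨N₀, hN₀⟩ := WellFoundedGT.monotone_chain_condition
    (⟨fun m => goodSub (ι m) cF, fun m m' h x hx => hmono m m' h x hx⟩ :
      ℕ →o AddSubgroup (AddCommGrpCat.of (ULift.{u+1} M)))
  obtain ⟨W, f, hne, t, ht⟩ :=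
    good_sections (ι N₀) cF (goodSub (ι N₀) cF) (fun m hm => hm)
  obtain ⟨O, hO⟩ : ∃ O : T.Opens, (O : Set T) = Set.range W.hom.base :=
    ⟨⟨_, W.hom.isOpenMap.isOpen_range⟩, rfl⟩
  refine ⟨N₀, O, ?_, ?_⟩
  · rw [hO]
    obtain ⟨w⟩ := hne
    exact ⟨W.hom.base w, w, rfl⟩
  · intro m h Ω _ _ ζ hζ
    have hA : ∀ x, Good (ι m) cF x → x ∈ goodSub (ι N₀) cF := by
      intro x hx
      have h1 : x ∈ goodSub (ι m) cF := hx
      have h2 : goodSub (ι N₀) cF = goodSub (ι m) cF := hN₀ m h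
      rw [h2]; exact h1
    obtain ⟨c₁, hc₁, hconst⟩ := constVia_of_good (ι m) cF hcF (goodSub (ι N₀) cF) hA f
      (fun a => (v N₀ m h).hom.app (op W) (t a))
      (fun a => (hvapp N₀ m h W (t a)).trans (ht a))
    exact stalk_surj_of_constVia ζ (v N₀ m h) W c₁ hconst t (fun a => (hc₁ a).symm)
      (by rw [← hO]; exact hζ)

end Helper15.LcStruct

namespace Helper15.Constr

open Helper15.LcStruct Groth.Agent.Lib.Helper13.StalkConservative
  Groth.Agent.Lib.Helper13.StalkPull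

section Acc

variable {X : Scheme.{u}} {F : EtCoh.Ab X} (c : ℕ →o Subobject F)

noncomputable abbrev phi (N m : ℕ) (h : N ≤ m) : (c N : EtCoh.Ab X) ⟶ (c m : EtCoh.Ab X) :=
  (c N).ofLE (c m) (c.monotone h)

theorem phi_comp (N N' m : ℕ) (h : N ≤ N') (h' : N' ≤ m) :
    phi c N N' h ≫ phi c N' m h' = phi c N m (h.trans h') :=
  Subobject.ofLE_comp_ofLE _ _ _ _ _

theorem phi_arrow (N m : ℕ) (h : N ≤ m) : phi c N m h ≫ (c m).arrow = (c N).arrow :=
  Subobject.ofLE_arrow _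

theorem stalk_iso_upgrade {Ω : Type u} [Field Ω] [IsSepClosed Ω]
    (ξ : Spec (CommRingCat.of Ω) ⟶ X) (N₀ : ℕ)
    (h0 : ∀ m (h : N₀ ≤ m), IsIso ((EtCoh.stalk ξ).map (phi c N₀ m h))) (N : ℕ) (hN : N₀ ≤ N)
    (m : ℕ) (h : N ≤ m) : IsIso ((EtCoh.stalk ξ).map (phi c N m h)) := by
  haveI := h0 N hN
  haveI : IsIso ((EtCoh.stalk ξ).map (phi c N₀ N hN) ≫ (EtCoh.stalk ξ).map (phi c N m h)) := by
    rw [← Functor.map_comp, phi_comp]; exact h0 m (hN.trans h)
  exact IsIso.of_isIso_comp_left ((EtCoh.stalk ξ).map (phi c N₀ N hN)) _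

/-- The chain is stationary at geometric points over `Z`. -/
def Q (Z : Set X) : Prop :=
  ∃ N : ℕ, ∀ (m : ℕ) (h : N ≤ m) (Ω : Type u) [Field Ω] [IsSepClosed Ω]
    (ξ : Spec (CommRingCat.of Ω) ⟶ X), ξ.base default ∈ Z →
      IsIso ((EtCoh.stalk ξ).map (phi c N m h))

open Groth.Agent.Lib.Helper13.FlatPullback in
theorem acc_closed [IsNoetherian X] (hF : EtPBC.IsConstructible F)
    (Z : TopologicalSpace.Closeds X) : Q c (Z : Set X) := by
  haveI : TopologicalSpace.NoetherianSpace X := inferInstance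
  apply wellFounded_lt.induction Z; clear Z
  intro Z H
  rcases eq_or_ne Z ⊥ with rfl | h₀
  · exact ⟨0, fun m h Ω _ _ ξ hξ => by simp at hξ⟩
  · by_cases h₁ : IsPreirreducible (Z : Set X)
    · have hirr : IsIrreducible (Z : Set X) :=
        ⟨TopologicalSpace.Closeds.coe_nonempty.2 h₀, h₁⟩
      obtain ⟨y, hy⟩ : ∃ y, closure ({y} : Set X) = (Z : Set X) :=
        ⟨_, isGenericPoint_def.mp (hirr.isGenericPoint_genericPoint Z.isClosed)⟩
      obtain ⟨V, T, g, hg, hyV, hr, hflc⟩ := (S8527 F).1 hF y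
      haveI := hg
      haveI : IsLocallyNoetherian T := LocallyOfFiniteType.isLocallyNoetherian g
      have hyr : y ∈ Set.range g.base := by rw [hr]; exact ⟨hyV, subset_closure rfl⟩
      obtain ⟨t₀, ht₀⟩ := hyr
      haveI : Nonempty T := ⟨t₀⟩
      haveI : ∀ m, Mono ((EtCoh.pull g).map (c m).arrow) := fun m => inferInstance
      obtain ⟨N₀, O, hOne, hsurj⟩ := chain_generic ((EtCoh.pull g).obj F) hflc
        (fun m => (EtCoh.pull g).obj (c m : EtCoh.Ab X)) (fun m => (EtCoh.pull g).map (c m).arrow)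
        (fun m m' h => (EtCoh.pull g).map (phi c m m' h))
        (fun m m' h => by rw [← Functor.map_comp, phi_arrow])
      obtain ⟨V'', hV''o, hV''⟩ := g.isEmbedding.isInducing.isOpen_iff.1 O.isOpen
      have hyV'' : y ∈ V'' := by
        obtain ⟨q, hq⟩ := hOne
        have h1 : g.base q ∈ V'' := by
          have : q ∈ g.base ⁻¹' V'' := by rw [hV'']; exact hq
          exact this
        have h2 : g.base q ∈ closure ({y} : Set X) := by
          have : g.base q ∈ Set.range g.base := ⟨q, rfl⟩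
          rw [hr] at this
          exact this.2
        obtain ⟨_, h3, rfl⟩ := mem_closure_iff.1 h2 V'' hV''o h1
        exact h3
      obtain ⟨Z', hZ'⟩ : ∃ Z' : TopologicalSpace.Closeds X,
          (Z' : Set X) = (Z : Set X) \ ((V : Set X) ∩ V'') :=
        ⟨⟨_, Z.isClosed.sdiff (V.isOpen.inter hV''o)⟩, rfl⟩
      have hyZ : y ∈ (Z : Set X) := hy ▸ subset_closure (Set.mem_singleton y)
      have hlt : Z' < Z := by
        refine lt_of_le_of_ne (fun x hx => ?_) ?_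
        · have hx' : x ∈ (Z : Set X) \ ((V : Set X) ∩ V'') := hZ' ▸ hx
          exact hx'.1
        · intro e
          have hyZ' : y ∈ (Z' : Set X) := e ▸ hyZ
          rw [hZ'] at hyZ'; exact hyZ'.2 ⟨hyV, hyV''⟩
      obtain ⟨N₁, hN₁⟩ := H Z' hlt
      refine ⟨max N₀ N₁, ?_⟩
      intro m h Ω _ _ ξ hξ
      by_cases hξV : ξ.base default ∈ (V : Set X) ∩ V''
      · have hξr : ξ.base default ∈ Set.range g.base := by
          rw [hr, hy]; exact ⟨hξV.1, hξ⟩
        obtain ⟨ζ, hζ⟩ := exists_factor_immersion g ξ hξr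
        subst hζ
        have hζO : ζ.base default ∈ (O : Set T) := by
          rw [← hV'']; exact hξV.2
        refine stalk_iso_upgrade c (ζ ≫ g) N₀ ?_ _ (le_max_left _ _) m h
        intro m' h'
        refine (NatIso.isIso_map_iff (stalkPullIso g ζ) (phi c N₀ m' h')).1 ?_
        show IsIso ((EtCoh.stalk ζ).map ((EtCoh.pull g).map (phi c N₀ m' h')))
        haveI : Mono ((EtCoh.pull g).map (phi c N₀ m' h')) := inferInstance
        haveI : Mono ((EtCoh.stalk ζ).map ((EtCoh.pull g).map (phi c N₀ m' h'))) :=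
          inferInstance
        haveI : Epi ((EtCoh.stalk ζ).map ((EtCoh.pull g).map (phi c N₀ m' h'))) :=
          (AddCommGrpCat.epi_iff_surjective _).2 (hsurj m' h' Ω ζ hζO)
        exact isIso_of_mono_of_epi _
      · have hξZ' : ξ.base default ∈ (Z' : Set X) := by rw [hZ']; exact ⟨hξ, hξV⟩
        exact stalk_iso_upgrade c ξ N₁ (fun m' h' => hN₁ m' h' Ω ξ hξZ') _
          (le_max_right _ _) m h
    · simp only [isPreirreducible_iff_isClosed_union_isClosed, not_forall, not_or] at h₁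
      obtain ⟨z₁, z₂, hz₁, hz₂, h, hz₁', hz₂'⟩ := h₁
      lift z₁ to TopologicalSpace.Closeds X using hz₁
      lift z₂ to TopologicalSpace.Closeds X using hz₂
      obtain ⟨N₁, hN₁⟩ := H (Z ⊓ z₁) (inf_lt_left.2 hz₁')
      obtain ⟨N₂, hN₂⟩ := H (Z ⊓ z₂) (inf_lt_left.2 hz₂')
      refine ⟨max N₁ N₂, ?_⟩
      intro m hm Ω _ _ ξ hξ
      rcases h hξ with h1 | h2
      · exact stalk_iso_upgrade c ξ N₁ (fun m' h' => hN₁ m' h' Ω ξ
          (by rw [TopologicalSpace.Closeds.coe_inf]; exact ⟨hξ, h1⟩)) _ (le_max_left _ _) m hm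
      · exact stalk_iso_upgrade c ξ N₂ (fun m' h' => hN₂ m' h' Ω ξ
          (by rw [TopologicalSpace.Closeds.coe_inf]; exact ⟨hξ, h2⟩)) _ (le_max_right _ _) m hm

end Acc

theorem S0142 (X : Scheme.{u}) [IsNoetherian X]
    (F : EtCoh.Ab X) (hF : EtPBC.IsConstructible F) (c : ℕ →o Subobject F) :
    ∃ N, ∀ m, N ≤ m → c m = c N := by
  obtain ⟨N, hN⟩ := acc_closed c hF ⊤
  refine ⟨N, fun m h => ?_⟩
  haveI : IsIso (phi c N m h) := by
    rw [isIso_iff_stalks]
    intro i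
    exact hN m h i.Ω i.ξ (by simp)
  refine le_antisymm ?_ (c.monotone h)
  exact Subobject.le_of_comm (inv (phi c N m h)) (by rw [IsIso.inv_comp_eq, phi_arrow])

end Helper15.Constr
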