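import Mathlib
import Groth.Agent.Lib.Helper15.SubConst2

set_option autoImplicit false
set_option backward.isDefEq.respectTransparency false

universe u

open CategoryTheory CategoryTheory.Limits AlgebraicGeometry Opposite Topology

namespace Helper15.LcStruct

section Top

variable {S : Type*} [TopologicalSpace S]

theorem isCompact_of_isConstructible [CompactSpace S] [PrespectralSpace S]
    [QuasiSeparatedSpace S] {Z : Set S} (hZ : IsConstructible Z) : IsCompact Z := by
  haveI : Nonempty {U : Set S // IsOpen U ∧ IsCompact U} :=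
    ⟨⟨∅, isOpen_empty, isCompact_empty⟩⟩
  refine IsConstructible.induction_of_isTopologicalBasis (P := fun s _ => IsCompact s)
    (Subtype.val : {U : Set S // IsOpen U ∧ IsCompact U} → Set S)
    (by rw [Subtype.range_coe_subtype]; exact PrespectralSpace.isTopologicalBasis)
    (fun U => U.2.2) ?_ ?_ Z hZ
  · intro U s hs
    exact U.2.2.diff (isOpen_biUnion fun j _ => j.2.1)
  · intro s _ t _ hs ht
    exact hs.union ht

theorem isConstructible_of_rel_clopen [CompactSpace S] [PrespectralSpace S]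
    [QuasiSeparatedSpace S] {Z C O₁ K₁ : Set S} (hZ : IsConstructible Z) (hO : IsOpen O₁)
    (hK : IsClosed K₁) (h1 : C = Z ∩ O₁) (h2 : C = Z ∩ K₁) : IsConstructible C := by
  have hCc : IsCompact C := by rw [h2]; exact (isCompact_of_isConstructible hZ).inter_right hK
  have hB := PrespectralSpace.isTopologicalBasis (X := S)
  have hex : ∀ x ∈ C, ∃ B : Set S, (IsOpen B ∧ IsCompact B) ∧ x ∈ B ∧ B ⊆ O₁ := by
    intro x hx
    have hxO : x ∈ O₁ := (h1 ▸ hx : x ∈ Z ∩ O₁).2
    obtain ⟨B, hBm, hxB, hBO⟩ := hB.exists_subset_of_mem_open hxO hO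
    exact ⟨B, hBm, hxB, hBO⟩
  choose! B hB1 hB2 hB3 using hex
  obtain ⟨b', hb'C, hfin, hcov⟩ := hCc.elim_finite_subcover_image (b := C) (c := B)
    (fun x hx => (hB1 x hx).1) (fun x hx => Set.mem_biUnion hx (hB2 x hx))
  have hBc : IsConstructible (⋃ i ∈ b', B i) :=
    IsConstructible.biUnion hfin (fun i hi => (hB1 i (hb'C hi)).2.isConstructible
      (hB1 i (hb'C hi)).1)
  have hC : C = Z ∩ ⋃ i ∈ b', B i := by
    apply Set.Subset.antisymm
    · intro x hx
      exact ⟨(h1 ▸ hx : x ∈ Z ∩ O₁).1, hcov hx⟩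
    · rintro x ⟨hxZ, hxB⟩
      obtain ⟨i, hi, hxi⟩ := Set.mem_iUnion₂.1 hxB
      rw [h1]
      exact ⟨hxZ, hB3 i (hb'C hi) hxi⟩
  rw [hC]
  exact hZ.inter hBc

theorem isClopen_of_local {T : Type*} [TopologicalSpace T] (E : Set T) {ι : Type*}
    (O : ι → Set T) (hO : ∀ j, IsOpen (O j)) (hcov : ∀ t, ∃ j, t ∈ O j)
    (h : ∀ j, (O j ⊆ E) ∨ (O j ⊆ Eᶜ)) : IsClopen E := by
  constructor
  · rw [← isOpen_compl_iff, isOpen_iff_forall_mem_open]
    intro t ht
    obtain ⟨j, hj⟩ := hcov t
    rcases h j with h1 | h2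
    · exact (ht (h1 hj)).elim
    · exact ⟨O j, h2, hO j, hj⟩
  · rw [isOpen_iff_forall_mem_open]
    intro t ht
    obtain ⟨j, hj⟩ := hcov t
    rcases h j with h1 | h2
    · exact ⟨O j, h1, hO j, hj⟩
    · exact (h2 hj ht).elim

end Top

section StalkConst

open Groth.Agent.Lib.Helper13.StalkConservative

variable {T : Scheme.{u}} {Ω : Type u} [Field Ω] [IsSepClosed Ω]
  (ζ : Spec (CommRingCat.of Ω) ⟶ T)

theorem bot_not_mem_of_fiber {Y : T.Etale} (y : (Scheme.pointSmallEtale ζ).fiber.obj Y) :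
    (⊥ : Sieve Y) ∉ T.smallEtaleTopology Y := by
  intro h
  obtain ⟨Y', g, hg, -, -⟩ := (Scheme.pointSmallEtale ζ).jointly_surjective _ h y
  exact ((Sieve.bot_apply g).1 hg).elim

variable (F : EtCoh.Ab T) (W : T.Etale) {A : Type (u+1)} [AddCommGroup A]
  (c : A →+ F.obj.obj (op W)) (h : IsConstVia F W A c)
  (w : (Scheme.pointSmallEtale ζ).fiber.obj W)

include h in
theorem stalk_germ_injective :
    Function.Injective (fun a : A => (Scheme.pointSmallEtale ζ).toPresheafFiber W w F.obj (c a)) := by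
  intro a a' e
  obtain ⟨Y, f, y, hy, hf⟩ :=
    ((Scheme.pointSmallEtale ζ).toPresheafFiber_eq_iff' W w (c a) (c a')).1 e
  have h0 : F.obj.map f.op (c (a - a')) = 0 := by rw [map_sub, map_sub, hf, sub_self]
  exact sub_eq_zero.1 (h.inj f (a - a') (bot_not_mem_of_fiber ζ y) h0)

include h in
theorem stalk_germ_surjective :
    Function.Surjective
      (fun a : A => (Scheme.pointSmallEtale ζ).toPresheafFiber W w F.obj (c a)) := by
  intro p
  obtain ⟨Y, y, s, rfl⟩ := (Scheme.pointSmallEtale ζ).toPresheafFiber_jointly_surjective p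
  obtain ⟨Z, z, f₁, f₂, e₁, e₂⟩ := germ_refine (Scheme.pointSmallEtale ζ) y w
  have hsieve := h.surj f₂ (F.obj.map f₁.op s)
  obtain ⟨Z', k, ⟨a₀, ha₀⟩, z', ez'⟩ :=
    (Scheme.pointSmallEtale ζ).jointly_surjective _ hsieve z
  refine ⟨a₀, ?_⟩
  have ew : (Scheme.pointSmallEtale ζ).fiber.map (k ≫ f₂) z' = w := by
    rw [Functor.map_comp, ConcreteCategory.comp_apply, ez', e₂]
  calc (Scheme.pointSmallEtale ζ).toPresheafFiber W w F.obj (c a₀)
      = (Scheme.pointSmallEtale ζ).toPresheafFiber W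
          ((Scheme.pointSmallEtale ζ).fiber.map (k ≫ f₂) z') F.obj (c a₀) := by rw [ew]
    _ = (Scheme.pointSmallEtale ζ).toPresheafFiber Z' z' F.obj
          (F.obj.map (k ≫ f₂).op (c a₀)) :=
        ((Scheme.pointSmallEtale ζ).toPresheafFiber_w_apply (k ≫ f₂) z' F.obj (c a₀)).symm
    _ = (Scheme.pointSmallEtale ζ).toPresheafFiber Z' z' F.obj
          (F.obj.map k.op (F.obj.map f₁.op s)) := by rw [ha₀]
    _ = (Scheme.pointSmallEtale ζ).toPresheafFiber Z
          ((Scheme.pointSmallEtale ζ).fiber.map k z') F.obj (F.obj.map f₁.op s) :=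
        (Scheme.pointSmallEtale ζ).toPresheafFiber_w_apply k z' F.obj _
    _ = (Scheme.pointSmallEtale ζ).toPresheafFiber Z z F.obj (F.obj.map f₁.op s) := by
        rw [ez']
    _ = (Scheme.pointSmallEtale ζ).toPresheafFiber Y
          ((Scheme.pointSmallEtale ζ).fiber.map f₁ z) F.obj s :=
        (Scheme.pointSmallEtale ζ).toPresheafFiber_w_apply f₁ z F.obj s
    _ = _ := by rw [e₁]

include h in
theorem isZero_stalk_iff (hζ : ζ.base default ∈ Set.range W.hom.base) :
    IsZero ((EtCoh.stalk ζ).obj F) ↔ Subsingleton A := by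
  obtain ⟨w⟩ := fiber_nonempty_of_mem_range ζ W hζ
  constructor
  · intro hz
    haveI : Subsingleton ((Scheme.pointSmallEtale ζ).presheafFiber.obj F.obj : AddCommGrpCat) :=
      AddCommGrpCat.subsingleton_of_isZero hz
    exact (stalk_germ_injective ζ F W c h w).subsingleton
  · intro hA
    haveI : Subsingleton ((EtCoh.stalk ζ).obj F) :=
      (stalk_germ_surjective ζ F W c h w).subsingleton
    exact AddCommGrpCat.isZero_of_subsingleton _

end StalkConst

theorem exists_geomPt {T : Scheme.{u}} (t : T) :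
    ∃ (Ω : Type u) (_ : Field Ω) (_ : IsSepClosed Ω) (ζ : Spec (CommRingCat.of Ω) ⟶ T),
      Set.range ζ = {t} := by
  refine ⟨SeparableClosure (T.residueField t), inferInstance, inferInstance,
    (Scheme.SpecToEquivOfField (SeparableClosure (T.residueField t)) _).2
      ⟨t, CommRingCat.ofHom (algebraMap (T.residueField t) _)⟩, ?_⟩
  ext x
  constructor
  · rintro ⟨a, rfl⟩
    rw [Subsingleton.elim a default]
    simp [Scheme.SpecToEquivOfField]
  · intro hx
    refine ⟨default, ?_⟩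
    rw [Set.mem_singleton_iff.1 hx]
    simp [Scheme.SpecToEquivOfField]

theorem base_default_of_range {T : Scheme.{u}} {Ω : Type u} [Field Ω]
    (ζ : Spec (CommRingCat.of Ω) ⟶ T) {t : T} (h : Set.range ζ = {t}) : ζ.base default = t := by
  have : ζ default ∈ Set.range ζ := ⟨default, rfl⟩
  rw [h] at this
  exact this

theorem range_of_base_default {T : Scheme.{u}} {Ω : Type u} [Field Ω]
    (ζ : Spec (CommRingCat.of Ω) ⟶ T) {t : T} (h : ζ.base default = t) : Set.range ζ = {t} := by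
  ext x
  constructor
  · rintro ⟨a, rfl⟩
    rw [Subsingleton.elim a default]
    exact h
  · intro hx
    exact ⟨default, h.trans (Set.mem_singleton_iff.1 hx).symm⟩

theorem supp_isClopen_of_flc {T : Scheme.{u}} (F' : EtCoh.Ab T)
    (hF : EtCoh.IsFiniteLocallyConstant F') : IsClopen (EtPBC.supp F') := by
  obtain ⟨ι₁, U, hU, hc⟩ := hF
  refine isClopen_of_local _ (fun j => Set.range (U j).hom.base)
    (fun j => (U j).hom.isOpenMap.isOpen_range) (fun t => ?_) (fun j => ?_)
  · obtain ⟨j, y, hy⟩ := hU t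
    exact ⟨j, y, hy⟩
  · obtain ⟨M, iM, fM, ⟨a⟩⟩ := hc j
    have a' : F'.over (U j) ≅ (cst T (AddCommGrpCat.of (ULift.{u+1} M))).over (U j) :=
      a ≪≫ ((kappa (U j)).app _).symm
    have kF := isConstVia_of_iso _ a'
    by_cases hsub : Subsingleton (AddCommGrpCat.of (ULift.{u+1} M))
    · right
      rintro t ht ⟨Ω, _, _, ξ, hr, hnz⟩
      have hb := base_default_of_range ξ hr
      exact hnz ((isZero_stalk_iff ξ F' (U j) _ kF (by rw [hb]; exact ht)).2 hsub)
    · left
      intro t ht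
      obtain ⟨Ω, iF, iS, ζ, hr⟩ := exists_geomPt t
      have hb := base_default_of_range ζ hr
      refine ⟨Ω, iF, iS, ζ, hr, fun hz => hsub ?_⟩
      exact (isZero_stalk_iff ζ F' (U j) _ kF (by rw [hb]; exact ht)).1 hz

open Groth.Agent.Lib.Helper13.StalkPull in
theorem supp_pull_iff {T X : Scheme.{u}} (g : T ⟶ X) [IsImmersion g] (F : EtCoh.Ab X) (t : T) :
    g.base t ∈ EtPBC.supp F ↔ t ∈ EtPBC.supp ((EtCoh.pull g).obj F) := by
  constructor
  · rintro ⟨Ω, iF, iS, ξ, hr, hnz⟩
    have hb := base_default_of_range ξ hr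
    obtain ⟨ζ, hζ⟩ := exists_factor_immersion g ξ (by rw [hb]; exact ⟨t, rfl⟩)
    subst hζ
    have hζt : ζ.base default = t := g.isEmbedding.injective hb
    refine ⟨Ω, iF, iS, ζ, range_of_base_default ζ hζt, fun hz => hnz ?_⟩
    exact IsZero.of_iso hz ((stalkPullIso g ζ).app F).symm
  · rintro ⟨Ω, iF, iS, ζ, hr, hnz⟩
    have hb := base_default_of_range ζ hr
    refine ⟨Ω, iF, iS, ζ ≫ g, range_of_base_default _ (by rw [← hb]; rfl), fun hz => hnz ?_⟩
    exact IsZero.of_iso hz ((stalkPullIso g ζ).app F)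

end Helper15.LcStruct

namespace Helper15.Constr

open Helper15.LcStruct

theorem cin_image_clopen {X : Scheme.{u}} (U : X.Opens) (hU : IsAffineOpen U) {T : Scheme.{u}}
    (g : T ⟶ X) [IsImmersion g] (hZ : CIn (U : Set X) (Set.range g)) (C' : Set T)
    (hC : IsClopen C') : CIn (U : Set X) (g.base '' C') := by
  haveI : CompactSpace (U : Set X) := isCompact_iff_compactSpace.mp hU.isCompact
  haveI : QuasiSeparatedSpace (U : Set X) :=
    (isQuasiSeparated_iff_quasiSeparatedSpace _ U.isOpen).mp hU.isQuasiSeparated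
  haveI : PrespectralSpace (U : Set X) := U.isOpen.isOpenEmbedding_subtypeVal.prespectralSpace
  obtain ⟨O, hO, hO'⟩ := g.isEmbedding.isInducing.isOpen_iff.1 hC.isOpen
  obtain ⟨K, hK, hK'⟩ := g.isEmbedding.isInducing.isClosed_iff.1 hC.isClosed
  have e1 : g.base '' C' = Set.range g ∩ O := by
    rw [← hO', Set.image_preimage_eq_inter_range, Set.inter_comm]
  have e2 : g.base '' C' = Set.range g ∩ K := by
    rw [← hK', Set.image_preimage_eq_inter_range, Set.inter_comm]
  unfold CIn at hZ ⊢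
  exact isConstructible_of_rel_clopen hZ (hO.preimage continuous_subtype_val)
    (hK.preimage continuous_subtype_val) (by rw [e1, Set.preimage_inter])
    (by rw [e2, Set.preimage_inter])

theorem S8526 {X : Scheme.{u}} (F : EtCoh.Ab X) (hF : EtPBC.IsConstructible F) :
    Topology.IsLocallyConstructible (EtPBC.supp F) := by
  intro x
  obtain ⟨U, hU, hxU, -⟩ := exists_isAffineOpen_mem_and_subset (x := x) (U := ⊤) trivial
  refine ⟨(U : Set X), U.isOpen.mem_nhds hxU, U.isOpen, ?_⟩
  show IsConstructible ((Subtype.val : ↥(U : Set X) → X) ⁻¹' EtPBC.supp F)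
  obtain ⟨κ, hκ, T, g, h1, h2, h3, h4, h5⟩ := adapted'_of_adapted (hF U hU)
  have key : ∀ k, IsConstructible
      ((Subtype.val : ↥(U : Set X) → X) ⁻¹' ((g k).base '' EtPBC.supp ((EtCoh.pull (g k)).obj F))) := by
    intro k
    haveI := h1 k
    exact cin_image_clopen U hU (g k) (h2 k) _ (supp_isClopen_of_flc _ (h5 k))
  have hEq : ((Subtype.val : ↥(U : Set X) → X) ⁻¹' EtPBC.supp F) =
      ⋃ k, (Subtype.val : ↥(U : Set X) → X) ⁻¹'
        ((g k).base '' EtPBC.supp ((EtCoh.pull (g k)).obj F)) := by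
    ext ⟨p, hp⟩
    simp only [Set.mem_preimage, Set.mem_iUnion, Set.mem_image]
    constructor
    · intro hps
      have hp' : p ∈ ⋃ k, Set.range (g k) := h4 ▸ hp
      obtain ⟨k, t, rfl⟩ := Set.mem_iUnion.mp hp'
      haveI := h1 k
      exact ⟨k, t, (supp_pull_iff (g k) F t).1 hps, rfl⟩
    · rintro ⟨k, t, ht, rfl⟩
      haveI := h1 k
      exact (supp_pull_iff (g k) F t).2 ht
  rw [hEq]
  exact IsConstructible.iUnion key

end Helper15.Constr
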