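import Mathlib
import Groth.Agent.Lib.Helper15.Supp

set_option autoImplicit false
set_option backward.isDefEq.respectTransparency false

universe u

open CategoryTheory CategoryTheory.Limits AlgebraicGeometry Opposite Topology

namespace Helper15.LcStruct

open Groth.Agent.Lib.Helper13.StalkConservative

variable {X : Scheme.{u}}

theorem sections_eq_of_bot_mem (G : EtCoh.Ab X) {Y : X.Etale}
    (hY : (⊥ : Sieve Y) ∈ X.smallEtaleTopology Y) (s t : G.obj.obj (op Y)) : s = t :=
  sec_ext X.smallEtaleTopology G ⊥ hY s t (fun Z f hf => ((Sieve.bot_apply f).1 hf).elim)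

theorem fiber_nonempty_of_generic [IrreducibleSpace ↥X] {Ω : Type u} [Field Ω] [IsSepClosed Ω]
    (ξ : Spec (CommRingCat.of Ω) ⟶ X) (hξ : ξ.base default = genericPoint ↥X) (Y : X.Etale)
    (hY : (⊥ : Sieve Y) ∉ X.smallEtaleTopology Y) :
    Nonempty ((Scheme.pointSmallEtale ξ).fiber.obj Y) := by
  obtain ⟨y⟩ := nonempty_of_bot_not_mem Y hY
  apply fiber_nonempty_of_mem_range ξ Y
  rw [hξ]
  exact ((genericPoint_spec ↥X).mem_open_set_iff Y.hom.isOpenMap.isOpen_range).2
    ⟨Y.hom.base y, Set.mem_univ _, y, rfl⟩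

theorem locSurj_of_generic_stalk [IrreducibleSpace ↥X]
    {Ω : Type u} [Field Ω] [IsSepClosed Ω] (ξ : Spec (CommRingCat.of Ω) ⟶ X)
    (hξ : ξ.base default = genericPoint ↥X)
    (M' M : AddCommGrpCat.{u+1}) (h0 : M' ⟶ M) (G : EtCoh.Ab X)
    (a : cst X M' ⟶ G) (b : G ⟶ cst X M) [Mono b]
    (hab : a ≫ b = (constantSheaf X.smallEtaleTopology AddCommGrpCat.{u + 1}).map h0)
    (hst : Function.Surjective ((EtCoh.stalk ξ).map a)) :
    Presheaf.IsLocallySurjective X.smallEtaleTopology a.hom where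
  imageSieve_mem := by
    intro U s
    have hS := Presheaf.imageSieve_mem X.smallEtaleTopology
      (toSheafify X.smallEtaleTopology ((Functor.const X.Etaleᵒᵖ).obj M)) (U := op U)
      (b.hom.app (op U) s)
    refine X.smallEtaleTopology.superset_covering ?_ hS
    rintro Y k ⟨m, hm⟩
    have hm' : eta M Y m = (cst X M).obj.map k.op (b.hom.app (op U) s) := hm
    have hab' : ∀ (Z : X.Etale) (x : M'),
        b.hom.app (op Z) (a.hom.app (op Z) (eta M' Z x)) = eta M Z (h0 x) := by
      intro Z x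
      have e := congrArg (fun t => t.hom.app (op Z)) hab
      have e' := ConcreteCategory.congr_hom e (eta M' Z x)
      exact e'.trans (eta_nat_apply h0 Z x)
    by_cases hY : (⊥ : Sieve Y) ∈ X.smallEtaleTopology Y
    · exact ⟨0, sections_eq_of_bot_mem G hY _ _⟩
    · obtain ⟨w⟩ := fiber_nonempty_of_generic ξ hξ Y hY
      obtain ⟨q, hq⟩ := hst ((Scheme.pointSmallEtale ξ).toPresheafFiber Y w G.obj
        (G.obj.map k.op s))
      obtain ⟨Z, z, r, rfl⟩ := (Scheme.pointSmallEtale ξ).toPresheafFiber_jointly_surjective q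
      have hq' : (Scheme.pointSmallEtale ξ).toPresheafFiber Z z G.obj (a.hom.app (op Z) r) =
          (Scheme.pointSmallEtale ξ).toPresheafFiber Y w G.obj (G.obj.map k.op s) :=
        ((Scheme.pointSmallEtale ξ).toPresheafFiber_naturality_apply a.hom Z z r).symm.trans hq
      obtain ⟨Z₁, z₁, f₁, f₂, e₁, e₂⟩ := germ_refine (Scheme.pointSmallEtale ξ) z w
      have hq'' : (Scheme.pointSmallEtale ξ).toPresheafFiber Z₁ z₁ G.obj
            (G.obj.map f₁.op (a.hom.app (op Z) r)) =
          (Scheme.pointSmallEtale ξ).toPresheafFiber Z₁ z₁ G.obj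
            (G.obj.map f₂.op (G.obj.map k.op s)) := by
        rw [(Scheme.pointSmallEtale ξ).toPresheafFiber_w_apply f₁ z₁ G.obj,
          (Scheme.pointSmallEtale ξ).toPresheafFiber_w_apply f₂ z₁ G.obj, e₁, e₂]
        exact hq'
      obtain ⟨Z₂, g, z₂, ez₂, hg⟩ :=
        ((Scheme.pointSmallEtale ξ).toPresheafFiber_eq_iff' Z₁ z₁ _ _).1 hq''
      obtain ⟨r₂, hr₂⟩ : ∃ r₂ : (cst X M').obj.obj (op Z₂),
          r₂ = (cst X M').obj.map g.op ((cst X M').obj.map f₁.op r) := ⟨_, rfl⟩
      have har₂ : a.hom.app (op Z₂) r₂ =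
          G.obj.map g.op (G.obj.map f₂.op (G.obj.map k.op s)) := by
        rw [hr₂, NatTrans.naturality_apply a.hom g.op, NatTrans.naturality_apply a.hom f₁.op]
        exact hg
      have hS₂ := Presheaf.imageSieve_mem X.smallEtaleTopology
        (toSheafify X.smallEtaleTopology ((Functor.const X.Etaleᵒᵖ).obj M')) (U := op Z₂) r₂
      obtain ⟨Z₃, j, ⟨m', hm'j⟩, z₃, -⟩ :=
        (Scheme.pointSmallEtale ξ).jointly_surjective _ hS₂ z₂
      have hm'' : eta M' Z₃ m' = (cst X M').obj.map j.op r₂ := hm'j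
      have hZ₃ := bot_not_mem_of_fiber ξ z₃
      have c1 : b.hom.app (op Z₃)
          (G.obj.map j.op (G.obj.map g.op (G.obj.map f₂.op (G.obj.map k.op s)))) =
          eta M Z₃ m := by
        rw [NatTrans.naturality_apply b.hom j.op, NatTrans.naturality_apply b.hom g.op,
          NatTrans.naturality_apply b.hom f₂.op, NatTrans.naturality_apply b.hom k.op, ← hm',
          eta_map_apply, eta_map_apply, eta_map_apply]
      have c2 : b.hom.app (op Z₃)
          (G.obj.map j.op (G.obj.map g.op (G.obj.map f₂.op (G.obj.map k.op s)))) =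
          eta M Z₃ (h0 m') := by
        rw [← har₂, ← NatTrans.naturality_apply a.hom j.op, ← hm'']
        exact hab' Z₃ m'
      have hmm : m = h0 m' := eta_injective M Z₃ hZ₃ (c1.symm.trans c2)
      refine ⟨eta M' Y m', ?_⟩
      apply sections_inj_of_mono b Y
      rw [hab' Y m', ← hmm, hm', NatTrans.naturality_apply b.hom k.op]

theorem iso_of_generic_stalk [IrreducibleSpace ↥X]
    {Ω : Type u} [Field Ω] [IsSepClosed Ω] (ξ : Spec (CommRingCat.of Ω) ⟶ X)
    (hξ : ξ.base default = genericPoint ↥X)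
    (M' M : AddCommGrpCat.{u+1}) (h0 : M' ⟶ M) (G : EtCoh.Ab X)
    (a : cst X M' ⟶ G) (b : G ⟶ cst X M) [Mono a] [Mono b]
    (hab : a ≫ b = (constantSheaf X.smallEtaleTopology AddCommGrpCat.{u + 1}).map h0)
    (hst : Function.Surjective ((EtCoh.stalk ξ).map a)) : IsIso a := by
  haveI : Presheaf.IsLocallySurjective X.smallEtaleTopology a.hom :=
    locSurj_of_generic_stalk ξ hξ M' M h0 G a b hab hst
  haveI : Sheaf.IsLocallySurjective a := ‹_›
  haveI : Epi a := Sheaf.epi_of_isLocallySurjective a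
  exact isIso_of_mono_of_epi a

theorem S6640 {X : Scheme.{u}} [IrreducibleSpace ↥X]
    {Ω : Type u} [Field Ω] [IsSepClosed Ω] (ξ : Spec (CommRingCat.of Ω) ⟶ X)
    (hξ : ξ.base default = genericPoint ↥X)
    (A : Type) [AddCommGroup A] (A' : AddSubgroup A) (G : EtCoh.Ab X)
    (a : EtCoh.const X ↥A' ⟶ G) (b : G ⟶ EtCoh.const X A) [Mono a] [Mono b]
    (hab : a ≫ b = (constantSheaf X.smallEtaleTopology AddCommGrpCat.{u + 1}).map
      (AddCommGrpCat.ofHom (AddEquiv.ulift.symm.toAddMonoidHom.comp (A'.subtype.comp AddEquiv.ulift.toAddMonoidHom))))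
    (hst : IsIso ((EtCoh.stalk ξ).map a)) : IsIso a := by
  refine iso_of_generic_stalk ξ hξ _ _ _ G a b hab ?_
  exact (ConcreteCategory.bijective_of_isIso ((EtCoh.stalk ξ).map a)).2

end Helper15.LcStruct
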