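import Mathlib
import Groth.Prelude.Def_EtModD2
import Groth.Agent.Lib.Helper15.ConstrMod
import Groth.Agent.Lib.Helper2.TExact.WeakSerre

set_option autoImplicit false
set_option backward.isDefEq.respectTransparency false

universe u

open CategoryTheory CategoryTheory.Limits AlgebraicGeometry Opposite Topology

attribute [local instance] HasDerivedCategory.standard

namespace Helper15.ConstrMod

variable {Λ : Type (u+1)} [CommRing Λ]

theorem constructible_of_iso {X : Scheme.{u}} {F F' : EtModW.Mod Λ X} (e : F ≅ F')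
    (h : EtModW.IsConstructible Λ F) : EtModW.IsConstructible Λ F' := by
  intro U hU
  obtain ⟨κ, hκ, T, g, h1, h2, h3, h4, h5⟩ := adapted'_of_adapted (h U hU)
  exact adapted_of_adapted' ⟨κ, hκ, T, g, h1, h2, h3, h4,
    fun k => flc_of_iso ((EtModW.pull Λ (g k)).mapIso e) (h5 k)⟩

instance pull_additive {X Y : Scheme.{u}} (f : X ⟶ Y) : (EtModW.pull Λ f).Additive :=
  (pullPushAdjM f).left_adjoint_additive

instance pull_preservesFiniteColimits {X Y : Scheme.{u}} (f : X ⟶ Y) :
    PreservesFiniteColimits (EtModW.pull Λ f) :=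
  have : PreservesColimitsOfSize.{0, 0} (EtModW.pull Λ f) :=
    (pullPushAdjM f).leftAdjoint_preservesColimits
  PreservesColimitsOfSize.preservesFiniteColimits _

theorem S6689 (Λ : Type (u + 1)) [CommRing Λ] [IsNoetherianRing Λ] {X Y : Scheme.{u}}
    (f : X ⟶ Y) [PreservesFiniteLimits (EtModW.pull Λ f)] (K : EtModD.D Λ Y)
    (hK : ∀ i : ℤ, EtModW.IsConstructible Λ (EtModD.HD K i)) (i : ℤ) :
    EtModW.IsConstructible Λ (EtModD.HD ((EtModW.pull Λ f).mapDerivedCategory.obj K) i) :=
  constructible_of_iso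
    (Groth.Agent.Lib.Helper2.TExactIso.mapDerivedCategoryHomologyIso (EtModW.pull Λ f) K i).symm
    (pull_constructible f _ (hK i))

end Helper15.ConstrMod
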