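import Groth.Agent.Lib.Helper13.FlatPullback
import Groth.Prelude.Def_SixF1
import Groth.Prelude.Def_EtMod2

/-!
# Helper15: composition of bounded-below derived functors; derived direct images of module sheaves
-/

set_option autoImplicit false
set_option backward.isDefEq.respectTransparency false
universe v₁ v₂ v₃ u₁ u₂ u₃ u

attribute [local instance] HasDerivedCategory.standard

open CategoryTheory CategoryTheory.Limits AlgebraicGeometry

namespace Groth.Agent.Lib.Helper15.RpushCompMod

section Generic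

variable {A : Type u₁} [Category.{v₁} A] [Abelian A] {B : Type u₂} [Category.{v₂} B] [Abelian B]
  {C : Type u₃} [Category.{v₃} C] [Abelian C]

lemma ι_map_plusNatTrans_app {F G : A ⥤ B} [F.Additive] [G.Additive] (α : F ⟶ G)
    (K : HomotopyCategory.Plus A) :
    (HomotopyCategory.Plus.ι B).map ((EtSix.plusNatTrans α).app K) =
      (NatTrans.mapHomotopyCategory α (ComplexShape.up ℤ)).app
        ((HomotopyCategory.Plus.ι A).obj K) := by
  have h := ((HomotopyCategory.plus B).fullyFaithfulι.whiskeringRight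
    (HomotopyCategory.Plus A)).map_preimage (X := F.mapHomotopyCategoryPlus)
    (Y := G.mapHomotopyCategoryPlus)
    (Functor.whiskerLeft (HomotopyCategory.Plus.ι A)
      (NatTrans.mapHomotopyCategory α (ComplexShape.up ℤ)))
  exact NatTrans.congr_app h K

lemma isIso_plusNatTrans_app {F G : A ⥤ B} [F.Additive] [G.Additive] (α : F ⟶ G) [IsIso α]
    (K : HomotopyCategory.Plus A) : IsIso ((EtSix.plusNatTrans α).app K) := by
  haveI h3 : IsIso (NatTrans.mapHomotopyCategory α (ComplexShape.up ℤ)) :=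
    ⟨⟨NatTrans.mapHomotopyCategory (inv α) (ComplexShape.up ℤ),
      by rw [← NatTrans.mapHomotopyCategory_comp, IsIso.hom_inv_id,
        NatTrans.mapHomotopyCategory_id],
      by rw [← NatTrans.mapHomotopyCategory_comp, IsIso.inv_hom_id,
        NatTrans.mapHomotopyCategory_id]⟩⟩
  haveI : IsIso ((HomotopyCategory.Plus.ι B).map ((EtSix.plusNatTrans α).app K)) := by
    rw [ι_map_plusNatTrans_app]
    infer_instance
  exact isIso_of_fully_faithful (HomotopyCategory.Plus.ι B) _

variable [HasDerivedCategory A] [HasDerivedCategory B] [HasDerivedCategory C]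
  (F : A ⥤ B) (G : B ⥤ C) (H : A ⥤ C) [F.Additive] [G.Additive] [H.Additive]
  [EnoughInjectives A] [EnoughInjectives B] (θ : H ⟶ F ⋙ G) [IsIso θ]
  (hF : ∀ I : A, Injective I → Injective (F.obj I))

include hF in
lemma isIso_rPlusUnit₂_app (K : HomotopyCategory.Plus A)
    [hK : ∀ n : ℤ, Injective (K.obj.as.X n)] : IsIso ((EtSix.rPlusUnit₂ θ).app K) := by
  haveI h1 : IsIso (F.rightDerivedFunctorPlusUnit.app K) := inferInstance
  haveI hFK : ∀ n : ℤ, Injective ((F.mapHomotopyCategoryPlus.obj K).obj.as.X n) :=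
    fun n => hF _ (hK n)
  haveI h2 : IsIso (G.rightDerivedFunctorPlusUnit.app (F.mapHomotopyCategoryPlus.obj K)) :=
    inferInstance
  haveI h3 : IsIso ((EtSix.plusNatTrans θ).app K) := isIso_plusNatTrans_app θ K
  unfold EtSix.rPlusUnit₂
  simp only [NatTrans.comp_app, Functor.whiskerRight_app, Functor.whiskerLeft_app,
    Functor.associator_hom_app, Functor.associator_inv_app, Category.id_comp, Category.comp_id]
  infer_instance

include hF in
lemma isIso_rPlusDesc₂_app (K : HomotopyCategory.Plus A)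
    [hK : ∀ n : ℤ, Injective (K.obj.as.X n)] :
    IsIso ((EtSix.rPlusDesc₂ θ).app (DerivedCategory.Plus.Qh.obj K)) := by
  haveI h0 : IsIso (H.rightDerivedFunctorPlusUnit.app K) := inferInstance
  haveI hc := isIso_rPlusUnit₂_app F G H θ hF K
  have hfac : H.rightDerivedFunctorPlusUnit.app K ≫
      (EtSix.rPlusDesc₂ θ).app (DerivedCategory.Plus.Qh.obj K) = (EtSix.rPlusUnit₂ θ).app K :=
    Functor.rightDerived_fac_app H.rightDerivedFunctorPlus H.rightDerivedFunctorPlusUnit
      (HomotopyCategory.Plus.quasiIso A)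
      (F.rightDerivedFunctorPlus ⋙ G.rightDerivedFunctorPlus) (EtSix.rPlusUnit₂ θ) K
  exact IsIso.of_isIso_fac_left hfac

include hF in
theorem isIso_rPlusDesc₂ : IsIso (EtSix.rPlusDesc₂ θ) := by
  haveI : ∀ E : DerivedCategory.Plus A, IsIso ((EtSix.rPlusDesc₂ θ).app E) := by
    intro E
    obtain ⟨X, ⟨e⟩⟩ := Functor.EssSurj.mem_essImage
      (F := (InjectiveObject.ι A).mapHomotopyCategoryPlus ⋙ DerivedCategory.Plus.Qh) E
    exact (NatTrans.isIso_app_iff_of_iso (EtSix.rPlusDesc₂ θ) e).1
      (isIso_rPlusDesc₂_app F G H θ hF ((InjectiveObject.ι A).mapHomotopyCategoryPlus.obj X))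
  exact NatIso.isIso_of_isIso_app _

end Generic

section Etale

open Groth.Agent.Lib.Helper13.FlatPullback

variable (Λ : Type (u + 1)) [CommRing Λ] {X Y Z : Scheme.{u}} (f : X ⟶ Y) (g : Y ⟶ Z)

instance lan_bc_preservesFiniteLimits_mod :
    PreservesFiniteLimits ((EtCoh.bc f).op.lan :
      (Y.Etaleᵒᵖ ⥤ ModuleCat.{u + 1} Λ) ⥤ X.Etaleᵒᵖ ⥤ ModuleCat.{u + 1} Λ) :=
  lan_preservesFiniteLimits_of_flat' (ModuleCat.{u + 1} Λ) (EtCoh.bc f) (fun _ _ => by
    have : PreservesFilteredColimitsOfSize.{u, u + 1} (forget (ModuleCat.{u + 1} Λ)) :=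
      preservesFilteredColimitsOfSize_of_univLE.{u + 1, u + 1, u, u + 1} _
    infer_instance)

/-- Inverse image of etale sheaves of modules is left exact. -/
instance pullMod_preservesFiniteLimits : PreservesFiniteLimits (EtModW.pull Λ f) :=
  Functor.sheafPullbackConstruction.preservesFiniteLimits (EtCoh.bc f) (ModuleCat.{u + 1} Λ)
    Y.smallEtaleTopology X.smallEtaleTopology

lemma pushMod_injective (I : EtModW.Mod Λ X) (hI : Injective I) :
    Injective ((EtModW.push Λ f).obj I) :=
  haveI := hI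
  Adjunction.map_injective (EtSix.pullPushModAdj Λ f) I hI

/-- S4330. -/
theorem isIso_compMapMod : IsIso (EtSix.compMapMod Λ f g) :=
  isIso_rPlusDesc₂ (EtModW.push Λ f) (EtModW.push Λ g) (EtModW.push Λ (f ≫ g))
    (EtSix.pushModComp Λ g f).inv (fun I hI => pushMod_injective Λ f I hI)

end Etale

end Groth.Agent.Lib.Helper15.RpushCompMod
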