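import Mathlib
import Groth.Agent.Lib.Helper15.ExtFlc
import Groth.Agent.Lib.Helper15.Constr4

set_option autoImplicit false
set_option backward.isDefEq.respectTransparency false

universe u

open CategoryTheory CategoryTheory.Limits AlgebraicGeometry Opposite Topology

namespace Helper15.Constr

open Helper15.LcStruct

theorem S6645 (X : Scheme.{u}) :
    (∀ (F G : EtCoh.Ab X) (φ : F ⟶ G), EtCoh.IsFiniteLocallyConstant F → EtCoh.IsFiniteLocallyConstant G →
      EtCoh.IsFiniteLocallyConstant (kernel φ) ∧ EtCoh.IsFiniteLocallyConstant (cokernel φ)) ∧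
    ObjectProperty.IsClosedUnderExtensions (fun F : EtCoh.Ab X => EtCoh.IsFiniteLocallyConstant F) :=
  ⟨fun F G φ hF hG => flc_kernel_cokernel F G φ hF hG,
    ⟨fun {S} hS h1 h3 => flc_extension S hS h1 h3⟩⟩

open Groth.Agent.Lib.Helper13.FlatPullback in
theorem S0132 {X : Scheme.{u}} (S : ShortComplex (EtCoh.Ab X)) (hS : S.ShortExact)
    (n : ℕ) (hn : 0 < n) (h2n : EtCoh.KilledBy n S.X₂)
    (h1 : EtPBC.IsConstructible S.X₁) (h3 : EtPBC.IsConstructible S.X₃) :
    EtPBC.IsConstructible S.X₂ := by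
  intro U hU
  obtain ⟨κ, hκ, T, g, i1, i2, i3, i4, h5, h6⟩ :=
    adapted_common S.X₁ S.X₃ (adapted'_of_adapted (h1 U hU)) (adapted'_of_adapted (h3 U hU))
  refine adapted_of_adapted' ⟨κ, hκ, T, g, i1, i2, i3, i4, fun k => ?_⟩
  haveI : PreservesColimitsOfSize.{0, 0} (EtCoh.pull (g k)) :=
    (EtCoh.pullPushAdj (g k)).leftAdjoint_preservesColimits
  haveI : (EtCoh.pull (g k)).IsLeftAdjoint := (EtCoh.pullPushAdj (g k)).isLeftAdjoint
  have hS' : (S.map (EtCoh.pull (g k))).ShortExact := hS.map_of_exact (EtCoh.pull (g k))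
  exact flc_extension (S.map (EtCoh.pull (g k))) hS' (h5 k) (h6 k)

end Helper15.Constr
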