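import Mathlib
import Groth.Agent.Lib.Helper15.Supp
import Groth.Agent.Lib.Helper15.Constr4

set_option autoImplicit false
set_option backward.isDefEq.respectTransparency false

universe u

open CategoryTheory CategoryTheory.Limits AlgebraicGeometry Opposite Topology

namespace Helper15.Constr

open Helper15.LcStruct
open Groth.Agent.Lib.Helper13.StalkConservative

open Groth.Agent.Lib.Helper13.FlatPullback in
theorem cokernel_constructible {X : Scheme.{u}} {F G : EtCoh.Ab X} (φ : F ⟶ G)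
    (hF : EtPBC.IsConstructible F) (hG : EtPBC.IsConstructible G) :
    EtPBC.IsConstructible (cokernel φ) := by
  intro U hU
  obtain ⟨κ, hκ, T, g, h1, h2, h3, h4, h5, h6⟩ :=
    adapted_common F G (adapted'_of_adapted (hF U hU)) (adapted'_of_adapted (hG U hU))
  refine adapted_of_adapted' ⟨κ, hκ, T, g, h1, h2, h3, h4, fun k => ?_⟩
  haveI : PreservesColimitsOfSize.{0, 0} (EtCoh.pull (g k)) :=
    (EtCoh.pullPushAdj (g k)).leftAdjoint_preservesColimits
  exact flc_of_iso (PreservesCokernel.iso (EtCoh.pull (g k)) φ).symm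
    (flc_kernel_cokernel _ _ ((EtCoh.pull (g k)).map φ) (h5 k) (h6 k)).2

open Groth.Agent.Lib.Helper13.FlatPullback in
theorem kernel_constructible {X : Scheme.{u}} {F G : EtCoh.Ab X} (φ : F ⟶ G)
    (hF : EtPBC.IsConstructible F) (hG : EtPBC.IsConstructible G) :
    EtPBC.IsConstructible (kernel φ) := by
  intro U hU
  obtain ⟨κ, hκ, T, g, h1, h2, h3, h4, h5, h6⟩ :=
    adapted_common F G (adapted'_of_adapted (hF U hU)) (adapted'_of_adapted (hG U hU))
  refine adapted_of_adapted' ⟨κ, hκ, T, g, h1, h2, h3, h4, fun k => ?_⟩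
  exact flc_of_iso (PreservesKernel.iso (EtCoh.pull (g k)) φ).symm
    (flc_kernel_cokernel _ _ ((EtCoh.pull (g k)).map φ) (h5 k) (h6 k)).1

theorem surj_iff_isZero_cokernel {X : Scheme.{u}} {Ω : Type u} [Field Ω] [IsSepClosed Ω]
    (ξ : Spec (CommRingCat.of Ω) ⟶ X) {F G : EtCoh.Ab X} (φ : F ⟶ G) :
    Function.Surjective ((EtCoh.stalk ξ).map φ) ↔ IsZero ((EtCoh.stalk ξ).obj (cokernel φ)) := by
  rw [← AddCommGrpCat.epi_iff_surjective, Preadditive.epi_iff_isZero_cokernel]
  exact (PreservesCokernel.iso (EtCoh.stalk ξ) φ).symm.isZero_iff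

theorem inj_iff_isZero_kernel {X : Scheme.{u}} {Ω : Type u} [Field Ω] [IsSepClosed Ω]
    (ξ : Spec (CommRingCat.of Ω) ⟶ X) {F G : EtCoh.Ab X} (φ : F ⟶ G) :
    Function.Injective ((EtCoh.stalk ξ).map φ) ↔ IsZero ((EtCoh.stalk ξ).obj (kernel φ)) := by
  rw [← AddCommGrpCat.mono_iff_injective, Preadditive.mono_iff_isZero_kernel]
  exact (PreservesKernel.iso (EtCoh.stalk ξ) φ).symm.isZero_iff

theorem S0182 (X : Scheme.{u}) [CompactSpace X] [QuasiSeparatedSpace X]
    {F G : EtCoh.Ab X} (φ : F ⟶ G) (hF : EtPBC.IsConstructible F) (hG : EtPBC.IsConstructible G) :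
    Topology.IsConstructible {x : X | ∀ (Ω : Type u) [Field Ω] [IsSepClosed Ω]
      (ξ : Spec (CommRingCat.of Ω) ⟶ X), Set.range ξ = {x} →
        Function.Surjective ((EtCoh.stalk ξ).map φ)} := by
  have hs : IsConstructible (EtPBC.supp (cokernel φ)) :=
    (S8526 _ (cokernel_constructible φ hF hG)).isConstructible
  have hEq : {x : X | ∀ (Ω : Type u) [Field Ω] [IsSepClosed Ω]
      (ξ : Spec (CommRingCat.of Ω) ⟶ X), Set.range ξ = {x} →
        Function.Surjective ((EtCoh.stalk ξ).map φ)} = (EtPBC.supp (cokernel φ))ᶜ := by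
    ext x
    constructor
    · rintro hx ⟨Ω, iF, iS, ξ, hr, hnz⟩
      exact hnz ((surj_iff_isZero_cokernel ξ φ).1 (hx Ω ξ hr))
    · intro hx Ω iF iS ξ hr
      refine (surj_iff_isZero_cokernel ξ φ).2 ?_
      by_contra hnz
      exact hx ⟨Ω, iF, iS, ξ, hr, hnz⟩
  rw [hEq]
  exact hs.compl

end Helper15.Constr
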