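import Mathlib
import Groth.Prelude.Def_ARSys
import Groth.Agent.Lib.Helper15.SurjLocus
import Groth.Agent.Lib.Helper15.ExtFlc2

set_option autoImplicit false
set_option backward.isDefEq.respectTransparency false

universe u

open CategoryTheory CategoryTheory.Limits AlgebraicGeometry Opposite Topology

namespace Helper15.Constr

open Helper15.LcStruct

open Groth.Agent.Lib.Helper13.FlatPullback in
theorem sub_constructible (X : Scheme.{u}) [IsLocallyNoetherian X]
    {F G : EtCoh.Ab X} (ι : G ⟶ F) [Mono ι] (hF : EtPBC.IsConstructible F) :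
    EtPBC.IsConstructible G := by
  refine (S8527 G).2 ?_
  intro x
  obtain ⟨V, T, g, hg, hxV, hrange, hflc⟩ := (S8527 F).1 hF x
  haveI := hg
  haveI : IsLocallyNoetherian T := LocallyOfFiniteType.isLocallyNoetherian g
  have hxr : x ∈ Set.range g.base := by rw [hrange]; exact ⟨hxV, subset_closure rfl⟩
  obtain ⟨t₀, ht₀⟩ := hxr
  haveI : Nonempty T := ⟨t₀⟩
  haveI : Mono ((EtCoh.pull g).map ι) := inferInstance
  obtain ⟨O, hOne, hO⟩ := sub_generic _ _ ((EtCoh.pull g).map ι) hflc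
  obtain ⟨V'', hV''o, hV''⟩ := g.isEmbedding.isInducing.isOpen_iff.1 O.isOpen
  have hr : Set.range (O.ι ≫ g).base = V'' ∩ Set.range g.base := by
    ext p
    constructor
    · rintro ⟨q, rfl⟩
      refine ⟨?_, ⟨O.ι.base q, rfl⟩⟩
      have hq : O.ι.base q ∈ g.base ⁻¹' V'' := by rw [hV'']; exact q.2
      exact hq
    · rintro ⟨hp, q, rfl⟩
      have hq : q ∈ (O : Set T) := by rw [← hV'']; exact hp
      exact ⟨⟨q, hq⟩, rfl⟩
  have hxV'' : x ∈ V'' := by
    obtain ⟨q, hq⟩ := hOne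
    have h1 : g.base q ∈ V'' := by
      have : q ∈ g.base ⁻¹' V'' := by rw [hV'']; exact hq
      exact this
    have h2 : g.base q ∈ closure ({x} : Set X) := by
      have : g.base q ∈ Set.range g.base := ⟨q, rfl⟩
      rw [hrange] at this
      exact this.2
    obtain ⟨_, h3, rfl⟩ := mem_closure_iff.1 h2 V'' hV''o h1
    exact h3
  refine ⟨V ⊓ ⟨V'', hV''o⟩, O.toScheme, O.ι ≫ g, inferInstance, ⟨hxV, hxV''⟩, ?_, ?_⟩
  · rw [hr, hrange]
    ext p
    simp only [Set.mem_inter_iff, TopologicalSpace.Opens.coe_inf, TopologicalSpace.Opens.coe_mk]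
    tauto
  · exact flc_of_iso ((EtCore.pullComp O.ι g).app G).symm hO

theorem quot_constructible (X : Scheme.{u}) [IsLocallyNoetherian X]
    {F Q : EtCoh.Ab X} (π : F ⟶ Q) [Epi π] (hF : EtPBC.IsConstructible F) :
    EtPBC.IsConstructible Q := by
  have hK : EtPBC.IsConstructible (kernel π) := sub_constructible X (kernel.ι π) hF
  have hC := cokernel_constructible (kernel.ι π) hK hF
  have hcolim :=
    Abelian.epiIsCokernelOfKernel (limit.cone (parallelPair π 0)) (limit.isLimit _)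
  exact constructible_of_iso
    (IsColimit.coconePointUniqueUpToIso (colimit.isColimit _) hcolim) hC

open Groth.Agent.Lib.Helper13.FlatPullback in
theorem ext_constructible {X : Scheme.{u}} (S : ShortComplex (EtCoh.Ab X)) (hS : S.ShortExact)
    (h1 : EtPBC.IsConstructible S.X₁) (h3 : EtPBC.IsConstructible S.X₃) :
    EtPBC.IsConstructible S.X₂ := by
  intro U hU
  obtain ⟨κ, hκ, T, g, i1, i2, i3, i4, h5, h6⟩ :=
    adapted_common S.X₁ S.X₃ (adapted'_of_adapted (h1 U hU)) (adapted'_of_adapted (h3 U hU))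
  refine adapted_of_adapted' ⟨κ, hκ, T, g, i1, i2, i3, i4, fun k => ?_⟩
  haveI : PreservesColimitsOfSize.{0, 0} (EtCoh.pull (g k)) :=
    (EtCoh.pullPushAdj (g k)).leftAdjoint_preservesColimits
  haveI : (EtCoh.pull (g k)).IsLeftAdjoint := (EtCoh.pullPushAdj (g k)).isLeftAdjoint
  have hS' : (S.map (EtCoh.pull (g k))).ShortExact := hS.map_of_exact (EtCoh.pull (g k))
  exact flc_extension (S.map (EtCoh.pull (g k))) hS' (h5 k) (h6 k)

section Abstract

variable {C : Type*} [Category C] [Abelian C]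

theorem adic_isColimit (ℓ : ℤ) (F : ARSys.PS C) (hF : ARSys.IsAdic (Ideal.span {ℓ}) F)
    (n m : ℕ) (h : n ≤ m) :
    ∃ (w : ((ℓ ^ (n + 1)) • 𝟙 (F.obj (op m))) ≫ ARSys.tr F h = 0),
      Nonempty (IsColimit (CokernelCofork.ofπ (ARSys.tr F h) w)) := by
  obtain ⟨hk, huniv⟩ := hF.2 n m h
  have hmem : ℓ ^ (n + 1) ∈ (Ideal.span {ℓ}) ^ (n + 1) :=
    Ideal.pow_mem_pow (Ideal.mem_span_singleton_self ℓ) (n + 1)
  have hk' : (ℓ ^ (n + 1)) • 𝟙 (F.obj (op n)) = 0 := hk _ hmem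
  have w : ((ℓ ^ (n + 1)) • 𝟙 (F.obj (op m))) ≫ ARSys.tr F h = 0 := by
    rw [Preadditive.zsmul_comp, Category.id_comp, ← Category.comp_id (ARSys.tr F h),
      ← Preadditive.comp_zsmul, hk', comp_zero]
  have hkill : ∀ {Z' : C} (g' : F.obj (op m) ⟶ Z'),
      ((ℓ ^ (n + 1)) • 𝟙 (F.obj (op m))) ≫ g' = 0 →
        ARSys.HomKilledBy ((Ideal.span {ℓ}) ^ (n + 1)) g' := by
    intro Z' g' hg'
    have key : ∀ a ∈ (Ideal.span {ℓ}) ^ (n + 1), a • g' = 0 := by
      intro a ha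
      rw [Ideal.span_singleton_pow, Ideal.mem_span_singleton'] at ha
      obtain ⟨c, rfl⟩ := ha
      have h1 : (ℓ ^ (n + 1)) • g' = 0 := by
        rw [← Category.id_comp g', ← Preadditive.zsmul_comp]; exact hg'
      rw [mul_smul, h1, smul_zero]
    exact key
  refine ⟨w, ⟨CokernelCofork.IsColimit.ofπ _ _
    (fun g' eq' => (huniv _ g' (hkill g' eq')).exists.choose)
    (fun g' eq' => (huniv _ g' (hkill g' eq')).exists.choose_spec)
    (fun g' eq' m' hm' => (huniv _ g' (hkill g' eq')).unique hm'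
      (huniv _ g' (hkill g' eq')).exists.choose_spec)⟩⟩

theorem adic_prop (P : C → Prop)
    (hquot : ∀ {A B : C} (π : A ⟶ B), Epi π → P A → P B)
    (hext : ∀ S : ShortComplex C, S.ShortExact → P S.X₁ → P S.X₃ → P S.X₂)
    (ℓ : ℤ) (F : ARSys.PS C) (hF : ARSys.IsAdic (Ideal.span {ℓ}) F)
    (h0 : P (F.obj (op 0))) (n : ℕ) : P (F.obj (op n)) := by
  induction n with
  | zero => exact h0
  | succ n ih =>
    obtain ⟨w, ⟨hc⟩⟩ := adic_isColimit ℓ F hF n (n + 1) (Nat.le_succ n)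
    obtain ⟨w₀, ⟨hc₀⟩⟩ := adic_isColimit ℓ F hF 0 (n + 1) (Nat.zero_le (n + 1))
    haveI hepi : Epi (ARSys.tr F (Nat.le_succ n)) := epi_of_isColimit_cofork hc
    haveI hepi₀ : Epi (ARSys.tr F (Nat.zero_le (n + 1))) := epi_of_isColimit_cofork hc₀
    have hex : (ShortComplex.mk _ _ w).Exact := ShortComplex.exact_of_g_is_cokernel _ hc
    have hepiK : Epi (kernel.lift (ARSys.tr F (Nat.le_succ n))
        ((ℓ ^ (n + 1)) • 𝟙 (F.obj (op (n + 1)))) w) :=
      (ShortComplex.exact_iff_epi_kernel_lift (ShortComplex.mk _ _ w)).1 hex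
    have hmem : ℓ ^ (n + 1 + 1) ∈ (Ideal.span {ℓ}) ^ (n + 1 + 1) :=
      Ideal.pow_mem_pow (Ideal.mem_span_singleton_self ℓ) (n + 1 + 1)
    have hm0 : ((ℓ ^ (0 + 1)) • 𝟙 (F.obj (op (n + 1)))) ≫
        ((ℓ ^ (n + 1)) • 𝟙 (F.obj (op (n + 1)))) = 0 := by
      rw [Preadditive.zsmul_comp, Preadditive.comp_zsmul, Category.id_comp, ← mul_smul, ← pow_add]
      have e : 0 + 1 + (n + 1) = n + 1 + 1 := by omega
      rw [e]
      exact hF.1 (n + 1) _ hmem
    obtain ⟨ψ, hψ⟩ : ∃ ψ : F.obj (op 0) ⟶ F.obj (op (n + 1)),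
        ARSys.tr F (Nat.zero_le (n + 1)) ≫ ψ = (ℓ ^ (n + 1)) • 𝟙 (F.obj (op (n + 1))) :=
      ⟨hc₀.desc (CokernelCofork.ofπ _ hm0), Cofork.IsColimit.π_desc hc₀⟩
    have hψtr : ψ ≫ ARSys.tr F (Nat.le_succ n) = 0 := by
      rw [← cancel_epi (ARSys.tr F (Nat.zero_le (n + 1))), ← Category.assoc, hψ, w, comp_zero]
    have hfac : kernel.lift (ARSys.tr F (Nat.le_succ n))
        ((ℓ ^ (n + 1)) • 𝟙 (F.obj (op (n + 1)))) w =
        ARSys.tr F (Nat.zero_le (n + 1)) ≫ kernel.lift (ARSys.tr F (Nat.le_succ n)) ψ hψtr := by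
      apply (cancel_mono (kernel.ι (ARSys.tr F (Nat.le_succ n)))).1
      rw [kernel.lift_ι, Category.assoc, kernel.lift_ι, hψ]
    have hepiψ : Epi (kernel.lift (ARSys.tr F (Nat.le_succ n)) ψ hψtr) := by
      rw [hfac] at hepiK
      exact epi_of_epi (ARSys.tr F (Nat.zero_le (n + 1))) _
    have hPk : P (kernel (ARSys.tr F (Nat.le_succ n))) := hquot _ hepiψ h0
    have hS : (ShortComplex.mk (kernel.ι (ARSys.tr F (Nat.le_succ n)))
        (ARSys.tr F (Nat.le_succ n)) (kernel.condition _)).ShortExact :=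
      ShortComplex.ShortExact.mk' (ShortComplex.exact_of_f_is_kernel _ (kernelIsKernel _))
        inferInstance hepi
    exact hext _ hS hPk ih

end Abstract

theorem S16251 (ℓ : ℕ) [Fact ℓ.Prime]
    (X : Scheme.{u}) [IsLocallyNoetherian X]
    (F : ARSys.PS (EtCoh.Ab X)) (hF : ARSys.IsAdic (Ideal.span {(ℓ : ℤ)}) F)
    (h0 : EtPBC.IsConstructible (F.obj (op 0))) (n : ℕ) :
    EtPBC.IsConstructible (F.obj (op n)) :=
  adic_prop (fun G : EtCoh.Ab X => EtPBC.IsConstructible G)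
    (fun {A B} π hπ hA => by haveI := hπ; exact quot_constructible X π hA)
    (fun S hS h1 h3 => ext_constructible S hS h1 h3) (ℓ : ℤ) F hF h0 n

end Helper15.Constr
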