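import Mathlib
import Groth.Agent.Lib.Helper15.AdicConstr
import Groth.Agent.Lib.Helper16.SchemeTop

/-!
# Helper15: constructibility and cardinality of geometric stalks (S3116)
-/

set_option autoImplicit false
set_option backward.isDefEq.respectTransparency false

universe u

open CategoryTheory CategoryTheory.Limits AlgebraicGeometry Opposite Topology

namespace Helper15.LcStruct

open Groth.Agent.Lib.Helper13.StalkConservative Groth.Agent.Lib.Helper13.StalkPull

/-- points at which some geometric stalk has exactly `n` elements -/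
def cardSet {X : Scheme.{u}} (F : EtCoh.Ab X) (n : ℕ) : Set X :=
  {x : X | ∃ (Ω : Type u) (_ : Field Ω) (_ : IsSepClosed Ω) (ξ : Spec (CommRingCat.of Ω) ⟶ X),
    Set.range ξ = {x} ∧ Nat.card ((EtCoh.stalk ξ).obj F) = n}

section Top2

variable {S : Type*} [TopologicalSpace S]

theorem constructible_generic_dichotomy {E : Set S} (hE : IsConstructible E) (x : S) :
    ∃ O : Set S, IsOpen O ∧ x ∈ O ∧ (O ∩ closure {x} ⊆ E ∨ O ∩ closure {x} ⊆ Eᶜ) := by
  induction hE using IsConstructible.empty_union_induction with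
  | open_retrocompact U hUo hUc =>
    by_cases hx : x ∈ U
    · exact ⟨U, hUo, hx, Or.inl Set.inter_subset_left⟩
    · refine ⟨Set.univ, isOpen_univ, trivial, Or.inr ?_⟩
      rintro y ⟨-, hy⟩ hyU
      obtain ⟨_, hzU, rfl⟩ := mem_closure_iff.1 hy U hUo hyU
      exact hx hzU
  | union s hs t ht ihs iht =>
    obtain ⟨O₁, h1o, h1x, h1⟩ := ihs
    obtain ⟨O₂, h2o, h2x, h2⟩ := iht
    rcases h1 with h1 | h1
    · exact ⟨O₁, h1o, h1x, Or.inl (h1.trans Set.subset_union_left)⟩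
    · rcases h2 with h2 | h2
      · exact ⟨O₂, h2o, h2x, Or.inl (h2.trans Set.subset_union_right)⟩
      · refine ⟨O₁ ∩ O₂, h1o.inter h2o, ⟨h1x, h2x⟩, Or.inr ?_⟩
        rintro y ⟨⟨hy1, hy2⟩, hyc⟩ (hys | hyt)
        · exact h1 ⟨hy1, hyc⟩ hys
        · exact h2 ⟨hy2, hyc⟩ hyt
  | compl s hs ih =>
    obtain ⟨O, ho, hx, h⟩ := ih
    exact ⟨O, ho, hx, h.symm.imp id (fun h' => by rwa [compl_compl])⟩

theorem exists_open_inter_closure_subset {E : Set S} (hE : IsLocallyConstructible E) {x : S}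
    (hx : x ∈ E) : ∃ O : Set S, IsOpen O ∧ x ∈ O ∧ O ∩ closure {x} ⊆ E := by
  obtain ⟨U, hUn, hUo, hUc⟩ := hE x
  have hxU : x ∈ U := mem_of_mem_nhds hUn
  obtain ⟨O', hO'o, hxO', h⟩ := constructible_generic_dichotomy hUc (⟨x, hxU⟩ : U)
  have hcl : ∀ y : U, (y : S) ∈ closure ({x} : Set S) →
      y ∈ closure ({⟨x, hxU⟩} : Set U) := by
    intro y hy
    rw [closure_subtype, Set.image_singleton]
    exact hy
  have hsub : O' ∩ closure {⟨x, hxU⟩} ⊆ (Subtype.val : U → S) ⁻¹' E := by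
    rcases h with h | h
    · exact h
    · exact absurd hx (h ⟨hxO', subset_closure (Set.mem_singleton _)⟩)
  refine ⟨Subtype.val '' O', hUo.isOpenEmbedding_subtypeVal.isOpenMap O' hO'o,
    ⟨⟨x, hxU⟩, hxO', rfl⟩, ?_⟩
  rintro _ ⟨⟨y, hyO', rfl⟩, hyc⟩
  exact hsub ⟨hyO', hcl y hyc⟩

end Top2

section Card

variable {T : Scheme.{u}} {Ω : Type u} [Field Ω] [IsSepClosed Ω]
  (ζ : Spec (CommRingCat.of Ω) ⟶ T)
  (F : EtCoh.Ab T) (W : T.Etale) {A : Type (u+1)} [AddCommGroup A]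
  (c : A →+ F.obj.obj (op W)) (h : IsConstVia F W A c)

include h in
theorem card_stalk_of_constVia (hζ : ζ.base default ∈ Set.range W.hom.base) :
    Nat.card ((EtCoh.stalk ζ).obj F) = Nat.card A := by
  obtain ⟨w⟩ := fiber_nonempty_of_mem_range ζ W hζ
  exact (Nat.card_congr (Equiv.ofBijective _
    ⟨stalk_germ_injective ζ F W c h w, stalk_germ_surjective ζ F W c h w⟩)).symm

end Card

theorem card_of_iso {A B : AddCommGrpCat.{u+1}} (e : A ≅ B) : Nat.card A = Nat.card B :=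
  Nat.card_congr e.addCommGroupIsoToAddEquiv.toEquiv

theorem cardSet_isClopen_of_flc {T : Scheme.{u}} (F' : EtCoh.Ab T)
    (hF : EtCoh.IsFiniteLocallyConstant F') (n : ℕ) : IsClopen (cardSet F' n) := by
  obtain ⟨ι₁, U, hU, hc⟩ := hF
  refine isClopen_of_local _ (fun j => Set.range (U j).hom.base)
    (fun j => (U j).hom.isOpenMap.isOpen_range) (fun t => ?_) (fun j => ?_)
  · obtain ⟨j, y, hy⟩ := hU t
    exact ⟨j, y, hy⟩
  · obtain ⟨M, iM, fM, ⟨a⟩⟩ := hc j
    have a' : F'.over (U j) ≅ (cst T (AddCommGrpCat.of (ULift.{u+1} M))).over (U j) :=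
      a ≪≫ ((kappa (U j)).app _).symm
    have kF := isConstVia_of_iso _ a'
    by_cases hn : Nat.card (AddCommGrpCat.of (ULift.{u+1} M)) = n
    · left
      intro t ht
      obtain ⟨Ω, iF, iS, ζ, hr⟩ := exists_geomPt t
      have hb := base_default_of_range ζ hr
      exact ⟨Ω, iF, iS, ζ, hr,
        (card_stalk_of_constVia ζ F' (U j) _ kF (by rw [hb]; exact ht)).trans hn⟩
    · right
      rintro t ht ⟨Ω, _, _, ξ, hr, hcard⟩
      have hb := base_default_of_range ξ hr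
      exact hn ((card_stalk_of_constVia ξ F' (U j) _ kF (by rw [hb]; exact ht)).symm.trans hcard)

theorem cardSet_pull_iff {T X : Scheme.{u}} (g : T ⟶ X) [IsImmersion g] (F : EtCoh.Ab X) (n : ℕ)
    (t : T) : g.base t ∈ cardSet F n ↔ t ∈ cardSet ((EtCoh.pull g).obj F) n := by
  constructor
  · rintro ⟨Ω, iF, iS, ξ, hr, hc⟩
    have hb := base_default_of_range ξ hr
    obtain ⟨ζ, hζ⟩ := exists_factor_immersion g ξ (by rw [hb]; exact ⟨t, rfl⟩)
    subst hζ
    have hζt : ζ.base default = t := g.isEmbedding.injective hb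
    refine ⟨Ω, iF, iS, ζ, range_of_base_default ζ hζt, ?_⟩
    rw [← hc]
    exact card_of_iso ((stalkPullIso g ζ).app F)
  · rintro ⟨Ω, iF, iS, ζ, hr, hc⟩
    have hb := base_default_of_range ζ hr
    refine ⟨Ω, iF, iS, ζ ≫ g, range_of_base_default _ (by rw [← hb]; rfl), ?_⟩
    rw [← hc]
    exact (card_of_iso ((stalkPullIso g ζ).app F)).symm

section Spread

variable {T : Scheme.{u}} {Ω : Type u} [Field Ω] [IsSepClosed Ω]
  (ξ : Spec (CommRingCat.of Ω) ⟶ T) (G : EtCoh.Ab T)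

theorem exists_sections_finset (S : Finset ((EtCoh.stalk ξ).obj G)) :
    ∃ (W : T.Etale) (w : (Scheme.pointSmallEtale ξ).fiber.obj W), ∀ m ∈ S,
      ∃ s : G.obj.obj (op W), (Scheme.pointSmallEtale ξ).toPresheafFiber W w G.obj s = m := by
  classical
  induction S using Finset.induction_on with
  | empty =>
    obtain ⟨Y, y, s, -⟩ := (Scheme.pointSmallEtale ξ).toPresheafFiber_jointly_surjective
      (P := G.obj) (0 : (EtCoh.stalk ξ).obj G)
    exact ⟨Y, y, fun m hm => absurd hm (Finset.notMem_empty m)⟩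
  | insert m₀ S hm₀ ih =>
    obtain ⟨W, w, hW⟩ := ih
    obtain ⟨Y, y, s₀, hs₀⟩ := (Scheme.pointSmallEtale ξ).toPresheafFiber_jointly_surjective
      (P := G.obj) m₀
    obtain ⟨Z, z, f₁, f₂, e₁, e₂⟩ := germ_refine (Scheme.pointSmallEtale ξ) w y
    refine ⟨Z, z, fun m hm => ?_⟩
    rcases Finset.mem_insert.1 hm with hm | hm
    · refine ⟨G.obj.map f₂.op s₀, ?_⟩
      rw [(Scheme.pointSmallEtale ξ).toPresheafFiber_w_apply f₂ z G.obj, e₂, hm]
      exact hs₀
    · obtain ⟨s, hs⟩ := hW m hm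
      refine ⟨G.obj.map f₁.op s, ?_⟩
      rw [(Scheme.pointSmallEtale ξ).toPresheafFiber_w_apply f₁ z G.obj, e₁]
      exact hs

theorem exists_additive_sections [Finite ((EtCoh.stalk ξ).obj G)] :
    ∃ (W : T.Etale) (w : (Scheme.pointSmallEtale ξ).fiber.obj W)
      (c : ((EtCoh.stalk ξ).obj G) →+ G.obj.obj (op W)),
      ∀ m, (Scheme.pointSmallEtale ξ).toPresheafFiber W w G.obj (c m) = m := by
  classical
  cases nonempty_fintype ((EtCoh.stalk ξ).obj G)
  obtain ⟨W₀, w₀, h₀⟩ := exists_sections_finset ξ G Finset.univ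
  choose c₀ hc₀ using fun m => h₀ m (Finset.mem_univ m)
  have key : ∀ S : Finset (((EtCoh.stalk ξ).obj G) × ((EtCoh.stalk ξ).obj G)),
      ∃ (Z : T.Etale) (z : (Scheme.pointSmallEtale ξ).fiber.obj Z) (k : Z ⟶ W₀),
        (Scheme.pointSmallEtale ξ).fiber.map k z = w₀ ∧
        ∀ p ∈ S, G.obj.map k.op (c₀ (p.1 + p.2)) =
          G.obj.map k.op (c₀ p.1) + G.obj.map k.op (c₀ p.2) := by
    intro S
    induction S using Finset.induction_on with
    | empty =>
      exact ⟨W₀, w₀, 𝟙 W₀, by simp, fun p hp => absurd hp (Finset.notMem_empty p)⟩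
    | insert p₀ S hp₀ ih =>
      obtain ⟨Z, z, k, hk, hZ⟩ := ih
      have e : (Scheme.pointSmallEtale ξ).toPresheafFiber Z z G.obj
            (G.obj.map k.op (c₀ (p₀.1 + p₀.2))) =
          (Scheme.pointSmallEtale ξ).toPresheafFiber Z z G.obj
            (G.obj.map k.op (c₀ p₀.1) + G.obj.map k.op (c₀ p₀.2)) := by
        rw [map_add, (Scheme.pointSmallEtale ξ).toPresheafFiber_w_apply k z G.obj,
          (Scheme.pointSmallEtale ξ).toPresheafFiber_w_apply k z G.obj,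
          (Scheme.pointSmallEtale ξ).toPresheafFiber_w_apply k z G.obj, hk, hc₀, hc₀, hc₀]
      obtain ⟨Z', k', z', hz', hk'⟩ :=
        ((Scheme.pointSmallEtale ξ).toPresheafFiber_eq_iff' Z z _ _).1 e
      refine ⟨Z', z', k' ≫ k, ?_, ?_⟩
      · rw [Functor.map_comp, ConcreteCategory.comp_apply, hz', hk]
      · intro p hp
        rw [map_comp_app G k' k, map_comp_app G k' k, map_comp_app G k' k]
        rcases Finset.mem_insert.1 hp with hp | hp
        · rw [hp, ← map_add]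
          exact hk'
        · rw [hZ p hp, map_add]
  obtain ⟨Z, z, k, hk, hZ⟩ := key Finset.univ
  refine ⟨Z, z, AddMonoidHom.mk' (fun m => G.obj.map k.op (c₀ m))
    (fun a b => hZ (a, b) (Finset.mem_univ _)), fun m => ?_⟩
  show (Scheme.pointSmallEtale ξ).toPresheafFiber Z z G.obj (G.obj.map k.op (c₀ m)) = m
  rw [(Scheme.pointSmallEtale ξ).toPresheafFiber_w_apply k z G.obj, hk, hc₀]

end Spread

theorem cover_of_points {T : Scheme.{u}} {Y : T.Etale} (S : Sieve Y)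
    (h : ∀ y : Y.left, ∃ (Z : T.Etale) (k : Z ⟶ Y), S.arrows k ∧ y ∈ Set.range k.left.base) :
    S ∈ T.smallEtaleTopology Y := by
  obtain ⟨α, Z, f, rfl⟩ := S.exists_eq_ofArrows
  rw [Scheme.ofArrows_mem_smallEtaleTopology_iff]
  ext y
  simp only [Set.mem_iUnion, Set.mem_range, Set.mem_univ, iff_true]
  obtain ⟨Z', k, ⟨Z'', p, _, ⟨a⟩, rfl⟩, z, rfl⟩ := h y
  exact ⟨a, p.left.base z, rfl⟩

theorem exists_open_subset_closure_of_generic {T : Scheme.{u}} [IsLocallyNoetherian T]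
    [IrreducibleSpace T] (W : T.Etale) (w₀ : W.left)
    (hw₀ : W.hom.base w₀ = genericPoint T) :
    ∃ N : W.left.Opens, w₀ ∈ N ∧ (N : Set W.left) ⊆ closure {w₀} := by
  haveI : Etale W.hom := W.prop
  haveI : IsLocallyNoetherian W.left := LocallyOfFiniteType.isLocallyNoetherian (Y := T) W.hom
  haveI : LocallyQuasiFinite W.hom := Groth.Agent.Lib.Helper16.locallyQuasiFinite_of_etale W.hom
  have hmax : ∀ γ : W.left, γ ⤳ w₀ → γ = w₀ := by
    intro γ hγ
    have h1 : W.hom.base γ ⤳ W.hom.base w₀ := hγ.map W.hom.continuous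
    have h2 : W.hom.base w₀ ⤳ W.hom.base γ := by
      rw [hw₀]; exact (genericPoint_spec T).specializes (Set.mem_univ _)
    have h3 : W.hom.base γ = W.hom.base w₀ := (h1.antisymm h2).eq
    exact Groth.Agent.Lib.Helper16.eq_of_specializes_of_locallyQuasiFinite W.hom hγ h3
  obtain ⟨A, hA, hwA, -⟩ := exists_isAffineOpen_mem_and_subset (x := w₀) (U := ⊤) trivial
  have : IsNoetherianRing Γ(W.left, A) := IsLocallyNoetherian.component_noetherian ⟨A, hA⟩
  have hN : TopologicalSpace.NoetherianSpace A := noetherianSpace_of_isAffineOpen A hA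
  obtain ⟨o, ho, hne, hoZ⟩ :=
    @TopologicalSpace.NoetherianSpace.exists_isOpen_nonempty_subset_irreducibleComponent A _ hN
      (irreducibleComponent (⟨w₀, hwA⟩ : A)) (irreducibleComponent_mem_irreducibleComponents _)
  have hirrZ : IsIrreducible
      (Subtype.val '' (irreducibleComponent (⟨w₀, hwA⟩ : A)) : Set W.left) :=
    isIrreducible_irreducibleComponent.image _ continuous_subtype_val.continuousOn
  have hirrC : IsIrreducible
      (closure (Subtype.val '' (irreducibleComponent (⟨w₀, hwA⟩ : A))) : Set W.left) :=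
    hirrZ.closure
  obtain ⟨γ, hγ⟩ : ∃ γ : W.left, closure ({γ} : Set W.left) =
      closure (Subtype.val '' (irreducibleComponent (⟨w₀, hwA⟩ : A))) :=
    ⟨_, isGenericPoint_def.mp (hirrC.isGenericPoint_genericPoint isClosed_closure)⟩
  have hw₀Z : w₀ ∈ closure (Subtype.val '' (irreducibleComponent (⟨w₀, hwA⟩ : A)) : Set W.left) :=
    subset_closure ⟨⟨w₀, hwA⟩, mem_irreducibleComponent, rfl⟩
  have hγw : γ ⤳ w₀ := by
    rw [specializes_iff_mem_closure, hγ]; exact hw₀Z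
  have hγeq : γ = w₀ := hmax γ hγw
  rw [hγeq] at hγ
  obtain ⟨N, hNe⟩ : ∃ N : W.left.Opens, (N : Set W.left) = Subtype.val '' o :=
    ⟨⟨_, A.isOpen.isOpenEmbedding_subtypeVal.isOpenMap o ho⟩, rfl⟩
  have hNsub : (N : Set W.left) ⊆ closure {w₀} := by
    rw [hNe, hγ]
    exact (Set.image_mono hoZ).trans subset_closure
  obtain ⟨q, hq⟩ := hne
  have hqN : q.1 ∈ (N : Set W.left) := by rw [hNe]; exact ⟨q, hq, rfl⟩
  have hspec : w₀ ⤳ q.1 := specializes_iff_mem_closure.2 (hNsub hqN)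
  exact ⟨N, hspec.mem_open N.isOpen hqN, hNsub⟩

theorem etale_left' {X : Scheme.{u}} {Z T : X.Etale} (g : Z ⟶ T) : Etale g.left := by
  haveI : Etale Z.hom := Z.prop
  haveI : Etale T.hom := T.prop
  have h1 : g.left ≫ T.hom = Z.hom := MorphismProperty.Over.w g
  exact MorphismProperty.of_postcomp (W := @Etale) (W' := @Etale) g.left T.hom
    inferInstance (by rw [h1]; infer_instance)

theorem exists_generic_nbhd {T : Scheme.{u}} [IsLocallyNoetherian T] [IrreducibleSpace T]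
    {Ω : Type u} [Field Ω] [IsSepClosed Ω] (ξ : Spec (CommRingCat.of Ω) ⟶ T)
    (hξ : ξ.base default = genericPoint T) (W : T.Etale)
    (w : (Scheme.pointSmallEtale ξ).fiber.obj W) :
    ∃ (V : T.Etale) (f : V ⟶ W) (v : (Scheme.pointSmallEtale ξ).fiber.obj V),
      (Scheme.pointSmallEtale ξ).fiber.map f v = w ∧
      ∀ (Y : T.Etale) (k : Y ⟶ V), Nonempty Y.left →
        ∃ y : (Scheme.pointSmallEtale ξ).fiber.obj Y,
          (Scheme.pointSmallEtale ξ).fiber.map k y = v := by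
  obtain ⟨wl, hwl⟩ : ∃ wl : Spec (CommRingCat.of Ω) ⟶ W.left, wl = w.left := ⟨w.left, rfl⟩
  have hwW : wl ≫ W.hom = ξ := hwl ▸ Over.w w
  have hw₀ : W.hom.base (wl.base default) = genericPoint T := by
    rw [← hξ, ← hwW]; rfl
  obtain ⟨N, hwN, hNsub⟩ := exists_open_subset_closure_of_generic W (wl.base default) hw₀
  have hsubN : Set.range wl.base ⊆ Set.range N.ι.base := by
    rintro _ ⟨a, rfl⟩
    rw [Subsingleton.elim a default, Scheme.Opens.range_ι]
    exact hwN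
  obtain ⟨l, hl⟩ : ∃ l : Spec (CommRingCat.of Ω) ⟶ N.toScheme, l ≫ N.ι = wl :=
    ⟨IsOpenImmersion.lift N.ι wl hsubN, IsOpenImmersion.lift_fac _ _ _⟩
  refine ⟨Scheme.Etale.mk (N.ι ≫ W.hom), MorphismProperty.Over.homMk N.ι rfl trivial,
    Over.homMk l (by
      show l ≫ (N.ι ≫ W.hom) = ξ
      rw [← Category.assoc, hl, hwW]), ?_, ?_⟩
  · apply Over.OverMorphism.ext
    show l ≫ N.ι = w.left
    rw [hl, hwl]
  · intro Y k hY
    obtain ⟨y₁⟩ := hY
    haveI : Etale k.left := etale_left' k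
    obtain ⟨kl, hkl⟩ : ∃ kl : Y.left ⟶ N.toScheme, kl = k.left := ⟨k.left, rfl⟩
    haveI : Etale kl := by rw [hkl]; infer_instance
    have hopen : IsOpen (N.ι.base '' Set.range kl.base) :=
      N.ι.isOpenEmbedding.isOpenMap _ kl.isOpenMap.isOpen_range
    have hq : N.ι.base (kl.base y₁) ∈ closure ({wl.base default} : Set W.left) :=
      hNsub (kl.base y₁).2
    have hw₀mem : wl.base default ∈ N.ι.base '' Set.range kl.base :=
      (specializes_iff_mem_closure.2 hq).mem_open hopen ⟨kl.base y₁, ⟨y₁, rfl⟩, rfl⟩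
    obtain ⟨_, ⟨y₀, rfl⟩, hy₀⟩ := hw₀mem
    have hy₀' : kl.base y₀ = l.base default := by
      apply N.ι.isOpenEmbedding.injective
      have e1 : (l ≫ N.ι).base default = wl.base default := by rw [hl]
      exact hy₀.trans e1.symm
    obtain ⟨l', hl', -⟩ := Scheme.exists_fac_of_etale_of_isSepClosed kl l y₀ hy₀'
    have hkw : kl ≫ (N.ι ≫ W.hom) = Y.hom := by
      rw [hkl]; exact MorphismProperty.Over.w k
    refine ⟨Over.homMk l' (by
      show l' ≫ Y.hom = ξ
      rw [← hkw, ← Category.assoc, hl', ← Category.assoc, hl, hwW]), ?_⟩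
    apply Over.OverMorphism.ext
    show l' ≫ k.left = l
    rw [← hkl]; exact hl'

theorem generic_flc {T : Scheme.{u}} [IsLocallyNoetherian T] [IrreducibleSpace T]
    (G : EtCoh.Ab T)
    (hfin : ∀ (Ω : Type u) [Field Ω] [IsSepClosed Ω] (ζ : Spec (CommRingCat.of Ω) ⟶ T),
      Finite ((EtCoh.stalk ζ).obj G))
    (n : ℕ) (hcard : ∀ t : T, t ∈ cardSet G n) :
    ∃ O : T.Opens, (O : Set T).Nonempty ∧
      EtCoh.IsFiniteLocallyConstant ((EtCoh.pull O.ι).obj G) := by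
  obtain ⟨Ω₀, iF₀, iS₀, ξ₀, hr₀, hn₀⟩ := hcard (genericPoint T)
  have hb₀ : ξ₀.base default = genericPoint T := base_default_of_range ξ₀ hr₀
  haveI hfin₀ : Finite ((EtCoh.stalk ξ₀).obj G) := hfin Ω₀ ξ₀
  obtain ⟨W, w, c, hc⟩ := exists_additive_sections ξ₀ G
  obtain ⟨V, f, v, hfv, hlift⟩ := exists_generic_nbhd ξ₀ hb₀ W w
  obtain ⟨c', hc'⟩ : ∃ c' : ((EtCoh.stalk ξ₀).obj G) →+ G.obj.obj (op V),
      c' = (G.obj.map f.op).hom.comp c := ⟨_, rfl⟩
  have hc'germ : ∀ m, (Scheme.pointSmallEtale ξ₀).toPresheafFiber V v G.obj (c' m) = m := by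
    intro m
    rw [hc']
    show (Scheme.pointSmallEtale ξ₀).toPresheafFiber V v G.obj (G.obj.map f.op (c m)) = m
    rw [(Scheme.pointSmallEtale ξ₀).toPresheafFiber_w_apply f v G.obj, hfv]
    exact hc m
  have hinj : ∀ {Y : T.Etale} (k : Y ⟶ V) (m : (EtCoh.stalk ξ₀).obj G),
      (⊥ : Sieve Y) ∉ T.smallEtaleTopology Y → G.obj.map k.op (c' m) = 0 → m = 0 := by
    intro Y k m hY hm
    obtain ⟨y, hy⟩ := hlift Y k (nonempty_of_bot_not_mem Y hY)
    have e1 := (Scheme.pointSmallEtale ξ₀).toPresheafFiber_w_apply k y G.obj (c' m)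
    rw [hy, hc'germ, hm, map_zero] at e1
    exact e1.symm
  have hsurj : ∀ {Y : T.Etale} (h : Y ⟶ V) (s : G.obj.obj (op Y)),
      cSieve G c' h s ∈ T.smallEtaleTopology Y := by
    intro Y h s
    apply cover_of_points
    intro y
    obtain ⟨Ω, iF, iS, ζ, hr, hn⟩ := hcard (Y.hom.base y)
    have hb : ζ.base default = Y.hom.base y := base_default_of_range ζ hr
    obtain ⟨y', hy'⟩ := Scheme.pointSmallEtaleFiberObjToPreimage_surjective ζ hb Y ⟨y, by simp⟩
    obtain ⟨yl, hyl⟩ : ∃ yl : Spec (CommRingCat.of Ω) ⟶ Y.left, yl = y'.left := ⟨y'.left, rfl⟩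
    have hy'' : yl.base default = y := by
      rw [hyl]; exact congrArg Subtype.val hy'
    haveI : Finite ((EtCoh.stalk ζ).obj G) := hfin Ω ζ
    have hinjζ : Function.Injective (fun m : (EtCoh.stalk ξ₀).obj G =>
        ((Scheme.pointSmallEtale ζ).toPresheafFiber V
          ((Scheme.pointSmallEtale ζ).fiber.map h y') G.obj (c' m) : (EtCoh.stalk ζ).obj G)) := by
      intro a a' e
      obtain ⟨Y₂, f₂, y₂, hy₂, hf₂⟩ :=
        ((Scheme.pointSmallEtale ζ).toPresheafFiber_eq_iff' V _ (c' a) (c' a')).1 e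
      have h0 : G.obj.map f₂.op (c' (a - a')) = 0 := by rw [map_sub, map_sub, hf₂, sub_self]
      exact sub_eq_zero.1 (hinj f₂ (a - a') (bot_not_mem_of_fiber ζ y₂) h0)
    have hbij := @Function.Injective.bijective_of_nat_card_le _ _ (hfin Ω ζ) _ hinjζ
      (hn.trans hn₀.symm).le
    obtain ⟨a, ha⟩ := hbij.2 ((Scheme.pointSmallEtale ζ).toPresheafFiber Y y' G.obj s)
    have ha' : (Scheme.pointSmallEtale ζ).toPresheafFiber Y y' G.obj (G.obj.map h.op (c' a)) =
        (Scheme.pointSmallEtale ζ).toPresheafFiber Y y' G.obj s :=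
      ((Scheme.pointSmallEtale ζ).toPresheafFiber_w_apply h y' G.obj (c' a)).trans ha
    obtain ⟨Z, k, z, hz, hk⟩ :=
      ((Scheme.pointSmallEtale ζ).toPresheafFiber_eq_iff' Y y' _ _).1 ha'
    obtain ⟨zl, hzl⟩ : ∃ zl : Spec (CommRingCat.of Ω) ⟶ Z.left, zl = z.left := ⟨z.left, rfl⟩
    have hz' : zl ≫ k.left = yl := by
      rw [hzl, hyl]; exact congrArg (fun q => q.left) hz
    refine ⟨Z, k, ⟨a, ?_⟩, ⟨zl.base default, ?_⟩⟩
    · rw [map_comp_app G k h (c' a)]
      exact hk.symm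
    · have e2 : (zl ≫ k.left).base default = yl.base default := by rw [hz']
      exact e2.trans hy''
  have hCV : IsConstVia G V ((EtCoh.stalk ξ₀).obj G) c' := ⟨hsurj, hinj⟩
  obtain ⟨e⟩ := constIso_of_isConstVia hCV
  obtain ⟨M', iM', fM', ⟨em⟩⟩ := exists_small_finite ((EtCoh.stalk ξ₀).obj G)
  obtain ⟨O, hO⟩ : ∃ O : T.Opens, (O : Set T) = Set.range V.hom.base :=
    ⟨⟨_, V.hom.isOpenMap.isOpen_range⟩, rfl⟩
  refine ⟨O, ?_, ?_⟩
  · rw [hO]
    obtain ⟨vl, hvl⟩ : ∃ vl : Spec (CommRingCat.of Ω₀) ⟶ V.left, vl = v.left := ⟨v.left, rfl⟩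
    exact ⟨V.hom.base (vl.base default), vl.base default, rfl⟩
  · exact flc_pull_of_over O.ι G V (by rw [Scheme.Opens.range_ι, hO]) M'
      (e ≪≫ (constantSheaf _ _).mapIso em)

end Helper15.LcStruct

namespace Helper15.Constr

open Helper15.LcStruct Groth.Agent.Lib.Helper13.StalkPull

theorem cardSet_locallyConstructible {X : Scheme.{u}} (F : EtCoh.Ab X)
    (hF : EtPBC.IsConstructible F) (n : ℕ) :
    Topology.IsLocallyConstructible (cardSet F n) := by
  intro x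
  obtain ⟨U, hU, hxU, -⟩ := exists_isAffineOpen_mem_and_subset (x := x) (U := ⊤) trivial
  refine ⟨(U : Set X), U.isOpen.mem_nhds hxU, U.isOpen, ?_⟩
  show IsConstructible ((Subtype.val : ↥(U : Set X) → X) ⁻¹' cardSet F n)
  obtain ⟨κ, hκ, T, g, h1, h2, h3, h4, h5⟩ := adapted'_of_adapted (hF U hU)
  have key : ∀ k, IsConstructible
      ((Subtype.val : ↥(U : Set X) → X) ⁻¹'
        ((g k).base '' cardSet ((EtCoh.pull (g k)).obj F) n)) := by
    intro k
    haveI := h1 k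
    exact cin_image_clopen U hU (g k) (h2 k) _ (cardSet_isClopen_of_flc _ (h5 k) n)
  have hEq : ((Subtype.val : ↥(U : Set X) → X) ⁻¹' cardSet F n) =
      ⋃ k, (Subtype.val : ↥(U : Set X) → X) ⁻¹'
        ((g k).base '' cardSet ((EtCoh.pull (g k)).obj F) n) := by
    ext ⟨p, hp⟩
    simp only [Set.mem_preimage, Set.mem_iUnion, Set.mem_image]
    constructor
    · intro hps
      have hp' : p ∈ ⋃ k, Set.range (g k) := h4 ▸ hp
      obtain ⟨k, t, rfl⟩ := Set.mem_iUnion.mp hp'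
      haveI := h1 k
      exact ⟨k, t, (cardSet_pull_iff (g k) F n t).1 hps, rfl⟩
    · rintro ⟨k, t, ht, rfl⟩
      haveI := h1 k
      exact (cardSet_pull_iff (g k) F n t).2 ht
  rw [hEq]
  exact IsConstructible.iUnion key

theorem constructible_of_cardSet {X : Scheme.{u}} [IsLocallyNoetherian X] (F : EtCoh.Ab X)
    (hfin : ∀ (Ω : Type u) [Field Ω] [IsSepClosed Ω] (ξ : Spec (CommRingCat.of Ω) ⟶ X),
      Finite ((EtCoh.stalk ξ).obj F))
    (h : ∀ n : ℕ, Topology.IsLocallyConstructible (cardSet F n)) :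
    EtPBC.IsConstructible F := by
  refine (S8527 F).2 ?_
  intro x
  obtain ⟨Ω, iF, iS, ξ, hrξ⟩ := exists_geomPt x
  have hxE : x ∈ cardSet F (Nat.card ((EtCoh.stalk ξ).obj F)) := ⟨Ω, iF, iS, ξ, hrξ, rfl⟩
  obtain ⟨O₀, hO₀, hxO₀, hsub⟩ := exists_open_inter_closure_subset (h _) hxE
  obtain ⟨C, g, hg, hrange0⟩ := exists_immersion_range_diff (⟨O₀, hO₀⟩ : X.Opens)
    (closure {x})ᶜ isClosed_closure.isOpen_compl
  haveI := hg
  have hrange : Set.range g.base = O₀ ∩ closure {x} := by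
    have : Set.range g.base = O₀ \ (closure {x})ᶜ := hrange0
    rw [this]
    ext y; simp
  haveI : IsLocallyNoetherian C := LocallyOfFiniteType.isLocallyNoetherian g
  have hxr : x ∈ Set.range g.base := by rw [hrange]; exact ⟨hxO₀, subset_closure rfl⟩
  obtain ⟨c₀, hc₀x⟩ := hxr
  have hmem : ∀ q : C, g.base q ∈ O₀ ∩ closure ({x} : Set X) := fun q => by
    have : g.base q ∈ Set.range g.base := ⟨q, rfl⟩
    rw [hrange] at this; exact this
  have hc₀ : ∀ u : Set C, IsOpen u → u.Nonempty → c₀ ∈ u := by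
    rintro u hu ⟨q, hq⟩
    obtain ⟨u', hu', rfl⟩ := g.isEmbedding.isInducing.isOpen_iff.1 hu
    have hx : x ∈ u' := (specializes_iff_mem_closure.2 (hmem q).2).mem_open hu' hq
    show g.base c₀ ∈ u'
    rw [hc₀x]; exact hx
  haveI : IrreducibleSpace C :=
    { isPreirreducible_univ := fun u v hu hv ⟨a, _, ha⟩ ⟨b, _, hb⟩ =>
        ⟨c₀, trivial, hc₀ u hu ⟨a, ha⟩, hc₀ v hv ⟨b, hb⟩⟩
      toNonempty := ⟨c₀⟩ }
  have hfinC : ∀ (Ω : Type u) [Field Ω] [IsSepClosed Ω] (ζ : Spec (CommRingCat.of Ω) ⟶ C),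
      Finite ((EtCoh.stalk ζ).obj ((EtCoh.pull g).obj F)) := by
    intro Ω _ _ ζ
    haveI := hfin Ω (ζ ≫ g)
    exact Finite.of_equiv _ ((stalkPullIso g ζ).app F).addCommGroupIsoToAddEquiv.symm.toEquiv
  obtain ⟨O, hOne, hO⟩ := generic_flc ((EtCoh.pull g).obj F) hfinC _
    (fun t => (cardSet_pull_iff g F _ t).1 (hsub (hmem t)))
  obtain ⟨V'', hV''o, hV''⟩ := g.isEmbedding.isInducing.isOpen_iff.1 O.isOpen
  have hr : Set.range (O.ι ≫ g).base = V'' ∩ Set.range g.base := by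
    ext p
    constructor
    · rintro ⟨q, rfl⟩
      refine ⟨?_, ⟨O.ι.base q, rfl⟩⟩
      have hq : O.ι.base q ∈ g.base ⁻¹' V'' := by rw [hV'']; exact q.2
      exact hq
    · rintro ⟨hp, q, rfl⟩
      have hq : q ∈ (O : Set C) := by rw [← hV'']; exact hp
      exact ⟨⟨q, hq⟩, rfl⟩
  have hxV'' : x ∈ V'' := by
    obtain ⟨q, hq⟩ := hOne
    have h1 : g.base q ∈ V'' := by
      have : q ∈ g.base ⁻¹' V'' := by rw [hV'']; exact hq
      exact this
    obtain ⟨_, h3, rfl⟩ := mem_closure_iff.1 (hmem q).2 V'' hV''o h1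
    exact h3
  refine ⟨(⟨O₀, hO₀⟩ : X.Opens) ⊓ ⟨V'', hV''o⟩, O.toScheme, O.ι ≫ g, inferInstance,
    ⟨hxO₀, hxV''⟩, ?_, ?_⟩
  · rw [hr, hrange]
    ext p
    simp only [Set.mem_inter_iff, TopologicalSpace.Opens.coe_inf, TopologicalSpace.Opens.coe_mk]
    tauto
  · exact flc_of_iso ((EtCore.pullComp O.ι g).app F).symm hO

theorem S3116 (X : Scheme.{u}) [IsLocallyNoetherian X] (F : EtCoh.Ab X)
    (hfin : ∀ (Ω : Type u) [Field Ω] [IsSepClosed Ω] (ξ : Spec (CommRingCat.of Ω) ⟶ X),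
      Finite ((EtCoh.stalk ξ).obj F)) :
    EtPBC.IsConstructible F ↔ ∀ n : ℕ, Topology.IsLocallyConstructible
      {x : X | ∃ (Ω : Type u) (_ : Field Ω) (_ : IsSepClosed Ω) (ξ : Spec (CommRingCat.of Ω) ⟶ X),
        Set.range ξ = {x} ∧ Nat.card ((EtCoh.stalk ξ).obj F) = n} :=
  ⟨fun hF n => cardSet_locallyConstructible F hF n, fun h => constructible_of_cardSet F hfin h⟩

end Helper15.Constr
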