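import Mathlib
import Groth.Agent.Lib.Helper15.CardConstr

/-!
# Helper15: specialization arrows between geometric points of the small étale site

For geometric points `ξ` (special) and `ε` (generic) of a quasi-separated scheme `X`, an étale
`W ⟶ X` and lifts `w`, `e` of `ξ`, `ε` to `W` with `pt e ⤳ pt w`, we construct (by a compactness
argument) a morphism of points `pointSmallEtale ε ⟶ pointSmallEtale ξ` sending `w` to `e`.
-/

set_option autoImplicit false
set_option backward.isDefEq.respectTransparency false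

universe u

open CategoryTheory CategoryTheory.Limits AlgebraicGeometry Opposite Topology

namespace Helper15.SpecArrow

open Helper15.LcStruct

section Pt

variable {X : Scheme.{u}} {Ω : Type u} [Field Ω] [IsSepClosed Ω]
  (ξ : Spec (CommRingCat.of Ω) ⟶ X)

/-- the point of `W` underlying a lift of the geometric point `ξ` -/
noncomputable def pt {W : X.Etale} (w : (Scheme.pointSmallEtale ξ).fiber.obj W) : W.left :=
  (show Spec (CommRingCat.of Ω) ⟶ W.left from w.left).base default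

theorem pt_eq {W : X.Etale} (w : (Scheme.pointSmallEtale ξ).fiber.obj W)
    (wl : Spec (CommRingCat.of Ω) ⟶ W.left) (h : wl = w.left) : pt ξ w = wl.base default := by
  subst h; rfl

theorem pt_map {W W' : X.Etale} (f : W ⟶ W') (w : (Scheme.pointSmallEtale ξ).fiber.obj W) :
    pt ξ ((Scheme.pointSmallEtale ξ).fiber.map f w) = f.left.base (pt ξ w) := rfl

theorem pt_hom {W : X.Etale} (w : (Scheme.pointSmallEtale ξ).fiber.obj W) :
    W.hom.base (pt ξ w) = ξ.base default := by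
  obtain ⟨wl, hwl⟩ : ∃ wl : Spec (CommRingCat.of Ω) ⟶ W.left, wl = w.left := ⟨w.left, rfl⟩
  have hwW : wl ≫ W.hom = ξ := hwl ▸ Over.w w
  rw [pt_eq ξ w wl hwl, ← hwW]
  rfl

theorem exists_lift {Y W : X.Etale} (b : Y ⟶ W) (e : (Scheme.pointSmallEtale ξ).fiber.obj W)
    (q : Y.left) (hq : b.left.base q = pt ξ e) :
    ∃ y' : (Scheme.pointSmallEtale ξ).fiber.obj Y,
      (Scheme.pointSmallEtale ξ).fiber.map b y' = e ∧ pt ξ y' = q := by
  haveI : Etale b.left := etale_left' b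
  obtain ⟨el, hel⟩ : ∃ el : Spec (CommRingCat.of Ω) ⟶ W.left, el = e.left := ⟨e.left, rfl⟩
  have heW : el ≫ W.hom = ξ := hel ▸ Over.w e
  obtain ⟨l', hl', hl'q⟩ := Scheme.exists_fac_of_etale_of_isSepClosed b.left el q
    (by rw [hq, pt_eq ξ e el hel])
  have hbw : b.left ≫ W.hom = Y.hom := MorphismProperty.Over.w b
  refine ⟨Over.homMk l' (by
    show l' ≫ Y.hom = ξ
    rw [← hbw, ← Category.assoc, hl', heW]), ?_, hl'q⟩
  apply Over.OverMorphism.ext
  show l' ≫ b.left = e.left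
  rw [hl', hel]

end Pt

section Equalizer

variable {X : Scheme.{u}} {Ω Ω' : Type u} [Field Ω] [IsSepClosed Ω] [Field Ω'] [IsSepClosed Ω']
  (ξ : Spec (CommRingCat.of Ω) ⟶ X) (ε : Spec (CommRingCat.of Ω') ⟶ X)

theorem map_eq_of_specializes {Y W : X.Etale} (a b : Y ⟶ W)
    (y : (Scheme.pointSmallEtale ξ).fiber.obj Y) (y' : (Scheme.pointSmallEtale ε).fiber.obj Y)
    (h : pt ε y' ⤳ pt ξ y)
    (hab : (Scheme.pointSmallEtale ξ).fiber.map a y = (Scheme.pointSmallEtale ξ).fiber.map b y) :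
    (Scheme.pointSmallEtale ε).fiber.map a y' = (Scheme.pointSmallEtale ε).fiber.map b y' := by
  haveI : Etale W.hom := W.prop
  obtain ⟨yl, hyl⟩ : ∃ yl : Spec (CommRingCat.of Ω) ⟶ Y.left, yl = y.left := ⟨y.left, rfl⟩
  obtain ⟨yl', hyl'⟩ : ∃ yl' : Spec (CommRingCat.of Ω') ⟶ Y.left, yl' = y'.left := ⟨y'.left, rfl⟩
  have hab' : yl ≫ a.left = yl ≫ b.left := by
    rw [hyl]; exact congrArg (fun t => CommaMorphism.left t) hab
  have hw : a.left ≫ W.hom = b.left ≫ W.hom := by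
    rw [MorphismProperty.Over.w a, MorphismProperty.Over.w b]
  obtain ⟨p, hp⟩ : ∃ p : Y.left ⟶ pullback W.hom W.hom, p = pullback.lift a.left b.left hw :=
    ⟨_, rfl⟩
  have hp1 : p ≫ pullback.fst _ _ = a.left := by rw [hp]; exact pullback.lift_fst _ _ _
  have hp2 : p ≫ pullback.snd _ _ = b.left := by rw [hp]; exact pullback.lift_snd _ _ _
  have hyp : yl ≫ p = (yl ≫ a.left) ≫ pullback.diagonal W.hom := by
    apply pullback.hom_ext
    · rw [Category.assoc, hp1, Category.assoc, pullback.diagonal_fst, Category.comp_id]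
    · rw [Category.assoc, hp2, Category.assoc, pullback.diagonal_snd, Category.comp_id, hab']
  have hopen : IsOpen (p.base ⁻¹' Set.range (pullback.diagonal W.hom).base) :=
    (pullback.diagonal W.hom).isOpenEmbedding.isOpen_range.preimage p.continuous
  have hymem : pt ξ y ∈ p.base ⁻¹' Set.range (pullback.diagonal W.hom).base := by
    rw [pt_eq ξ y yl hyl]
    refine ⟨(yl ≫ a.left).base default, ?_⟩
    have := congrArg (fun t => t.base default) hyp
    exact this.symm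
  have hy'mem := h.mem_open hopen hymem
  rw [pt_eq ε y' yl' hyl'] at hy'mem
  have hsub : Set.range (yl' ≫ p).base ⊆ Set.range (pullback.diagonal W.hom).base := by
    rintro _ ⟨t, rfl⟩
    rw [Subsingleton.elim t default]
    exact hy'mem
  obtain ⟨t, ht⟩ : ∃ t : Spec (CommRingCat.of Ω') ⟶ W.left,
      t ≫ pullback.diagonal W.hom = yl' ≫ p :=
    ⟨IsOpenImmersion.lift _ _ hsub, IsOpenImmersion.lift_fac _ _ _⟩
  have e1 : yl' ≫ a.left = t := by
    rw [← hp1, ← Category.assoc, ← ht, Category.assoc, pullback.diagonal_fst, Category.comp_id]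
  have e2 : yl' ≫ b.left = t := by
    rw [← hp2, ← Category.assoc, ← ht, Category.assoc, pullback.diagonal_snd, Category.comp_id]
  apply Over.OverMorphism.ext
  show y'.left ≫ a.left = y'.left ≫ b.left
  rw [← hyl', e1, e2]

end Equalizer

section Finiteness

variable {X : Scheme.{u}} {Ω : Type u} [Field Ω] [IsSepClosed Ω]

theorem finite_sections_of_field {P : Scheme.{u}} (π : P ⟶ Spec (CommRingCat.of Ω)) [IsFinite π] :
    Finite {σ : Spec (CommRingCat.of Ω) ⟶ P // σ ≫ π = 𝟙 _} := by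
  haveI : IsAffine P := isAffine_of_isAffineHom π
  obtain ⟨j, hj⟩ : ∃ j : Ω →+* Γ(P, ⊤),
      j = (π.appTop.hom).comp (Scheme.ΓSpecIso (CommRingCat.of Ω)).inv.hom := ⟨_, rfl⟩
  have hjfin : j.Finite := by
    rw [hj]
    refine RingHom.Finite.comp (IsFinite.finite_app π ⊤ (isAffineOpen_top _)) ?_
    exact RingHom.Finite.of_surjective _
      (ConcreteCategory.bijective_of_isIso (Scheme.ΓSpecIso (CommRingCat.of Ω)).inv).2
  algebraize [j]
  have hcomm : ∀ (σ : {σ : Spec (CommRingCat.of Ω) ⟶ P // σ ≫ π = 𝟙 _}) (a : Ω),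
      (Scheme.ΓSpecIso (CommRingCat.of Ω)).hom.hom (σ.1.appTop.hom (j a)) = a := by
    intro σ a
    have h1 : π.appTop ≫ σ.1.appTop = 𝟙 _ := by
      rw [← Scheme.Hom.comp_appTop, σ.2]; rfl
    have h2 : σ.1.appTop.hom (π.appTop.hom ((Scheme.ΓSpecIso (CommRingCat.of Ω)).inv.hom a)) =
        (Scheme.ΓSpecIso (CommRingCat.of Ω)).inv.hom a :=
      ConcreteCategory.congr_hom h1 ((Scheme.ΓSpecIso (CommRingCat.of Ω)).inv.hom a)
    rw [hj]
    show (Scheme.ΓSpecIso (CommRingCat.of Ω)).hom.hom (σ.1.appTop.hom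
      (π.appTop.hom ((Scheme.ΓSpecIso (CommRingCat.of Ω)).inv.hom a))) = a
    rw [h2]
    exact ConcreteCategory.congr_hom (Scheme.ΓSpecIso (CommRingCat.of Ω)).inv_hom_id a
  obtain ⟨Φ, hΦ⟩ : ∃ Φ : {σ : Spec (CommRingCat.of Ω) ⟶ P // σ ≫ π = 𝟙 _} →
      (Γ(P, ⊤) →ₐ[Ω] Ω),
      ∀ σ b, Φ σ b = (Scheme.ΓSpecIso (CommRingCat.of Ω)).hom.hom (σ.1.appTop.hom b) :=
    ⟨fun σ => AlgHom.mk
      ((Scheme.ΓSpecIso (CommRingCat.of Ω)).hom.hom.comp σ.1.appTop.hom) (hcomm σ),
      fun σ b => rfl⟩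
  refine Finite.of_injective Φ ?_
  intro σ τ h
  apply Subtype.ext
  apply ext_of_isAffine
  apply CommRingCat.hom_ext
  apply RingHom.ext
  intro b
  have h1 := hΦ σ b
  have h2 := hΦ τ b
  rw [h] at h1
  exact (ConcreteCategory.bijective_of_isIso (Scheme.ΓSpecIso (CommRingCat.of Ω)).hom).1
    (h1.symm.trans h2)

theorem finite_fiber_of_compact [QuasiSeparatedSpace X] (ε : Spec (CommRingCat.of Ω) ⟶ X)
    (U : X.Etale) [CompactSpace U.left] :
    Finite ((Scheme.pointSmallEtale ε).fiber.obj U) := by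
  haveI : Etale U.hom := U.prop
  haveI : QuasiCompact U.hom := @quasiCompact_of_compactSpace U.left X U.hom _ _
  haveI : LocallyQuasiFinite U.hom :=
    Groth.Agent.Lib.Helper16.locallyQuasiFinite_of_etale U.hom
  haveI : IsFinite (pullback.snd U.hom ε) := IsFinite.of_locallyQuasiFinite _
  haveI := finite_sections_of_field (pullback.snd U.hom ε)
  obtain ⟨Φ, hΦ⟩ : ∃ Φ : (Scheme.pointSmallEtale ε).fiber.obj U →
      {σ : Spec (CommRingCat.of Ω) ⟶ pullback U.hom ε // σ ≫ pullback.snd U.hom ε = 𝟙 _},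
      ∀ v, (Φ v).1 ≫ pullback.fst U.hom ε = v.left :=
    ⟨fun v => ⟨pullback.lift v.left (𝟙 _) (by rw [Category.id_comp]; exact Over.w v),
      pullback.lift_snd _ _ _⟩, fun v => pullback.lift_fst _ _ _⟩
  refine Finite.of_injective Φ ?_
  intro v v' h
  apply Over.OverMorphism.ext
  rw [← hΦ v, ← hΦ v', h]

end Finiteness

section Main

variable {X : Scheme.{u}} {Ω Ω' : Type u} [Field Ω] [IsSepClosed Ω] [Field Ω'] [IsSepClosed Ω']
  (ξ : Spec (CommRingCat.of Ω) ⟶ X) (ε : Spec (CommRingCat.of Ω') ⟶ X)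
  (W : X.Etale) (w : (Scheme.pointSmallEtale ξ).fiber.obj W)
  (e : (Scheme.pointSmallEtale ε).fiber.obj W)

/-- candidate images of a lift of `ξ` under a specialization arrow sending `w` to `e` -/
def cand (p : (Scheme.pointSmallEtale ξ).fiber.Elements) :
    Set ((Scheme.pointSmallEtale ε).fiber.obj p.1) :=
  {v | ∃ (Y : X.Etale) (y : (Scheme.pointSmallEtale ξ).fiber.obj Y)
      (y' : (Scheme.pointSmallEtale ε).fiber.obj Y) (a : Y ⟶ p.1) (b : Y ⟶ W),
      pt ε y' ⤳ pt ξ y ∧ (Scheme.pointSmallEtale ξ).fiber.map a y = p.2 ∧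
      (Scheme.pointSmallEtale ξ).fiber.map b y = w ∧
      (Scheme.pointSmallEtale ε).fiber.map a y' = v ∧
      (Scheme.pointSmallEtale ε).fiber.map b y' = e}

/-- the candidates form a subfunctor -/
def candSub : Subfunctor (CategoryOfElements.π (Scheme.pointSmallEtale ξ).fiber ⋙
    (Scheme.pointSmallEtale ε).fiber) where
  obj p := cand ξ ε W w e p
  map := by
    rintro p q f v ⟨Y, y, y', a, b, h1, h2, h3, h4, h5⟩
    refine ⟨Y, y, y', a ≫ f.1, b, h1, ?_, h3, ?_, h5⟩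
    · rw [Functor.map_comp_apply, h2]
      exact f.2
    · rw [Functor.map_comp_apply, h4]
      rfl

theorem cand_finite [QuasiSeparatedSpace X] (p : (Scheme.pointSmallEtale ξ).fiber.Elements) :
    (cand ξ ε W w e p).Finite := by
  obtain ⟨U, u⟩ := p
  obtain ⟨A, hA, hxA, -⟩ := exists_isAffineOpen_mem_and_subset (x := pt ξ u) (U := ⊤) trivial
  haveI : Etale U.hom := U.prop
  haveI : IsAffine A.toScheme := hA
  haveI : CompactSpace (Scheme.Etale.mk (A.ι ≫ U.hom)).left :=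
    (inferInstance : CompactSpace A.toScheme)
  haveI := finite_fiber_of_compact ε (Scheme.Etale.mk (A.ι ≫ U.hom))
  refine (Set.finite_range ((Scheme.pointSmallEtale ε).fiber.map
    (MorphismProperty.Over.homMk A.ι rfl trivial : Scheme.Etale.mk (A.ι ≫ U.hom) ⟶ U))).subset ?_
  rintro v ⟨Y, y, y', a, b, h1, h2, h3, h4, h5⟩
  have hvA : pt ε v ∈ (A : Set U.left) := by
    have h6 : pt ε v ⤳ pt ξ u := by
      have h2' : (Scheme.pointSmallEtale ξ).fiber.map a y = u := h2
      rw [← h4, ← h2']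
      exact h1.map a.left.continuous
    exact h6.mem_open A.isOpen hxA
  obtain ⟨vl, hvl⟩ : ∃ vl : Spec (CommRingCat.of Ω') ⟶ U.left, vl = v.left := ⟨v.left, rfl⟩
  have hvU : vl ≫ U.hom = ε := hvl ▸ Over.w v
  have hsubA : Set.range vl.base ⊆ Set.range A.ι.base := by
    rintro _ ⟨t, rfl⟩
    rw [Subsingleton.elim t default, Scheme.Opens.range_ι, ← pt_eq ε v vl hvl]
    exact hvA
  obtain ⟨l, hl⟩ : ∃ l : Spec (CommRingCat.of Ω') ⟶ A.toScheme, l ≫ A.ι = vl :=
    ⟨IsOpenImmersion.lift A.ι vl hsubA, IsOpenImmersion.lift_fac _ _ _⟩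
  refine ⟨Over.homMk l (by
    show l ≫ (A.ι ≫ U.hom) = ε
    rw [← Category.assoc, hl, hvU]), ?_⟩
  apply Over.OverMorphism.ext
  show l ≫ A.ι = v.left
  rw [hl, hvl]

theorem cand_nonempty (h : pt ε e ⤳ pt ξ w) (p : (Scheme.pointSmallEtale ξ).fiber.Elements) :
    (cand ξ ε W w e p).Nonempty := by
  obtain ⟨U, u⟩ := p
  obtain ⟨Y, y, a, b, ha, hb⟩ := germ_refine (Scheme.pointSmallEtale ξ) u w
  haveI : Etale b.left := etale_left' b
  have h' : pt ε e ⤳ b.left.base (pt ξ y) := by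
    rw [← pt_map, hb]; exact h
  obtain ⟨q, hq1, hq2⟩ := Flat.generalizingMap b.left h'
  obtain ⟨y', hy'1, hy'2⟩ := exists_lift ε b e q hq2
  exact ⟨(Scheme.pointSmallEtale ε).fiber.map a y', Y, y, y', a, b, by rw [hy'2]; exact hq1,
    ha, hb, rfl, hy'1⟩

theorem exists_point_hom [QuasiSeparatedSpace X] (h : pt ε e ⤳ pt ξ w) :
    ∃ φ : Scheme.pointSmallEtale ε ⟶ Scheme.pointSmallEtale ξ,
      φ.hom.app W w = e ∧ ∀ (U : X.Etale) (u : (Scheme.pointSmallEtale ξ).fiber.obj U),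
        pt ε (φ.hom.app U u) ⤳ pt ξ u := by
  haveI : ∀ p, Finite ((candSub ξ ε W w e).toFunctor.obj p) :=
    fun p => (cand_finite ξ ε W w e p).to_subtype
  haveI : ∀ p, Nonempty ((candSub ξ ε W w e).toFunctor.obj p) :=
    fun p => (cand_nonempty ξ ε W w e h p).to_subtype
  obtain ⟨s, hs⟩ := nonempty_sections_of_finite_cofiltered_system (candSub ξ ε W w e).toFunctor
  have hnat : ∀ {U U' : X.Etale} (g : U ⟶ U') (u : (Scheme.pointSmallEtale ξ).fiber.obj U),
      (Scheme.pointSmallEtale ε).fiber.map g (s ⟨U, u⟩).1 =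
        (s ⟨U', (Scheme.pointSmallEtale ξ).fiber.map g u⟩).1 := by
    intro U U' g u
    have := hs (CategoryOfElements.homMk ((Scheme.pointSmallEtale ξ).fiber.elementsMk U u)
      ((Scheme.pointSmallEtale ξ).fiber.elementsMk U' ((Scheme.pointSmallEtale ξ).fiber.map g u))
      g rfl)
    exact congrArg Subtype.val this
  refine ⟨GrothendieckTopology.Point.Hom.mk
    { app := fun U => ↾(fun u => (s ⟨U, u⟩).1)
      naturality := ?_ }, ?_, ?_⟩
  · intro U U' g
    apply ConcreteCategory.hom_ext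
    intro u
    exact (hnat g u).symm
  · obtain ⟨Y, y, y', a, b, h1, h2, h3, h4, h5⟩ := (s ⟨W, w⟩).2
    have h2' : (Scheme.pointSmallEtale ξ).fiber.map a y = w := h2
    have := map_eq_of_specializes ξ ε a b y y' h1 (h2'.trans h3.symm)
    show (s ⟨W, w⟩).1 = e
    rw [← h4, this, h5]
  · intro U u
    obtain ⟨Y, y, y', a, b, h1, h2, h3, h4, h5⟩ := (s ⟨U, u⟩).2
    have h2' : (Scheme.pointSmallEtale ξ).fiber.map a y = u := h2
    show pt ε (s ⟨U, u⟩).1 ⤳ pt ξ u
    rw [← h4, ← h2']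
    exact h1.map a.left.continuous

theorem exists_point_hom_of_specializes [QuasiSeparatedSpace X]
    (h : ε.base default ⤳ ξ.base default) :
    ∃ φ : Scheme.pointSmallEtale ε ⟶ Scheme.pointSmallEtale ξ,
      ∀ (U : X.Etale) (u : (Scheme.pointSmallEtale ξ).fiber.obj U),
        pt ε (φ.hom.app U u) ⤳ pt ξ u := by
  obtain ⟨w, hw⟩ : ∃ w : (Scheme.pointSmallEtale ξ).fiber.obj (EtCoh.top X),
      pt ξ w = ξ.base default := ⟨Over.homMk ξ (Category.comp_id ξ), rfl⟩
  obtain ⟨e, he⟩ : ∃ e : (Scheme.pointSmallEtale ε).fiber.obj (EtCoh.top X),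
      pt ε e = ε.base default := ⟨Over.homMk ε (Category.comp_id ε), rfl⟩
  obtain ⟨φ, -, hφ⟩ := exists_point_hom ξ ε (EtCoh.top X) w e (by rw [hw, he]; exact h)
  exact ⟨φ, hφ⟩

end Main

end Helper15.SpecArrow
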