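import Mathlib
import Groth.Agent.Lib.Helper15.SpecArrow
import Groth.Agent.Lib.Helper15.ExtMod

/-!
# Helper15: specialization maps for sheaves of modules; stalk systems of lisse systems on a
connected Noetherian scheme (S13610)
-/

set_option autoImplicit false
set_option backward.isDefEq.respectTransparency false

universe u

open CategoryTheory CategoryTheory.Limits AlgebraicGeometry Opposite Topology

namespace Helper15.SpecMod

open Helper15.SpecArrow Helper15.LcMod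

variable {Λ : Type (u+1)} [CommRing Λ]

theorem sheafFiber_germ {X : Scheme.{u}} {Ω Ω' : Type u} [Field Ω] [IsSepClosed Ω] [Field Ω']
    [IsSepClosed Ω'] {ξ : Spec (CommRingCat.of Ω) ⟶ X} {ε : Spec (CommRingCat.of Ω') ⟶ X}
    (φ : Scheme.pointSmallEtale ε ⟶ Scheme.pointSmallEtale ξ) (F : EtModW.Mod Λ X) (W : X.Etale)
    (z : (Scheme.pointSmallEtale ξ).fiber.obj W) (s : F.obj.obj (op W)) :
    ((GrothendieckTopology.Point.Hom.sheafFiber (A := ModuleCat.{u + 1} Λ) φ).app F)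
      ((Scheme.pointSmallEtale ξ).toPresheafFiber W z F.obj s) =
      (Scheme.pointSmallEtale ε).toPresheafFiber W (φ.hom.app W z) F.obj s := by
  have h1 : (Scheme.pointSmallEtale ξ).toPresheafFiber W z F.obj ≫
      ((GrothendieckTopology.Point.Hom.sheafFiber (A := ModuleCat.{u + 1} Λ) φ).app F) =
      (Scheme.pointSmallEtale ε).toPresheafFiber W (φ.hom.app W z) F.obj := by
    show (Scheme.pointSmallEtale ξ).toPresheafFiber W z F.obj ≫
      (GrothendieckTopology.Point.Hom.presheafFiber (A := ModuleCat.{u + 1} Λ) φ).app F.obj = _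
    rw [GrothendieckTopology.Point.Hom.presheafFiber_app]
    exact (Scheme.pointSmallEtale ξ).toPresheafFiber_presheafFiberDesc _ _ W z
  exact ConcreteCategory.congr_hom h1 s

section StalkConst

variable {T : Scheme.{u}} {Ω : Type u} [Field Ω] [IsSepClosed Ω]
  (ζ : Spec (CommRingCat.of Ω) ⟶ T)
  (F : EtModW.Mod Λ T) (W : T.Etale) {A : Type (u+1)} [AddCommGroup A] [Module Λ A]
  (c : A →ₗ[Λ] F.obj.obj (op W)) (h : IsConstVia F W A c)
  (w : (Scheme.pointSmallEtale ζ).fiber.obj W)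

include h in
theorem stalk_germ_injective :
    Function.Injective
      (fun a : A => (Scheme.pointSmallEtale ζ).toPresheafFiber W w F.obj (c a)) := by
  intro a a' e
  obtain ⟨Y, f, y, hy, hf⟩ :=
    ((Scheme.pointSmallEtale ζ).toPresheafFiber_eq_iff' W w (c a) (c a')).1 e
  have h0 : F.obj.map f.op (c (a - a')) = 0 := by rw [map_sub, map_sub, hf, sub_self]
  exact sub_eq_zero.1 (h.inj f (a - a') (Helper15.LcStruct.bot_not_mem_of_fiber ζ y) h0)

include h in
theorem stalk_germ_surjective :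
    Function.Surjective
      (fun a : A => (Scheme.pointSmallEtale ζ).toPresheafFiber W w F.obj (c a)) := by
  intro p
  obtain ⟨Y, y, s, rfl⟩ := (Scheme.pointSmallEtale ζ).toPresheafFiber_jointly_surjective p
  obtain ⟨Z, z, f₁, f₂, e₁, e₂⟩ :=
    Helper15.LcStruct.germ_refine (Scheme.pointSmallEtale ζ) y w
  have hsieve := h.surj f₂ (F.obj.map f₁.op s)
  obtain ⟨Z', k, ⟨a₀, ha₀⟩, z', ez'⟩ :=
    (Scheme.pointSmallEtale ζ).jointly_surjective _ hsieve z
  refine ⟨a₀, ?_⟩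
  have ew : (Scheme.pointSmallEtale ζ).fiber.map (k ≫ f₂) z' = w := by
    rw [Functor.map_comp, ConcreteCategory.comp_apply, ez', e₂]
  calc (Scheme.pointSmallEtale ζ).toPresheafFiber W w F.obj (c a₀)
      = (Scheme.pointSmallEtale ζ).toPresheafFiber W
          ((Scheme.pointSmallEtale ζ).fiber.map (k ≫ f₂) z') F.obj (c a₀) := by rw [ew]
    _ = (Scheme.pointSmallEtale ζ).toPresheafFiber Z' z' F.obj
          (F.obj.map (k ≫ f₂).op (c a₀)) :=
        ((Scheme.pointSmallEtale ζ).toPresheafFiber_w_apply (k ≫ f₂) z' F.obj (c a₀)).symm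
    _ = (Scheme.pointSmallEtale ζ).toPresheafFiber Z' z' F.obj
          (F.obj.map k.op (F.obj.map f₁.op s)) := by rw [ha₀]
    _ = (Scheme.pointSmallEtale ζ).toPresheafFiber Z
          ((Scheme.pointSmallEtale ζ).fiber.map k z') F.obj (F.obj.map f₁.op s) :=
        (Scheme.pointSmallEtale ζ).toPresheafFiber_w_apply k z' F.obj _
    _ = (Scheme.pointSmallEtale ζ).toPresheafFiber Z z F.obj (F.obj.map f₁.op s) := by
        rw [ez']
    _ = (Scheme.pointSmallEtale ζ).toPresheafFiber Y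
          ((Scheme.pointSmallEtale ζ).fiber.map f₁ z) F.obj s :=
        (Scheme.pointSmallEtale ζ).toPresheafFiber_w_apply f₁ z F.obj s
    _ = _ := by rw [e₁]

end StalkConst

theorem iso_of_ftlc {X : Scheme.{u}} (F : EtModW.Mod Λ X) (hF : EtModW.IsFTLocConst Λ F)
    {Ω Ω' : Type u} [Field Ω] [IsSepClosed Ω] [Field Ω'] [IsSepClosed Ω']
    (ξ : Spec (CommRingCat.of Ω) ⟶ X) (ξ' : Spec (CommRingCat.of Ω') ⟶ X)
    (φ : Scheme.pointSmallEtale ξ' ⟶ Scheme.pointSmallEtale ξ) :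
    IsIso ((GrothendieckTopology.Point.Hom.sheafFiber (A := ModuleCat.{u + 1} Λ) φ).app F) := by
  obtain ⟨ι₁, U, hU, hc⟩ := hF
  obtain ⟨j, y, hy⟩ := hU (ξ.base default)
  obtain ⟨M, iM, mM, fM, ⟨a⟩⟩ := hc j
  have a' : F.over (U j) ≅ (cst X (ModuleCat.of Λ M)).over (U j) :=
    a ≪≫ ((kappa (U j)).app _).symm
  have kF := isConstVia_of_iso _ a'
  obtain ⟨u⟩ := Helper15.LcStruct.fiber_nonempty_of_mem_range ξ (U j) ⟨y, hy⟩
  have b1 := stalk_germ_injective ξ F (U j) _ kF u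
  have b2 := stalk_germ_surjective ξ F (U j) _ kF u
  have b1' := stalk_germ_injective ξ' F (U j) _ kF (φ.hom.app (U j) u)
  have b2' := stalk_germ_surjective ξ' F (U j) _ kF (φ.hom.app (U j) u)
  rw [ConcreteCategory.isIso_iff_bijective]
  constructor
  · intro p q hpq
    obtain ⟨m, rfl⟩ := b2 p
    obtain ⟨m', rfl⟩ := b2 q
    have e1 := sheafFiber_germ φ F (U j) u (csOf _ a' m)
    have e2 := sheafFiber_germ φ F (U j) u (csOf _ a' m')
    have : m = m' := b1' (e1.symm.trans (hpq.trans e2))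
    rw [this]
  · intro p
    obtain ⟨m, hm⟩ := b2' p
    exact ⟨_, (sheafFiber_germ φ F (U j) u (csOf _ a' m)).trans hm⟩

theorem eqvGen_specializes {T : Type*} [TopologicalSpace T] [TopologicalSpace.NoetherianSpace T]
    [QuasiSober T] [ConnectedSpace T] (x y : T) :
    Relation.EqvGen (fun a b : T => a ⤳ b) x y := by
  have hfin : (irreducibleComponents T).Finite :=
    TopologicalSpace.NoetherianSpace.finite_irreducibleComponents
  have hgen : ∀ Z ∈ irreducibleComponents T, ∀ z ∈ Z, ∀ z' ∈ Z,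
      Relation.EqvGen (fun a b : T => a ⤳ b) z z' := by
    intro Z hZ z hz z' hz'
    have hirr : IsIrreducible Z := (show Maximal IsIrreducible Z from hZ).prop
    have hcl : IsClosed Z := isClosed_of_mem_irreducibleComponents Z hZ
    have hγ := hirr.isGenericPoint_genericPoint hcl
    have h1 : hirr.genericPoint ⤳ z := hγ.specializes hz
    have h2 : hirr.genericPoint ⤳ z' := hγ.specializes hz'
    exact Relation.EqvGen.trans _ _ _ (Relation.EqvGen.symm _ _ (Relation.EqvGen.rel _ _ h1))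
      (Relation.EqvGen.rel _ _ h2)
  obtain ⟨A, hA⟩ : ∃ A : Set T, A = {z | Relation.EqvGen (fun a b : T => a ⤳ b) x z} := ⟨_, rfl⟩
  have hA1 : A = ⋃₀ {Z ∈ irreducibleComponents T | ∃ z ∈ Z, z ∈ A} := by
    ext z
    constructor
    · intro hz
      exact ⟨irreducibleComponent z, ⟨irreducibleComponent_mem_irreducibleComponents z,
        z, mem_irreducibleComponent, hz⟩, mem_irreducibleComponent⟩
    · rintro ⟨Z, ⟨hZ, z', hz'Z, hz'A⟩, hzZ⟩
      rw [hA] at hz'A ⊢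
      exact Relation.EqvGen.trans _ _ _ hz'A (hgen Z hZ z' hz'Z z hzZ)
  have hA2 : Aᶜ = ⋃₀ {Z ∈ irreducibleComponents T | ∀ z ∈ Z, z ∉ A} := by
    ext z
    constructor
    · intro hz
      refine ⟨irreducibleComponent z, ⟨irreducibleComponent_mem_irreducibleComponents z, ?_⟩,
        mem_irreducibleComponent⟩
      intro z' hz' hz'A
      apply hz
      rw [hA] at hz'A ⊢
      exact Relation.EqvGen.trans _ _ _ hz'A
        (hgen _ (irreducibleComponent_mem_irreducibleComponents z) z' hz' z mem_irreducibleComponent)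
    · rintro ⟨Z, ⟨hZ, hZA⟩, hzZ⟩
      exact hZA z hzZ
  have hcl1 : IsClosed A := by
    rw [hA1, Set.sUnion_eq_biUnion]
    exact Set.Finite.isClosed_biUnion (hfin.subset (fun Z hZ => hZ.1))
      (fun Z hZ => isClosed_of_mem_irreducibleComponents Z hZ.1)
  have hcl2 : IsClosed Aᶜ := by
    rw [hA2, Set.sUnion_eq_biUnion]
    exact Set.Finite.isClosed_biUnion (hfin.subset (fun Z hZ => hZ.1))
      (fun Z hZ => isClosed_of_mem_irreducibleComponents Z hZ.1)
  have hclopen : IsClopen A := ⟨hcl1, by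
    have := hcl2.isOpen_compl
    rwa [compl_compl] at this⟩
  have hxA : x ∈ A := by rw [hA]; exact Relation.EqvGen.refl x
  have huniv : A = Set.univ := hclopen.eq_univ ⟨x, hxA⟩
  have : y ∈ A := by rw [huniv]; trivial
  rw [hA] at this
  exact this

theorem S13610 (Λ : Type (u + 1)) [CommRing Λ] [IsNoetherianRing Λ]
    (X : Scheme.{u}) [IsNoetherian X] [ConnectedSpace X]
    (F : ℕᵒᵖ ⥤ EtModW.Mod Λ X) (hF : ∀ n : ℕ, EtModW.IsFTLocConst Λ (F.obj (op n)))
    {Ω : Type u} [Field Ω] [IsSepClosed Ω] (s : Spec (CommRingCat.of Ω) ⟶ X)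
    {Ω' : Type u} [Field Ω'] [IsSepClosed Ω'] (s' : Spec (CommRingCat.of Ω') ⟶ X) :
    Nonempty ((F ⋙ EtModW.stalk Λ s) ≅ (F ⋙ EtModW.stalk Λ s')) := by
  have step : ∀ (Ω₁ : Type u) [Field Ω₁] [IsSepClosed Ω₁] (s₁ : Spec (CommRingCat.of Ω₁) ⟶ X)
      (Ω₂ : Type u) [Field Ω₂] [IsSepClosed Ω₂] (s₂ : Spec (CommRingCat.of Ω₂) ⟶ X),
      s₁.base default ⤳ s₂.base default →
      Nonempty ((F ⋙ EtModW.stalk Λ s₁) ≅ (F ⋙ EtModW.stalk Λ s₂)) := by
    intro Ω₁ _ _ s₁ Ω₂ _ _ s₂ hab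
    obtain ⟨φ, -⟩ := exists_point_hom_of_specializes s₂ s₁ hab
    haveI : ∀ n : ℕᵒᵖ, IsIso ((Functor.whiskerLeft F
        (GrothendieckTopology.Point.Hom.sheafFiber (A := ModuleCat.{u + 1} Λ) φ)).app n) :=
      fun n => iso_of_ftlc (F.obj n) (hF n.unop) s₂ s₁ φ
    haveI : IsIso (Functor.whiskerLeft F
        (GrothendieckTopology.Point.Hom.sheafFiber (A := ModuleCat.{u + 1} Λ) φ)) :=
      NatIso.isIso_of_isIso_app _
    exact ⟨(asIso (Functor.whiskerLeft F
        (GrothendieckTopology.Point.Hom.sheafFiber (A := ModuleCat.{u + 1} Λ) φ))).symm⟩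
  have key : ∀ x y : X, Relation.EqvGen (fun a b : X => a ⤳ b) x y →
      ∀ (Ω₁ : Type u) [Field Ω₁] [IsSepClosed Ω₁] (s₁ : Spec (CommRingCat.of Ω₁) ⟶ X)
        (Ω₂ : Type u) [Field Ω₂] [IsSepClosed Ω₂] (s₂ : Spec (CommRingCat.of Ω₂) ⟶ X),
        s₁.base default = x → s₂.base default = y →
        Nonempty ((F ⋙ EtModW.stalk Λ s₁) ≅ (F ⋙ EtModW.stalk Λ s₂)) := by
    intro x y hxy
    induction hxy with
    | rel a b hab =>
      intro Ω₁ _ _ s₁ Ω₂ _ _ s₂ h1 h2
      exact step Ω₁ s₁ Ω₂ s₂ (by rw [h1, h2]; exact hab)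
    | refl a =>
      intro Ω₁ _ _ s₁ Ω₂ _ _ s₂ h1 h2
      exact step Ω₁ s₁ Ω₂ s₂ (by rw [h1, h2])
    | symm a b _ ih =>
      intro Ω₁ _ _ s₁ Ω₂ _ _ s₂ h1 h2
      obtain ⟨e⟩ := ih Ω₂ s₂ Ω₁ s₁ h2 h1
      exact ⟨e.symm⟩
    | trans a b c _ _ ih1 ih2 =>
      intro Ω₁ _ _ s₁ Ω₂ _ _ s₂ h1 h2
      obtain ⟨Ω₃, iF, iS, s₃, hr⟩ := Helper15.LcStruct.exists_geomPt b
      have hb := Helper15.LcStruct.base_default_of_range s₃ hr
      obtain ⟨e1⟩ := ih1 Ω₁ s₁ Ω₃ s₃ h1 hb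
      obtain ⟨e2⟩ := ih2 Ω₃ s₃ Ω₂ s₂ hb h2
      exact ⟨e1 ≪≫ e2⟩
  exact key _ _ (eqvGen_specializes _ _) Ω s Ω' s' rfl rfl

end Helper15.SpecMod
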