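import Mathlib
import Groth.Prelude.Def_EtMod2
import Groth.Prelude.Def_ARSys
import Groth.Agent.Lib.Helper15.ARFun
import Groth.Agent.Lib.Helper15.ConstrModD
import Groth.Agent.Lib.Helper15.RpushCompMod
import Groth.Agent.Lib.Helper15.SpecMod
import Groth.Agent.Lib.Helper15.SubConst2
import Groth.Agent.Lib.Helper15.AdicLimit
import Groth.Agent.Lib.Helper13.StalkPull
import Groth.Agent.Lib.Helper13.StalkConservative

/-!
# Helper15: AR-adic systems of étale sheaves of modules: pullbacks, stalks, nullity via stalks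
(S13613, S13614, S13620)
-/

set_option autoImplicit false
set_option backward.isDefEq.respectTransparency false

universe u

open CategoryTheory CategoryTheory.Limits AlgebraicGeometry Opposite Topology

namespace Helper15.AREt

open ARSys Helper15.ARFun Helper15.ConstrMod Helper15.LcMod Helper15.SpecMod

variable {Λ : Type (u+1)} [CommRing Λ]

section Pull

variable {X Y : Scheme.{u}} (f : X ⟶ Y)

instance push_linear : (EtModW.push Λ f).Linear Λ where
  map_smul φ a := rfl

theorem left_adjoint_map_smul {A B : Type*} [Category A] [Category B] [Preadditive A]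
    [Preadditive B] [Linear Λ A] [Linear Λ B] {L : A ⥤ B} {R : B ⥤ A} (adj : L ⊣ R)
    [R.Additive] [R.Linear Λ] {P Q : A} (r : Λ) (g : P ⟶ Q) :
    L.map (r • g) = r • L.map g := by
  apply (adj.homEquiv P (L.obj Q)).injective
  rw [adj.homEquiv_unit, adj.homEquiv_unit, adj.unit_naturality, Functor.map_smul,
    Linear.comp_smul, adj.unit_naturality, Linear.smul_comp]

instance pull_linear : (EtModW.pull Λ f).Linear Λ where
  map_smul φ a := left_adjoint_map_smul (pullPushAdjM f) a φ

end Pull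

theorem S13614
    (Λ : Type (u + 1)) [CommRing Λ] [IsNoetherianRing Λ] (I : Ideal Λ)
    {X X' : Scheme.{u}} [IsNoetherian X] [IsNoetherian X'] (f : X' ⟶ X)
    (F : ARSys.PS (EtModW.Mod Λ X)) (hc : ∀ n : ℕ, EtModW.IsConstructible Λ (F.obj (op n)))
    (hF : (ARSys.TermKilled I F ∧ ∃ (Y : ARSys.PS (EtModW.Mod Λ X)) (v : Y ⟶ F), ARSys.IsAdic I Y ∧ (∀ n : ℕ, EtModW.IsConstructible Λ (Y.obj (op n))) ∧ ARSys.IsARIso v)) :
    (ARSys.TermKilled I (F ⋙ EtModW.pull Λ f) ∧ ∃ (Y : ARSys.PS (EtModW.Mod Λ X')) (v : Y ⟶ (F ⋙ EtModW.pull Λ f)), ARSys.IsAdic I Y ∧ (∀ n : ℕ, EtModW.IsConstructible Λ (Y.obj (op n))) ∧ ARSys.IsARIso v) :=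
  arAdic_comp (EtModW.pull Λ f) I F (EtModW.IsConstructible Λ) (EtModW.IsConstructible Λ)
    (fun G hG => pull_constructible f G hG) hF

end Helper15.AREt
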