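import Mathlib
import Groth.Agent.Lib.Helper15.AREt

/-!
# Helper15: stalks of AR-adic systems of étale sheaves of modules (S13613, S13620)
-/

set_option autoImplicit false
set_option backward.isDefEq.respectTransparency false

universe u

open CategoryTheory CategoryTheory.Limits AlgebraicGeometry Opposite Topology

namespace Helper15.AREt

open ARSys Helper15.ARFun Helper15.ConstrMod Helper15.LcMod Helper15.SpecMod

variable {Λ : Type (u+1)} [CommRing Λ]

section Stalk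

variable {X : Scheme.{u}} {Ω : Type u} [Field Ω] [IsSepClosed Ω]
  (ξ : Spec (CommRingCat.of Ω) ⟶ X)

noncomputable instance ab5Mod : AB5OfSize.{u, u} (ModuleCat.{u + 1} Λ) :=
  AB5OfSize_of_univLE.{u, u, _, u + 1, u + 1} (ModuleCat.{u + 1} Λ)

instance hasProductsMod : HasProducts.{u} (ModuleCat.{u+1} Λ) := fun _ =>
  haveI : HasLimitsOfSize.{u, u} (ModuleCat.{u+1} Λ) := ModuleCat.hasLimitsOfSize.{u, u, u+1}
  inferInstance

instance stalk_preservesFiniteLimits : PreservesFiniteLimits (EtModW.stalk Λ ξ) :=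
  inferInstance

instance stalk_preservesFiniteColimits : PreservesFiniteColimits (EtModW.stalk Λ ξ) :=
  inferInstance

instance stalk_additive : (EtModW.stalk Λ ξ).Additive :=
  Functor.additive_of_preserves_binary_products _

instance stalk_linear : (EtModW.stalk Λ ξ).Linear Λ where
  map_smul {P Q} φ a := by
    apply (Scheme.pointSmallEtale ξ).presheafFiber_hom_ext
    intro U x
    have h1 := (Scheme.pointSmallEtale ξ).toPresheafFiber_naturality (a • φ).hom U x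
    have h2 := (Scheme.pointSmallEtale ξ).toPresheafFiber_naturality φ.hom U x
    show (Scheme.pointSmallEtale ξ).toPresheafFiber U x P.obj ≫
        (Scheme.pointSmallEtale ξ).presheafFiber.map (a • φ).hom =
      (Scheme.pointSmallEtale ξ).toPresheafFiber U x P.obj ≫
        (a • (Scheme.pointSmallEtale ξ).presheafFiber.map φ.hom)
    rw [h1, Linear.comp_smul, h2]
    exact Linear.smul_comp _ _ _ a (φ.hom.app (op U)) _

end Stalk

section StalkPull

open Groth.Agent.Lib.Helper13.StalkPull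

/-- The stalk of the inverse image at `ξ` is the stalk at `ξ ≫ f` (sheaves of modules). -/
noncomputable def stalkPullIsoM {X Y : Scheme.{u}} (f : X ⟶ Y)
    {Ω : Type u} [Field Ω] [IsSepClosed Ω] (ξ : Spec (CommRingCat.of Ω) ⟶ X) :
    EtModW.pull Λ f ⋙ EtModW.stalk Λ ξ ≅ EtModW.stalk Λ (ξ ≫ f) := by
  let Φ := Scheme.pointSmallEtale ξ
  let Ψ := Scheme.pointSmallEtale (ξ ≫ f)
  let α := fiberIso f ξ
  have hsmall : InitiallySmall.{u} (EtCoh.bc f ⋙ Φ.fiber).Elements :=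
    initiallySmall_of_initial_of_initiallySmall (elementsEquivOfIso α).inverse
  let Φ' : Y.smallEtaleTopology.Point := Φ.comap (EtCoh.bc f) (EtCoh.coverPreserving_bc f)
  let e : Φ' ≅ Ψ := ⟨⟨α.inv⟩, ⟨α.hom⟩, by ext1; exact α.hom_inv_id, by ext1; exact α.inv_hom_id⟩
  let e2 : Ψ.sheafFiber (A := ModuleCat.{u+1} Λ) ≅ Φ'.sheafFiber :=
    ⟨e.hom.sheafFiber, e.inv.sheafFiber,
      by rw [← GrothendieckTopology.Point.Hom.sheafFiber_comp, e.inv_hom_id,
        GrothendieckTopology.Point.Hom.sheafFiber_id],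
      by rw [← GrothendieckTopology.Point.Hom.sheafFiber_comp, e.hom_inv_id,
        GrothendieckTopology.Point.Hom.sheafFiber_id]⟩
  let e3 := GrothendieckTopology.Point.sheafFiberComapIso Φ (EtCoh.bc f)
    (EtCoh.coverPreserving_bc f) (ModuleCat.{u+1} Λ)
  exact e3.symm ≪≫ e2.symm

end StalkPull

section Finite

theorem finite_stalk_of_ftlc {T : Scheme.{u}} (F : EtModW.Mod Λ T)
    (hF : EtModW.IsFTLocConst Λ F)
    {Ω : Type u} [Field Ω] [IsSepClosed Ω] (ζ : Spec (CommRingCat.of Ω) ⟶ T) :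
    Module.Finite Λ ((EtModW.stalk Λ ζ).obj F) := by
  obtain ⟨ι₁, U, hU, hc⟩ := hF
  obtain ⟨j, y, hy⟩ := hU (ζ.base default)
  obtain ⟨M, iM, mM, fM, ⟨a⟩⟩ := hc j
  have a' : F.over (U j) ≅ (cst T (ModuleCat.of Λ M)).over (U j) :=
    a ≪≫ ((kappa (U j)).app _).symm
  have kF := isConstVia_of_iso _ a'
  obtain ⟨w⟩ := Helper15.LcStruct.fiber_nonempty_of_mem_range ζ (U j) ⟨y, hy⟩
  have b2 := stalk_germ_surjective ζ F (U j) _ kF w
  exact Module.Finite.of_surjective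
    (((Scheme.pointSmallEtale ζ).toPresheafFiber (U j) w F.obj).hom.comp (csOf _ a')) b2

theorem finite_stalk_of_constructible {X : Scheme.{u}} (F : EtModW.Mod Λ X)
    (hF : EtModW.IsConstructible Λ F) {Ω : Type u} [Field Ω] [IsSepClosed Ω]
    (s : Spec (CommRingCat.of Ω) ⟶ X) : Module.Finite Λ ((EtModW.stalk Λ s).obj F) := by
  obtain ⟨V, hV, hxV, -⟩ :=
    exists_isAffineOpen_mem_and_subset (x := s.base default) (U := ⊤) trivial
  obtain ⟨n, T, g, h1, h2, h3, h4, h5⟩ := hF V hV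
  have hx : s.base default ∈ ⋃ i, Set.range (g i) := by rw [h4]; exact hxV
  obtain ⟨i, hi⟩ := Set.mem_iUnion.1 hx
  have := h1 i
  obtain ⟨ζ, hζ⟩ := Helper15.LcStruct.exists_factor_immersion (g i) s hi
  have hfin := finite_stalk_of_ftlc _ (h5 i) ζ
  have e : (EtModW.stalk Λ ζ).obj ((EtModW.pull Λ (g i)).obj F) ≅
      (EtModW.stalk Λ (ζ ≫ g i)).obj F := (stalkPullIsoM (Λ := Λ) (g i) ζ).app F
  subst hζ
  exact Module.Finite.equiv e.toLinearEquiv

end Finite

theorem S13613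
    (Λ : Type (u + 1)) [CommRing Λ] [IsNoetherianRing Λ] (I : Ideal Λ) (X : Scheme.{u})
    (F : ARSys.PS (EtModW.Mod Λ X))
    (hF : (ARSys.TermKilled I F ∧ ∃ (Y : ARSys.PS (EtModW.Mod Λ X)) (v : Y ⟶ F), ARSys.IsAdic I Y ∧ (∀ n : ℕ, EtModW.IsConstructible Λ (Y.obj (op n))) ∧ ARSys.IsARIso v))
    {Ω : Type u} [Field Ω] [IsSepClosed Ω] (s : Spec (CommRingCat.of Ω) ⟶ X) :
    (ARSys.TermKilled I (F ⋙ EtModW.stalk Λ s) ∧ ∃ (Y : ARSys.PS (ModuleCat.{u + 1} Λ)) (v : Y ⟶ F ⋙ EtModW.stalk Λ s), ARSys.IsAdic I Y ∧ (∀ n : ℕ, Module.Finite Λ (Y.obj (op n))) ∧ ARSys.IsARIso v) :=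
  arAdic_comp (EtModW.stalk Λ s) I F (EtModW.IsConstructible Λ)
    (fun M : ModuleCat.{u + 1} Λ => Module.Finite Λ M)
    (fun G hG => finite_stalk_of_constructible G hG s) hF

section Points

open Groth.Agent.Lib.Helper13.StalkConservative

theorem stalkMod_jointlyReflectIsomorphisms (X : Scheme.{u}) :
    JointlyReflectIsomorphisms (fun i : GeomPt X => EtModW.stalk Λ i.ξ) :=
  jointlyReflectIsomorphisms (A := ModuleCat.{u + 1} Λ) (detectsCovers_etale X)

theorem isZero_of_stalks {X : Scheme.{u}} (F : EtModW.Mod Λ X)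
    (h : ∀ (Ω : Type u) [Field Ω] [IsSepClosed Ω] (x : Spec (CommRingCat.of Ω) ⟶ X),
      IsZero ((EtModW.stalk Λ x).obj F)) : IsZero F :=
  (stalkMod_jointlyReflectIsomorphisms X).isZero_iff.2 (fun i => h i.Ω i.ξ)

end Points

section Lim

theorem isZero_limit_of_isARNull {D : Type*} [Category D] [HasZeroMorphisms D] (K : PS D)
    [HasLimit K] (h : IsARNull K) : IsZero (limit K) := by
  obtain ⟨r, hr⟩ := h
  rw [IsZero.iff_id_eq_zero]
  apply limit.hom_ext
  rintro ⟨n⟩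
  have h1 : limit.π K (op (n + r)) ≫ K.map (homOfLE (Nat.le_add_right n r)).op =
      limit.π K (op n) := limit.w K _
  have h2 : K.map (homOfLE (Nat.le_add_right n r)).op = 0 := hr n
  rw [Category.id_comp, zero_comp, ← h1, h2, comp_zero]

theorem isZero_obj_of_limit (K K' : ℕᵒᵖ ⥤ ModuleCat.{u+1} Λ) (φ : K ⟶ K')
    (hk : IsARNull (kernel φ))
    (hsurj : ∀ n : ℕ, Function.Surjective (K.map (homOfLE (Nat.le_succ n)).op))
    (hlim : IsZero (limit K')) (n : ℕ) : IsZero (K.obj (op n)) := by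
  suffices h : ∀ y : K.obj (op n), y = 0 from
    (ModuleCat.isZero_iff_subsingleton).2 ⟨fun a b => (h a).trans (h b).symm⟩
  intro y
  obtain ⟨z, hz, hzn⟩ := Groth.Agent.Lib.Helper15.AL.exists_compatible_family n
    (fun k => (K.obj (op k) : Type (u+1)))
    (fun k a => K.map (homOfLE (Nat.le_succ k)).op a) hsurj y
  obtain ⟨ζ, hζ⟩ : ∃ ζ : (Functor.const ℕᵒᵖ).obj (ModuleCat.of Λ Λ) ⟶ K,
      ∀ k : ℕ, ζ.app (op k) =
        ModuleCat.ofHom (LinearMap.toSpanSingleton Λ (K.obj (op k)) (z k)) := by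
    refine ⟨NatTrans.ofOpSequence
      (fun k => ModuleCat.ofHom (LinearMap.toSpanSingleton Λ (K.obj (op k)) (z k)))
      (fun k => ?_), fun k => rfl⟩
    apply ModuleCat.hom_ext
    apply LinearMap.ext_ring
    show (1 : Λ) • z k = K.map (homOfLE (Nat.le_add_right k 1)).op ((1 : Λ) • z (k + 1))
    rw [one_smul, one_smul]
    exact (hz k).symm
  have h0 : ζ ≫ φ = 0 := by
    apply NatTrans.ext
    funext j
    obtain ⟨k⟩ := j
    have hc : (⟨ModuleCat.of Λ Λ, ζ ≫ φ⟩ : Cone K').π.app (op k) =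
        limit.lift K' ⟨ModuleCat.of Λ Λ, ζ ≫ φ⟩ ≫ limit.π K' (op k) :=
      (limit.lift_π _ _).symm
    have hl : limit.lift K' ⟨ModuleCat.of Λ Λ, ζ ≫ φ⟩ = 0 := hlim.eq_of_tgt _ _
    rw [hl, zero_comp] at hc
    exact hc
  obtain ⟨r, hr⟩ := hk
  have hκ : kernel.lift φ ζ h0 ≫ kernel.ι φ = ζ := kernel.lift_ι φ ζ h0
  have hnat := (kernel.lift φ ζ h0).naturality (homOfLE (Nat.le_add_right n r)).op
  have h2 : (kernel φ).map (homOfLE (Nat.le_add_right n r)).op = 0 := hr n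
  rw [h2, comp_zero] at hnat
  have h3 : (kernel.lift φ ζ h0).app (op n) = 0 :=
    (Category.id_comp _).symm.trans hnat
  have h4 : ζ.app (op n) = 0 := by
    rw [← hκ, NatTrans.comp_app, h3, zero_comp]
  have h5 : ModuleCat.ofHom (LinearMap.toSpanSingleton Λ (K.obj (op n)) (z n)) = 0 :=
    (hζ n).symm.trans h4
  have h6 := congrArg (fun m : ModuleCat.of Λ Λ ⟶ K.obj (op n) => m.hom (1 : Λ)) h5
  have h7 : (1 : Λ) • z n = 0 := h6
  rw [one_smul] at h7
  rw [← hzn]
  exact h7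

end Lim

theorem S13620
    (Λ : Type (u + 1)) [CommRing Λ] [IsNoetherianRing Λ] (I : Ideal Λ)
    {X : Scheme.{u}} [IsNoetherian X]
    (F : ARSys.PS (EtModW.Mod Λ X))
    (hF : (ARSys.TermKilled I F ∧ ∃ (Y : ARSys.PS (EtModW.Mod Λ X)) (v : Y ⟶ F), ARSys.IsAdic I Y ∧ (∀ n : ℕ, EtModW.IsConstructible Λ (Y.obj (op n))) ∧ ARSys.IsARIso v)) :
    ARSys.IsARNull F ↔
      ∀ (Ω : Type u) [Field Ω] [IsSepClosed Ω] (x : Spec (CommRingCat.of Ω) ⟶ X),
        IsZero (limit (F ⋙ EtModW.stalk Λ x)) := by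
  constructor
  · intro h Ω _ _ x
    exact isZero_limit_of_isARNull _ (isARNull_comp (EtModW.stalk Λ x) h)
  · intro H
    obtain ⟨-, Y, v, hY, -, hv⟩ := hF
    have hYz : ∀ n : ℕ, IsZero (Y.obj (op n)) := by
      intro n
      apply isZero_of_stalks
      intro Ω _ _ x
      have hv' := isARIso_whisker (EtModW.stalk Λ x) v hv
      refine isZero_obj_of_limit (Y ⋙ EtModW.stalk Λ x) (F ⋙ EtModW.stalk Λ x)
        (Functor.whiskerRight v (EtModW.stalk Λ x)) hv'.1 (fun k => ?_) (H Ω x) n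
      have h1 : Epi (tr Y (Nat.le_succ k)) := isQuot_epi (hY.2 k (k + 1) (Nat.le_succ k))
      have h2 : Epi ((EtModW.stalk Λ x).map (tr Y (Nat.le_succ k))) := inferInstance
      exact (ModuleCat.epi_iff_surjective _).1 h2
    have hY0 : IsZero Y := (Functor.isZero_iff Y).2 (fun j => by obtain ⟨n⟩ := j; exact hYz n)
    obtain rfl : v = 0 := hY0.eq_of_src _ _
    exact isARNull_of_iso (asIso (cokernel.π (0 : Y ⟶ F))).symm hv.2

end Helper15.AREt
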