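import Mathlib

/-!
# Helper15: the Artin–Schreier covering `A[T]/(T^p - T - a)` of a ring `A` with `p = 0`

It is standard etale, free of rank `p` (hence surjective on spectra), and `a = t^p - t` there.
-/

set_option autoImplicit false
universe u

open Polynomial

namespace Groth.Agent.Lib.Helper15.ASRing

variable {A : Type u} [CommRing A] (a : A) (p : ℕ)

/-- The polynomial `T^p - T - a`. -/
noncomputable abbrev poly : A[X] := X ^ p - X - C a

/-- The Artin–Schreier algebra `A[T]/(T^p - T - a)`. -/
abbrev B := AdjoinRoot (poly a p)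

lemma monic (hp : 2 ≤ p) : (poly a p).Monic := by
  obtain ⟨m, rfl⟩ : ∃ m, p = m + 1 + 1 := ⟨p - 2, by omega⟩
  have h : poly a (m + 1 + 1) = X ^ (m + 1 + 1) - (X + C a) := by
    simp only [poly, sub_sub]
  rw [h]
  apply Polynomial.monic_X_pow_sub
  refine lt_of_le_of_lt ((degree_add_le _ _).trans (max_le (degree_X_le (R := A))
    ((degree_C_le (a := a)).trans zero_le_one))) ?_
  exact_mod_cast (by omega : 1 < m + 1 + 1)

lemma root_pow : (AdjoinRoot.root (poly a p)) ^ p - AdjoinRoot.root (poly a p) =
    algebraMap A (B a p) a := by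
  have h := AdjoinRoot.eval₂_root (poly a p)
  simp only [poly, eval₂_sub, eval₂_X_pow, eval₂_X, eval₂_C, sub_eq_zero] at h
  exact h

lemma natDegree_pos [Nontrivial A] (hp : 2 ≤ p) : 0 < (poly a p).natDegree := by
  by_contra h0
  have h2 : (poly a p).natDegree = 0 := by omega
  have h3 : poly a p = 1 := (monic a p hp).natDegree_eq_zero.mp h2
  have hc : (poly a p).coeff p = 1 := by
    simp only [poly, coeff_sub, coeff_X_pow, coeff_X, coeff_C]
    have hp1 : (1 : ℕ) ≠ p := by omega
    have hp0 : p ≠ 0 := by omega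
    simp [hp1, hp0]
  rw [h3, coeff_one] at hc
  have hp0 : p ≠ 0 := by omega
  simp [hp0] at hc

lemma nontrivial_B [Nontrivial A] (hp : 2 ≤ p) : Nontrivial (B a p) := by
  let pb := AdjoinRoot.powerBasis' (monic a p hp)
  have hdim : 0 < pb.dim := by
    have h1 : pb.dim = (poly a p).natDegree := AdjoinRoot.powerBasis'_dim _
    rw [h1]
    exact natDegree_pos a p hp
  haveI : Nonempty (Fin pb.dim) := ⟨⟨0, hdim⟩⟩
  exact pb.basis.equivFun.symm.injective.nontrivial

lemma comap_surjective (hp : 2 ≤ p) :
    Function.Surjective (PrimeSpectrum.comap (algebraMap A (B a p))) := by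
  intro q
  haveI : Nontrivial A := q.nontrivial
  haveI := nontrivial_B a p hp
  haveI : Module.Free A (B a p) := (monic a p hp).free_adjoinRoot
  exact PrimeSpectrum.comap_surjective_of_faithfullyFlat q

/-- The standard etale pair `(T^p - T - a, 1)`. -/
noncomputable def pair (hp : 2 ≤ p) (h0 : (p : A) = 0) : StandardEtalePair A where
  f := poly a p
  monic_f := monic a p hp
  g := 1
  cond := by
    refine ⟨-1, 0, 1, ?_⟩
    simp only [poly, derivative_sub, derivative_X_pow, derivative_X, derivative_C, sub_zero]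
    rw [h0, C_0, zero_mul]
    simp

/-- The Artin–Schreier algebra is the standard etale algebra of the pair. -/
noncomputable def equiv (hp : 2 ≤ p) (h0 : (p : A) = 0) :
    (pair a p hp h0).Ring ≃ₐ[A] B a p :=
  AlgEquiv.ofAlgHom
    ((pair a p hp h0).lift (AdjoinRoot.root (poly a p))
      ⟨by show aeval _ (poly a p) = 0; rw [AdjoinRoot.aeval_eq, AdjoinRoot.mk_self],
       by show IsUnit (aeval _ (1 : A[X])); simp⟩)
    (AdjoinRoot.liftAlgHom (poly a p) (Algebra.ofId A _) (pair a p hp h0).X (by
      have h := (StandardEtalePair.hasMap_X (P := pair a p hp h0)).1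
      rw [aeval_def] at h
      exact h))
    (by
      apply AdjoinRoot.algHom_ext
      simp [AdjoinRoot.liftAlgHom_root])
    (by
      apply StandardEtalePair.hom_ext
      simp [AdjoinRoot.liftAlgHom_root])

lemma etale (hp : 2 ≤ p) (h0 : (p : A) = 0) : Algebra.Etale A (B a p) :=
  Algebra.Etale.of_equiv (equiv a p hp h0)

end Groth.Agent.Lib.Helper15.ASRing
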