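import Mathlib
set_option autoImplicit false
set_option backward.isDefEq.respectTransparency false
universe u v
open CategoryTheory CategoryTheory.Limits Opposite

namespace Groth.Agent.Lib.Helper15.AbPullExact

section
variable {𝒞 : Type u} [Category.{v} 𝒞] [Preadditive 𝒞] [HasFiniteBiproducts 𝒞]

lemma exists_lift_natTrans (F₁ F₂ : 𝒞 ⥤ AddCommGrpCat.{v}) [PreservesFiniteLimits F₁]
    [PreservesFiniteLimits F₂]
    (θ : F₁ ⋙ forget AddCommGrpCat ⟶ F₂ ⋙ forget AddCommGrpCat) :
    ∃ θ' : F₁ ⟶ F₂, Functor.whiskerRight θ' (forget AddCommGrpCat) = θ := by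
  obtain ⟨τ, hτ⟩ := (AddCommGrpCat.leftExactFunctorForgetEquivalence 𝒞).functor.map_surjective
    (X := (⟨F₁, (inferInstance : PreservesFiniteLimits F₁)⟩ : 𝒞 ⥤ₗ AddCommGrpCat.{v}))
    (Y := (⟨F₂, (inferInstance : PreservesFiniteLimits F₂)⟩ : 𝒞 ⥤ₗ AddCommGrpCat.{v}))
    (ObjectProperty.homMk θ)
  exact ⟨τ.hom, congrArg (·.hom) hτ⟩

noncomputable def liftFam {I : Type*} [Category I] (Φ : I ⥤ 𝒞 ⥤ Type v)
    (hΦ : ∀ i, PreservesFiniteLimits (Φ.obj i)) : I ⥤ 𝒞 ⥤ AddCommGrpCat.{v} :=
  ObjectProperty.lift (leftExactFunctor 𝒞 (Type v)) Φ hΦ ⋙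
    (AddCommGrpCat.leftExactFunctorForgetEquivalence 𝒞).inverse ⋙ LeftExactFunctor.forget _ _

lemma liftFam_preserves {I : Type*} [Category I] (Φ : I ⥤ 𝒞 ⥤ Type v)
    (hΦ : ∀ i, PreservesFiniteLimits (Φ.obj i)) (i : I) :
    PreservesFiniteLimits ((liftFam Φ hΦ).obj i) :=
  ((AddCommGrpCat.leftExactFunctorForgetEquivalence 𝒞).inverse.obj
    ⟨Φ.obj i, hΦ i⟩).property

lemma liftFam_forget {I : Type*} [Category I] (Φ : I ⥤ 𝒞 ⥤ Type v)
    (hΦ : ∀ i, PreservesFiniteLimits (Φ.obj i)) :
    liftFam Φ hΦ ⋙ (Functor.whiskeringRight 𝒞 _ _).obj (forget AddCommGrpCat) = Φ := rfl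
end

section
variable {C D : Type u} [SmallCategory C] [SmallCategory D]
  (J : GrothendieckTopology C) (K : GrothendieckTopology D) (u : D ⥤ C) [u.IsContinuous K J]

/-- forgetful functor on sheaves -/
noncomputable abbrev fgt {E : Type u} [SmallCategory E] (L : GrothendieckTopology E) :
    Sheaf L AddCommGrpCat.{u} ⥤ Sheaf L (Type u) :=
  sheafCompose L (forget AddCommGrpCat.{u})

instance {E : Type u} [SmallCategory E] (L : GrothendieckTopology E) :
    PreservesLimitsOfSize.{u, u} (fgt L) :=
  (Sheaf.adjunction L AddCommGrpCat.adj.{u}).rightAdjoint_preservesLimits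

instance {E : Type u} [SmallCategory E] (L : GrothendieckTopology E) :
    HasFiniteBiproducts (Sheaf L AddCommGrpCat.{u}) :=
  HasFiniteBiproducts.of_hasFiniteProducts

/-- the family of set-valued functors -/
noncomputable def Phi : Cᵒᵖ ⥤ Sheaf K AddCommGrpCat.{u} ⥤ Type u :=
  (fgt K ⋙ u.sheafPullback (Type u) K J ⋙ sheafToPresheaf J (Type u)).flip

lemma Phi_preserves (hu : PreservesFiniteLimits (u.sheafPullback (Type u) K J)) (U : Cᵒᵖ) :
    PreservesFiniteLimits ((Phi J K u).obj U) := by
  have : PreservesFiniteLimits ((fgt K ⋙ u.sheafPullback (Type u) K J ⋙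
      sheafToPresheaf J (Type u)) ⋙ (evaluation Cᵒᵖ (Type u)).obj U) := inferInstance
  exact this
end

section
variable {C D : Type u} [SmallCategory C] [SmallCategory D]
  (J : GrothendieckTopology C) (K : GrothendieckTopology D) (u : D ⥤ C) [u.IsContinuous K J]
  (hu : PreservesFiniteLimits (u.sheafPullback (Type u) K J))

/-- the lifted family -/
noncomputable def PsiPre : Cᵒᵖ ⥤ Sheaf K AddCommGrpCat.{u} ⥤ AddCommGrpCat.{u} :=
  liftFam (Phi J K u) (Phi_preserves J K u hu)

/-- presheaf-valued lift -/
noncomputable def Psi' : Sheaf K AddCommGrpCat.{u} ⥤ Cᵒᵖ ⥤ AddCommGrpCat.{u} :=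
  (PsiPre J K u hu).flip

lemma Psi'_forget (G : Sheaf K AddCommGrpCat.{u}) :
    (Psi' J K u hu).obj G ⋙ forget AddCommGrpCat.{u} =
      ((u.sheafPullback (Type u) K J).obj ((fgt K).obj G)).obj := rfl

lemma Psi'_isSheaf (G : Sheaf K AddCommGrpCat.{u}) :
    Presheaf.IsSheaf J ((Psi' J K u hu).obj G) := by
  rw [Presheaf.isSheaf_iff_isSheaf_forget J _ (forget AddCommGrpCat.{u}), Psi'_forget]
  exact ((u.sheafPullback (Type u) K J).obj ((fgt K).obj G)).property

/-- the candidate left adjoint on abelian sheaves -/
noncomputable def Psi : Sheaf K AddCommGrpCat.{u} ⥤ Sheaf J AddCommGrpCat.{u} :=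
  ObjectProperty.lift _ (Psi' J K u hu) (Psi'_isSheaf J K u hu)

lemma E1 (G : Sheaf K AddCommGrpCat.{u}) :
    (fgt J).obj ((Psi J K u hu).obj G) = (u.sheafPullback (Type u) K J).obj ((fgt K).obj G) := rfl

lemma E2 {G G' : Sheaf K AddCommGrpCat.{u}} (g : G ⟶ G') :
    (fgt J).map ((Psi J K u hu).map g) = (u.sheafPullback (Type u) K J).map ((fgt K).map g) := rfl

lemma E5 {H H' : Sheaf J AddCommGrpCat.{u}} (h : H ⟶ H') :
    (fgt K).map ((u.sheafPushforwardContinuous AddCommGrpCat.{u} K J).map h) =
      (u.sheafPushforwardContinuous (Type u) K J).map ((fgt J).map h) := rfl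

lemma E5' (H : Sheaf J AddCommGrpCat.{u}) :
    (fgt K).obj ((u.sheafPushforwardContinuous AddCommGrpCat.{u} K J).obj H) =
      (u.sheafPushforwardContinuous (Type u) K J).obj ((fgt J).obj H) := rfl
end

section
variable {C D : Type u} [SmallCategory C] [SmallCategory D]
  (J : GrothendieckTopology C) (K : GrothendieckTopology D) (u : D ⥤ C) [u.IsContinuous K J]
  (hu : PreservesFiniteLimits (u.sheafPullback (Type u) K J))

noncomputable abbrev PS := u.sheafPullback (Type u) K J
noncomputable abbrev RS := u.sheafPushforwardContinuous (Type u) K J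
noncomputable abbrev RA := u.sheafPushforwardContinuous AddCommGrpCat.{u} K J
noncomputable abbrev adjS : PS J K u ⊣ RS J K u := u.sheafAdjunctionContinuous (Type u) K J

instance {E : Type u} [SmallCategory E] (L : GrothendieckTopology E) : (fgt L).Faithful where
  map_injective {X Y} a b h := by
    apply Sheaf.hom_ext
    ext V : 2
    apply (forget AddCommGrpCat.{u}).map_injective
    exact congr_app (congrArg (·.hom) h) V

lemma sections_preserves {E : Type u} [SmallCategory E] (L : GrothendieckTopology E) (V : Eᵒᵖ) :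
    PreservesFiniteLimits ((sheafSections L AddCommGrpCat.{u}).obj V) := by
  have : PreservesFiniteLimits (sheafToPresheaf L AddCommGrpCat.{u} ⋙
      (evaluation Eᵒᵖ AddCommGrpCat.{u}).obj V) := inferInstance
  exact this

lemma unit_lift (G : Sheaf K AddCommGrpCat.{u}) (V : Dᵒᵖ) :
    ∃ φ : G.obj.obj V ⟶ ((Psi J K u hu).obj G).obj.obj (u.op.obj V),
      (forget AddCommGrpCat.{u}).map φ = ((adjS J K u).unit.app ((fgt K).obj G)).hom.app V := by
  have : PreservesFiniteLimits ((PsiPre J K u hu).obj (u.op.obj V)) :=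
    liftFam_preserves _ _ _
  have := sections_preserves K V
  obtain ⟨θ', hθ'⟩ := exists_lift_natTrans ((sheafSections K AddCommGrpCat.{u}).obj V)
    ((PsiPre J K u hu).obj (u.op.obj V))
    { app := fun G' => ((adjS J K u).unit.app ((fgt K).obj G')).hom.app V
      naturality := fun G₁ G₂ g => congr_app (congrArg (·.hom)
        ((adjS J K u).unit.naturality ((fgt K).map g))) V }
  exact ⟨θ'.app G, congr_app hθ' G⟩

lemma RA_preserves : PreservesFiniteLimits (RA J K u) := by
  have := (u.sheafAdjunctionContinuous AddCommGrpCat.{u} K J).rightAdjoint_preservesLimits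
  infer_instance

lemma counit_lift (H : Sheaf J AddCommGrpCat.{u}) (U : Cᵒᵖ) :
    ∃ φ : ((Psi J K u hu).obj ((RA J K u).obj H)).obj.obj U ⟶ H.obj.obj U,
      (forget AddCommGrpCat.{u}).map φ =
        ((adjS J K u).counit.app ((fgt J).obj H)).hom.app U := by
  have : PreservesFiniteLimits ((PsiPre J K u hu).obj U) := liftFam_preserves _ _ _
  have := RA_preserves J K u
  have := sections_preserves J U
  obtain ⟨θ', hθ'⟩ := exists_lift_natTrans (RA J K u ⋙ (PsiPre J K u hu).obj U)
    ((sheafSections J AddCommGrpCat.{u}).obj U)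
    { app := fun H' => ((adjS J K u).counit.app ((fgt J).obj H')).hom.app U
      naturality := fun H₁ H₂ h => congr_app (congrArg (·.hom)
        ((adjS J K u).counit.naturality ((fgt J).map h))) U }
  exact ⟨θ'.app H, congr_app hθ' H⟩
end

section
variable {C D : Type u} [SmallCategory C] [SmallCategory D]
  (J : GrothendieckTopology C) (K : GrothendieckTopology D) (u : D ⥤ C) [u.IsContinuous K J]
  (hu : PreservesFiniteLimits (u.sheafPullback (Type u) K J))

noncomputable def unitApp (G : Sheaf K AddCommGrpCat.{u}) :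
    G ⟶ (RA J K u).obj ((Psi J K u hu).obj G) :=
  ObjectProperty.homMk
    { app := fun V => (unit_lift J K u hu G V).choose
      naturality := fun V V' f => by
        apply (forget AddCommGrpCat.{u}).map_injective
        have h1 := (unit_lift J K u hu G V).choose_spec
        have h2 := (unit_lift J K u hu G V').choose_spec
        have h3 := ((adjS J K u).unit.app ((fgt K).obj G)).hom.naturality f
        rw [Functor.map_comp, Functor.map_comp]
        exact (congrArg (fun t => (forget AddCommGrpCat.{u}).map (G.obj.map f) ≫ t) h2).trans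
          (h3.trans (congrArg (fun t => t ≫ ((PS J K u ⋙ RS J K u).obj
            ((fgt K).obj G)).obj.map f) h1.symm)) }

lemma E3 (G : Sheaf K AddCommGrpCat.{u}) :
    (fgt K).map (unitApp J K u hu G) = (adjS J K u).unit.app ((fgt K).obj G) := by
  apply Sheaf.hom_ext
  ext V : 2
  exact (unit_lift J K u hu G V).choose_spec

noncomputable def unitNT : 𝟭 (Sheaf K AddCommGrpCat.{u}) ⟶ Psi J K u hu ⋙ RA J K u where
  app G := unitApp J K u hu G
  naturality G G' g := by
    apply (fgt K).map_injective
    have h := (adjS J K u).unit.naturality ((fgt K).map g)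
    have e1 := E3 J K u hu G
    have e2 := E3 J K u hu G'
    rw [Functor.map_comp, Functor.map_comp]
    exact (congrArg (fun t => (fgt K).map g ≫ t) e2).trans
      (h.trans (congrArg (fun t => t ≫ (PS J K u ⋙ RS J K u).map ((fgt K).map g)) e1.symm))

noncomputable def counitApp (H : Sheaf J AddCommGrpCat.{u}) :
    (Psi J K u hu).obj ((RA J K u).obj H) ⟶ H :=
  ObjectProperty.homMk
    { app := fun U => (counit_lift J K u hu H U).choose
      naturality := fun U U' f => by
        apply (forget AddCommGrpCat.{u}).map_injective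
        have h1 := (counit_lift J K u hu H U).choose_spec
        have h2 := (counit_lift J K u hu H U').choose_spec
        have h3 := ((adjS J K u).counit.app ((fgt J).obj H)).hom.naturality f
        rw [Functor.map_comp, Functor.map_comp]
        exact (congrArg (fun t => ((RS J K u ⋙ PS J K u).obj ((fgt J).obj H)).obj.map f ≫ t)
          h2).trans (h3.trans (congrArg (fun t => t ≫
            (forget AddCommGrpCat.{u}).map (H.obj.map f)) h1.symm)) }

lemma E4 (H : Sheaf J AddCommGrpCat.{u}) :
    (fgt J).map (counitApp J K u hu H) = (adjS J K u).counit.app ((fgt J).obj H) := by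
  apply Sheaf.hom_ext
  ext U : 2
  exact (counit_lift J K u hu H U).choose_spec

noncomputable def counitNT : RA J K u ⋙ Psi J K u hu ⟶ 𝟭 (Sheaf J AddCommGrpCat.{u}) where
  app H := counitApp J K u hu H
  naturality H H' h := by
    apply (fgt J).map_injective
    have hn := (adjS J K u).counit.naturality ((fgt J).map h)
    have e1 := E4 J K u hu H
    have e2 := E4 J K u hu H'
    rw [Functor.map_comp, Functor.map_comp]
    exact (congrArg (fun t => (RS J K u ⋙ PS J K u).map ((fgt J).map h) ≫ t) e2).trans
      (hn.trans (congrArg (fun t => t ≫ (fgt J).map h) e1.symm))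

noncomputable def adjA : Psi J K u hu ⊣ RA J K u :=
  Adjunction.mkOfUnitCounit
    { unit := unitNT J K u hu
      counit := counitNT J K u hu
      left_triangle := by
        apply NatTrans.ext
        funext G
        show (Psi J K u hu).map (unitApp J K u hu G) ≫ 𝟙 _ ≫
          counitApp J K u hu ((Psi J K u hu).obj G) = 𝟙 _
        rw [Category.id_comp]
        apply (fgt J).map_injective
        have e3 := E3 J K u hu G
        have e4 := E4 J K u hu ((Psi J K u hu).obj G)
        have ht := (adjS J K u).left_triangle_components ((fgt K).obj G)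
        rw [Functor.map_comp, CategoryTheory.Functor.map_id]
        exact (congrArg (fun t => (PS J K u).map ((fgt K).map (unitApp J K u hu G)) ≫ t) e4).trans
          ((congrArg (fun t => (PS J K u).map t ≫
            (adjS J K u).counit.app ((PS J K u).obj ((fgt K).obj G))) e3).trans ht)
      right_triangle := by
        apply NatTrans.ext
        funext H
        show unitApp J K u hu ((RA J K u).obj H) ≫ 𝟙 _ ≫
          (RA J K u).map (counitApp J K u hu H) = 𝟙 _
        rw [Category.id_comp]
        apply (fgt K).map_injective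
        have e3 := E3 J K u hu ((RA J K u).obj H)
        have e4 := E4 J K u hu H
        have ht := (adjS J K u).right_triangle_components ((fgt J).obj H)
        rw [Functor.map_comp, CategoryTheory.Functor.map_id]
        exact (congrArg (fun t => t ≫ (RS J K u).map ((fgt J).map (counitApp J K u hu H))) e3).trans
          ((congrArg (fun t => (adjS J K u).unit.app ((RS J K u).obj ((fgt J).obj H)) ≫
            (RS J K u).map t) e4).trans ht) }

lemma Psi_preserves : PreservesFiniteLimits (Psi J K u hu) := by
  constructor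
  intro I _ _
  have h1 : PreservesLimitsOfShape I (Psi' J K u hu) := by
    apply preservesLimitsOfShape_of_evaluation
    intro U
    have := liftFam_preserves (Phi J K u) (Phi_preserves J K u hu) U
    have h2 : PreservesLimitsOfShape I ((liftFam (Phi J K u) (Phi_preserves J K u hu)).obj U) :=
      inferInstance
    exact h2
  have h3 : PreservesLimitsOfShape I (Psi J K u hu ⋙ sheafToPresheaf J AddCommGrpCat.{u}) := h1
  exact preservesLimitsOfShape_of_reflects_of_preserves (Psi J K u hu)
    (sheafToPresheaf J AddCommGrpCat.{u})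

include hu in
theorem main : PreservesFiniteLimits (u.sheafPullback AddCommGrpCat.{u} K J) := by
  have := Psi_preserves J K u hu
  exact preservesFiniteLimits_of_natIso
    ((adjA J K u hu).leftAdjointUniq (u.sheafAdjunctionContinuous AddCommGrpCat.{u} K J))
end

end Groth.Agent.Lib.Helper15.AbPullExact
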