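import Mathlib

/-!
# Sections of étale algebras over henselian local rings

* `exists_section_alg`: for `R` henselian local with residue field `k`, an étale `R`-algebra `S` and
  an `R`-algebra map `e' : S → k`, there is an `R`-algebra map `σ : S → R` lifting `e'`.
-/

set_option autoImplicit false
universe u

namespace Groth.Agent.Lib.Helper15.HenselSection

open IsLocalRing

lemma residue_eval {R : Type u} [CommRing R] [IsLocalRing R] (q : Polynomial R) (a : R) :
    residue R (q.eval a) = Polynomial.aeval (residue R a) q := by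
  rw [Polynomial.aeval_def, ResidueField.algebraMap_eq, Polynomial.eval₂_at_apply]

lemma isUnit_of_residue {R : Type u} [CommRing R] [IsLocalRing R] (a : R)
    (h : IsUnit (residue R a)) : IsUnit a :=
  (residue_ne_zero_iff_isUnit a).1 h.ne_zero

theorem exists_section_alg (R : Type u) [CommRing R] [HenselianLocalRing R] (S : Type u)
    [CommRing S] [Algebra R S] [Algebra.Etale R S] (e' : S →ₐ[R] ResidueField R) :
    ∃ σ : S →ₐ[R] R, ∀ x, residue R (σ x) = e' x := by
  classical
  haveI : (RingHom.ker e'.toRingHom).IsPrime := RingHom.ker_isPrime _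
  obtain ⟨h, hhQ, hstd⟩ :=
    Algebra.IsEtaleAt.exists_isStandardEtale (R := R) (RingHom.ker e'.toRingHom)
  have hh : e' h ≠ 0 := fun h0 => hhQ h0
  have hunit : ∀ y : Submonoid.powers h, IsUnit (e' y) := by
    rintro ⟨_, n, rfl⟩
    rw [map_pow]
    exact (IsUnit.mk0 _ hh).pow n
  obtain ⟨e'', he''⟩ : ∃ e'' : Localization.Away h →ₐ[R] ResidueField R,
      ∀ x, e'' (algebraMap S (Localization.Away h) x) = e' x :=
    ⟨IsLocalization.liftAlgHom (M := Submonoid.powers h) hunit,
      fun x => IsLocalization.lift_eq hunit x⟩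
  obtain ⟨P⟩ := hstd.nonempty_standardEtalePresentation
  have hmap₀ : P.P.HasMap (e'' P.x) := P.hasMap.map e''
  obtain ⟨a₀, ha₀⟩ := residue_surjective (e'' P.x)
  have h1 : P.f.eval a₀ ∈ maximalIdeal R := by
    rw [← residue_eq_zero_iff, residue_eval, ha₀]
    exact hmap₀.1
  have h2 : IsUnit (P.f.derivative.eval a₀) := by
    apply isUnit_of_residue
    rw [residue_eval, ha₀]
    exact hmap₀.isUnit_derivative_f
  obtain ⟨a, har, ham⟩ := HenselianLocalRing.is_henselian P.f P.monic_f a₀ h1 h2
  have hra : residue R a = e'' P.x := by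
    rw [← ha₀, ← sub_eq_zero, ← map_sub, residue_eq_zero_iff]
    exact ham
  have hmap : P.P.HasMap a := by
    constructor
    · rw [Polynomial.coe_aeval_eq_eval]
      exact har
    · rw [Polynomial.coe_aeval_eq_eval]
      apply isUnit_of_residue
      rw [residue_eval, hra]
      exact hmap₀.2
  obtain ⟨σ', hσ'⟩ : ∃ σ' : Localization.Away h →ₐ[R] R, σ' P.x = a :=
    ⟨(P.P.lift a hmap).comp P.equivRing.toAlgHom, by
      show P.P.lift a hmap (P.equivRing P.x) = a
      rw [P.equivRing_x, P.P.lift_X]⟩
  have hcomp : (Algebra.ofId R (ResidueField R)).comp σ' = e'' := by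
    apply P.hom_ext
    show algebraMap R (ResidueField R) (σ' P.x) = e'' P.x
    rw [hσ', ResidueField.algebraMap_eq, hra]
  refine ⟨σ'.comp (IsScalarTower.toAlgHom R S (Localization.Away h)), fun x => ?_⟩
  have h3 := congrArg (fun f => f (algebraMap S (Localization.Away h) x)) hcomp
  exact h3.trans (he'' x)

end Groth.Agent.Lib.Helper15.HenselSection
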