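import Mathlib
import Groth.Agent.Lib.Helper8.WEField
import Groth.Agent.Lib.Helper1.WeaklyEtaleLib

/-!
# Lifting geometric points along weakly étale morphisms and pro-étale coverings

* `exists_algHom_ker_eq`: a prime of a weakly étale algebra over a separably closed field `k` is
  the kernel of a `k`-point.
* `exists_section`: a weakly étale `P ⟶ Spec k` has a section through any given point.
* `exists_lift`: geometric points lift along weakly étale morphisms, through any given point of the
  fibre.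
* `exists_lift_of_saturate`: geometric points lift to a member of any pro-étale covering sieve.
-/

set_option autoImplicit false
universe u

namespace Groth.Agent.Lib.Helper15.ProEtPoint

open CategoryTheory Limits AlgebraicGeometry Polynomial

theorem exists_algHom_ker_eq (k : Type u) [Field k] [IsSepClosed k] (B : Type u) [CommRing B]
    [Algebra k B] [Algebra.WeaklyEtale k B] (Q : Ideal B) [hQ : Q.IsPrime] :
    ∃ b : B →ₐ[k] k, RingHom.ker b.toRingHom = Q := by
  classical
  have hx : ∀ x : B, ∃ a : k, x - algebraMap k B a ∈ Q := by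
    intro x
    obtain ⟨P, hPsep, hP0⟩ := Groth.Agent.Lib.Helper8.WEField.isSepElem_of_weaklyEtale (K := k) x
    have hsplit : P.Splits := IsSepClosed.splits_of_separable P hPsep
    have hlc : P.leadingCoeff ≠ 0 := leadingCoeff_ne_zero.2 hPsep.ne_zero
    have h2 : (aeval x) ((P.roots.map (fun a => X - C a)).prod) =
        (P.roots.map (fun a => x - algebraMap k B a)).prod := by
      rw [map_multiset_prod, Multiset.map_map]
      refine congrArg Multiset.prod (Multiset.map_congr rfl fun a _ => ?_)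
      simp
    have h1 : algebraMap k B P.leadingCoeff *
        (P.roots.map (fun a => x - algebraMap k B a)).prod = 0 := by
      rw [← h2, ← aeval_C (R := k) x P.leadingCoeff, ← map_mul, ← hsplit.eq_prod_roots]
      exact hP0
    have h3 : algebraMap k B P.leadingCoeff *
        (P.roots.map (fun a => x - algebraMap k B a)).prod ∈ Q := by
      rw [h1]; exact Q.zero_mem
    rcases hQ.mem_or_mem h3 with h4 | h4
    · exfalso
      exact hQ.ne_top (Ideal.eq_top_of_isUnit_mem Q h4 ((IsUnit.mk0 _ hlc).map (algebraMap k B)))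
    · obtain ⟨y, hy, hyQ⟩ := (Ideal.IsPrime.multiset_prod_mem_iff_exists_mem hQ _).1 h4
      obtain ⟨a, -, rfl⟩ := Multiset.mem_map.1 hy
      exact ⟨a, hyQ⟩
  obtain ⟨φ, hφ⟩ : ∃ φ : k →+* B ⧸ Q, φ = (Ideal.Quotient.mk Q).comp (algebraMap k B) :=
    ⟨_, rfl⟩
  have hbij : Function.Bijective φ := by
    refine ⟨φ.injective, fun y => ?_⟩
    obtain ⟨x, rfl⟩ := Ideal.Quotient.mk_surjective y
    obtain ⟨a, ha⟩ := hx x
    refine ⟨a, ?_⟩
    rw [hφ, RingHom.comp_apply]
    exact (Ideal.Quotient.eq.2 ha).symm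
  obtain ⟨e, he⟩ : ∃ e : k ≃+* B ⧸ Q, ∀ a, e a = φ a :=
    ⟨RingEquiv.ofBijective φ hbij, fun a => rfl⟩
  refine ⟨{ ((e.symm : B ⧸ Q →+* k).comp (Ideal.Quotient.mk Q)) with
    commutes' := fun a => ?_ }, ?_⟩
  · show e.symm (Ideal.Quotient.mk Q (algebraMap k B a)) = a
    rw [RingEquiv.symm_apply_eq, he, hφ]
    rfl
  · ext x
    rw [RingHom.mem_ker]
    show e.symm (Ideal.Quotient.mk Q x) = 0 ↔ x ∈ Q
    rw [map_eq_zero_iff _ e.symm.injective, Ideal.Quotient.eq_zero_iff_mem]

set_option backward.isDefEq.respectTransparency.types false in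
theorem exists_section {k : Type u} [Field k] [IsSepClosed k] {P : Scheme.{u}}
    (π : P ⟶ Spec (CommRingCat.of k)) [WeaklyEtale π] (p : P) :
    ∃ s : Spec (CommRingCat.of k) ⟶ P, s ≫ π = 𝟙 _ ∧ s default = p := by
  obtain ⟨R, j, hj, ⟨p₀, hp₀⟩, -⟩ :=
    Scheme.exists_affine_mem_range_and_range_subset (x := p) (U := ⊤) (by simp)
  obtain ⟨φ, hφ⟩ := Spec.map_surjective (j ≫ π)
  haveI : WeaklyEtale (Spec.map φ) := by rw [hφ]; infer_instance
  letI : Algebra k R := φ.hom.toAlgebra
  haveI : Algebra.WeaklyEtale k R :=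
    Groth.Agent.Lib.Helper1.WeaklyEtale.algebra_weaklyEtale_of_SpecMap φ
  obtain ⟨b, hb⟩ := exists_algHom_ker_eq k R p₀.asIdeal
  have hφb : φ ≫ CommRingCat.ofHom b.toRingHom = 𝟙 _ := by
    ext a
    exact b.commutes a
  refine ⟨Spec.map (CommRingCat.ofHom b.toRingHom) ≫ j, ?_, ?_⟩
  · rw [Category.assoc, ← hφ, ← Spec.map_comp, hφb, Spec.map_id]
  · rw [Scheme.Hom.comp_apply, ← hp₀]
    congr 1
    apply PrimeSpectrum.ext
    rw [Spec.map_apply, PrimeSpectrum.comap_asIdeal, ← hb]
    have hbot : (default : Spec (CommRingCat.of k)).asIdeal = ⊥ :=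
      ((Ideal.eq_bot_or_top _).resolve_right (default : Spec (CommRingCat.of k)).isPrime.ne_top)
    rw [hbot]
    rfl

theorem exists_lift {k : Type u} [Field k] [IsSepClosed k] {V U : Scheme.{u}} (g : V ⟶ U)
    [WeaklyEtale g] (ξ : Spec (CommRingCat.of k) ⟶ U) (v : V) (hv : g v = ξ default) :
    ∃ l : Spec (CommRingCat.of k) ⟶ V, l ≫ g = ξ ∧ l default = v := by
  obtain ⟨p, hp1, hp2⟩ := Scheme.Pullback.exists_preimage_pullback (f := ξ) (g := g)
    default v hv.symm
  obtain ⟨s, hs1, hs2⟩ := exists_section (pullback.fst ξ g) p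
  refine ⟨s ≫ pullback.snd ξ g, ?_, ?_⟩
  · rw [Category.assoc, ← pullback.condition, ← Category.assoc, hs1, Category.id_comp]
  · rw [Scheme.Hom.comp_apply, hs2, hp2]

set_option backward.isDefEq.respectTransparency.types false in
/-- Geometric points lift to a member of any pro-étale covering sieve. -/
theorem exists_lift_of_saturate {X : Scheme.{u}} {k : Type u} [Field k] [IsSepClosed k]
    (U : X.ProEt) (R : Sieve U) (hR : (Scheme.ProEt.precoverage X).Saturate U R) :
    ∀ ξ : Spec (CommRingCat.of k) ⟶ U.left,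
      ∃ (V : X.ProEt) (g : V ⟶ U) (ξ' : Spec (CommRingCat.of k) ⟶ V.left),
        R g ∧ ξ' ≫ g.left = ξ := by
  induction hR with
  | of U S hS =>
    intro ξ
    obtain ⟨ι, Y, f, rfl⟩ := S.exists_eq_ofArrows
    have h2 : Presieve.ofArrows (fun i => (Y i).left) (fun i => (f i).left) ∈
        Scheme.precoverage @WeaklyEtale U.left := by
      have h3 := hS
      rw [Scheme.ProEt.precoverage, Precoverage.mem_comap_iff, Presieve.map_ofArrows] at h3
      exact h3.2
    rw [Scheme.ofArrows_mem_precoverage_iff] at h2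
    obtain ⟨hsurj, hwe⟩ := h2
    obtain ⟨i, v, hv⟩ := hsurj (ξ default)
    haveI := hwe i
    obtain ⟨l, hl, -⟩ := exists_lift (f i).left ξ v hv
    exact ⟨Y i, f i, l, ⟨_, 𝟙 _, f i, Presieve.ofArrows.mk i, Category.id_comp _⟩, hl⟩
  | top U =>
    intro ξ
    exact ⟨U, 𝟙 U, ξ, trivial, Category.comp_id _⟩
  | pullback U S hS W f ih =>
    intro ξ
    obtain ⟨V, g, ξ', hg, h1⟩ := ih (ξ ≫ f.left)
    haveI : WeaklyEtale g.left := by
      haveI : WeaklyEtale (g.left ≫ U.hom) := by
        rw [MorphismProperty.Over.w g]; infer_instance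
      exact WeaklyEtale.of_comp g.left U.hom
    obtain ⟨W', hW'⟩ : ∃ W' : X.ProEt, W' = Scheme.ProEt.mk (pullback.snd g.left f.left ≫ W.hom) :=
      ⟨_, rfl⟩
    subst hW'
    have hw : pullback.fst g.left f.left ≫ V.hom = pullback.snd g.left f.left ≫ W.hom := by
      rw [← MorphismProperty.Over.w g, ← MorphismProperty.Over.w f, ← Category.assoc,
        ← Category.assoc, pullback.condition]
    obtain ⟨a, ha⟩ : ∃ a : Scheme.ProEt.mk (pullback.snd g.left f.left ≫ W.hom) ⟶ W,
        a.left = pullback.snd g.left f.left :=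
      ⟨MorphismProperty.Over.homMk (pullback.snd g.left f.left) rfl trivial, rfl⟩
    obtain ⟨b, hb⟩ : ∃ b : Scheme.ProEt.mk (pullback.snd g.left f.left ≫ W.hom) ⟶ V,
        b.left = pullback.fst g.left f.left :=
      ⟨MorphismProperty.Over.homMk (pullback.fst g.left f.left) hw trivial, rfl⟩
    have hab : a ≫ f = b ≫ g := by
      apply MorphismProperty.Over.Hom.ext
      show a.left ≫ f.left = b.left ≫ g.left
      rw [ha, hb]
      exact pullback.condition.symm
    refine ⟨_, a, pullback.lift ξ' ξ h1, ?_, ?_⟩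
    · show S (a ≫ f)
      rw [hab]
      exact S.downward_closed hg b
    · rw [ha]
      exact pullback.lift_snd _ _ _
  | transitive U S R hS hR ih1 ih2 =>
    intro ξ
    obtain ⟨V, g, ξ', hg, h1⟩ := ih1 ξ
    obtain ⟨V', g', ξ'', hg', h2⟩ := ih2 hg ξ'
    refine ⟨V', g' ≫ g, ξ'', hg', ?_⟩
    show ξ'' ≫ g'.left ≫ g.left = ξ
    rw [← Category.assoc, h2, h1]

end Groth.Agent.Lib.Helper15.ProEtPoint
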