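import Mathlib
import Groth.Agent.Lib.Helper8.Hzl.AtPrimeGen
import Groth.Agent.Lib.Helper8.Hzl.NbhdColimit
import Groth.Agent.Lib.Helper8.Hzl.IntegralHens
import Groth.Agent.Lib.Helper8.HenselFinite
import Groth.Agent.Lib.Helper8.IndEtStar
import Groth.Agent.Lib.Helper8.WeakColimAlg
import Groth.Agent.Lib.Helper8.WeakColimTensor
import Groth.Agent.Lib.Helper15.HenselSection
import Groth.Agent.Lib.Helper15.ProEtPoint

/-!
# Étale coverings of a finite algebra are refined by base changes of étale neighbourhoods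

`exists_etale_nbhd_lift`: let `B` be a finite `A`-algebra, `p` a prime of `A`, and `T` an étale
`B`-algebra such that every prime of `B` over `p` lifts to `T`.  Then there are an étale
`A`-algebra `E`, a prime `P` of `E` over `p`, and a `B`-algebra map `T → B ⊗[A] E`.
-/

set_option autoImplicit false
universe u

namespace Groth.Agent.Lib.Helper15.FinKL

open CategoryTheory Limits AlgebraicGeometry IsLocalRing TensorProduct
open Groth.Agent.Lib.Helper8 Groth.Agent.Lib.Helper8.Hzl Groth.Agent.Lib.Helper8.WeakColim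

theorem comap_maximalIdeal_of_finite {H D : Type*} [CommRing H] [IsLocalRing H] [CommRing D]
    [IsLocalRing D] (f : H →+* D) (hf : f.Finite) :
    (maximalIdeal D).comap f = maximalIdeal H :=
  IsLocalRing.eq_maximalIdeal
    (Ideal.isMaximal_comap_of_isIntegral_of_isMaximal' f hf.to_isIntegral _)

theorem exists_ringHom_of_prime {B T κ : Type u} [CommRing B] [CommRing T] [Field κ]
    [IsSepClosed κ] [Algebra B T] [Algebra.Etale B T] (hκ : B →+* κ) (r : Ideal T) [r.IsPrime]
    (hr : r.comap (algebraMap B T) = RingHom.ker hκ) :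
    ∃ ε : T →+* κ, ε.comp (algebraMap B T) = hκ := by
  obtain ⟨g, hg⟩ : ∃ g : Spec (CommRingCat.of T) ⟶ Spec (CommRingCat.of B),
      g = Spec.map (CommRingCat.ofHom (algebraMap B T)) := ⟨_, rfl⟩
  haveI : Etale g := by
    rw [hg]
    exact (HasRingHomProperty.Spec_iff (P := @Etale)).2 (RingHom.etale_algebraMap.2 inferInstance)
  have hv : g (⟨r, inferInstance⟩ : PrimeSpectrum T) =
      (Spec.map (CommRingCat.ofHom hκ)) default := by
    rw [hg]
    apply PrimeSpectrum.ext
    rw [Spec.map_apply, Spec.map_apply, PrimeSpectrum.comap_asIdeal, PrimeSpectrum.comap_asIdeal]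
    have hbot : (default : Spec (CommRingCat.of κ)).asIdeal = ⊥ :=
      ((Ideal.eq_bot_or_top _).resolve_right (default : Spec (CommRingCat.of κ)).isPrime.ne_top)
    rw [hbot]
    exact hr
  obtain ⟨l, hl, -⟩ := Groth.Agent.Lib.Helper15.ProEtPoint.exists_lift g
    (Spec.map (CommRingCat.ofHom hκ)) (⟨r, inferInstance⟩ : PrimeSpectrum T) hv
  obtain ⟨ε, hε⟩ := Spec.map_surjective l
  have h1 : CommRingCat.ofHom (algebraMap B T) ≫ ε = CommRingCat.ofHom hκ := by
    apply Spec.map_injective
    rw [Spec.map_comp, hε, ← hg, hl]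
  exact ⟨ε.hom, congrArg CommRingCat.Hom.hom h1⟩

theorem exists_section_local {H D B T : Type u} [CommRing H] [HenselianLocalRing H]
    [IsSepClosed (ResidueField H)] [CommRing D] [IsLocalRing D] [CommRing B] [CommRing T]
    [Algebra B T] [Algebra.Etale B T] (hH : H →+* D) (hfin : hH.Finite) (hB : B →+* D)
    (r : Ideal T) [r.IsPrime]
    (hr : r.comap (algebraMap B T) = (maximalIdeal D).comap hB) :
    ∃ σ : T →+* D, σ.comp (algebraMap B T) = hB := by
  letI : Algebra H D := hH.toAlgebra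
  haveI : Module.Finite H D := hfin
  haveI : HenselianLocalRing D := Hzl.henselianLocalRing_of_isIntegral H D
  haveI : IsLocalHom (algebraMap H D) :=
    ((IsLocalRing.local_hom_TFAE (algebraMap H D)).out 0 4).mpr
      (comap_maximalIdeal_of_finite hH hfin)
  haveI : IsSepClosed (ResidueField D) :=
    Algebra.IsAlgebraic.isSepClosed (F := ResidueField H) (E := ResidueField D)
  obtain ⟨ε, hε⟩ := exists_ringHom_of_prime ((residue D).comp hB) r (by
    rw [hr]
    ext b
    rw [Ideal.mem_comap, RingHom.mem_ker, RingHom.comp_apply, residue_eq_zero_iff])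
  letI : Algebra B D := hB.toAlgebra
  obtain ⟨εa, hεa⟩ : ∃ εa : T →ₐ[B] ResidueField D, (εa : T →+* ResidueField D) = ε :=
    ⟨{ ε with commutes' := fun b => congrArg (fun f : B →+* ResidueField D => f b) hε }, rfl⟩
  obtain ⟨σ₀, -⟩ := Groth.Agent.Lib.Helper15.HenselSection.exists_section_alg D (D ⊗[B] T)
    (Algebra.TensorProduct.lift (Algebra.ofId D (ResidueField D)) εa (fun _ _ => Commute.all _ _))
  refine ⟨σ₀.toRingHom.comp
    (Algebra.TensorProduct.includeRight : T →ₐ[B] D ⊗[B] T).toRingHom, ?_⟩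
  ext b
  have h1 : (Algebra.TensorProduct.includeRight : T →ₐ[B] D ⊗[B] T) (algebraMap B T b) =
      algebraMap D (D ⊗[B] T) (hB b) := by
    rw [AlgHom.commutes, IsScalarTower.algebraMap_apply B D (D ⊗[B] T)]
    rfl
  show σ₀ ((Algebra.TensorProduct.includeRight : T →ₐ[B] D ⊗[B] T) (algebraMap B T b)) = hB b
  rw [h1, AlgHom.commutes]
  rfl

theorem exists_algHom_tensor_of_henselian (A H B T : Type u) [CommRing A] [CommRing H]
    [HenselianLocalRing H] [IsSepClosed (ResidueField H)] [Algebra A H] [CommRing B]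
    [Algebra A B] [Module.Finite A B] [CommRing T] [Algebra B T] [Algebra.Etale B T]
    (hT : ∀ q : Ideal B, q.IsPrime →
      q.comap (algebraMap A B) = (maximalIdeal H).comap (algebraMap A H) →
      ∃ r : Ideal T, r.IsPrime ∧ r.comap (algebraMap B T) = q) :
    Nonempty (T →ₐ[B] B ⊗[A] H) := by
  obtain ⟨ι, _, Cl, _, hloc, ⟨e⟩⟩ := exists_pi_local_of_finite_of_henselian H (H ⊗[A] B)
  haveI := hloc
  obtain ⟨iH, hiH⟩ : ∃ iH : H →+* H ⊗[A] B, iH = algebraMap H (H ⊗[A] B) := ⟨_, rfl⟩
  obtain ⟨iB, hiB⟩ : ∃ iB : B →+* H ⊗[A] B,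
      iB = (Algebra.TensorProduct.includeRight : B →ₐ[A] H ⊗[A] B).toRingHom := ⟨_, rfl⟩
  have hcomm : iB.comp (algebraMap A B) = iH.comp (algebraMap A H) := by
    rw [hiB, hiH]
    ext a
    show (Algebra.TensorProduct.includeRight : B →ₐ[A] H ⊗[A] B) (algebraMap A B a) =
      algebraMap H (H ⊗[A] B) (algebraMap A H a)
    rw [AlgHom.commutes, ← IsScalarTower.algebraMap_apply]
  have hfin : ∀ i, ((Pi.evalRingHom Cl i).comp
      ((e : H ⊗[A] B →+* ∀ i, Cl i).comp iH)).Finite := fun i => by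
    refine RingHom.Finite.comp (RingHom.Finite.of_surjective _ (Function.surjective_eval i)) ?_
    refine RingHom.Finite.comp (RingHom.Finite.of_surjective _ e.surjective) ?_
    rw [hiH]
    exact RingHom.finite_algebraMap.2 inferInstance
  have hq : ∀ i, ((maximalIdeal (Cl i)).comap ((Pi.evalRingHom Cl i).comp
      ((e : H ⊗[A] B →+* ∀ i, Cl i).comp iB))).comap (algebraMap A B) =
      (maximalIdeal H).comap (algebraMap A H) := fun i => by
    rw [Ideal.comap_comap, ← comap_maximalIdeal_of_finite _ (hfin i), Ideal.comap_comap,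
      RingHom.comp_assoc, RingHom.comp_assoc, hcomm, RingHom.comp_assoc, RingHom.comp_assoc]
  have h1 := fun i => hT _ (Ideal.comap_isPrime _ _) (hq i)
  choose r hrp hr using h1
  have h2 : ∀ i, ∃ σ : T →+* Cl i, σ.comp (algebraMap B T) =
      (Pi.evalRingHom Cl i).comp ((e : H ⊗[A] B →+* ∀ i, Cl i).comp iB) := fun i => by
    haveI := hrp i
    exact exists_section_local _ (hfin i) _ (r i) (hr i)
  choose σ hσ using h2
  have hσC : ∀ b : B, (e.symm : (∀ i, Cl i) →+* H ⊗[A] B) (Pi.ringHom σ (algebraMap B T b)) =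
      iB b := fun b => by
    show e.symm (Pi.ringHom σ (algebraMap B T b)) = iB b
    rw [RingEquiv.symm_apply_eq]
    funext i
    exact congrArg (fun f : B →+* Cl i => f b) (hσ i)
  refine ⟨{ ((Algebra.TensorProduct.comm A H B : H ⊗[A] B ≃ₐ[A] B ⊗[A] H) :
      H ⊗[A] B →+* B ⊗[A] H).comp
      (((e.symm : (∀ i, Cl i) →+* H ⊗[A] B)).comp (Pi.ringHom σ)) with commutes' := fun b => ?_ }⟩
  show (Algebra.TensorProduct.comm A H B)
    ((e.symm : (∀ i, Cl i) →+* H ⊗[A] B) (Pi.ringHom σ (algebraMap B T b))) =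
    algebraMap B (B ⊗[A] H) b
  rw [hσC, hiB]
  show (Algebra.TensorProduct.comm A H B) ((1 : H) ⊗ₜ[A] b) = _
  rw [Algebra.TensorProduct.comm_tmul, Algebra.TensorProduct.algebraMap_apply]
  rfl

theorem exists_etale_nbhd_lift {A B T : Type u} [CommRing A] [CommRing B] [Algebra A B]
    [Module.Finite A B] [CommRing T] [Algebra B T] [Algebra.Etale B T] (p : Ideal A) [p.IsPrime]
    (hT : ∀ q : Ideal B, q.IsPrime → q.comap (algebraMap A B) = p →
      ∃ r : Ideal T, r.IsPrime ∧ r.comap (algebraMap B T) = q) :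
    ∃ (E : Type u) (_ : CommRing E) (_ : Algebra A E) (_ : Algebra.Etale A E) (P : Ideal E)
      (_ : P.IsPrime), P.comap (algebraMap A E) = p ∧ Nonempty (T →ₐ[B] B ⊗[A] E) := by
  letI algΩ : Algebra A (Ωs (Localization.AtPrime p)) :=
    ((algebraMap (Localization.AtPrime p) (Ωs (Localization.AtPrime p))).comp
      (algebraMap A (Localization.AtPrime p))).toAlgebra
  haveI : IsScalarTower A (Localization.AtPrime p) (Ωs (Localization.AtPrime p)) :=
    IsScalarTower.of_algebraMap_eq (fun _ => rfl)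
  have hsurj := AtPrimeGen.χS_surjective_strict A p (Localization.AtPrime p)
  haveI : IsSepClosed (ResidueField (Hz A (Ωs (Localization.AtPrime p)))) :=
    isSepClosed_of_ringEquiv (resEquiv hsurj).symm
  have hzero : ∀ a : A, algebraMap A (Ωs (Localization.AtPrime p)) a = 0 ↔ a ∈ p := fun a =>
    AtPrimeGen.algebraMap_eq_zero_iff A p (Localization.AtPrime p)
      (Ωs (Localization.AtPrime p)) a
  have hcomap : (maximalIdeal (Hz A (Ωs (Localization.AtPrime p)))).comap
      (algebraMap A (Hz A (Ωs (Localization.AtPrime p)))) = p := by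
    ext a
    rw [Ideal.mem_comap, mem_maximalIdeal_iff, AlgHom.commutes, hzero]
  obtain ⟨σ⟩ := exists_algHom_tensor_of_henselian A (Hz A (Ωs (Localization.AtPrime p))) B T
    (fun q hq hqp => hT q hq (hqp.trans hcomap))
  have hW := (IndEt.indEtaleStar_of_isIndEtale
    (Hzl.isIndEtale_Hz A (Ωs (Localization.AtPrime p)))).isWeakColim
  obtain ⟨j, -, σ', -⟩ :=
    (hW.algLeft B).exists_lift_of_finitePresentation σ (Classical.arbitrary _)
  refine ⟨j.E, inferInstance, inferInstance, inferInstance,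
    RingHom.ker ((χS A (Ωs (Localization.AtPrime p))).comp j.φ).toRingHom,
    RingHom.ker_isPrime _, ?_, ⟨σ'⟩⟩
  ext a
  rw [Ideal.mem_comap, RingHom.mem_ker]
  show (χS A (Ωs (Localization.AtPrime p))) (j.φ (algebraMap A j.E a)) = 0 ↔ _
  rw [AlgHom.commutes, AlgHom.commutes, hzero]

end Groth.Agent.Lib.Helper15.FinKL
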