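import Mathlib
import Groth.Agent.Lib.Helper15.FinKL

/-!
# Geometric-point version of the refinement lemma for étale coverings of finite algebras

`exists_etale_nbhd_lift_geo`: let `B` be a finite `A`-algebra, `Ω` an algebraically closed field,
`a₀ : A → Ω`, `T` an étale `B`-algebra and, for every `ξ : B → Ω` over `a₀`, a point
`w ξ : T → Ω` over `ξ`.  Then there are an étale `A`-algebra `E` with a point `e₀ : E → Ω` over
`a₀` and a `B`-algebra map `σ : T → B ⊗[A] E` such that every point `ψ` of `B ⊗[A] E` over `e₀`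
satisfies `ψ ∘ σ = w (ψ|_B)`.
-/

set_option autoImplicit false
universe u

namespace Groth.Agent.Lib.Helper15.FinKL

open CategoryTheory Limits AlgebraicGeometry IsLocalRing TensorProduct
open Groth.Agent.Lib.Helper8 Groth.Agent.Lib.Helper8.Hzl Groth.Agent.Lib.Helper8.WeakColim

theorem exists_ringHom_ker_eq {B T κ : Type u} [CommRing B] [CommRing T] [Field κ]
    [IsSepClosed κ] [Algebra B T] [Algebra.Etale B T] (hκ : B →+* κ) (r : Ideal T) [r.IsPrime]
    (hr : r.comap (algebraMap B T) = RingHom.ker hκ) :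
    ∃ ε : T →+* κ, ε.comp (algebraMap B T) = hκ ∧ RingHom.ker ε = r := by
  obtain ⟨g, hg⟩ : ∃ g : Spec (CommRingCat.of T) ⟶ Spec (CommRingCat.of B),
      g = Spec.map (CommRingCat.ofHom (algebraMap B T)) := ⟨_, rfl⟩
  haveI : Etale g := by
    rw [hg]
    exact (HasRingHomProperty.Spec_iff (P := @Etale)).2 (RingHom.etale_algebraMap.2 inferInstance)
  have hbot : (default : Spec (CommRingCat.of κ)).asIdeal = ⊥ :=
    ((Ideal.eq_bot_or_top _).resolve_right (default : Spec (CommRingCat.of κ)).isPrime.ne_top)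
  have hv : g (⟨r, inferInstance⟩ : PrimeSpectrum T) =
      (Spec.map (CommRingCat.ofHom hκ)) default := by
    rw [hg]
    apply PrimeSpectrum.ext
    rw [Spec.map_apply, Spec.map_apply, PrimeSpectrum.comap_asIdeal, PrimeSpectrum.comap_asIdeal]
    rw [hbot]
    exact hr
  obtain ⟨l, hl, hl2⟩ := Groth.Agent.Lib.Helper15.ProEtPoint.exists_lift g
    (Spec.map (CommRingCat.ofHom hκ)) (⟨r, inferInstance⟩ : PrimeSpectrum T) hv
  obtain ⟨ε, hε⟩ := Spec.map_surjective l
  have h1 : CommRingCat.ofHom (algebraMap B T) ≫ ε = CommRingCat.ofHom hκ := by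
    apply Spec.map_injective
    rw [Spec.map_comp, hε, ← hg, hl]
  refine ⟨ε.hom, congrArg CommRingCat.Hom.hom h1, ?_⟩
  have h2 := congrArg PrimeSpectrum.asIdeal hl2
  rw [← hε, Spec.map_apply, PrimeSpectrum.comap_asIdeal, hbot] at h2
  exact h2

theorem henselian_of_finite {H D : Type u} [CommRing H] [HenselianLocalRing H]
    [CommRing D] [IsLocalRing D] (hH : H →+* D) (hfin : hH.Finite) : HenselianLocalRing D := by
  letI : Algebra H D := hH.toAlgebra
  haveI : Module.Finite H D := hfin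
  exact Hzl.henselianLocalRing_of_isIntegral H D

theorem isSepClosed_residueField_of_finite {H D : Type u} [CommRing H] [IsLocalRing H]
    [IsSepClosed (ResidueField H)] [CommRing D] [IsLocalRing D] (hH : H →+* D)
    (hfin : hH.Finite) : IsSepClosed (ResidueField D) := by
  letI : Algebra H D := hH.toAlgebra
  haveI : Module.Finite H D := hfin
  haveI : IsLocalHom (algebraMap H D) :=
    ((IsLocalRing.local_hom_TFAE (algebraMap H D)).out 0 4).mpr
      (comap_maximalIdeal_of_finite hH hfin)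
  exact Algebra.IsAlgebraic.isSepClosed (F := ResidueField H) (E := ResidueField D)

theorem isLocalHom_of_ker_eq {D Ω : Type*} [CommRing D] [IsLocalRing D] [Field Ω] (ι : D →+* Ω)
    (hι : RingHom.ker ι = maximalIdeal D) : IsLocalHom ι :=
  ⟨fun x hx => by
    by_contra hnu
    have h1 : x ∈ maximalIdeal D := (IsLocalRing.mem_maximalIdeal x).2 hnu
    rw [← hι, RingHom.mem_ker] at h1
    exact hx.ne_zero h1⟩

theorem exists_section_local_geo {D B T Ω : Type u} [CommRing D] [HenselianLocalRing D]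
    [IsSepClosed (ResidueField D)] [CommRing B] [CommRing T] [Algebra B T] [Algebra.Etale B T]
    [Field Ω] (hB : B →+* D) (ι : D →+* Ω) (hι : RingHom.ker ι = maximalIdeal D)
    (w : T →+* Ω) (hw : w.comp (algebraMap B T) = ι.comp hB) :
    ∃ σ : T →+* D, σ.comp (algebraMap B T) = hB ∧ ι.comp σ = w := by
  letI : Algebra B D := hB.toAlgebra
  letI : Algebra B Ω := (ι.comp hB).toAlgebra
  obtain ⟨ιa, hιa⟩ : ∃ ιa : D →ₐ[B] Ω, ∀ d, ιa d = ι d :=
    ⟨{ ι with commutes' := fun b => rfl }, fun d => rfl⟩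
  obtain ⟨wa, hwa⟩ : ∃ wa : T →ₐ[B] Ω, ∀ t, wa t = w t :=
    ⟨{ w with commutes' := fun b => congrArg (fun f : B →+* Ω => f b) hw }, fun t => rfl⟩
  obtain ⟨ρ, hρ⟩ : ∃ ρ : D ⊗[B] T →ₐ[B] Ω, ρ = Algebra.TensorProduct.productMap ιa wa :=
    ⟨_, rfl⟩
  have hρD : ∀ d : D, ρ (algebraMap D (D ⊗[B] T) d) = ι d := fun d => by
    rw [Algebra.TensorProduct.algebraMap_apply, hρ,
      Algebra.TensorProduct.productMap_left_apply, hιa]
    rfl
  have hρT : ∀ t : T, ρ ((1 : D) ⊗ₜ[B] t) = w t := fun t => by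
    rw [hρ, Algebra.TensorProduct.productMap_right_apply, hwa]
  haveI : (RingHom.ker ρ).IsPrime := RingHom.ker_isPrime ρ
  have hcomap : (RingHom.ker ρ).comap (algebraMap D (D ⊗[B] T)) = RingHom.ker (residue D) := by
    ext d
    rw [Ideal.mem_comap, RingHom.mem_ker, RingHom.mem_ker, hρD, residue_eq_zero_iff, ← hι,
      RingHom.mem_ker]
  obtain ⟨ε, hε1, hε2⟩ := exists_ringHom_ker_eq (B := D) (T := D ⊗[B] T) (residue D)
    (RingHom.ker ρ) hcomap
  obtain ⟨εa, hεa⟩ : ∃ εa : D ⊗[B] T →ₐ[D] ResidueField D, ∀ s, εa s = ε s :=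
    ⟨{ ε with commutes' := fun d => congrArg (fun f : D →+* ResidueField D => f d) hε1 },
      fun s => rfl⟩
  obtain ⟨σ₀, hσ₀⟩ := Groth.Agent.Lib.Helper15.HenselSection.exists_section_alg D (D ⊗[B] T) εa
  have key : ∀ s : D ⊗[B] T, ρ s = ι (σ₀ s) := fun s => by
    have h1 : s - algebraMap D (D ⊗[B] T) (σ₀ s) ∈ RingHom.ker ρ := by
      rw [← hε2, RingHom.mem_ker, map_sub, sub_eq_zero]
      have h2 : ε (algebraMap D (D ⊗[B] T) (σ₀ s)) = residue D (σ₀ s) :=
        congrArg (fun f : D →+* ResidueField D => f (σ₀ s)) hε1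
      rw [h2, hσ₀, hεa]
    rw [RingHom.mem_ker, map_sub, sub_eq_zero] at h1
    exact h1.trans (hρD _)
  refine ⟨σ₀.toRingHom.comp
    (Algebra.TensorProduct.includeRight : T →ₐ[B] D ⊗[B] T).toRingHom, ?_, ?_⟩
  · ext b
    have h1 : (Algebra.TensorProduct.includeRight : T →ₐ[B] D ⊗[B] T) (algebraMap B T b) =
        algebraMap D (D ⊗[B] T) (hB b) := by
      rw [AlgHom.commutes, IsScalarTower.algebraMap_apply B D (D ⊗[B] T)]
      rfl
    show σ₀ ((Algebra.TensorProduct.includeRight : T →ₐ[B] D ⊗[B] T) (algebraMap B T b)) = hB b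
    rw [h1, AlgHom.commutes]
    rfl
  · ext t
    show ι (σ₀ ((1 : D) ⊗ₜ[B] t)) = w t
    rw [← key, hρT]

theorem ringHom_eq_of_finite {H D Ω : Type u} [CommRing H] [IsLocalRing H]
    [IsSepClosed (ResidueField H)] [CommRing D] [IsLocalRing D] [Field Ω] (hH : H →+* D)
    (hfin : hH.Finite) (ι ι' : D →+* Ω) (hι : RingHom.ker ι = maximalIdeal D)
    (hι' : RingHom.ker ι' = maximalIdeal D) (h : ι.comp hH = ι'.comp hH) : ι = ι' := by
  letI : Algebra H D := hH.toAlgebra
  haveI : Module.Finite H D := hfin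
  haveI : IsLocalHom (algebraMap H D) :=
    ((IsLocalRing.local_hom_TFAE (algebraMap H D)).out 0 4).mpr
      (comap_maximalIdeal_of_finite hH hfin)
  haveI : IsLocalHom ι := isLocalHom_of_ker_eq ι hι
  haveI : IsLocalHom ι' := isLocalHom_of_ker_eq ι' hι'
  have hinj := IsPurelyInseparable.injective_comp_algebraMap (ResidueField H) (ResidueField D) Ω
  have h2 : ResidueField.lift ι = ResidueField.lift ι' := hinj (by
    ext x
    obtain ⟨x, rfl⟩ := residue_surjective x
    show ResidueField.lift ι (algebraMap (ResidueField H) (ResidueField D) (residue H x)) =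
      ResidueField.lift ι' (algebraMap (ResidueField H) (ResidueField D) (residue H x))
    rw [ResidueField.algebraMap_residue]
    exact congrArg (fun f : H →+* Ω => f x) h)
  ext d
  exact congrArg (fun f : ResidueField D →+* Ω => f (residue D d)) h2

theorem exists_algHom_tensor_geo (A H B T Ω : Type u) [CommRing A] [CommRing H]
    [HenselianLocalRing H] [IsSepClosed (ResidueField H)] [Algebra A H] [CommRing B]
    [Algebra A B] [Module.Finite A B] [CommRing T] [Algebra B T] [Algebra.Etale B T] [Field Ω]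
    [IsAlgClosed Ω] (χ : H →+* Ω) (hχ : RingHom.ker χ = maximalIdeal H)
    (w : {ξ : B →+* Ω // ξ.comp (algebraMap A B) = χ.comp (algebraMap A H)} → (T →+* Ω))
    (hw : ∀ ξ, (w ξ).comp (algebraMap B T) = ξ.1) :
    ∃ σ : T →ₐ[B] B ⊗[A] H, ∀ (ψ : B ⊗[A] H →+* Ω),
      ψ.comp (Algebra.TensorProduct.includeRight : H →ₐ[A] B ⊗[A] H).toRingHom = χ →
      ∀ ξ, ξ.1 = ψ.comp Algebra.TensorProduct.includeLeftRingHom →
        ψ.comp σ.toRingHom = w ξ := by
  classical
  obtain ⟨ι, _, Cl, _, hloc, ⟨e⟩⟩ := exists_pi_local_of_finite_of_henselian H (H ⊗[A] B)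
  haveI := hloc
  obtain ⟨iH, hiH⟩ : ∃ iH : H →+* H ⊗[A] B, iH = algebraMap H (H ⊗[A] B) := ⟨_, rfl⟩
  obtain ⟨iB, hiB⟩ : ∃ iB : B →+* H ⊗[A] B,
      iB = (Algebra.TensorProduct.includeRight : B →ₐ[A] H ⊗[A] B).toRingHom := ⟨_, rfl⟩
  have hcomm : iB.comp (algebraMap A B) = iH.comp (algebraMap A H) := by
    rw [hiB, hiH]
    ext a
    show (Algebra.TensorProduct.includeRight : B →ₐ[A] H ⊗[A] B) (algebraMap A B a) =
      algebraMap H (H ⊗[A] B) (algebraMap A H a)
    rw [AlgHom.commutes, ← IsScalarTower.algebraMap_apply]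
  obtain ⟨hHi, hhHi⟩ : ∃ hHi : ∀ i, H →+* Cl i, ∀ i, hHi i =
      (Pi.evalRingHom Cl i).comp ((e : H ⊗[A] B →+* ∀ i, Cl i).comp iH) := ⟨_, fun i => rfl⟩
  obtain ⟨hBi, hhBi⟩ : ∃ hBi : ∀ i, B →+* Cl i, ∀ i, hBi i =
      (Pi.evalRingHom Cl i).comp ((e : H ⊗[A] B →+* ∀ i, Cl i).comp iB) := ⟨_, fun i => rfl⟩
  have hfin : ∀ i, (hHi i).Finite := fun i => by
    rw [hhHi]
    refine RingHom.Finite.comp (RingHom.Finite.of_surjective _ (Function.surjective_eval i)) ?_
    refine RingHom.Finite.comp (RingHom.Finite.of_surjective _ e.surjective) ?_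
    rw [hiH]
    exact RingHom.finite_algebraMap.2 inferInstance
  have hcommi : ∀ i, (hBi i).comp (algebraMap A B) = (hHi i).comp (algebraMap A H) := fun i => by
    rw [hhBi, hhHi, RingHom.comp_assoc, RingHom.comp_assoc, hcomm, RingHom.comp_assoc,
      RingHom.comp_assoc]
  haveI hhens : ∀ i, HenselianLocalRing (Cl i) := fun i => henselian_of_finite _ (hfin i)
  haveI hsc : ∀ i, IsSepClosed (ResidueField (Cl i)) := fun i =>
    isSepClosed_residueField_of_finite _ (hfin i)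
  haveI : IsLocalHom χ := isLocalHom_of_ker_eq χ hχ
  have hι : ∀ i, ∃ ιi : Cl i →+* Ω, RingHom.ker ιi = maximalIdeal (Cl i) ∧
      ιi.comp (hHi i) = χ := fun i => by
    letI : Algebra H (Cl i) := (hHi i).toAlgebra
    haveI : Module.Finite H (Cl i) := hfin i
    haveI : IsLocalHom (algebraMap H (Cl i)) :=
      ((IsLocalRing.local_hom_TFAE (algebraMap H (Cl i))).out 0 4).mpr
        (comap_maximalIdeal_of_finite (hHi i) (hfin i))
    letI : Algebra (ResidueField H) Ω := (ResidueField.lift χ).toAlgebra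
    obtain ⟨l⟩ : Nonempty (ResidueField (Cl i) →ₐ[ResidueField H] Ω) := ⟨IsAlgClosed.lift⟩
    refine ⟨l.toRingHom.comp (residue (Cl i)), ?_, ?_⟩
    · ext x
      rw [RingHom.mem_ker, RingHom.comp_apply, ← residue_eq_zero_iff]
      exact map_eq_zero_iff _ l.toRingHom.injective
    · ext h
      show l (residue (Cl i) (algebraMap H (Cl i) h)) = χ h
      rw [← ResidueField.algebraMap_residue, l.commutes]
      rfl
  choose ιf hιk hιH using hι
  have hξ : ∀ i, ((ιf i).comp (hBi i)).comp (algebraMap A B) = χ.comp (algebraMap A H) :=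
    fun i => by rw [RingHom.comp_assoc, hcommi i, ← RingHom.comp_assoc, hιH]
  have h2 : ∀ i, ∃ σ : T →+* Cl i, σ.comp (algebraMap B T) = hBi i ∧
      (ιf i).comp σ = w ⟨_, hξ i⟩ := fun i =>
    exists_section_local_geo (hBi i) (ιf i) (hιk i) (w ⟨_, hξ i⟩) (hw _)
  choose σ hσ hσw using h2
  have hσC : ∀ b : B, (e.symm : (∀ i, Cl i) →+* H ⊗[A] B) (Pi.ringHom σ (algebraMap B T b)) =
      iB b := fun b => by
    show e.symm (Pi.ringHom σ (algebraMap B T b)) = iB b
    rw [RingEquiv.symm_apply_eq]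
    funext i
    have h3 := congrArg (fun f : B →+* Cl i => f b) (hσ i)
    rw [hhBi] at h3
    exact h3
  obtain ⟨σA, hσA⟩ : ∃ σA : T →ₐ[B] B ⊗[A] H, ∀ t, σA t =
      (Algebra.TensorProduct.comm A H B) (e.symm (Pi.ringHom σ t)) := by
    refine ⟨{ ((Algebra.TensorProduct.comm A H B : H ⊗[A] B ≃ₐ[A] B ⊗[A] H) :
      H ⊗[A] B →+* B ⊗[A] H).comp
      (((e.symm : (∀ i, Cl i) →+* H ⊗[A] B)).comp (Pi.ringHom σ)) with
        commutes' := fun b => ?_ }, fun t => rfl⟩
    show (Algebra.TensorProduct.comm A H B)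
      ((e.symm : (∀ i, Cl i) →+* H ⊗[A] B) (Pi.ringHom σ (algebraMap B T b))) =
      algebraMap B (B ⊗[A] H) b
    rw [hσC, hiB]
    show (Algebra.TensorProduct.comm A H B) ((1 : H) ⊗ₜ[A] b) = _
    rw [Algebra.TensorProduct.comm_tmul, Algebra.TensorProduct.algebraMap_apply]
    rfl
  refine ⟨σA, ?_⟩
  intro ψ hψ ξ hξψ
  obtain ⟨ψ', hψ'⟩ : ∃ ψ' : (∀ i, Cl i) →+* Ω, ∀ x, ψ' x =
      ψ ((Algebra.TensorProduct.comm A H B) (e.symm x)) :=
    ⟨ψ.comp (((Algebra.TensorProduct.comm A H B : H ⊗[A] B ≃ₐ[A] B ⊗[A] H) :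
      H ⊗[A] B →+* B ⊗[A] H).comp (e.symm : (∀ i, Cl i) →+* H ⊗[A] B)), fun x => rfl⟩
  have hsum : ∑ i, ψ' (Pi.single i (1 : Cl i)) = 1 := by
    rw [← map_sum]
    have h3 : (∑ i, Pi.single i (1 : Cl i) : ∀ i, Cl i) = 1 :=
      Finset.univ_sum_single (1 : ∀ i, Cl i)
    rw [h3, map_one]
  obtain ⟨i, hi⟩ : ∃ i, ψ' (Pi.single i (1 : Cl i)) ≠ 0 := by
    by_contra hne
    push_neg at hne
    rw [Finset.sum_congr rfl (fun i _ => hne i), Finset.sum_const_zero] at hsum
    exact zero_ne_one hsum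
  have hi1 : ψ' (Pi.single i (1 : Cl i)) = 1 := by
    have h3 : ψ' (Pi.single i (1 : Cl i)) * ψ' (Pi.single i (1 : Cl i)) =
        ψ' (Pi.single i (1 : Cl i)) := by
      rw [← map_mul, ← Pi.single_mul, mul_one]
    exact mul_left_cancel₀ hi (h3.trans (mul_one _).symm)
  have hfac : ∀ x : ∀ i, Cl i, ψ' x = ψ' (Pi.single i (x i)) := fun x => by
    have hx : x * Pi.single i (1 : Cl i) = Pi.single i (x i) := by
      funext j
      by_cases hj : j = i
      · subst hj
        simp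
      · simp [Pi.single_eq_of_ne hj]
    rw [← hx, map_mul, hi1, mul_one]
  obtain ⟨ι', hι'⟩ : ∃ ι' : Cl i →+* Ω, ∀ c, ι' c = ψ' (Pi.single i c) :=
    ⟨{ toFun := fun c => ψ' (Pi.single i c)
       map_one' := hi1
       map_mul' := fun a b => by rw [Pi.single_mul, map_mul]
       map_zero' := by rw [Pi.single_zero, map_zero]
       map_add' := fun a b => by rw [Pi.single_add, map_add] }, fun c => rfl⟩
  have h3 : ι'.comp (hHi i) = χ := by
    ext h
    show ι' (hHi i h) = χ h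
    rw [hι', hhHi]
    show ψ' (Pi.single i (e (iH h) i)) = χ h
    rw [← hfac, hψ', e.symm_apply_apply, hiH, Algebra.TensorProduct.algebraMap_apply]
    show ψ ((Algebra.TensorProduct.comm A H B) (h ⊗ₜ[A] (1 : B))) = χ h
    rw [Algebra.TensorProduct.comm_tmul]
    exact congrArg (fun f : H →+* Ω => f h) hψ
  have hk' : RingHom.ker ι' = maximalIdeal (Cl i) := by
    haveI := RingHom.ker_isPrime ι'
    refine IsLocalRing.eq_maximalIdeal (Ideal.isMaximal_of_isIntegral_of_isMaximal_comap'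
      (hHi i) (hfin i).to_isIntegral _ ?_)
    rw [RingHom.comap_ker, h3, hχ]
    exact maximalIdeal.isMaximal H
  have hιeq : ι' = ιf i :=
    ringHom_eq_of_finite (hHi i) (hfin i) ι' (ιf i) hk' (hιk i) (h3.trans (hιH i).symm)
  have hξi : ξ = ⟨(ιf i).comp (hBi i), hξ i⟩ := by
    apply Subtype.ext
    show ξ.1 = (ιf i).comp (hBi i)
    rw [hξψ]
    ext b
    show ψ ((b : B) ⊗ₜ[A] (1 : H)) = ιf i (hBi i b)
    rw [← hιeq, hι', hhBi]
    show _ = ψ' (Pi.single i (e (iB b) i))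
    rw [← hfac, hψ', e.symm_apply_apply, hiB]
    show _ = ψ ((Algebra.TensorProduct.comm A H B) ((1 : H) ⊗ₜ[A] b))
    rw [Algebra.TensorProduct.comm_tmul]
  ext t
  show ψ (σA t) = w ξ t
  rw [hσA, hξi, ← hσw i, ← hψ', hfac, ← hι', hιeq]
  rfl

theorem exists_point_extension {A B E H Ω : Type u} [CommRing A] [CommRing B] [Algebra A B]
    [CommRing E] [Algebra A E] [CommRing H] [Algebra A H] [Field Ω] (φ : E →ₐ[A] H) (χ : H →+* Ω)
    (ξ : B →+* Ω) (hξχ : ξ.comp (algebraMap A B) = χ.comp (algebraMap A H))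
    (ψ : B ⊗[A] E →+* Ω)
    (hψ : ψ.comp (Algebra.TensorProduct.includeRight : E →ₐ[A] B ⊗[A] E).toRingHom =
      χ.comp φ.toRingHom)
    (hξ : ξ = ψ.comp Algebra.TensorProduct.includeLeftRingHom) :
    ∃ ψt : B ⊗[A] H →+* Ω,
      ψt.comp (Algebra.TensorProduct.includeRight : H →ₐ[A] B ⊗[A] H).toRingHom = χ ∧
      ψt.comp Algebra.TensorProduct.includeLeftRingHom = ξ ∧
      ∀ x, ψt (Algebra.TensorProduct.map (AlgHom.id B B) φ x) = ψ x := by
  letI : Algebra A Ω := (χ.comp (algebraMap A H)).toAlgebra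
  obtain ⟨ξa, hξa⟩ : ∃ ξa : B →ₐ[A] Ω, ∀ b, ξa b = ξ b :=
    ⟨{ ξ with commutes' := fun a => congrArg (fun f : A →+* Ω => f a) hξχ }, fun b => rfl⟩
  obtain ⟨χa, hχa⟩ : ∃ χa : H →ₐ[A] Ω, ∀ h, χa h = χ h :=
    ⟨{ χ with commutes' := fun a => rfl }, fun h => rfl⟩
  obtain ⟨ψt, hψt⟩ : ∃ ψt : B ⊗[A] H →ₐ[A] Ω,
      ψt = Algebra.TensorProduct.productMap ξa χa := ⟨_, rfl⟩
  refine ⟨ψt.toRingHom, ?_, ?_, ?_⟩
  · ext h
    show ψt ((1 : B) ⊗ₜ[A] h) = χ h
    rw [hψt, Algebra.TensorProduct.productMap_right_apply, hχa]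
  · ext b
    show ψt (b ⊗ₜ[A] (1 : H)) = ξ b
    rw [hψt, Algebra.TensorProduct.productMap_left_apply, hξa]
  · intro x
    show ψt (Algebra.TensorProduct.map (AlgHom.id B B) φ x) = ψ x
    induction x using TensorProduct.induction_on with
    | zero => rw [map_zero, map_zero, map_zero]
    | tmul b e' =>
      rw [Algebra.TensorProduct.map_tmul, hψt, Algebra.TensorProduct.productMap_apply_tmul,
        hξa, hχa]
      have h1 : ξ b = ψ (b ⊗ₜ[A] (1 : E)) := congrArg (fun f : B →+* Ω => f b) hξ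
      have h2 : χ (φ e') = ψ ((1 : B) ⊗ₜ[A] e') :=
        (congrArg (fun f : E →+* Ω => f e') hψ).symm
      have h3 : (b ⊗ₜ[A] (1 : E)) * ((1 : B) ⊗ₜ[A] e') = b ⊗ₜ[A] e' := by
        rw [Algebra.TensorProduct.tmul_mul_tmul, mul_one, one_mul]
      show ξ b * χ (φ e') = _
      rw [h1, h2, ← h3, map_mul]
    | add x y hx hy => rw [map_add, map_add, map_add, hx, hy]

theorem exists_etale_nbhd_lift_geo {A B T Ω : Type u} [CommRing A] [CommRing B] [Algebra A B]
    [Module.Finite A B] [CommRing T] [Algebra B T] [Algebra.Etale B T] [Field Ω] [IsAlgClosed Ω]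
    (a₀ : A →+* Ω)
    (w : {ξ : B →+* Ω // ξ.comp (algebraMap A B) = a₀} → (T →+* Ω))
    (hw : ∀ ξ, (w ξ).comp (algebraMap B T) = ξ.1) :
    ∃ (E : Type u) (_ : CommRing E) (_ : Algebra A E) (_ : Algebra.Etale A E) (e₀ : E →+* Ω)
      (σ : T →ₐ[B] B ⊗[A] E), e₀.comp (algebraMap A E) = a₀ ∧
      ∀ (ψ : B ⊗[A] E →+* Ω),
        ψ.comp (Algebra.TensorProduct.includeRight : E →ₐ[A] B ⊗[A] E).toRingHom = e₀ →
        ∀ ξ, ξ.1 = ψ.comp Algebra.TensorProduct.includeLeftRingHom →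
          ψ.comp σ.toRingHom = w ξ := by
  obtain ⟨p, hp⟩ : ∃ p : Ideal A, p = RingHom.ker a₀ := ⟨_, rfl⟩
  haveI : p.IsPrime := hp ▸ RingHom.ker_isPrime a₀
  letI algΩ : Algebra A (Ωs (Localization.AtPrime p)) :=
    ((algebraMap (Localization.AtPrime p) (Ωs (Localization.AtPrime p))).comp
      (algebraMap A (Localization.AtPrime p))).toAlgebra
  haveI : IsScalarTower A (Localization.AtPrime p) (Ωs (Localization.AtPrime p)) :=
    IsScalarTower.of_algebraMap_eq (fun _ => rfl)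
  have hsurj := AtPrimeGen.χS_surjective_strict A p (Localization.AtPrime p)
  haveI : IsSepClosed (ResidueField (Hz A (Ωs (Localization.AtPrime p)))) :=
    isSepClosed_of_ringEquiv (resEquiv hsurj).symm
  have hunit : ∀ y : p.primeCompl, IsUnit (a₀ y) := fun y =>
    IsUnit.mk0 _ (fun h0 => y.2 ((SetLike.ext_iff.mp hp _).mpr (RingHom.mem_ker.mpr h0)))
  obtain ⟨a₁, ha₁⟩ : ∃ a₁ : Localization.AtPrime p →+* Ω,
      ∀ a, a₁ (algebraMap A (Localization.AtPrime p) a) = a₀ a :=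
    ⟨IsLocalization.lift hunit, fun a => IsLocalization.lift_eq hunit a⟩
  haveI : IsLocalHom a₁ := by
    refine ((IsLocalRing.local_hom_TFAE a₁).out 3 0).mp ?_
    rw [← Localization.AtPrime.map_eq_maximalIdeal, Ideal.map_le_iff_le_comap]
    intro a ha
    rw [Ideal.mem_comap, Ideal.mem_comap, ha₁]
    have h0 : a₀ a = 0 := by
      rw [hp] at ha
      exact ha
    rw [h0]
    exact zero_mem _
  letI : Algebra (ResidueField (Localization.AtPrime p)) Ω := (ResidueField.lift a₁).toAlgebra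
  obtain ⟨j⟩ : Nonempty (Ωs (Localization.AtPrime p) →ₐ[ResidueField (Localization.AtPrime p)] Ω) :=
    ⟨IsSepClosed.lift⟩
  have hj : ∀ a : A, j (algebraMap A (Ωs (Localization.AtPrime p)) a) = a₀ a := fun a => by
    have h1 : algebraMap A (Ωs (Localization.AtPrime p)) a =
        algebraMap (ResidueField (Localization.AtPrime p)) (Ωs (Localization.AtPrime p))
          (residue (Localization.AtPrime p) (algebraMap A (Localization.AtPrime p) a)) := by
      show algebraMap (Localization.AtPrime p) (Ωs (Localization.AtPrime p))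
        (algebraMap A (Localization.AtPrime p) a) = _
      rw [IsScalarTower.algebraMap_apply (Localization.AtPrime p)
        (ResidueField (Localization.AtPrime p)) (Ωs (Localization.AtPrime p))]
      rfl
    rw [h1, j.commutes]
    show ResidueField.lift a₁ (residue _ _) = _
    rw [ResidueField.lift_residue_apply, ha₁]
  obtain ⟨χ, hχdef⟩ : ∃ χ : Hz A (Ωs (Localization.AtPrime p)) →+* Ω,
      ∀ x, χ x = j (χS A (Ωs (Localization.AtPrime p)) x) :=
    ⟨j.toRingHom.comp (χS A (Ωs (Localization.AtPrime p))).toRingHom, fun x => rfl⟩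
  have hχ : RingHom.ker χ = maximalIdeal (Hz A (Ωs (Localization.AtPrime p))) := by
    ext x
    rw [RingHom.mem_ker, mem_maximalIdeal_iff, hχdef]
    exact map_eq_zero_iff j j.toRingHom.injective
  have hχA : χ.comp (algebraMap A (Hz A (Ωs (Localization.AtPrime p)))) = a₀ := by
    ext a
    show χ (algebraMap A _ a) = a₀ a
    rw [hχdef, AlgHom.commutes, hj]
  obtain ⟨σ, hσ⟩ := exists_algHom_tensor_geo A (Hz A (Ωs (Localization.AtPrime p))) B T Ω χ hχ
    (fun ξ => w ⟨ξ.1, ξ.2.trans hχA⟩) (fun ξ => hw _)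
  have hW := (IndEt.indEtaleStar_of_isIndEtale
    (Hzl.isIndEtale_Hz A (Ωs (Localization.AtPrime p)))).isWeakColim
  obtain ⟨jj, -, σ', hσ'⟩ :=
    (hW.algLeft B).exists_lift_of_finitePresentation σ (Classical.arbitrary _)
  refine ⟨jj.E, inferInstance, inferInstance, inferInstance, χ.comp jj.φ.toRingHom, σ', ?_, ?_⟩
  · ext a
    show χ (jj.φ (algebraMap A jj.E a)) = a₀ a
    rw [AlgHom.commutes]
    exact congrArg (fun f : A →+* Ω => f a) hχA
  · intro ψ hψ ξ hξ
    obtain ⟨ψt, h7, h8, hcomp⟩ := exists_point_extension jj.φ χ ξ.1 (ξ.2.trans hχA.symm) ψ hψ hξ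
    have h5 := hσ ψt h7 ⟨ξ.1, ξ.2.trans hχA.symm⟩ h8.symm
    ext t
    show ψ (σ' t) = w ξ t
    rw [← hcomp]
    have h6 : (Algebra.TensorProduct.map (AlgHom.id B B) jj.φ) (σ' t) = σ t :=
      AlgHom.congr_fun hσ' t
    rw [h6]
    exact congrArg (fun f : T →+* Ω => f t) h5

end Groth.Agent.Lib.Helper15.FinKL
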