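import Mathlib
import Groth.Prelude.Def_EtBase
import Groth.Agent.Lib.Helper15.EtGlue

/-!
# Zariski topology on the small étale site and the affine-surjective criterion for étale sheaves

`zar X` is the topology on `X.Etale` whose coverings are jointly surjective families of open
immersions.  Main result `isSheaf_etale_of_zar_of_affine`: a presheaf of types on `X.Etale` which is
a `zar X`-sheaf and satisfies the sheaf condition for surjective maps between affine objects is a
sheaf for the étale topology.  Infrastructure: open subobjects `opn`, lifts through open immersions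
`exists_lift`, coproducts `sig` in `X.Etale`.
-/

universe w u

open CategoryTheory CategoryTheory.Limits AlgebraicGeometry Opposite

namespace Groth.Agent.Lib.Helper15
namespace ZarEt

set_option backward.isDefEq.respectTransparency.types false

variable {X : Scheme.{u}}

/-- The Zariski topology on the small étale site. -/
abbrev zar (X : Scheme.{u}) : GrothendieckTopology X.Etale :=
  X.smallGrothendieckTopology (P := @IsOpenImmersion)

lemma zar_mem_iff (W : X.Etale) (R : Sieve W) :
    R ∈ zar X W ↔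
      ∀ x : W.left, ∃ (Z : X.Etale) (g : Z ⟶ W) (z : Z.left),
        R g ∧ IsOpenImmersion g.left ∧ g.left z = x := by
  have hle : (@IsOpenImmersion : MorphismProperty Scheme.{u}) ≤ EtCoh.etaleMP := by
    intro A B f hf
    haveI : IsOpenImmersion f := hf
    exact (inferInstance : Etale f)
  have eX : zar X =
      (X.smallPretopology (P := @IsOpenImmersion) (Q := EtCoh.etaleMP)).toGrothendieck :=
    Scheme.smallGrothendieckTopology_eq_toGrothendieck_smallPretopology X hle
  rw [eX]
  exact Scheme.mem_toGrothendieck_smallPretopology W R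

lemma zar_le : zar X ≤ X.smallEtaleTopology := by
  intro W R hR
  rw [EtGlue.mem_iff]
  rw [zar_mem_iff] at hR
  intro x
  obtain ⟨Z, g, z, hg, -, hz⟩ := hR x
  exact ⟨Z, g, z, hg, hz⟩

lemma comp_left_apply {A B C : X.Etale} (f : A ⟶ B) (g : B ⟶ C) (a : A.left) :
    (f ≫ g).left a = g.left (f.left a) := rfl

/-- The open subobject of `V` attached to an open immersion into `V.left`. -/
noncomputable def opn (V : X.Etale) (O : V.left.Opens) : X.Etale :=
  haveI : Etale V.hom := V.prop
  Scheme.Etale.mk (O.ι ≫ V.hom)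

noncomputable def opnι (V : X.Etale) (O : V.left.Opens) : opn V O ⟶ V :=
  MorphismProperty.Over.homMk O.ι rfl

lemma opnι_left (V : X.Etale) (O : V.left.Opens) : (opnι V O).left = O.ι := rfl

instance (V : X.Etale) (O : V.left.Opens) : IsOpenImmersion (opnι V O).left :=
  inferInstanceAs (IsOpenImmersion O.ι)

lemma exists_opnι_eq (V : X.Etale) (O : V.left.Opens) (x : V.left) (hx : x ∈ O) :
    ∃ z : (opn V O).left, (opnι V O).left z = x := by
  have h : x ∈ Set.range O.ι := by
    rw [Scheme.Opens.range_ι]; exact hx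
  obtain ⟨z, hz⟩ := h
  exact ⟨z, hz⟩

lemma opnι_mem (V : X.Etale) (O : V.left.Opens) (z : (opn V O).left) :
    (opnι V O).left z ∈ O := by
  have h : (opnι V O).left z ∈ Set.range O.ι := ⟨z, rfl⟩
  rw [Scheme.Opens.range_ι] at h
  exact h

/-- Lifting a morphism through an open immersion of étale `X`-schemes. -/
lemma exists_lift {T V V' : X.Etale} (f : T ⟶ V) (m : V' ⟶ V) [IsOpenImmersion m.left]
    (h : Set.range f.left ⊆ Set.range m.left) : ∃ q : T ⟶ V', q ≫ m = f := by
  refine ⟨MorphismProperty.Over.homMk (IsOpenImmersion.lift m.left f.left h) ?_, ?_⟩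
  · rw [← MorphismProperty.Over.w m, ← Category.assoc, IsOpenImmersion.lift_fac,
      MorphismProperty.Over.w f]
  · apply MorphismProperty.Over.Hom.ext
    exact IsOpenImmersion.lift_fac _ _ _

section sigma

variable {β : Type u} (Vb : β → X.Etale)

/-- The coproduct of a family of étale `X`-schemes. -/
noncomputable def sig : X.Etale :=
  haveI : Etale (Sigma.desc (fun b => (Vb b).hom)) :=
    IsZariskiLocalAtSource.sigmaDesc (fun b => (Vb b).prop)
  Scheme.Etale.mk (Sigma.desc (fun b => (Vb b).hom))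

noncomputable def sigι (b : β) : Vb b ⟶ sig Vb :=
  MorphismProperty.Over.homMk (Sigma.ι (fun b => (Vb b).left) b) (by
    show Sigma.ι (fun b => (Vb b).left) b ≫ Sigma.desc (fun b => (Vb b).hom) = (Vb b).hom
    simp)

lemma sigι_left (b : β) : (sigι Vb b).left = Sigma.ι (fun b => (Vb b).left) b := rfl

instance (b : β) : IsOpenImmersion (sigι Vb b).left :=
  inferInstanceAs (IsOpenImmersion (Sigma.ι (fun b => (Vb b).left) b))

noncomputable def sigDesc {U : X.Etale} (fb : ∀ b, Vb b ⟶ U) : sig Vb ⟶ U :=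
  MorphismProperty.Over.homMk (Sigma.desc (fun b => (fb b).left)) (by
    show Sigma.desc (fun b => (fb b).left) ≫ U.hom = Sigma.desc (fun b => (Vb b).hom)
    apply Sigma.hom_ext
    intro b
    simp [MorphismProperty.Over.w])

lemma sigι_desc {U : X.Etale} (fb : ∀ b, Vb b ⟶ U) (b : β) :
    sigι Vb b ≫ sigDesc Vb fb = fb b := by
  apply MorphismProperty.Over.Hom.ext
  show Sigma.ι (fun b => (Vb b).left) b ≫ Sigma.desc (fun b => (fb b).left) = (fb b).left
  simp

lemma sig_cover (x : (sig Vb).left) : ∃ b v, (sigι Vb b).left v = x := by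
  obtain ⟨b, v, hv⟩ := (sigmaOpenCover (fun b => (Vb b).left)).exists_eq x
  exact ⟨b, v, hv⟩

instance [Finite β] [∀ b, IsAffine (Vb b).left] : IsAffine (sig Vb).left := by
  show IsAffine (∐ fun b => (Vb b).left)
  infer_instance

lemma surjective_sigDesc {U : X.Etale} (fb : ∀ b, Vb b ⟶ U)
    (hcov : ∀ u : U.left, ∃ b v, (fb b).left v = u) : Surjective (sigDesc Vb fb).left := by
  constructor
  intro u
  obtain ⟨b, v, hv⟩ := hcov u
  refine ⟨(sigι Vb b).left v, ?_⟩
  rw [← hv, ← sigι_desc Vb fb b]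
  rfl

end sigma

section basic

variable (F : X.Etaleᵒᵖ ⥤ Type w)

lemma fam_congr {U : X.Etale} {R : Presieve U} (x : Presieve.FamilyOfElements F R) {Y : X.Etale}
    {f g : Y ⟶ U} (e : f = g) (hf : R f) (hg : R g) : x f hf = x g hg := by
  subst e; rfl

/-- Zariski-local equality of sections of a Zariski sheaf. -/
lemma zar_ext (hZ : Presieve.IsSheaf (zar X) F) {T : X.Etale} (s t : F.obj (op T))
    (h : ∀ x : T.left, ∃ (Z : X.Etale) (g : Z ⟶ T) (z : Z.left),
      IsOpenImmersion g.left ∧ g.left z = x ∧ F.map g.op s = F.map g.op t) : s = t := by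
  let S : Sieve T :=
    { arrows := fun Z g => F.map g.op s = F.map g.op t
      downward_closed := by
        intro Y Z f hf g
        show F.map (g ≫ f).op s = F.map (g ≫ f).op t
        rw [op_comp, FunctorToTypes.map_comp_apply, FunctorToTypes.map_comp_apply, hf] }
  have hS : S ∈ zar X T := (zar_mem_iff T S).2 (fun x => by
    obtain ⟨Z, g, z, hg, hz, he⟩ := h x
    exact ⟨Z, g, z, he, hg, hz⟩)
  exact (hZ S hS).isSeparatedFor.ext (fun Y f hf => hf)

end basic

/-- Finite affine refinement of an étale covering sieve of an affine object. -/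
lemma exists_finite_affine_refinement (U : X.Etale) [IsAffine U.left] (S : Sieve U)
    (hS : S ∈ X.smallEtaleTopology U) :
    ∃ (β : Type u) (_ : Finite β) (Vb : β → X.Etale) (fb : ∀ b, Vb b ⟶ U),
      (∀ b, IsAffine (Vb b).left) ∧ (∀ b, S (fb b)) ∧ (∀ u : U.left, ∃ b v, (fb b).left v = u) := by
  rw [EtGlue.mem_iff] at hS
  choose Z g z hg hz using hS
  have hO : ∀ u : U.left, ∃ O : (Z u).left.Opens, IsAffineOpen O ∧ z u ∈ O := by
    intro u
    obtain ⟨O, hO, hzO, -⟩ := exists_isAffineOpen_mem_and_subset (x := z u)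
      (U := (⊤ : (Z u).left.Opens)) trivial
    exact ⟨O, hO, hzO⟩
  choose O hOaff hzO using hO
  let V : U.left → X.Etale := fun u => opn (Z u) (O u)
  let f : ∀ u, V u ⟶ U := fun u => opnι (Z u) (O u) ≫ g u
  have hopen : ∀ u, IsOpen (Set.range (f u).left) := fun u => (f u).left.isOpenMap.isOpen_range
  have hmemrange : ∀ u, u ∈ Set.range (f u).left := by
    intro u
    obtain ⟨z', hz'⟩ := exists_opnι_eq (Z u) (O u) (z u) (hzO u)
    refine ⟨z', ?_⟩
    show (g u).left ((opnι (Z u) (O u)).left z') = u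
    rw [hz', hz]
  obtain ⟨t, ht⟩ := isCompact_univ.elim_finite_subcover (fun u => Set.range (f u).left) hopen
    (fun u _ => Set.mem_iUnion.2 ⟨u, hmemrange u⟩)
  refine ⟨↥t, inferInstance, fun b => V b.1, fun b => f b.1, ?_, ?_, ?_⟩
  · intro b
    exact hOaff b.1
  · intro b
    exact S.downward_closed (hg b.1) _
  · intro u
    have hu := ht (Set.mem_univ u)
    simp only [Set.mem_iUnion] at hu
    obtain ⟨b, hb, v, hv⟩ := hu
    exact ⟨⟨b, hb⟩, v, hv⟩

section main

variable (F : X.Etaleᵒᵖ ⥤ Type w) (hZ : Presieve.IsSheaf (zar X) F)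
  (hA : ∀ (U V : X.Etale) [IsAffine U.left] [IsAffine V.left] (f : V ⟶ U) [Surjective f.left],
    Presieve.IsSheafFor F (Presieve.singleton f))

include hZ hA in
lemma sep_affine (U : X.Etale) [IsAffine U.left] (S : Sieve U)
    (hS : S ∈ X.smallEtaleTopology U) (s t : F.obj (op U))
    (h : ∀ ⦃Y : X.Etale⦄ (f : Y ⟶ U), S f → F.map f.op s = F.map f.op t) : s = t := by
  obtain ⟨β, hβ, Vb, fb, haff, hmem, hcov⟩ := exists_finite_affine_refinement U S hS
  haveI := hβ
  haveI := haff
  haveI := surjective_sigDesc Vb fb hcov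
  have h1 : F.map (sigDesc Vb fb).op s = F.map (sigDesc Vb fb).op t := by
    apply zar_ext F hZ
    intro x
    obtain ⟨b, v, hv⟩ := sig_cover Vb x
    refine ⟨Vb b, sigι Vb b, v, inferInstance, hv, ?_⟩
    rw [← FunctorToTypes.map_comp_apply, ← FunctorToTypes.map_comp_apply, ← op_comp, sigι_desc]
    exact h _ (hmem b)
  exact (hA U (sig Vb) (sigDesc Vb fb)).isSeparatedFor.ext (fun Y f hf => by
    obtain ⟨⟩ := hf
    exact h1)

include hZ hA in
lemma sep (U : X.Etale) (S : Sieve U) (hS : S ∈ X.smallEtaleTopology U) (s t : F.obj (op U))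
    (h : ∀ ⦃Y : X.Etale⦄ (f : Y ⟶ U), S f → F.map f.op s = F.map f.op t) : s = t := by
  apply zar_ext F hZ
  intro x
  obtain ⟨O, hO, hxO, -⟩ := exists_isAffineOpen_mem_and_subset (x := x)
    (U := (⊤ : U.left.Opens)) trivial
  haveI : IsAffine (opn U O).left := hO
  obtain ⟨z, hz⟩ := exists_opnι_eq U O x hxO
  refine ⟨opn U O, opnι U O, z, inferInstance, hz, ?_⟩
  apply sep_affine F hZ hA (opn U O) (S.pullback (opnι U O))
    (X.smallEtaleTopology.pullback_stable _ hS)
  intro Y f hf
  rw [← FunctorToTypes.map_comp_apply, ← FunctorToTypes.map_comp_apply, ← op_comp]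
  exact h _ hf

include hZ hA in
lemma glue_affine (U : X.Etale) [IsAffine U.left] (S : Sieve U)
    (hS : S ∈ X.smallEtaleTopology U) (x : Presieve.FamilyOfElements F S.arrows)
    (hx : x.Compatible) : ∃ s : F.obj (op U), x.IsAmalgamation s := by
  obtain ⟨β, hβ, Vb, fb, haff, hmem, hcov⟩ := exists_finite_affine_refinement U S hS
  haveI := hβ
  haveI := haff
  haveI := surjective_sigDesc Vb fb hcov
  have hcovsieve : Sieve.generate (Presieve.ofArrows Vb (sigι Vb)) ∈ zar X (sig Vb) := by
    rw [zar_mem_iff]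
    intro p
    obtain ⟨b, v, hv⟩ := sig_cover Vb p
    exact ⟨Vb b, sigι Vb b, v, Sieve.le_generate _ _ _ (Presieve.ofArrows.mk b), inferInstance, hv⟩
  have hsh : Presieve.IsSheafFor F (Presieve.ofArrows Vb (sigι Vb)) :=
    (Presieve.isSheafFor_iff_generate _).2 (hZ _ hcovsieve)
  have hcompat : Presieve.Arrows.Compatible F (sigι Vb) (fun b => x (fb b) (hmem b)) := by
    intro b c Z gb gc hg
    apply hx gb gc (hmem b) (hmem c)
    rw [← sigι_desc Vb fb b, ← sigι_desc Vb fb c, ← Category.assoc, ← Category.assoc, hg]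
  obtain ⟨y, hy, -⟩ := (Presieve.isSheafFor_arrows_iff _ _).1 hsh _ hcompat
  have hycomp : ∀ {Z : X.Etale} (p₁ p₂ : Z ⟶ sig Vb),
      p₁ ≫ sigDesc Vb fb = p₂ ≫ sigDesc Vb fb → F.map p₁.op y = F.map p₂.op y := by
    intro Z p₁ p₂ hp
    apply zar_ext F hZ
    intro z
    obtain ⟨b, v1, hv1⟩ := sig_cover Vb (p₁.left z)
    obtain ⟨c, v2, hv2⟩ := sig_cover Vb (p₂.left z)
    obtain ⟨O, hzO, hO1, hO2⟩ : ∃ O : Z.left.Opens, z ∈ O ∧
        (∀ w ∈ O, p₁.left w ∈ Set.range (sigι Vb b).left) ∧
        (∀ w ∈ O, p₂.left w ∈ Set.range (sigι Vb c).left) :=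
      ⟨p₁.left ⁻¹ᵁ (sigι Vb b).left.opensRange ⊓ p₂.left ⁻¹ᵁ (sigι Vb c).left.opensRange,
        ⟨⟨v1, hv1⟩, ⟨v2, hv2⟩⟩, fun w hw => hw.1, fun w hw => hw.2⟩
    obtain ⟨q1, hq1⟩ := exists_lift (opnι Z O ≫ p₁) (sigι Vb b) (by
      rintro _ ⟨w, rfl⟩
      exact hO1 _ (opnι_mem Z O w))
    obtain ⟨q2, hq2⟩ := exists_lift (opnι Z O ≫ p₂) (sigι Vb c) (by
      rintro _ ⟨w, rfl⟩
      exact hO2 _ (opnι_mem Z O w))
    obtain ⟨z', hz'⟩ := exists_opnι_eq Z O z hzO
    refine ⟨opn Z O, opnι Z O, z', inferInstance, hz', ?_⟩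
    rw [← FunctorToTypes.map_comp_apply, ← FunctorToTypes.map_comp_apply, ← op_comp, ← op_comp,
      ← hq1, ← hq2, op_comp, op_comp, FunctorToTypes.map_comp_apply,
      FunctorToTypes.map_comp_apply, hy b, hy c]
    apply hx q1 q2 (hmem b) (hmem c)
    rw [← sigι_desc Vb fb b, ← sigι_desc Vb fb c, ← Category.assoc, ← Category.assoc, hq1, hq2,
      Category.assoc, Category.assoc, hp]
  obtain ⟨s, hs, -⟩ := (Presieve.isSheafFor_singleton.1 (hA U (sig Vb) (sigDesc Vb fb))) y hycomp
  refine ⟨s, ?_⟩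
  intro Y f hf
  apply sep F hZ hA Y ((Sieve.ofArrows Vb fb).pullback f)
    (X.smallEtaleTopology.pullback_stable _ (EtGlue.ofArrows_mem Vb fb hcov))
  intro T h hh
  obtain ⟨W, q, k, ⟨b⟩, hqk⟩ := hh
  rw [← FunctorToTypes.map_comp_apply, ← op_comp, ← hqk, ← sigι_desc Vb fb b, op_comp, op_comp,
    FunctorToTypes.map_comp_apply, FunctorToTypes.map_comp_apply, hs, hy b]
  exact hx q h (hmem b) hf hqk

include hZ hA in
theorem isSheafFor_of_zar_of_affine (U : X.Etale) (S : Sieve U)
    (hS : S ∈ X.smallEtaleTopology U) : Presieve.IsSheafFor F S.arrows := by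
  intro x hx
  have hex : ∀ a : {O : U.left.Opens // IsAffineOpen O},
      ∃ s : F.obj (op (opn U a.1)), (x.pullback (opnι U a.1)).IsAmalgamation s := by
    intro a
    haveI : IsAffine (opn U a.1).left := a.2
    exact glue_affine F hZ hA (opn U a.1) (S.pullback (opnι U a.1))
      (X.smallEtaleTopology.pullback_stable _ hS) _ (hx.pullback _)
  choose sA hsA using hex
  have hcompat : Presieve.Arrows.Compatible F
      (fun a : {O : U.left.Opens // IsAffineOpen O} => opnι U a.1) sA := by
    intro a b Z ga gb hg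
    apply sep F hZ hA Z (S.pullback (ga ≫ opnι U a.1))
      (X.smallEtaleTopology.pullback_stable _ hS)
    intro T h hh
    have hh1 : S ((h ≫ ga) ≫ opnι U a.1) := by
      rw [Category.assoc]; exact hh
    have hh2 : S ((h ≫ gb) ≫ opnι U b.1) := by
      rw [Category.assoc, ← hg]; exact hh
    rw [← FunctorToTypes.map_comp_apply, ← FunctorToTypes.map_comp_apply, ← op_comp, ← op_comp,
      hsA a (h ≫ ga) hh1, hsA b (h ≫ gb) hh2]
    exact fam_congr F x (by rw [Category.assoc, Category.assoc, hg]) hh1 hh2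
  have hcovsieve : Sieve.generate (Presieve.ofArrows
      (fun a : {O : U.left.Opens // IsAffineOpen O} => opn U a.1)
      (fun a => opnι U a.1)) ∈ zar X U := by
    rw [zar_mem_iff]
    intro p
    obtain ⟨O, hO, hpO, -⟩ := exists_isAffineOpen_mem_and_subset (x := p)
      (U := (⊤ : U.left.Opens)) trivial
    obtain ⟨z, hz⟩ := exists_opnι_eq U O p hpO
    exact ⟨opn U O, opnι U O, z,
      Sieve.le_generate _ _ _
        (Presieve.ofArrows.mk (⟨O, hO⟩ : {O : U.left.Opens // IsAffineOpen O})),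
      inferInstance, hz⟩
  have hsh := (Presieve.isSheafFor_iff_generate _).2 (hZ _ hcovsieve)
  obtain ⟨s, hs, -⟩ := (Presieve.isSheafFor_arrows_iff _ _).1 hsh sA hcompat
  have hamalg : x.IsAmalgamation s := by
    intro Y f hf
    apply zar_ext F hZ
    intro y
    obtain ⟨O, hO, hyO, -⟩ := exists_isAffineOpen_mem_and_subset (x := f.left y)
      (U := (⊤ : U.left.Opens)) trivial
    obtain ⟨O', hyO', hO'⟩ : ∃ O' : Y.left.Opens, y ∈ O' ∧ ∀ w ∈ O', f.left w ∈ O :=
      ⟨f.left ⁻¹ᵁ O, hyO, fun w hw => hw⟩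
    obtain ⟨k, hk⟩ := exists_lift (opnι Y O' ≫ f) (opnι U O) (by
      rintro _ ⟨w, rfl⟩
      have hw := hO' _ (opnι_mem Y O' w)
      have : f.left ((opnι Y O').left w) ∈ Set.range O.ι := by
        rw [Scheme.Opens.range_ι]; exact hw
      exact this)
    obtain ⟨z', hz'⟩ := exists_opnι_eq Y O' y hyO'
    refine ⟨opn Y O', opnι Y O', z', inferInstance, hz', ?_⟩
    have hSk : S (k ≫ opnι U O) := by
      rw [hk]; exact S.downward_closed hf _
    rw [← FunctorToTypes.map_comp_apply, ← op_comp, ← hk, op_comp, FunctorToTypes.map_comp_apply,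
      hs ⟨O, hO⟩, hsA ⟨O, hO⟩ k hSk]
    have e := Presieve.FamilyOfElements.comp_of_compatible S hx hf (opnι Y O')
    rw [← e]
    exact fam_congr F x hk hSk _
  refine ⟨s, hamalg, ?_⟩
  intro t ht
  apply sep F hZ hA U S hS
  intro Y f hf
  rw [ht f hf, hamalg f hf]

include hZ hA in
theorem isSheaf_etale_of_zar_of_affine : Presieve.IsSheaf X.smallEtaleTopology F :=
  fun U S hS => isSheafFor_of_zar_of_affine F hZ hA U S hS

end main

end ZarEt
end Groth.Agent.Lib.Helper15
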