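import Mathlib
import Groth.Prelude.Def_EtBase
import Groth.Prelude.Def_EtShriek2
import Groth.Agent.Lib.Helper13.StalkPull
import Groth.Agent.Lib.Helper13.StalkConservative
import Groth.Agent.Lib.Helper15.EtGlue
import Groth.Agent.Lib.Helper15.ZarEt

/-!
# Vanishing of stalks of `f_*` for a universally closed morphism

* `exists_open_vanish`: the largest open on which a section of an abelian etale sheaf vanishes.
* `isZero_stalk_push`: if `f : X ⟶ Y` is universally closed (e.g. finite) and the stalks of `H`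
  vanish at all geometric points of `X` over the image of a geometric point `ξ` of `Y`, then the
  stalk of `f_* H` at `ξ` vanishes.
* `bcCompIso`, `pushRestrIso`: for a cartesian square with etale `j`, `j'`, base change along `f`
  after composition with `j` is composition with `j'` after base change along `g`; hence
  `j^{-1} f_* ≅ g_* j'^{-1}`.
-/

set_option autoImplicit false
universe u

namespace Groth.Agent.Lib.Helper15.FinitePushVanish

open CategoryTheory Limits AlgebraicGeometry Opposite
open Groth.Agent.Lib.Helper13 Groth.Agent.Lib.Helper13.StalkPull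
  Groth.Agent.Lib.Helper13.StalkConservative
open Groth.Agent.Lib.Helper15

lemma exists_geomPt {X : Scheme.{u}} (x : X) : ∃ i : GeomPt X, i.ξ default = x :=
  ⟨{ Ω := SeparableClosure (X.residueField x)
     ξ := (Scheme.SpecToEquivOfField (SeparableClosure (X.residueField x)) _).2
      ⟨x, CommRingCat.ofHom (algebraMap (X.residueField x) _)⟩ },
    by simp [Scheme.SpecToEquivOfField]⟩

set_option backward.isDefEq.respectTransparency.types false in
/-- The largest open subscheme of an etale `X`-scheme on which a given section vanishes. -/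
lemma exists_open_vanish {X : Scheme.{u}} (H : EtCoh.Ab X) (T : X.Etale)
    (s : H.obj.obj (op T)) :
    ∃ O : T.left.Opens, H.obj.map (ZarEt.opnι T O).op s = 0 ∧
      ∀ (N : X.Etale) (g : N ⟶ T), H.obj.map g.op s = 0 → Set.range g.left ⊆ (O : Set T.left) := by
  have hopen : IsOpen {p : T.left | ∃ (N : X.Etale) (g : N ⟶ T) (z : N.left),
      g.left z = p ∧ H.obj.map g.op s = 0} := by
    rw [isOpen_iff_forall_mem_open]
    rintro p ⟨N, g, z, hz, hg⟩
    haveI : Etale N.hom := N.prop
    haveI : Etale T.hom := T.prop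
    haveI : Etale g.left := by
      have : g.left ≫ T.hom = N.hom := MorphismProperty.Over.w g
      exact MorphismProperty.of_postcomp (W := @Etale) (W' := @Etale) g.left T.hom
        inferInstance (by rw [this]; infer_instance)
    refine ⟨Set.range g.left, ?_, g.left.isOpenMap.isOpen_range, ⟨z, hz⟩⟩
    rintro _ ⟨z', rfl⟩
    exact ⟨N, g, z', rfl, hg⟩
  obtain ⟨O, hO⟩ : ∃ O : T.left.Opens, ∀ p : T.left, p ∈ O ↔ ∃ (N : X.Etale) (g : N ⟶ T)
      (z : N.left), g.left z = p ∧ H.obj.map g.op s = 0 := ⟨⟨_, hopen⟩, fun p => Iff.rfl⟩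
  refine ⟨O, ?_, ?_⟩
  · apply EtGlue.eq_of_locally_ab
    intro u
    obtain ⟨N, g₀, z₀, hz₀, hg₀⟩ := (hO _).1 (ZarEt.opnι_mem T O u)
    have hr : Set.range g₀.left ⊆ Set.range (ZarEt.opnι T O).left := by
      rintro _ ⟨z', rfl⟩
      obtain ⟨y, hy⟩ := ZarEt.exists_opnι_eq T O (g₀.left z') ((hO _).2 ⟨N, g₀, z', rfl, hg₀⟩)
      exact ⟨y, hy⟩
    obtain ⟨q, hq⟩ := ZarEt.exists_lift g₀ (ZarEt.opnι T O) hr
    refine ⟨N, q, z₀, ?_, ?_⟩
    · apply (ZarEt.opnι T O).left.isOpenEmbedding.injective
      rw [← hz₀, ← hq]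
      rfl
    · rw [map_zero, ← EtGlue.ab_map_comp, ← op_comp, hq]
      exact hg₀
  · rintro N g hg _ ⟨z, rfl⟩
    exact (hO _).2 ⟨N, g, z, rfl, hg⟩

lemma bc_map_fst {X Y : Scheme.{u}} (f : X ⟶ Y) {A B : Y.Etale} (a : A ⟶ B) :
    ((EtCoh.bc f).map a).left ≫ pullback.fst B.hom f = pullback.fst A.hom f ≫ a.left := by
  dsimp [EtCoh.bc]
  exact pullback.lift_fst _ _ _

lemma bc_map_snd {X Y : Scheme.{u}} (f : X ⟶ Y) {A B : Y.Etale} (a : A ⟶ B) :
    ((EtCoh.bc f).map a).left ≫ pullback.snd B.hom f = pullback.snd A.hom f := by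
  dsimp [EtCoh.bc]
  exact pullback.lift_snd _ _ _

set_option backward.isDefEq.respectTransparency.types false in
/-- If `f` is universally closed and the stalks of `H` vanish at all geometric points of `X` over
the image of `ξ`, then the stalk of `f_* H` at `ξ` vanishes. -/
theorem isZero_stalk_push {X Y : Scheme.{u}} (f : X ⟶ Y) [UniversallyClosed f] (H : EtCoh.Ab X)
    {Ω : Type u} [Field Ω] [IsSepClosed Ω] (ξ : Spec (CommRingCat.of Ω) ⟶ Y)
    (hH : ∀ i : GeomPt X, f (i.ξ default) = ξ default → IsZero ((EtCoh.stalk i.ξ).obj H)) :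
    IsZero ((EtCoh.stalk ξ).obj ((EtCoh.push f).obj H)) := by
  have hsub : ∀ t : ToType ((Scheme.pointSmallEtale ξ).presheafFiber.obj
      ((EtCoh.push f).obj H).obj), t = 0 := by
    intro t
    obtain ⟨W, w, s, rfl⟩ := (Scheme.pointSmallEtale ξ).toPresheafFiber_jointly_surjective t
    haveI : Etale W.hom := W.prop
    obtain ⟨wl, hwl⟩ : ∃ wl : Spec (CommRingCat.of Ω) ⟶ W.left, wl = w.left := ⟨w.left, rfl⟩
    have hw : wl ≫ W.hom = ξ := hwl ▸ Over.w w
    obtain ⟨O, hO0, hOmax⟩ := exists_open_vanish H ((EtCoh.bc f).obj W) s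
    have hfib : ∀ x' : ((EtCoh.bc f).obj W).left,
        (pullback.fst W.hom f) x' = wl default → x' ∈ O := by
      intro x' hx'
      obtain ⟨i, hi⟩ := exists_geomPt (((EtCoh.bc f).obj W).hom x')
      obtain ⟨p, hp⟩ := Scheme.pointSmallEtaleFiberObjToPreimage_surjective i.ξ hi
        ((EtCoh.bc f).obj W) ⟨x', rfl⟩
      have hfi : f (i.ξ default) = ξ default := by
        rw [hi, ← hw]
        have h1 : f ((pullback.snd W.hom f) x') = W.hom ((pullback.fst W.hom f) x') := by
          rw [← Scheme.Hom.comp_apply, ← Scheme.Hom.comp_apply, pullback.condition]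
        rw [hx'] at h1
        exact h1
      haveI : Subsingleton (ToType ((Scheme.pointSmallEtale i.ξ).presheafFiber.obj H.obj)) :=
        AddCommGrpCat.subsingleton_of_isZero (hH i hfi)
      have h0 : (Scheme.pointSmallEtale i.ξ).toPresheafFiber _ p H.obj s =
          (Scheme.pointSmallEtale i.ξ).toPresheafFiber _ p H.obj 0 := Subsingleton.elim _ _
      obtain ⟨N, g, n, hn, hg⟩ :=
        ((Scheme.pointSmallEtale i.ξ).toPresheafFiber_eq_iff' _ p s 0).1 h0
      have hsub := hOmax N g (hg.trans (map_zero _))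
      obtain ⟨nl, hnl⟩ : ∃ nl : Spec (CommRingCat.of i.Ω) ⟶ N.left, nl = n.left := ⟨n.left, rfl⟩
      have hx'' : g.left (nl default) = x' := by
        have h2 := congrArg (fun q => (Scheme.pointSmallEtaleFiberObjToPreimage i.ξ hi q).1) hn
        rw [hnl]
        exact h2.trans (congrArg Subtype.val hp)
      exact hsub ⟨nl default, hx''⟩
    -- the closed image of the complement of `O`
    have hcl : IsClosed ((pullback.fst W.hom f) '' ((O : Set ((EtCoh.bc f).obj W).left)ᶜ)) :=
      (pullback.fst W.hom f).isClosedMap _ O.isOpen.isClosed_compl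
    obtain ⟨W', hW'⟩ : ∃ W' : W.left.Opens, ∀ q : W.left, q ∈ W' ↔
        q ∉ (pullback.fst W.hom f) '' ((O : Set ((EtCoh.bc f).obj W).left)ᶜ) :=
      ⟨⟨_, hcl.isOpen_compl⟩, fun q => Iff.rfl⟩
    have hw₀ : wl default ∈ W' := by
      rw [hW']
      rintro ⟨x', hx'O, hx'⟩
      exact hx'O (hfib x' hx')
    have hrange : Set.range wl ⊆ Set.range (ZarEt.opnι W W').left := by
      rintro _ ⟨a, rfl⟩
      rw [Subsingleton.elim a default]
      obtain ⟨y, hy⟩ := ZarEt.exists_opnι_eq W W' _ hw₀
      exact ⟨y, hy⟩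
    obtain ⟨l, hl⟩ : ∃ l : Spec (CommRingCat.of Ω) ⟶ (ZarEt.opn W W').left,
        l ≫ (ZarEt.opnι W W').left = wl :=
      ⟨IsOpenImmersion.lift (ZarEt.opnι W W').left wl hrange, IsOpenImmersion.lift_fac _ _ _⟩
    obtain ⟨w', hw'⟩ : ∃ w' : (Scheme.pointSmallEtale ξ).fiber.obj (ZarEt.opn W W'),
        w'.left = l :=
      ⟨Over.homMk l (by
        show l ≫ (W'.ι ≫ W.hom) = ξ
        exact ((Category.assoc _ _ _).symm.trans (congrArg (· ≫ W.hom) hl)).trans hw), rfl⟩
    have hv : (Scheme.pointSmallEtale ξ).fiber.map (ZarEt.opnι W W') w' = w := by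
      apply Over.OverMorphism.ext
      show w'.left ≫ (ZarEt.opnι W W').left = w.left
      rw [hw', ← hwl]
      exact hl
    have hr : Set.range ((EtCoh.bc f).map (ZarEt.opnι W W')).left ⊆
        Set.range (ZarEt.opnι ((EtCoh.bc f).obj W) O).left := by
      rintro _ ⟨z, rfl⟩
      by_contra hz
      have hzO : ((EtCoh.bc f).map (ZarEt.opnι W W')).left z ∉ O := by
        intro hmem
        obtain ⟨y, hy⟩ := ZarEt.exists_opnι_eq _ O _ hmem
        exact hz ⟨y, hy⟩
      have h3 : (pullback.fst W.hom f) (((EtCoh.bc f).map (ZarEt.opnι W W')).left z) =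
          (ZarEt.opnι W W').left ((pullback.fst (ZarEt.opn W W').hom f) z) :=
        congrArg (fun m : ((EtCoh.bc f).obj (ZarEt.opn W W')).left ⟶ W.left => m z)
          (bc_map_fst f (ZarEt.opnι W W'))
      have h4 := (hW' _).1 (ZarEt.opnι_mem W W' ((pullback.fst (ZarEt.opn W W').hom f) z))
      exact h4 ⟨_, hzO, h3⟩
    obtain ⟨q, hq⟩ := ZarEt.exists_lift ((EtCoh.bc f).map (ZarEt.opnι W W'))
      (ZarEt.opnι ((EtCoh.bc f).obj W) O) hr
    have h0 : ((EtCoh.push f).obj H).obj.map (ZarEt.opnι W W').op s = 0 := by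
      show H.obj.map ((EtCoh.bc f).map (ZarEt.opnι W W')).op s = 0
      rw [← hq, op_comp, EtGlue.ab_map_comp, hO0, map_zero]
    rw [← hv, ← (Scheme.pointSmallEtale ξ).toPresheafFiber_w_apply, h0, map_zero]
  haveI : Subsingleton ↑((EtCoh.stalk ξ).obj ((EtCoh.push f).obj H)) :=
    ⟨fun a b => (hsub a).trans (hsub b).symm⟩
  exact AddCommGrpCat.isZero_of_subsingleton _

section cartesian

variable {U X V Y : Scheme.{u}} (f : X ⟶ Y) (j : V ⟶ Y) [Etale j] (j' : U ⟶ X) [Etale j']
  (g : U ⟶ V) (h : IsPullback j' g f j)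

omit [Etale j] [Etale j'] in
include h in
lemma big (W : V.Etale) :
    IsPullback (pullback.fst W.hom g) (pullback.snd W.hom g ≫ j') (W.hom ≫ j) f :=
  ((IsPullback.of_hasPullback W.hom g).flip.paste_horiz h).flip

set_option backward.isDefEq.respectTransparency.types false in
/-- Base change along `f` after composing with `j` is composing with `j'` after base change
along `g`, for a cartesian square. -/
noncomputable def bcCompIso :
    EtCoh.bc g ⋙ EtShriek.compEtale j' ≅ EtShriek.compEtale j ⋙ EtCoh.bc f :=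
  NatIso.ofComponents
    (fun W => MorphismProperty.Over.isoMk (big f j j' g h W).isoPullback
      (by
        show (big f j j' g h W).isoPullback.hom ≫ pullback.snd (W.hom ≫ j) f =
          pullback.snd W.hom g ≫ j'
        exact IsPullback.isoPullback_hom_snd _))
    (by
      intro W W' a
      apply MorphismProperty.Over.Hom.ext
      show ((EtCoh.bc g).map a).left ≫ (big f j j' g h W').isoPullback.hom =
        (big f j j' g h W).isoPullback.hom ≫
          ((EtCoh.bc f).map ((EtShriek.compEtale j).map a)).left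
      apply pullback.hom_ext
      · have e1 : ((EtCoh.bc g).map a).left ≫ (big f j j' g h W').isoPullback.hom ≫
            pullback.fst (W'.hom ≫ j) f = pullback.fst W.hom g ≫ a.left :=
          (congrArg (((EtCoh.bc g).map a).left ≫ ·) (IsPullback.isoPullback_hom_fst _)).trans
            (bc_map_fst g a)
        have e2 : ((big f j j' g h W).isoPullback.hom ≫
            ((EtCoh.bc f).map ((EtShriek.compEtale j).map a)).left) ≫
            pullback.fst (W'.hom ≫ j) f = pullback.fst W.hom g ≫ a.left :=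
          (Category.assoc _ _ _).trans
            ((congrArg ((big f j j' g h W).isoPullback.hom ≫ ·)
              (bc_map_fst f ((EtShriek.compEtale j).map a))).trans
              ((Category.assoc _ _ _).symm.trans
                (congrArg (· ≫ a.left) (IsPullback.isoPullback_hom_fst _))))
        exact ((Category.assoc _ _ _).trans e1).trans e2.symm
      · have e1 : ((EtCoh.bc g).map a).left ≫ (big f j j' g h W').isoPullback.hom ≫
            pullback.snd (W'.hom ≫ j) f = pullback.snd W.hom g ≫ j' :=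
          (congrArg (((EtCoh.bc g).map a).left ≫ ·) (IsPullback.isoPullback_hom_snd _)).trans
            ((Category.assoc _ _ _).symm.trans (congrArg (· ≫ j') (bc_map_snd g a)))
        have e2 : ((big f j j' g h W).isoPullback.hom ≫
            ((EtCoh.bc f).map ((EtShriek.compEtale j).map a)).left) ≫
            pullback.snd (W'.hom ≫ j) f = pullback.snd W.hom g ≫ j' :=
          (Category.assoc _ _ _).trans
            ((congrArg ((big f j j' g h W).isoPullback.hom ≫ ·)
              (bc_map_snd f ((EtShriek.compEtale j).map a))).trans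
              (IsPullback.isoPullback_hom_snd _))
        exact ((Category.assoc _ _ _).trans e1).trans e2.symm)

/-- `j^{-1} f_* ≅ g_* j'^{-1}` for a cartesian square with etale `j`, `j'`. -/
noncomputable def pushRestrIso [EtShriek.JCont j] [EtShriek.JCont j'] :
    EtCoh.push f ⋙ EtShriek.restrAlong j ≅ EtShriek.restrAlong j' ⋙ EtCoh.push g :=
  haveI : (EtCoh.bc g ⋙ EtShriek.compEtale j').IsContinuous V.smallEtaleTopology
      X.smallEtaleTopology :=
    Functor.isContinuous_comp _ _ _ U.smallEtaleTopology _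
  Functor.sheafPushforwardContinuousComp' (F := EtShriek.compEtale j) (G := EtCoh.bc f)
      (FG := EtCoh.bc g ⋙ EtShriek.compEtale j') (bcCompIso f j j' g h).symm
      AddCommGrpCat.{u + 1} V.smallEtaleTopology Y.smallEtaleTopology X.smallEtaleTopology ≪≫
    (Functor.sheafPushforwardContinuousComp' (F := EtCoh.bc g) (G := EtShriek.compEtale j')
      (FG := EtCoh.bc g ⋙ EtShriek.compEtale j') (Iso.refl _)
      AddCommGrpCat.{u + 1} V.smallEtaleTopology U.smallEtaleTopology X.smallEtaleTopology).symm

end cartesian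

end Groth.Agent.Lib.Helper15.FinitePushVanish
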