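import Mathlib
import Groth.Prelude.Def_EtBase
import Groth.Agent.Lib.Helper15.FinKL2
import Groth.Agent.Lib.Helper15.EtGlue
import Groth.Agent.Lib.Helper15.FinitePushVanish

/-!
# Étale coverings of `X ×_Y V` for finite `f : X ⟶ Y` are refined by clopen decompositions

`exists_refinement`: let `f : X ⟶ Y` be finite, `V` étale over `Y`, `v` a geometric point of `V`
(with values in an algebraically closed field), and for every geometric point `ξ` of `X ×_Y V`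
over `v` let `DU ξ ⟶ X ×_Y V` be a pointed étale neighbourhood of `ξ`.  Then there is a pointed
étale neighbourhood `V' ⟶ V` of `v` such that `X ×_Y V'` is a finite disjoint union of open
pieces, each of which maps (pointedly, compatibly) to one of the `DU ξ`.
-/

set_option autoImplicit false
set_option backward.isDefEq.respectTransparency false
universe u

namespace Groth.Agent.Lib.Helper15.FinKLGeom

open CategoryTheory Limits AlgebraicGeometry Opposite TensorProduct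
open Groth.Agent.Lib.Helper15

lemma range_subset {Ω : Type u} [Field Ω] {U S : Scheme.{u}}
    (u : Spec (CommRingCat.of Ω) ⟶ U) (k : S ⟶ U) (y : S) (hy : k y = u default) :
    Set.range u ⊆ Set.range k := by
  rintro _ ⟨a, rfl⟩
  rw [Subsingleton.elim a default]
  exact ⟨y, hy⟩

theorem exists_affine_refine {Ω : Type u} [Field Ω] {U : Scheme.{u}} {B : CommRingCat.{u}}
    (g : U ⟶ Spec B) [Etale g] (u : Spec (CommRingCat.of Ω) ⟶ U) :
    ∃ (T : CommRingCat.{u}) (β : B ⟶ T) (mU : Spec T ⟶ U) (w : T →+* Ω),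
      β.hom.Etale ∧ mU ≫ g = Spec.map β ∧ Spec.map (CommRingCat.ofHom w) ≫ mU = u := by
  obtain ⟨T, k, hk, y, hy⟩ := Scheme.exists_Spec_apply_eq (u default)
  haveI := hk
  have hr : Set.range u ⊆ Set.range k := range_subset u k y hy
  obtain ⟨β, hβ⟩ := Spec.map_surjective (k ≫ g)
  obtain ⟨w, hw⟩ := Spec.map_surjective (IsOpenImmersion.lift k u hr)
  refine ⟨T, β, k, w.hom, ?_, hβ.symm, ?_⟩
  · have : Etale (Spec.map β) := by
      rw [hβ]
      infer_instance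
    exact (HasRingHomProperty.Spec_iff (P := @Etale)).1 this
  · have h1 : CommRingCat.ofHom w.hom = w := rfl
    rw [h1, hw, IsOpenImmersion.lift_fac]

instance isOpenImmersion_eval {ι : Type u} (R : ι → CommRingCat.{u}) (i : ι) :
    IsOpenImmersion (Spec.map (CommRingCat.ofHom (Pi.evalRingHom (fun i => (R i : Type u)) i))) := by
  rw [← ι_sigmaSpec R i]
  infer_instance

lemma mem_range_comap_eval {ι : Type u} [DecidableEq ι] (R : ι → Type u) [∀ i, CommRing (R i)]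
    (i : ι) (q : PrimeSpectrum (∀ i, R i)) (hq : (Pi.single i 1 : ∀ i, R i) ∉ q.asIdeal) :
    q ∈ Set.range (PrimeSpectrum.comap (Pi.evalRingHom R i)) := by
  rw [range_comap_of_surjective _ _ (Function.surjective_eval i)]
  intro t ht
  have ht0 : t i = 0 := ht
  have h0 : t * Pi.single i 1 = 0 := by
    funext k
    by_cases hk : k = i
    · subst hk
      rw [Pi.mul_apply, Pi.zero_apply, ht0, zero_mul]
    · rw [Pi.mul_apply, Pi.zero_apply, Pi.single_eq_of_ne hk, mul_zero]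
  have h1 : t * Pi.single i 1 ∈ q.asIdeal := by
    rw [h0]
    exact zero_mem _
  exact (q.isPrime.mem_or_mem h1).resolve_right hq

lemma single_mul_single {ι : Type u} [DecidableEq ι] (R : ι → Type u) [∀ i, CommRing (R i)]
    (k l : ι) (hkl : k ≠ l) : (Pi.single k 1 : ∀ i, R i) * Pi.single l 1 = 0 := by
  funext i
  rw [Pi.mul_apply, Pi.zero_apply]
  by_cases hi : i = k
  · subst hi
    rw [Pi.single_eq_of_ne hkl, mul_zero]
  · rw [Pi.single_eq_of_ne hi, zero_mul]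

lemma iso_inv_hom_apply {P Q : Scheme.{u}} (θ : P ≅ Q) (y : P) : θ.inv (θ.hom y) = y := by
  have : (θ.hom ≫ θ.inv) y = y := by
    rw [Iso.hom_inv_id]
    rfl
  rwa [Scheme.Hom.comp_apply] at this

theorem exists_refinement {X Y : Scheme.{u}} (f : X ⟶ Y) [IsFinite f] {Ω : Type u} [Field Ω]
    [IsAlgClosed Ω] (V : Y.Etale) (v : Spec (CommRingCat.of Ω) ⟶ V.left)
    (DU : (Spec (CommRingCat.of Ω) ⟶ ((EtCoh.bc f).obj V).left) → X.Etale)
    (Dg : ∀ ξ, DU ξ ⟶ (EtCoh.bc f).obj V)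
    (Du : ∀ ξ, Spec (CommRingCat.of Ω) ⟶ (DU ξ).left)
    (hD : ∀ ξ, ξ ≫ pullback.fst V.hom f = v → Du ξ ≫ (Dg ξ).left = ξ) :
    ∃ (V' : Scheme.{u}) (vh : V' ⟶ Y) (_ : Etale vh) (a : Scheme.Etale.mk vh ⟶ V)
      (v' : Spec (CommRingCat.of Ω) ⟶ V') (κ : Type u) (_ : Finite κ)
      (pt : κ → (Spec (CommRingCat.of Ω) ⟶ ((EtCoh.bc f).obj V).left))
      (W : κ → (pullback f vh).Opens)
      (m : ∀ k, EtGlue.piece f vh (W k) ⟶ DU (pt k))
      (wp : ∀ k, Spec (CommRingCat.of Ω) ⟶ (EtGlue.piece f vh (W k)).left),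
      v' ≫ a.left = v ∧
      (∀ ξ, ξ ≫ pullback.fst V.hom f = v → ∃ k, pt k = ξ) ∧
      (∀ k, pt k ≫ pullback.fst V.hom f = v) ∧
      (∀ k l, k ≠ l → Disjoint (W k) (W l)) ∧
      (∀ x, ∃ k, x ∈ W k) ∧
      (∀ k, m k ≫ Dg (pt k) = EtGlue.pieceι f vh (W k) ≫ (EtCoh.bc f).map a) ∧
      (∀ k, wp k ≫ (m k).left = Du (pt k)) ∧
      (∀ k, wp k ≫ (EtGlue.pieceι f vh (W k)).left ≫ pullback.fst vh f = v') := by
  classical
  haveI : Etale V.hom := V.prop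
  obtain ⟨A, j, hj, y, hy⟩ := Scheme.exists_Spec_apply_eq (v default)
  haveI := hj
  obtain ⟨v₀, hv₀⟩ : ∃ v₀ : Spec (CommRingCat.of Ω) ⟶ Spec A, v₀ ≫ j = v :=
    ⟨IsOpenImmersion.lift j v (range_subset v j y hy), IsOpenImmersion.lift_fac _ _ _⟩
  obtain ⟨a₀c, ha₀c⟩ := Spec.map_surjective v₀
  haveI : IsAffine (pullback (j ≫ V.hom) f) :=
    isAffine_of_isAffineHom (pullback.fst (j ≫ V.hom) f)
  obtain ⟨B, ⟨iso⟩⟩ : ∃ (B : CommRingCat.{u}), Nonempty (Spec B ≅ pullback (j ≫ V.hom) f) :=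
    ⟨_, ⟨(Scheme.isoSpec _).symm⟩⟩
  obtain ⟨φ, hφ⟩ := Spec.map_surjective (iso.hom ≫ pullback.fst (j ≫ V.hom) f)
  have hφfin : φ.hom.Finite := by
    rw [← IsFinite.SpecMap_iff, hφ]
    infer_instance
  letI algAB : Algebra A B := φ.hom.toAlgebra
  haveI : Module.Finite A B := hφfin
  letI algAΩ : Algebra A Ω := a₀c.hom.toAlgebra
  obtain ⟨c, hc⟩ : ∃ c : pullback (j ≫ V.hom) f ⟶ ((EtCoh.bc f).obj V).left,
      c = pullback.map (j ≫ V.hom) f V.hom f j (𝟙 X) (𝟙 Y) (by simp) (by simp) := ⟨_, rfl⟩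
  have hc1 : c ≫ pullback.fst V.hom f = pullback.fst (j ≫ V.hom) f ≫ j := by
    rw [hc]
    exact pullback.lift_fst _ _ _
  have hc2 : c ≫ pullback.snd V.hom f = pullback.snd (j ≫ V.hom) f := by
    rw [hc]
    exact (pullback.lift_snd _ _ _).trans (Category.comp_id _)
  obtain ⟨pt, hpt⟩ : ∃ pt : (B →ₐ[A] Ω) → (Spec (CommRingCat.of Ω) ⟶ ((EtCoh.bc f).obj V).left),
      ∀ ξ, pt ξ = Spec.map (CommRingCat.ofHom ξ.toRingHom) ≫ iso.hom ≫ c := ⟨_, fun _ => rfl⟩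
  have hξφ : ∀ ξ : B →ₐ[A] Ω, φ ≫ CommRingCat.ofHom ξ.toRingHom = a₀c := fun ξ => by
    ext a
    exact ξ.commutes a
  have hover : ∀ ξ, pt ξ ≫ pullback.fst V.hom f = v := fun ξ => by
    rw [hpt, Category.assoc, Category.assoc, hc1, ← Category.assoc iso.hom, ← hφ, ← Category.assoc,
      ← Spec.map_comp, hξφ, ha₀c, hv₀]
  -- per-point affine refinements
  have key : ∀ ξ : B →ₐ[A] Ω, ∃ (T : CommRingCat.{u}) (β : B ⟶ T)
      (mU : Spec T ⟶ (DU (pt ξ)).left) (w : T →+* Ω), β.hom.Etale ∧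
      mU ≫ (Dg (pt ξ)).left = Spec.map β ≫ iso.hom ≫ c ∧
      Spec.map (CommRingCat.ofHom w) ≫ mU = Du (pt ξ) ∧ w.comp β.hom = ξ.toRingHom := by
    intro ξ
    have hu := hD (pt ξ) (hover ξ)
    haveI : Etale (DU (pt ξ)).hom := (DU (pt ξ)).prop
    haveI : Etale ((EtCoh.bc f).obj V).hom := ((EtCoh.bc f).obj V).prop
    haveI : Etale (Dg (pt ξ)).left := by
      have h1 : (Dg (pt ξ)).left ≫ ((EtCoh.bc f).obj V).hom = (DU (pt ξ)).hom :=
        MorphismProperty.Over.w (Dg (pt ξ))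
      exact MorphismProperty.of_postcomp (W := @Etale) (W' := @Etale) _
        ((EtCoh.bc f).obj V).hom inferInstance (by rw [h1]; infer_instance)
    obtain ⟨z, hz1, hz2⟩ : ∃ z : Spec (CommRingCat.of Ω) ⟶ pullback (Dg (pt ξ)).left c,
        z ≫ pullback.fst _ _ = Du (pt ξ) ∧
        z ≫ pullback.snd _ _ = Spec.map (CommRingCat.ofHom ξ.toRingHom) ≫ iso.hom :=
      ⟨pullback.lift (Du (pt ξ)) (Spec.map (CommRingCat.ofHom ξ.toRingHom) ≫ iso.hom)
        (by rw [hu, hpt, Category.assoc]), pullback.lift_fst _ _ _, pullback.lift_snd _ _ _⟩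
    obtain ⟨T, β, mQ, w, hβ, hmQ, hw⟩ :=
      exists_affine_refine (pullback.snd (Dg (pt ξ)).left c ≫ iso.inv) z
    refine ⟨T, β, mQ ≫ pullback.fst _ _, w, hβ, ?_, ?_, ?_⟩
    · rw [Category.assoc, pullback.condition, ← hmQ]
      simp only [Category.assoc, Iso.inv_hom_id_assoc]
    · rw [← Category.assoc, hw, hz1]
    · have h1 : β ≫ CommRingCat.ofHom w = CommRingCat.ofHom ξ.toRingHom := by
        apply Spec.map_injective
        rw [Spec.map_comp, ← hmQ, ← Category.assoc, hw, ← Category.assoc, hz2, Category.assoc,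
          Iso.hom_inv_id, Category.comp_id]
      exact congrArg CommRingCat.Hom.hom h1
  choose Tξ β mU wξ hβet hmU hwu hwβ using key
  letI algBT : ∀ ξ, Algebra B (Tξ ξ) := fun ξ => (β ξ).hom.toAlgebra
  haveI : ∀ ξ, Algebra.Etale B (Tξ ξ) := fun ξ => RingHom.etale_algebraMap.1 (hβet ξ)
  obtain ⟨toAlg, htoAlg⟩ : ∃ toAlg : {ξ : B →+* Ω // ξ.comp (algebraMap A B) = a₀c.hom} →
      (B →ₐ[A] Ω), ∀ ξ b, toAlg ξ b = ξ.1 b :=
    ⟨fun ξ => { ξ.1 with commutes' := fun a => congrArg (fun f : A →+* Ω => f a) ξ.2 },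
      fun ξ b => rfl⟩
  obtain ⟨E, _, _, _, e₀, σ, he₀, hσ⟩ := FinKL.exists_etale_nbhd_lift_geo (A := (A : Type u))
    (B := (B : Type u)) (T := ∀ ξ, (Tξ ξ : Type u)) a₀c.hom
    (fun ξ => (wξ (toAlg ξ)).comp (Pi.evalRingHom (fun ξ => (Tξ ξ : Type u)) (toAlg ξ)))
    (fun ξ => by
      ext b
      show wξ (toAlg ξ) ((β (toAlg ξ)).hom b) = ξ.1 b
      rw [← htoAlg]
      exact congrArg (fun f : B →+* Ω => f b) (hwβ (toAlg ξ)))
  -- the new neighbourhood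
  obtain ⟨EA, hEA⟩ : ∃ EA : Spec (CommRingCat.of E) ⟶ Spec A,
      EA = Spec.map (CommRingCat.ofHom (algebraMap A E)) := ⟨_, rfl⟩
  haveI : Etale EA := by
    rw [hEA]
    exact (HasRingHomProperty.Spec_iff (P := @Etale)).2 (RingHom.etale_algebraMap.2 inferInstance)
  obtain ⟨vh, hvh⟩ : ∃ vh : Spec (CommRingCat.of E) ⟶ Y, vh = EA ≫ j ≫ V.hom := ⟨_, rfl⟩
  haveI : Etale vh := by
    rw [hvh]
    infer_instance
  obtain ⟨a, ha⟩ : ∃ a : Scheme.Etale.mk vh ⟶ V, a.left = EA ≫ j :=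
    ⟨MorphismProperty.Over.homMk (EA ≫ j) (by rw [Category.assoc]; exact hvh.symm), rfl⟩
  obtain ⟨v', hv'⟩ : ∃ v' : Spec (CommRingCat.of Ω) ⟶ Spec (CommRingCat.of E),
      v' = Spec.map (CommRingCat.ofHom e₀) := ⟨_, rfl⟩
  have he₀c : CommRingCat.ofHom (algebraMap A E) ≫ CommRingCat.ofHom e₀ = a₀c := by
    ext a
    exact congrArg (fun f : A →+* Ω => f a) he₀
  have hv'a : v' ≫ a.left = v := by
    rw [ha, hv', hEA, ← Category.assoc, ← Spec.map_comp, he₀c, ha₀c, hv₀]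
  -- the identification of `X ×_Y V'` with `Spec (B ⊗ E)`
  obtain ⟨iL, hiL⟩ : ∃ iL : Spec (CommRingCat.of (B ⊗[A] E)) ⟶ Spec B, iL = Spec.map
      (CommRingCat.ofHom (Algebra.TensorProduct.includeLeftRingHom : B →+* B ⊗[A] E)) :=
    ⟨_, rfl⟩
  obtain ⟨iR, hiR⟩ : ∃ iR : Spec (CommRingCat.of (B ⊗[A] E)) ⟶ Spec (CommRingCat.of E),
      iR = Spec.map (CommRingCat.ofHom
        (Algebra.TensorProduct.includeRight : E →ₐ[A] B ⊗[A] E).toRingHom) := ⟨_, rfl⟩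
  have pb1 : IsPullback iL iR (Spec.map φ) EA := by
    rw [hiL, hiR, hEA]
    exact isPullback_SpecMap_of_isPushout _ _ _ _ (CommRingCat.isPushout_tensorProduct A B E)
  have pb2 : IsPullback (iso.hom ≫ pullback.snd (j ≫ V.hom) f) (Spec.map φ) f (j ≫ V.hom) := by
    refine (IsPullback.of_iso_pullback ⟨?_⟩ iso hφ.symm rfl).flip
    rw [hφ, Category.assoc, pullback.condition, Category.assoc]
  have pbig : IsPullback (iL ≫ iso.hom ≫ pullback.snd (j ≫ V.hom) f) iR f vh := by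
    rw [hvh]
    exact pb1.paste_horiz pb2
  obtain ⟨θ, hθ1, hθ2⟩ : ∃ θ : Spec (CommRingCat.of (B ⊗[A] E)) ≅ pullback f vh,
      θ.hom ≫ pullback.fst f vh = iL ≫ iso.hom ≫ pullback.snd (j ≫ V.hom) f ∧
      θ.hom ≫ pullback.snd f vh = iR :=
    ⟨pbig.isoPullback, pbig.isoPullback_hom_fst, pbig.isoPullback_hom_snd⟩
  have hθ1' : θ.inv ≫ iL ≫ iso.hom ≫ pullback.snd (j ≫ V.hom) f = pullback.fst f vh := by
    rw [← hθ1, Iso.inv_hom_id_assoc]
  have hθ2' : θ.inv ≫ iR = pullback.snd f vh := by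
    rw [← hθ2, Iso.inv_hom_id_assoc]
  -- the pieces
  obtain ⟨W, hW⟩ : ∃ W : (B →ₐ[A] Ω) → (pullback f vh).Opens,
      ∀ ξ x, x ∈ W ξ ↔ σ (Pi.single ξ 1) ∉ (θ.inv x).asIdeal :=
    ⟨fun ξ => ⟨(θ.inv : _ → _) ⁻¹' (PrimeSpectrum.basicOpen (σ (Pi.single ξ 1)) :
        Set (PrimeSpectrum (B ⊗[A] E))),
      (PrimeSpectrum.basicOpen (σ (Pi.single ξ 1))).isOpen.preimage θ.inv.continuous⟩,
      fun ξ x => Iff.rfl⟩
  have hdisj : ∀ k l : B →ₐ[A] Ω, k ≠ l → Disjoint (W k) (W l) := by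
    intro k l hkl
    rw [disjoint_iff_inf_le]
    rintro x ⟨h1, h2⟩
    rw [SetLike.mem_coe, hW] at h1 h2
    have h3 : σ (Pi.single k 1) * σ (Pi.single l 1) ∈ (θ.inv x).asIdeal := by
      rw [← map_mul, single_mul_single (fun ξ => (Tξ ξ : Type u)) k l hkl, map_zero]
      exact zero_mem _
    rcases (θ.inv x).isPrime.mem_or_mem h3 with h4 | h4
    · exact h1 h4
    · exact h2 h4
  have hcov : ∀ x, ∃ k, x ∈ W k := by
    intro x
    cases nonempty_fintype (B →ₐ[A] Ω)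
    by_contra hne
    push_neg at hne
    have h1 : ∀ k, σ (Pi.single k 1) ∈ (θ.inv x).asIdeal := fun k => by
      have := hne k
      rw [hW, not_not] at this
      exact this
    have h2 : (1 : B ⊗[A] E) ∈ (θ.inv x).asIdeal := by
      have h3 : (∑ k, Pi.single k (1 : Tξ k) : ∀ ξ, Tξ ξ) = 1 :=
        Finset.univ_sum_single (1 : ∀ ξ, Tξ ξ)
      rw [← map_one σ, ← h3, map_sum]
      exact Ideal.sum_mem _ (fun k _ => h1 k)
    exact (θ.inv x).isPrime.ne_top ((Ideal.eq_top_iff_one _).2 h2)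
  -- maps from the pieces to the affine refinements
  obtain ⟨sσ, hsσ⟩ : ∃ sσ : Spec (CommRingCat.of (B ⊗[A] E)) ⟶
      Spec (CommRingCat.of (∀ ξ, (Tξ ξ : Type u))),
      sσ = Spec.map (CommRingCat.ofHom σ.toRingHom) := ⟨_, rfl⟩
  obtain ⟨ev, hev⟩ : ∃ ev : ∀ ξ, Spec (Tξ ξ) ⟶ Spec (CommRingCat.of (∀ ξ, (Tξ ξ : Type u))),
      ∀ ξ, ev ξ = Spec.map (CommRingCat.ofHom
        (Pi.evalRingHom (fun ξ => (Tξ ξ : Type u)) ξ)) := ⟨_, fun _ => rfl⟩
  haveI : ∀ ξ, IsOpenImmersion (ev ξ) := fun ξ => by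
    rw [hev]
    exact isOpenImmersion_eval Tξ ξ
  have hrange : ∀ ξ, Set.range ((W ξ).ι ≫ θ.inv ≫ sσ) ⊆ Set.range (ev ξ) := by
    rintro ξ _ ⟨p, rfl⟩
    have hp : (W ξ).ι p ∈ W ξ := EtGlue.ι_mem f vh (W ξ) p
    rw [hW] at hp
    obtain ⟨y, hy⟩ := mem_range_comap_eval (fun ξ => (Tξ ξ : Type u)) ξ
      (PrimeSpectrum.comap σ.toRingHom (θ.inv ((W ξ).ι p))) hp
    refine ⟨y, ?_⟩
    rw [Scheme.Hom.comp_apply, Scheme.Hom.comp_apply, hev, hsσ]
    exact hy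
  obtain ⟨lf, hlf⟩ : ∃ lf : ∀ ξ, ((W ξ : (pullback f vh).Opens) : Scheme.{u}) ⟶ Spec (Tξ ξ),
      ∀ ξ, lf ξ ≫ ev ξ = (W ξ).ι ≫ θ.inv ≫ sσ :=
    ⟨fun ξ => IsOpenImmersion.lift (ev ξ) _ (hrange ξ),
      fun ξ => IsOpenImmersion.lift_fac _ _ _⟩
  have hβeval : ∀ ξ, β ξ = CommRingCat.ofHom (algebraMap B (∀ ξ, (Tξ ξ : Type u))) ≫
      CommRingCat.ofHom (Pi.evalRingHom (fun ξ => (Tξ ξ : Type u)) ξ) := fun ξ => by
    ext b
    rfl
  have hσincl : CommRingCat.ofHom (algebraMap B (∀ ξ, (Tξ ξ : Type u))) ≫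
      CommRingCat.ofHom σ.toRingHom =
      CommRingCat.ofHom (Algebra.TensorProduct.includeLeftRingHom : B →+* B ⊗[A] E) := by
    ext b
    refine (σ.commutes b).trans ?_
    rw [Algebra.TensorProduct.algebraMap_apply]
    rfl
  have E1 : ∀ ξ, lf ξ ≫ Spec.map (β ξ) = (W ξ).ι ≫ θ.inv ≫ iL := fun ξ => by
    rw [hβeval, Spec.map_comp, ← hev, ← Category.assoc, hlf, hsσ, Category.assoc, Category.assoc,
      ← Spec.map_comp, hσincl, hiL]
  have E2 : ∀ ξ, (lf ξ ≫ mU ξ) ≫ (Dg (pt ξ)).left = (W ξ).ι ≫ θ.inv ≫ iL ≫ iso.hom ≫ c :=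
    fun ξ => by
    rw [Category.assoc, hmU, ← Category.assoc, E1]
    simp only [Category.assoc]
  have E3 : ∀ ξ, (lf ξ ≫ mU ξ) ≫ (DU (pt ξ)).hom = (EtGlue.piece f vh (W ξ)).hom := fun ξ => by
    rw [← MorphismProperty.Over.w (Dg (pt ξ)), ← Category.assoc, E2]
    show ((W ξ).ι ≫ θ.inv ≫ iL ≫ iso.hom ≫ c) ≫ pullback.snd V.hom f = (W ξ).ι ≫ pullback.fst f vh
    simp only [Category.assoc]
    rw [hc2, hθ1']
  obtain ⟨m, hm⟩ : ∃ m : ∀ ξ, EtGlue.piece f vh (W ξ) ⟶ DU (pt ξ), ∀ ξ, (m ξ).left = lf ξ ≫ mU ξ :=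
    ⟨fun ξ => MorphismProperty.Over.homMk (lf ξ ≫ mU ξ) (E3 ξ), fun ξ => rfl⟩
  -- the geometric points of the pieces
  obtain ⟨e₀a, he₀a⟩ : ∃ e₀a : E →ₐ[A] Ω, ∀ x, e₀a x = e₀ x :=
    ⟨{ e₀ with commutes' := fun a => congrArg (fun f : A →+* Ω => f a) he₀ }, fun x => rfl⟩
  obtain ⟨ψ, hψ⟩ : ∃ ψ : (B →ₐ[A] Ω) → (B ⊗[A] E →+* Ω),
      ∀ ξ x, ψ ξ x = Algebra.TensorProduct.productMap ξ e₀a x :=
    ⟨fun ξ => (Algebra.TensorProduct.productMap ξ e₀a).toRingHom, fun _ _ => rfl⟩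
  have hψR : ∀ ξ, (ψ ξ).comp (Algebra.TensorProduct.includeRight : E →ₐ[A] B ⊗[A] E).toRingHom =
      e₀ := fun ξ => by
    ext x
    show ψ ξ ((1 : B) ⊗ₜ[A] x) = e₀ x
    rw [hψ, Algebra.TensorProduct.productMap_right_apply, he₀a]
  have hψL : ∀ ξ, (ψ ξ).comp Algebra.TensorProduct.includeLeftRingHom = ξ.toRingHom := fun ξ => by
    ext b
    show ψ ξ (b ⊗ₜ[A] (1 : E)) = ξ b
    rw [hψ, Algebra.TensorProduct.productMap_left_apply]
  have hψσ : ∀ ξ, (ψ ξ).comp σ.toRingHom =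
      (wξ ξ).comp (Pi.evalRingHom (fun ξ => (Tξ ξ : Type u)) ξ) := fun ξ => by
    have hcompat : ξ.toRingHom.comp (algebraMap A B) = a₀c.hom := by
      ext a
      exact ξ.commutes a
    have h1 := hσ (ψ ξ) (hψR ξ) ⟨ξ.toRingHom, hcompat⟩ (hψL ξ).symm
    have h2 : toAlg ⟨ξ.toRingHom, hcompat⟩ = ξ := AlgHom.ext (fun b => htoAlg _ b)
    rw [h1]
    exact congrArg (fun ξ' => (wξ ξ').comp (Pi.evalRingHom (fun ξ => (Tξ ξ : Type u)) ξ')) h2
  have hψ1 : ∀ ξ, ψ ξ (σ (Pi.single ξ 1)) = 1 := fun ξ => by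
    have h1 := congrArg (fun g : (∀ ξ, (Tξ ξ : Type u)) →+* Ω => g (Pi.single ξ 1)) (hψσ ξ)
    refine h1.trans ?_
    show wξ ξ ((Pi.single ξ 1 : ∀ ξ, (Tξ ξ : Type u)) ξ) = 1
    rw [Pi.single_eq_same, map_one]
  have hwr : ∀ ξ, Set.range (Spec.map (CommRingCat.ofHom (ψ ξ)) ≫ θ.hom) ⊆
      Set.range (W ξ).ι := by
    rintro ξ _ ⟨pnt, rfl⟩
    rw [Scheme.Opens.range_ι, SetLike.mem_coe, hW, Scheme.Hom.comp_apply, iso_inv_hom_apply,
      Spec.map_apply, PrimeSpectrum.comap_asIdeal, Ideal.mem_comap]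
    show ¬ (ψ ξ (σ (Pi.single ξ 1)) ∈ pnt.asIdeal)
    rw [hψ1]
    exact fun h => pnt.isPrime.ne_top ((Ideal.eq_top_iff_one _).2 h)
  obtain ⟨wp, hwp⟩ : ∃ wp : ∀ ξ, Spec (CommRingCat.of Ω) ⟶ (EtGlue.piece f vh (W ξ)).left,
      ∀ ξ, wp ξ ≫ (W ξ).ι = Spec.map (CommRingCat.ofHom (ψ ξ)) ≫ θ.hom :=
    ⟨fun ξ => IsOpenImmersion.lift (W ξ).ι _ (hwr ξ), fun ξ => IsOpenImmersion.lift_fac _ _ _⟩
  refine ⟨Spec (CommRingCat.of E), vh, inferInstance, a, v', (B →ₐ[A] Ω), inferInstance, pt, W, m,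
    wp, hv'a, ?_, hover, hdisj, hcov, ?_, ?_, ?_⟩
  · -- surjectivity of `pt`
    intro ξt hξt
    obtain ⟨xP, hxP1, hxP2⟩ : ∃ xP : Spec (CommRingCat.of Ω) ⟶ pullback (j ≫ V.hom) f,
        xP ≫ pullback.fst _ _ = v₀ ∧ xP ≫ pullback.snd _ _ = ξt ≫ pullback.snd V.hom f :=
      ⟨pullback.lift v₀ (ξt ≫ pullback.snd V.hom f) (by
        rw [← Category.assoc, hv₀, ← hξt, Category.assoc, Category.assoc, pullback.condition]),
        pullback.lift_fst _ _ _, pullback.lift_snd _ _ _⟩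
    have hxc : xP ≫ c = ξt := by
      apply pullback.hom_ext
      · rw [Category.assoc, hc1, ← Category.assoc, hxP1, hv₀, hξt]
      · rw [Category.assoc, hc2, hxP2]
    obtain ⟨ξc, hξc⟩ := Spec.map_surjective (xP ≫ iso.inv)
    have h1 : φ ≫ ξc = a₀c := by
      apply Spec.map_injective
      rw [Spec.map_comp, hξc, hφ, Category.assoc, Iso.inv_hom_id_assoc, hxP1, ha₀c]
    obtain ⟨ξa, hξa⟩ : ∃ ξa : B →ₐ[A] Ω, CommRingCat.ofHom ξa.toRingHom = ξc :=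
      ⟨{ ξc.hom with
          commutes' := fun a => congrArg (fun g : A ⟶ CommRingCat.of Ω => g.hom a) h1 }, rfl⟩
    refine ⟨ξa, ?_⟩
    rw [hpt, hξa, hξc, Category.assoc, Iso.inv_hom_id_assoc, hxc]
  · -- compatibility of `m`
    intro ξ
    apply MorphismProperty.Over.Hom.ext
    show (m ξ).left ≫ (Dg (pt ξ)).left =
      (EtGlue.pieceι f vh (W ξ)).left ≫ ((EtCoh.bc f).map a).left
    rw [hm, E2, EtGlue.pieceι_left]
    apply pullback.hom_ext
    · have e1 : ((W ξ).ι ≫ θ.inv ≫ iL ≫ iso.hom ≫ c) ≫ pullback.fst V.hom f =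
          (W ξ).ι ≫ θ.inv ≫ iR ≫ EA ≫ j := by
        simp only [Category.assoc]
        rw [hc1, ← Category.assoc iso.hom, ← hφ, ← Category.assoc iL, pb1.w]
        simp only [Category.assoc]
      have e2 : (((W ξ).ι ≫ (pullbackSymmetry vh f).inv) ≫ ((EtCoh.bc f).map a).left) ≫
          pullback.fst V.hom f = (W ξ).ι ≫ θ.inv ≫ iR ≫ EA ≫ j := by
        rw [Category.assoc, Category.assoc, FinitePushVanish.bc_map_fst f a, ha]
        show (W ξ).ι ≫ (pullbackSymmetry vh f).inv ≫ pullback.fst vh f ≫ EA ≫ j = _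
        rw [← Category.assoc (pullbackSymmetry vh f).inv, pullbackSymmetry_inv_comp_fst, ← hθ2']
        simp only [Category.assoc]
      exact e1.trans e2.symm
    · have e1 : ((W ξ).ι ≫ θ.inv ≫ iL ≫ iso.hom ≫ c) ≫ pullback.snd V.hom f =
          (W ξ).ι ≫ pullback.fst f vh := by
        simp only [Category.assoc]
        rw [hc2, hθ1']
      have e2 : (((W ξ).ι ≫ (pullbackSymmetry vh f).inv) ≫ ((EtCoh.bc f).map a).left) ≫
          pullback.snd V.hom f = (W ξ).ι ≫ pullback.fst f vh := by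
        rw [Category.assoc, Category.assoc, FinitePushVanish.bc_map_snd f a]
        show (W ξ).ι ≫ (pullbackSymmetry vh f).inv ≫ pullback.snd vh f = _
        rw [pullbackSymmetry_inv_comp_snd]
      exact e1.trans e2.symm
  · -- the points map to the given points
    intro ξ
    have h1 : wp ξ ≫ lf ξ = Spec.map (CommRingCat.ofHom (wξ ξ)) := by
      rw [← cancel_mono (ev ξ), Category.assoc, hlf, ← Category.assoc, hwp, Category.assoc,
        Iso.hom_inv_id_assoc, hsσ, hev, ← Spec.map_comp, ← Spec.map_comp]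
      congr 1
      refine CommRingCat.hom_ext (RingHom.ext fun t => ?_)
      exact congrArg (fun g : (∀ ξ, (Tξ ξ : Type u)) →+* Ω => g t) (hψσ ξ)
    rw [hm, ← Category.assoc, h1, hwu]
  · intro ξ
    rw [EtGlue.pieceι_left, Category.assoc, pullbackSymmetry_inv_comp_fst, ← Category.assoc, hwp,
      Category.assoc, hθ2, hiR, hv', ← Spec.map_comp]
    congr 1
    ext x
    exact congrArg (fun g : E →+* Ω => g x) (hψR ξ)

end Groth.Agent.Lib.Helper15.FinKLGeom
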