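import Mathlib
import Groth.Prelude.Def_EtBase
import Groth.Agent.Lib.Helper15.FinKLGeom
import Groth.Agent.Lib.Helper13.DerivedExact

/-!
# The direct image along a finite morphism is exact on abelian étale sheaves

* `exists_nbhd_of_covering`: for finite `f : X ⟶ Y`, a covering sieve of `X ×_Y V` is refined,
  étale locally on `V`, by a finite decomposition of `X ×_Y V'` into disjoint open pieces.
* `push_map_epi`, `push_preservesFiniteColimits`, `isZero_Rpush`.
-/

set_option autoImplicit false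
set_option backward.isDefEq.respectTransparency false
universe u

namespace Groth.Agent.Lib.Helper15.FinitePushExact

open CategoryTheory Limits AlgebraicGeometry Opposite
open Groth.Agent.Lib.Helper15

lemma exists_geom_point {U : Scheme.{u}} (y : U) :
    ∃ (Ω : Type u) (_ : Field Ω) (_ : IsAlgClosed Ω) (v : Spec (CommRingCat.of Ω) ⟶ U),
      v default = y :=
  ⟨AlgebraicClosure (U.residueField y), inferInstance, inferInstance,
    (Scheme.SpecToEquivOfField (AlgebraicClosure (U.residueField y)) _).2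
      ⟨y, CommRingCat.ofHom (algebraMap (U.residueField y) _)⟩,
    by simp [Scheme.SpecToEquivOfField]⟩

lemma etale_left {X : Scheme.{u}} {Z T : X.Etale} (g : Z ⟶ T) : Etale g.left := by
  haveI : Etale Z.hom := Z.prop
  haveI : Etale T.hom := T.prop
  have h1 : g.left ≫ T.hom = Z.hom := MorphismProperty.Over.w g
  exact MorphismProperty.of_postcomp (W := @Etale) (W' := @Etale) g.left T.hom
    inferInstance (by rw [h1]; infer_instance)

theorem exists_nbhd_of_covering {X Y : Scheme.{u}} (f : X ⟶ Y) [IsFinite f] (V : Y.Etale)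
    (R : Sieve ((EtCoh.bc f).obj V)) (hR : R ∈ X.smallEtaleTopology ((EtCoh.bc f).obj V))
    (y : V.left) :
    ∃ (V' : Scheme.{u}) (vh : V' ⟶ Y) (_ : Etale vh) (a : Scheme.Etale.mk vh ⟶ V) (y' : V'),
      a.left y' = y ∧ ∃ (κ : Type u) (_ : Finite κ) (W : κ → (pullback f vh).Opens),
      (∀ k l, k ≠ l → Disjoint (W k) (W l)) ∧ (∀ x, ∃ k, x ∈ W k) ∧
      ∀ k, R (EtGlue.pieceι f vh (W k) ≫ (EtCoh.bc f).map a) := by
  obtain ⟨Ω, _, _, v, hv⟩ := exists_geom_point y
  have h1 : ∀ ξ : Spec (CommRingCat.of Ω) ⟶ ((EtCoh.bc f).obj V).left, ∃ (Z : X.Etale)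
      (g : Z ⟶ (EtCoh.bc f).obj V) (l : Spec (CommRingCat.of Ω) ⟶ Z.left),
      R g ∧ l ≫ g.left = ξ := by
    intro ξ
    obtain ⟨Z, g, z, hg, hz⟩ := (EtGlue.mem_iff _ R).1 hR (ξ default)
    haveI : Etale g.left := etale_left g
    obtain ⟨l, hl, -⟩ := ProEtPoint.exists_lift g.left ξ z hz
    exact ⟨Z, g, l, hg, hl⟩
  choose DU Dg Du hRg hDu using h1
  obtain ⟨V', vh, hvh, a, v', κ, hκ, pt, W, m, wp, h1, h2, h3, h4, h5, h6, h7, h8⟩ :=
    FinKLGeom.exists_refinement f V v DU Dg Du (fun ξ _ => hDu ξ)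
  refine ⟨V', vh, hvh, a, v' default, ?_, κ, hκ, W, h4, h5, fun k => ?_⟩
  · rw [← hv, ← h1]
    rfl
  · rw [← h6]
    exact R.downward_closed (hRg (pt k)) (m k)

theorem push_map_epi {X Y : Scheme.{u}} (f : X ⟶ Y) [IsFinite f] {F G : EtCoh.Ab X} (φ : F ⟶ G)
    [Epi φ] : Epi ((EtCoh.push f).map φ) := by
  rw [← Sheaf.isLocallySurjective_iff_epi' AddCommGrpCat.{u + 1}]
  haveI hloc : Sheaf.IsLocallySurjective φ :=
    (Sheaf.isLocallySurjective_iff_epi' AddCommGrpCat.{u + 1} φ).2 inferInstance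
  constructor
  intro V s
  rw [EtGlue.mem_iff]
  intro y
  have hmem := Presheaf.imageSieve_mem X.smallEtaleTopology φ.hom
    (U := op ((EtCoh.bc f).obj V)) s
  obtain ⟨V', vh, hvh, a, y', hy', κ, hκ, W, hdisj, hcov, hRk⟩ :=
    exists_nbhd_of_covering f V _ hmem y
  refine ⟨Scheme.Etale.mk vh, a, y', ?_, hy'⟩
  choose tk htk using hRk
  have hcov' : ∀ x : ((EtCoh.bc f).obj (Scheme.Etale.mk vh)).left, ∃ k p,
      (EtGlue.pieceι f vh (W k)).left p = x := fun x => by
    obtain ⟨k, hk⟩ := hcov ((pullbackSymmetry vh f).hom x)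
    obtain ⟨p, hp⟩ := EtGlue.exists_pieceι_eq f vh (W k) x hk
    exact ⟨k, p, hp⟩
  obtain ⟨t, ht, -⟩ := EtGlue.glueAb F (fun k => EtGlue.piece f vh (W k))
    (fun k => EtGlue.pieceι f vh (W k)) (fun k => inferInstance)
    (fun k l hkl p q => EtGlue.pieceι_ne f vh (hdisj k l hkl) p q) hcov' tk
  refine ⟨t, ?_⟩
  apply EtGlue.eq_of_locally_ab G
  intro x
  obtain ⟨k, p, hp⟩ := hcov' x
  refine ⟨EtGlue.piece f vh (W k), EtGlue.pieceι f vh (W k), p, hp, ?_⟩
  have e1 := EtGlue.ab_hom_nat φ (EtGlue.pieceι f vh (W k)).op t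
  have e2 := htk k
  have e3 := EtGlue.ab_map_comp G ((EtCoh.bc f).map a).op (EtGlue.pieceι f vh (W k)).op s
  rw [ht k] at e1
  exact e1.symm.trans (e2.trans e3)

instance push_preservesFiniteLimits {X Y : Scheme.{u}} (f : X ⟶ Y) :
    PreservesFiniteLimits (EtCoh.push f) := by
  have : PreservesLimitsOfSize.{0, 0} (EtCoh.push f) :=
    (EtCoh.pullPushAdj f).rightAdjoint_preservesLimits
  exact PreservesLimitsOfSize.preservesFiniteLimits.{0, 0} _

/-- A left exact functor between abelian categories which preserves epimorphisms is exact. -/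
lemma preservesFiniteColimits_of_preservesEpi {A B : Type*} [Category A] [Category B]
    [Abelian A] [Abelian B] (F : A ⥤ B) [PreservesFiniteLimits F]
    (h : ∀ {X Y : A} (f : X ⟶ Y), Epi f → Epi (F.map f)) : PreservesFiniteColimits F := by
  have : F.Additive := Functor.additive_of_preserves_binary_products _
  rw [Functor.preservesFiniteColimits_iff_forall_exact_map_and_epi]
  intro S hS
  have := hS.epi_g
  exact ⟨((Functor.preservesFiniteLimits_iff_forall_exact_map_and_mono F).1 inferInstance S hS).1,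
    h S.g inferInstance⟩

theorem push_preservesFiniteColimits {X Y : Scheme.{u}} (f : X ⟶ Y) [IsFinite f] :
    PreservesFiniteColimits (EtCoh.push f) :=
  preservesFiniteColimits_of_preservesEpi _ (fun φ hφ => by
    haveI := hφ
    exact push_map_epi f φ)

theorem isZero_Rpush {X Y : Scheme.{u}} (f : X ⟶ Y) [IsFinite f] (F : EtCoh.Ab X) (q : ℕ) :
    IsZero ((EtCoh.Rpush f (q + 1)).obj F) := by
  have := push_preservesFiniteColimits f
  exact Groth.Agent.Lib.Helper13.DerivedExact.isZero_rightDerived_succ_of_exact _ q F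

end Groth.Agent.Lib.Helper15.FinitePushExact
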