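import Groth.Agent.Lib.Helper15.TransferField

/-!
# Helper15: transitivity of pullback on etale cohomology, and the period-index consequence of
the transfer for fields (Sylow argument)
-/

set_option autoImplicit false
set_option backward.isDefEq.respectTransparency false
universe u
open CategoryTheory CategoryTheory.Limits AlgebraicGeometry Opposite

namespace Groth.Agent.Lib.Helper15.HpullTrans

open EtCore Groth.Agent.Lib.Helper2.EtMV

section Trans

variable {X Y Z : Scheme.{u}} (f : X ⟶ Y) (t : Y ⟶ Z) (f₀ : X ⟶ Z) (w : f ≫ t = f₀)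

lemma Hpull_apply [PreservesFiniteLimits (EtCoh.pull t)] (G : EtCoh.Ab Z) (p : ℕ)
    (e : Abelian.Ext.{u + 1} (EtCoh.const Z ℤ) G p) :
    Hpull t G p e = (Abelian.Ext.mk₀ (pullConst t ℤ).inv).comp
      (e.mapExactFunctor (EtCoh.pull t)) (zero_add p) := rfl

lemma HpullVia_apply [PreservesFiniteLimits (EtCoh.pull f)] (G : EtCoh.Ab Z) (p : ℕ)
    (y : EtCoh.H Y ((EtCoh.pull t).obj G) p) :
    HpullVia f t f₀ w G p y = Abelian.Ext.comp (Hpull f ((EtCoh.pull t).obj G) p y)
      (Abelian.Ext.mk₀ (((pullComp f t).symm ≪≫ pullCongr w).app G).hom) (add_zero p) := rfl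

/-- **Transitivity of pullback on cohomology.** -/
theorem HpullVia_Hpull [PreservesFiniteLimits (EtCoh.pull f)]
    [PreservesFiniteLimits (EtCoh.pull t)] [PreservesFiniteLimits (EtCoh.pull f₀)]
    (G : EtCoh.Ab Z) (p : ℕ) (e : EtCoh.H Z G p) :
    HpullVia f t f₀ w G p (Hpull t G p e) = Hpull f₀ G p e := by
  obtain ⟨κ, hκ⟩ : ∃ κ : EtCoh.pull t ⋙ EtCoh.pull f ⟶ EtCoh.pull f₀,
      κ = ((pullComp f t).symm ≪≫ pullCongr w).hom := ⟨_, rfl⟩
  have hnat := mapExact_nat (EtCoh.pull t) (EtCoh.pull f) (EtCoh.pull f₀) κ p e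
  have hc : (pullConst f ℤ).inv ≫ (EtCoh.pull f).map (pullConst t ℤ).inv ≫
      κ.app (EtCoh.const Z ℤ) = (pullConst f₀ ℤ).inv := by
    rw [hκ]; exact pullConst_via f t w ℤ
  have hG : (((pullComp f t).symm ≪≫ pullCongr w).app G).hom = κ.app G := by rw [hκ]; rfl
  rw [HpullVia_apply, hG, Hpull_apply t, Hpull_apply f, Hpull_apply f₀, ← hc]
  rw [Abelian.Ext.mapExactFunctor_comp, Abelian.Ext.mapExactFunctor_mk₀]
  rw [Abelian.Ext.comp_assoc_of_third_deg_zero, Abelian.Ext.comp_assoc_of_third_deg_zero, hnat,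
    Abelian.Ext.mk₀_comp_mk₀_assoc, Abelian.Ext.mk₀_comp_mk₀_assoc, Category.assoc]

lemma Hpull_eq_zero_of_HpullVia_eq_zero [PreservesFiniteLimits (EtCoh.pull f)] (G : EtCoh.Ab Z)
    (p : ℕ) (y : EtCoh.H Y ((EtCoh.pull t).obj G) p) (h : HpullVia f t f₀ w G p y = 0) :
    Hpull f ((EtCoh.pull t).obj G) p y = 0 := by
  rw [HpullVia_apply] at h
  obtain ⟨ε, hε⟩ : ∃ ε : (EtCoh.pull f).obj ((EtCoh.pull t).obj G) ≅ (EtCoh.pull f₀).obj G,
      ε = ((pullComp f t).symm ≪≫ pullCongr w).app G := ⟨_, rfl⟩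
  rw [← hε] at h
  have h2 := congrArg (fun z => Abelian.Ext.comp z (Abelian.Ext.mk₀ ε.inv) (add_zero p)) h
  simp only [Abelian.Ext.comp_assoc_of_third_deg_zero, Abelian.Ext.mk₀_comp_mk₀, Iso.hom_inv_id,
    Abelian.Ext.comp_mk₀_id, Abelian.Ext.zero_comp] at h2
  exact h2

include w in
/-- If a class dies on `Y`, it dies on every `X` over `Y`. -/
lemma Hpull_eq_zero_of_factor [PreservesFiniteLimits (EtCoh.pull f)]
    [PreservesFiniteLimits (EtCoh.pull t)] [PreservesFiniteLimits (EtCoh.pull f₀)]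
    (G : EtCoh.Ab Z) (p : ℕ) (e : EtCoh.H Z G p) (h : Hpull t G p e = 0) :
    Hpull f₀ G p e = 0 := by
  rw [← HpullVia_Hpull f t f₀ w G p e, h, map_zero]

end Trans

section Galois

open IntermediateField

theorem exists_sylow_tower (K L : Type u) [Field K] [Field L] [Algebra K L]
    [FiniteDimensional K L] [Algebra.IsSeparable K L] (p : ℕ) [Fact p.Prime] :
    ∃ (M : Type u) (_ : Field M) (_ : Algebra K M) (_ : Algebra L M) (_ : IsScalarTower K L M)
      (_ : FiniteDimensional K M) (_ : Algebra.IsSeparable K M) (L' : IntermediateField K M),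
      ¬ p ∣ Module.finrank K L' ∧ ∃ a : ℕ, Module.finrank L' M = p ^ a := by
  classical
  haveI hsepf : ∀ f : L →ₐ[K] AlgebraicClosure L, Algebra.IsSeparable K f.fieldRange :=
    fun f => AlgEquiv.Algebra.isSeparable (AlgEquiv.ofInjectiveField f)
  haveI hsep : Algebra.IsSeparable K (normalClosure K L (AlgebraicClosure L)) :=
    inferInstanceAs (Algebra.IsSeparable K
      (⨆ f : L →ₐ[K] AlgebraicClosure L, f.fieldRange : IntermediateField K (AlgebraicClosure L)))
  haveI hgal : IsGalois K (normalClosure K L (AlgebraicClosure L)) :=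
    isGalois_iff.2 ⟨hsep, inferInstance⟩
  obtain ⟨P⟩ : Nonempty (Sylow p ((normalClosure K L (AlgebraicClosure L)) ≃ₐ[K]
      (normalClosure K L (AlgebraicClosure L)))) := inferInstance
  refine ⟨normalClosure K L (AlgebraicClosure L), inferInstance, inferInstance, inferInstance,
    inferInstance, inferInstance, hsep, IntermediateField.fixedField P.toSubgroup, ?_, ?_⟩
  · have h1 := IntermediateField.finrank_fixedField_eq_card P.toSubgroup
    have h2 := Module.finrank_mul_finrank K (IntermediateField.fixedField P.toSubgroup)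
      (normalClosure K L (AlgebraicClosure L))
    have h3 := IsGalois.card_aut_eq_finrank K (normalClosure K L (AlgebraicClosure L))
    have h4 := Subgroup.index_mul_card P.toSubgroup
    have h5 : 0 < Nat.card P.toSubgroup := Nat.card_pos
    have h6 : Module.finrank K (IntermediateField.fixedField P.toSubgroup) =
        P.toSubgroup.index := by
      apply Nat.eq_of_mul_eq_mul_right h5
      rw [h4, h3, ← h2, h1]
    rw [h6]
    exact P.not_dvd_index
  · obtain ⟨a, ha⟩ := IsPGroup.iff_card.mp P.isPGroup'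
    exact ⟨a, (IntermediateField.finrank_fixedField_eq_card P.toSubgroup).trans ha⟩

end Galois

section Main

open TransferExt

/-- S13843. -/
theorem main_S13843 (K : Type u) [Field K] (F : EtCoh.Ab (Spec (CommRingCat.of K))) (i : ℕ)
    (α : EtCoh.H (Spec (CommRingCat.of K)) F i) (L : Type u) [Field L] [Algebra K L]
    [FiniteDimensional K L] [Algebra.IsSeparable K L]
    [PreservesFiniteLimits (EtCoh.pull (Spec.map (CommRingCat.ofHom (algebraMap K L))))]
    (hα : EtCore.Hpull (Spec.map (CommRingCat.ofHom (algebraMap K L))) F i α = 0) (p : ℕ)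
    (hp : p.Prime) (hpα : ¬ p ∣ addOrderOf α) :
    ∃ (L' : Type u) (_ : Field L') (_ : Algebra K L') (_ : FiniteDimensional K L')
      (_ : Algebra.IsSeparable K L'),
      ¬ p ∣ Module.finrank K L' ∧
        ∀ [PreservesFiniteLimits (EtCoh.pull (Spec.map (CommRingCat.ofHom (algebraMap K L'))))],
          EtCore.Hpull (Spec.map (CommRingCat.ofHom (algebraMap K L'))) F i α = 0 := by
  haveI : Fact p.Prime := ⟨hp⟩
  obtain ⟨M, hM1, hM2, hM3, hM4, hM5, hM6, L', hL'1, a, ha⟩ := exists_sylow_tower K L p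
  haveI hs1 : Algebra.IsSeparable K L' := Algebra.isSeparable_tower_bot_of_isSeparable K L' M
  haveI hs2 : Algebra.IsSeparable L' M := Algebra.isSeparable_tower_top_of_isSeparable K L' M
  refine ⟨L', inferInstance, inferInstance, inferInstance, hs1, hL'1, ?_⟩
  intro inst
  haveI fd1 : FiniteDimensional L M := FiniteDimensional.right K L M
  haveI hs3 : Algebra.IsSeparable L M := Algebra.isSeparable_tower_top_of_isSeparable K L M
  haveI e1 := TransferField.etale_specMap K M
  haveI e2 := TransferField.etale_specMap L M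
  haveI e3 := TransferField.etale_specMap L' M
  haveI q1 := pull_preservesFiniteLimits (Spec.map (CommRingCat.ofHom (algebraMap K M)))
  haveI q2 := pull_preservesFiniteLimits (Spec.map (CommRingCat.ofHom (algebraMap L M)))
  haveI q3 := pull_preservesFiniteLimits (Spec.map (CommRingCat.ofHom (algebraMap L' M)))
  have w₁ : Spec.map (CommRingCat.ofHom (algebraMap L M)) ≫
      Spec.map (CommRingCat.ofHom (algebraMap K L)) =
      Spec.map (CommRingCat.ofHom (algebraMap K M)) := by
    rw [← Spec.map_comp, ← CommRingCat.ofHom_comp, ← IsScalarTower.algebraMap_eq]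
  have w₂ : Spec.map (CommRingCat.ofHom (algebraMap L' M)) ≫
      Spec.map (CommRingCat.ofHom (algebraMap K L')) =
      Spec.map (CommRingCat.ofHom (algebraMap K M)) := by
    rw [← Spec.map_comp, ← CommRingCat.ofHom_comp, ← IsScalarTower.algebraMap_eq]
  have h0 : EtCore.Hpull (Spec.map (CommRingCat.ofHom (algebraMap K M))) F i α = 0 :=
    Hpull_eq_zero_of_factor _ _ _ w₁ F i α hα
  have h1 := HpullVia_Hpull _ _ _ w₂ F i α
  rw [h0] at h1
  have h2 := Hpull_eq_zero_of_HpullVia_eq_zero _ _ _ w₂ F i _ h1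
  have h3 := TransferField.main_S13842 L' M _ i _ h2
  rw [ha] at h3
  have h4 : addOrderOf α • EtCore.Hpull (Spec.map (CommRingCat.ofHom (algebraMap K L'))) F i α
      = 0 := by
    rw [← map_nsmul, addOrderOf_nsmul_eq_zero, map_zero]
  exact TransferApps.smul_eq_zero_of_coprime _ (p ^ a) (addOrderOf α)
    (Nat.Coprime.pow_left a ((Nat.Prime.coprime_iff_not_dvd hp).2 hpα)) h3 h4

end Main

end Groth.Agent.Lib.Helper15.HpullTrans
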