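import Groth.Agent.Lib.Helper15.GabberMV
import Groth.Agent.Lib.Helper13.FlatPullback
import Groth.Agent.Lib.Helper15.FinitePushExact
import Groth.Agent.Lib.Helper15.HpullTrans
import Groth.Agent.Lib.Helper5.EtPsi
import Groth.Prelude.Def_EtAcyc
import Groth.Prelude.Def_SGA4b

/-!
# Helper15: acyclicity of composites (`g` acyclic ⇒ (`h` acyclic ↔ `g ≫ h` acyclic))

* `stalk_torsion_of_isLTorsion`, `isLTorsion_of_stalks`, `isLTorsion_pull`: `L`-torsion sheaves
  are detected on stalks, hence stable under inverse image.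
* `Hpull_bijective_of_isIso`: pullback along an isomorphism is bijective on cohomology.
* `compN_comp_iff`: two-out-of-three for the comparison condition.
* `isIso_unit_iff_of_comp`: the unit of a composite adjunction.
* `main_S3513`.
-/

set_option autoImplicit false
set_option backward.isDefEq.respectTransparency false
universe w v' u' u
open CategoryTheory CategoryTheory.Limits AlgebraicGeometry Opposite

namespace Groth.Agent.Lib.Helper15.AcycComp

open EtCore EtAcyc Groth.Agent.Lib.Helper2.EtMV Groth.Agent.Lib.Helper13.StalkConservative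
  Groth.Agent.Lib.Helper13.StalkPull

section Torsion

variable {X : Scheme.{u}}

lemma stalk_torsion_of_isLTorsion (L : Set ℕ) (F : EtCoh.Ab X) (hF : IsLTorsion L F)
    {Ω : Type u} [Field Ω] [IsSepClosed Ω] (ξ : Spec (CommRingCat.of Ω) ⟶ X)
    (z : ToType ((Scheme.pointSmallEtale ξ).presheafFiber.obj F.obj)) :
    ∃ m : ℕ, PrimesIn L m ∧ m • z = 0 := by
  obtain ⟨U, v, s, rfl⟩ := (Scheme.pointSmallEtale ξ).toPresheafFiber_jointly_surjective z
  obtain ⟨vl, hvl⟩ : ∃ vl : Spec (CommRingCat.of Ω) ⟶ U.left, vl = v.left := ⟨v.left, rfl⟩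
  have hv : vl ≫ U.hom = ξ := hvl ▸ Over.w v
  obtain ⟨V, g, m, ⟨w, hw⟩, hm, hs⟩ := hF U s (vl default)
  haveI : Etale g.left := FinitePushExact.etale_left g
  obtain ⟨l, hl, -⟩ := Scheme.exists_fac_of_etale_of_isSepClosed g.left vl w hw
  have hgw : g.left ≫ U.hom = V.hom := MorphismProperty.Over.w g
  obtain ⟨w', hw'⟩ : ∃ w' : (Scheme.pointSmallEtale ξ).fiber.obj V, w'.left = l :=
    ⟨Over.homMk l (by
      show l ≫ V.hom = ξ
      rw [← hgw, ← Category.assoc, hl, hv]), rfl⟩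
  have hmap : (Scheme.pointSmallEtale ξ).fiber.map g w' = v := by
    apply Over.OverMorphism.ext
    show w'.left ≫ g.left = v.left
    rw [hw', ← hvl]
    exact hl
  refine ⟨m, hm, ?_⟩
  rw [← hmap, ← (Scheme.pointSmallEtale ξ).toPresheafFiber_w_apply, ← map_nsmul, hs, map_zero]

lemma isLTorsion_of_stalks (L : Set ℕ) (F : EtCoh.Ab X)
    (h : ∀ (Ω : Type u) [Field Ω] [IsSepClosed Ω] (ξ : Spec (CommRingCat.of Ω) ⟶ X)
      (z : ToType ((Scheme.pointSmallEtale ξ).presheafFiber.obj F.obj)),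
      ∃ m : ℕ, PrimesIn L m ∧ m • z = 0) : IsLTorsion L F := by
  intro U s x
  obtain ⟨Ω, _, _, v, hv⟩ := FinitePushExact.exists_geom_point x
  obtain ⟨v', hv'⟩ : ∃ v' : (Scheme.pointSmallEtale (v ≫ U.hom)).fiber.obj U, v'.left = v :=
    ⟨Over.homMk v rfl, rfl⟩
  obtain ⟨m, hm, hz⟩ := h Ω (v ≫ U.hom)
    ((Scheme.pointSmallEtale (v ≫ U.hom)).toPresheafFiber U v' F.obj s)
  rw [← map_nsmul] at hz
  have hz' : (Scheme.pointSmallEtale (v ≫ U.hom)).toPresheafFiber U v' F.obj (m • s) =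
      (Scheme.pointSmallEtale (v ≫ U.hom)).toPresheafFiber U v' F.obj 0 :=
    hz.trans (map_zero _).symm
  obtain ⟨W, g, w, hw, hg⟩ :=
    ((Scheme.pointSmallEtale (v ≫ U.hom)).toPresheafFiber_eq_iff' U v' (m • s) 0).1 hz'
  obtain ⟨wl, hwl⟩ : ∃ wl : Spec (CommRingCat.of Ω) ⟶ W.left, wl = w.left := ⟨w.left, rfl⟩
  refine ⟨W, g, m, ⟨wl default, ?_⟩, hm, ?_⟩
  · have h1 : w.left ≫ g.left = v'.left := congrArg (fun q => q.left) hw
    have h2 : wl ≫ g.left = v := (congrArg (· ≫ g.left) hwl).trans (h1.trans hv')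
    have h3 : (wl ≫ g.left) default = v default :=
      congrArg (fun q : Spec (CommRingCat.of Ω) ⟶ U.left => q default) h2
    exact h3.trans hv
  · rw [← map_nsmul]
    exact hg.trans (map_zero _)

lemma isLTorsion_pull {Y : Scheme.{u}} (f : X ⟶ Y) (L : Set ℕ) (F : EtCoh.Ab Y)
    (hF : IsLTorsion L F) : IsLTorsion L ((EtCoh.pull f).obj F) := by
  apply isLTorsion_of_stalks
  intro Ω _ _ ξ z
  obtain ⟨ι, -⟩ : ∃ ι : (EtCoh.stalk ξ).obj ((EtCoh.pull f).obj F) ≅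
      (EtCoh.stalk (ξ ≫ f)).obj F, True := ⟨(stalkPullIso f ξ).app F, trivial⟩
  obtain ⟨m, hm, hz⟩ := stalk_torsion_of_isLTorsion L F hF (ξ ≫ f) (ι.hom z)
  refine ⟨m, hm, ?_⟩
  apply (ConcreteCategory.bijective_of_isIso ι.hom).1
  rw [map_nsmul, map_zero]
  exact hz

end Torsion

section ExtIso

variable {C : Type u'} [Category.{v'} C] [Abelian C] [HasExt.{w} C]

lemma postcomp_iso_bijective {A B B' : C} (ε : B ≅ B') (n : ℕ) :
    Function.Bijective
      (fun e : Abelian.Ext.{w} A B n => e.comp (Abelian.Ext.mk₀ ε.hom) (add_zero n)) := by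
  refine Function.bijective_iff_has_inverse.2
    ⟨fun e => e.comp (Abelian.Ext.mk₀ ε.inv) (add_zero n), ?_, ?_⟩
  · intro e
    show (e.comp (Abelian.Ext.mk₀ ε.hom) (add_zero n)).comp (Abelian.Ext.mk₀ ε.inv)
      (add_zero n) = e
    rw [Abelian.Ext.comp_assoc_of_third_deg_zero, Abelian.Ext.mk₀_comp_mk₀, Iso.hom_inv_id,
      Abelian.Ext.comp_mk₀_id]
  · intro e
    show (e.comp (Abelian.Ext.mk₀ ε.inv) (add_zero n)).comp (Abelian.Ext.mk₀ ε.hom)
      (add_zero n) = e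
    rw [Abelian.Ext.comp_assoc_of_third_deg_zero, Abelian.Ext.mk₀_comp_mk₀, Iso.inv_hom_id,
      Abelian.Ext.comp_mk₀_id]

lemma precomp_iso_bijective {A A' B : C} (ε : A' ≅ A) (n : ℕ) :
    Function.Bijective
      (fun e : Abelian.Ext.{w} A B n => (Abelian.Ext.mk₀ ε.hom).comp e (zero_add n)) := by
  refine Function.bijective_iff_has_inverse.2
    ⟨fun e => (Abelian.Ext.mk₀ ε.inv).comp e (zero_add n), ?_, ?_⟩
  · intro e
    show (Abelian.Ext.mk₀ ε.inv).comp ((Abelian.Ext.mk₀ ε.hom).comp e (zero_add n))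
      (zero_add n) = e
    rw [Abelian.Ext.mk₀_comp_mk₀_assoc, Iso.inv_hom_id, Abelian.Ext.mk₀_id_comp]
  · intro e
    show (Abelian.Ext.mk₀ ε.hom).comp ((Abelian.Ext.mk₀ ε.inv).comp e (zero_add n))
      (zero_add n) = e
    rw [Abelian.Ext.mk₀_comp_mk₀_assoc, Iso.hom_inv_id, Abelian.Ext.mk₀_id_comp]

end ExtIso

section IsoPull

lemma isIso_aMap_of_isIso {X Y : Scheme.{u}} (j : X ⟶ Y) [IsIso j] : IsIso (aMap j) := by
  rw [isIso_iff_stalks]
  intro i
  exact isIso_stalk_of_isIso_pull j (i.ξ ≫ inv j) i.ξ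
    (by rw [Category.assoc, IsIso.inv_hom_id, Category.comp_id]) (aMap j)

lemma Hpull_bijective_of_isIso {X Y : Scheme.{u}} (j : X ⟶ Y) [IsIso j]
    [PreservesFiniteLimits (EtCoh.pull j)] (F : EtCoh.Ab Y) (q : ℕ) :
    Function.Bijective (Hpull j F q) := by
  haveI := isIso_aMap_of_isIso j
  have h1 : ⇑(Hpull j F q) = ⇑(Θ j F q) ∘
      (fun e : Abelian.Ext.{u + 1} (EtCoh.const Y ℤ) F q =>
        (Abelian.Ext.mk₀ (asIso (aMap j)).hom).comp e (zero_add q)) := by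
    funext e
    exact Hpull_eq j F q e
  rw [h1]
  exact (Θ j F q).bijective.comp (precomp_iso_bijective (asIso (aMap j)) q)

end IsoPull

section Via

variable {X Y Z : Scheme.{u}} (f : X ⟶ Y) (t : Y ⟶ Z) (f₀ : X ⟶ Z) (w : f ≫ t = f₀)

lemma HpullVia_eq_comp [PreservesFiniteLimits (EtCoh.pull f)] (G : EtCoh.Ab Z) (p : ℕ) :
    ⇑(HpullVia f t f₀ w G p) =
      (fun e : Abelian.Ext.{u + 1} (EtCoh.const X ℤ)
          ((EtCoh.pull f).obj ((EtCoh.pull t).obj G)) p =>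
        e.comp (Abelian.Ext.mk₀ (((pullComp f t).symm ≪≫ pullCongr w).app G).hom)
          (add_zero p)) ∘ ⇑(Hpull f ((EtCoh.pull t).obj G) p) := by
  funext y
  exact HpullTrans.HpullVia_apply f t f₀ w G p y

lemma HpullVia_bijective_iff [PreservesFiniteLimits (EtCoh.pull f)] (G : EtCoh.Ab Z) (p : ℕ) :
    Function.Bijective (HpullVia f t f₀ w G p) ↔
      Function.Bijective (Hpull f ((EtCoh.pull t).obj G) p) := by
  rw [HpullVia_eq_comp]
  exact Function.Bijective.of_comp_iff'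
    (postcomp_iso_bijective (((pullComp f t).symm ≪≫ pullCongr w).app G) p) _

lemma HpullVia_injective_iff [PreservesFiniteLimits (EtCoh.pull f)] (G : EtCoh.Ab Z) (p : ℕ) :
    Function.Injective (HpullVia f t f₀ w G p) ↔
      Function.Injective (Hpull f ((EtCoh.pull t).obj G) p) := by
  rw [HpullVia_eq_comp]
  exact Function.Injective.of_comp_iff
    (postcomp_iso_bijective (((pullComp f t).symm ≪≫ pullCongr w).app G) p).1 _

end Via

section CompN

open Groth.Agent.Lib.Helper13.FlatPullback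

theorem compN_comp_iff {A B C : Scheme.{u}} (a : A ⟶ B) (b : B ⟶ C) (c : A ⟶ C)
    (w : a ≫ b = c) (L : Set ℕ) (n : ℕ) (ha : CompN a L n) : CompN b L n ↔ CompN c L n := by
  constructor
  · intro hb F hF inst
    obtain ⟨hb1, hb2⟩ := hb F hF
    obtain ⟨ha1, ha2⟩ := ha ((EtCoh.pull b).obj F) (isLTorsion_pull b L F hF)
    have key : ∀ q, ⇑(Hpull c F q) = ⇑(HpullVia a b c w F q) ∘ ⇑(Hpull b F q) := by
      intro q
      funext e
      exact (HpullTrans.HpullVia_Hpull a b c w F q e).symm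
    refine ⟨fun q hq => ?_, ?_⟩
    · rw [key q]
      exact ((HpullVia_bijective_iff a b c w F q).2 (ha1 q hq)).comp (hb1 q hq)
    · rw [key (n + 1)]
      exact ((HpullVia_injective_iff a b c w F (n + 1)).2 ha2).comp hb2
  · intro hc F hF inst
    obtain ⟨hc1, hc2⟩ := hc F hF
    obtain ⟨ha1, ha2⟩ := ha ((EtCoh.pull b).obj F) (isLTorsion_pull b L F hF)
    have key : ∀ q, ⇑(Hpull c F q) = ⇑(HpullVia a b c w F q) ∘ ⇑(Hpull b F q) := by
      intro q
      funext e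
      exact (HpullTrans.HpullVia_Hpull a b c w F q e).symm
    refine ⟨fun q hq => ?_, ?_⟩
    · have h1 := hc1 q hq
      rw [key q] at h1
      exact (Function.Bijective.of_comp_iff'
        ((HpullVia_bijective_iff a b c w F q).2 (ha1 q hq)) _).1 h1
    · have h1 := hc2
      rw [key (n + 1)] at h1
      exact Function.Injective.of_comp h1

lemma compN_of_isIso {A B : Scheme.{u}} (t : A ⟶ B) [IsIso t] (L : Set ℕ) (n : ℕ) :
    CompN t L n := by
  intro F _ inst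
  exact ⟨fun q _ => Hpull_bijective_of_isIso t F q, (Hpull_bijective_of_isIso t F (n + 1)).1⟩

end CompN

section Geometry

lemma exists_iso_prj {X Y Z : Scheme.{u}} (g : X ⟶ Y) (h : Y ⟶ Z) (V : Z.Etale) :
    ∃ t : pullback V.hom (g ≫ h) ⟶ pullback ((EtCoh.bc h).obj V).hom g,
      IsIso t ∧ t ≫ prj g ((EtCoh.bc h).obj V) ≫
        (prj h V : ((EtCoh.bc h).obj V).left ⟶ V.left) = prj (g ≫ h) V := by
  have hP : IsPullback (pullback.fst ((EtCoh.bc h).obj V).hom g ≫ pullback.fst V.hom h)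
      (pullback.snd ((EtCoh.bc h).obj V).hom g) V.hom (g ≫ h) :=
    (IsPullback.of_hasPullback ((EtCoh.bc h).obj V).hom g).paste_horiz
      (IsPullback.of_hasPullback V.hom h)
  refine ⟨hP.isoPullback.inv, inferInstance, ?_⟩
  have h1 : hP.isoPullback.hom ≫ pullback.fst V.hom (g ≫ h) =
      pullback.fst ((EtCoh.bc h).obj V).hom g ≫ pullback.fst V.hom h := hP.isoPullback_hom_fst
  exact (Iso.inv_comp_eq _).2 h1.symm

end Geometry

section Abelian

theorem isAcyclicN_comp_iff {X Y Z : Scheme.{u}} (g : X ⟶ Y) (h : Y ⟶ Z) (L : Set ℕ) (n : ℕ)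
    (hg : IsAcyclicN g L n) : IsAcyclicN h L n ↔ IsAcyclicN (g ≫ h) L n := by
  have key : ∀ V : Z.Etale, CompN (prj h V) L n ↔ CompN (prj (g ≫ h) V) L n := by
    intro V
    obtain ⟨t, ht, hw⟩ := exists_iso_prj g h V
    haveI := ht
    have h1 : CompN (prj h V) L n ↔
        CompN (prj g ((EtCoh.bc h).obj V) ≫
          (prj h V : ((EtCoh.bc h).obj V).left ⟶ V.left)) L n :=
      compN_comp_iff (prj g ((EtCoh.bc h).obj V))
        (prj h V : ((EtCoh.bc h).obj V).left ⟶ V.left) _ rfl L n (hg ((EtCoh.bc h).obj V))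
    have h2 : CompN (prj g ((EtCoh.bc h).obj V) ≫
          (prj h V : ((EtCoh.bc h).obj V).left ⟶ V.left)) L n ↔ CompN (prj (g ≫ h) V) L n :=
      compN_comp_iff t _ _ hw L n (compN_of_isIso t L n)
    exact h1.trans h2
  exact ⟨fun hh V => (key V).1 (hh V), fun hh V => (key V).2 (hh V)⟩

end Abelian

section AdjUnit

variable {C₁ : Type*} {C₂ : Type*} {C₃ : Type*} [Category C₁] [Category C₂] [Category C₃]
  {L₁ : C₁ ⥤ C₂} {R₁ : C₂ ⥤ C₁} {L₂ : C₂ ⥤ C₃} {R₂ : C₃ ⥤ C₂} {Lc : C₁ ⥤ C₃} {Rc : C₃ ⥤ C₁}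

lemma isIso_comp_iso_iff {D : Type*} [Category D] {P Q R : D} (f : P ⟶ Q) (g : Q ⟶ R)
    [IsIso g] : IsIso (f ≫ g) ↔ IsIso f :=
  ⟨fun _ => IsIso.of_isIso_comp_right f g, fun _ => inferInstance⟩

lemma isIso_unit_iff_of_comp (adj₁ : L₁ ⊣ R₁) (adj₂ : L₂ ⊣ R₂) (adj : Lc ⊣ Rc)
    (φ : R₂ ⋙ R₁ ≅ Rc) (X : C₁) [IsIso (adj₂.unit.app (L₁.obj X))] :
    IsIso (adj.unit.app X) ↔ IsIso (adj₁.unit.app X) := by
  obtain ⟨adjC, hC⟩ : ∃ adjC : L₁ ⋙ L₂ ⊣ Rc, adjC = (adj₁.comp adj₂).ofNatIsoRight φ :=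
    ⟨_, rfl⟩
  have h0 : adjC.unit.app X =
      (adj₁.comp adj₂).unit.app X ≫ φ.hom.app ((L₁ ⋙ L₂).obj X) := by
    have e1 : adjC.unit.app X = adjC.homEquiv X _ (𝟙 _) := (Adjunction.homEquiv_id adjC X).symm
    rw [e1, hC, Adjunction.homEquiv_ofNatIsoRight_apply, Adjunction.homEquiv_id]
  have h1 : adjC.unit.app X = adj₁.unit.app X ≫
      (R₁.map (adj₂.unit.app (L₁.obj X)) ≫ φ.hom.app (L₂.obj (L₁.obj X))) := by
    rw [h0, Adjunction.comp_unit_app, Category.assoc]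
    rfl
  have h2 := Adjunction.unit_leftAdjointUniq_hom_app adj adjC X
  have hA : IsIso (adj.unit.app X) ↔ IsIso (adjC.unit.app X) := by
    rw [← h2]
    exact (isIso_comp_iso_iff _ _).symm
  have hB : IsIso (adjC.unit.app X) ↔ IsIso (adj₁.unit.app X) := by
    rw [h1]
    exact isIso_comp_iso_iff _ _
  exact hA.trans hB

end AdjUnit

section Sets

open Groth.Agent.Lib.Helper5

theorem isIso_unit_comp_iff {A B C : Scheme.{u}} (a : A ⟶ B) (b : B ⟶ C) (F : EtDesc.Sh C)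
    (ha : IsIso ((EtDesc.adjSh a).unit.app ((EtDesc.pullSh b).obj F))) :
    IsIso ((EtDesc.adjSh (a ≫ b)).unit.app F) ↔ IsIso ((EtDesc.adjSh b).unit.app F) := by
  haveI := ha
  exact isIso_unit_iff_of_comp (EtDesc.adjSh b) (EtDesc.adjSh a) (EtDesc.adjSh (a ≫ b))
    (EtDesc.pushCompSh b a) F

/-- Direct image of sheaves of sets along the identity. -/
noncomputable def pushShId (X : Scheme.{u}) : EtDesc.pushSh (𝟙 X) ≅ 𝟭 (EtDesc.Sh X) :=
  Functor.sheafPushforwardContinuousId' (EtPsi.bcId X) (Type (u + 1)) X.smallEtaleTopology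

/-- Transport of direct image along an equality. -/
noncomputable def pushShCongr {X Y : Scheme.{u}} {f f' : X ⟶ Y} (h : f = f') :
    EtDesc.pushSh f ≅ EtDesc.pushSh f' :=
  eqToIso (by rw [h])

/-- Direct image along an isomorphism is an equivalence. -/
noncomputable def pushShEquiv {A B : Scheme.{u}} (t : A ⟶ B) [IsIso t] :
    EtDesc.Sh A ≌ EtDesc.Sh B :=
  CategoryTheory.Equivalence.mk (EtDesc.pushSh t) (EtDesc.pushSh (inv t))
    ((pushShId A).symm ≪≫ pushShCongr (IsIso.hom_inv_id t).symm ≪≫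
      (EtDesc.pushCompSh (inv t) t).symm)
    (EtDesc.pushCompSh t (inv t) ≪≫ pushShCongr (IsIso.inv_hom_id t) ≪≫ pushShId B)

lemma isIso_unit_of_isIso {A B : Scheme.{u}} (t : A ⟶ B) [IsIso t] (F : EtDesc.Sh B) :
    IsIso ((EtDesc.adjSh t).unit.app F) := by
  haveI : (EtDesc.pushSh t).IsEquivalence :=
    show (pushShEquiv t).functor.IsEquivalence from inferInstance
  haveI : (EtDesc.pullSh t).IsEquivalence :=
    (EtDesc.adjSh t).isEquivalence_left_of_isEquivalence_right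
  haveI : IsIso (EtDesc.adjSh t).unit := inferInstance
  infer_instance

lemma isIso_unit_via {A' A B C : Scheme.{u}} (t : A' ⟶ A) [IsIso t] (a : A ⟶ B) (b : B ⟶ C)
    (c : A' ⟶ C) (w : t ≫ a ≫ b = c) (F : EtDesc.Sh C)
    (ha : IsIso ((EtDesc.adjSh a).unit.app ((EtDesc.pullSh b).obj F))) :
    IsIso ((EtDesc.adjSh b).unit.app F) ↔ IsIso ((EtDesc.adjSh c).unit.app F) := by
  subst w
  exact (isIso_unit_comp_iff a b F ha).symm.trans
    (isIso_unit_comp_iff t (a ≫ b) F (isIso_unit_of_isIso t _)).symm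

theorem isZeroAcyclic_comp_iff {X Y Z : Scheme.{u}} (g : X ⟶ Y) (h : Y ⟶ Z)
    (hg : IsZeroAcyclic g) : IsZeroAcyclic h ↔ IsZeroAcyclic (g ≫ h) := by
  have key : ∀ (V : Z.Etale) (F : EtDesc.Sh V.left),
      IsIso ((EtDesc.adjSh (prj h V)).unit.app F) ↔
        IsIso ((EtDesc.adjSh (prj (g ≫ h) V)).unit.app F) := by
    intro V F
    obtain ⟨t, ht, hw⟩ := exists_iso_prj g h V
    haveI := ht
    exact isIso_unit_via t (prj g ((EtCoh.bc h).obj V))
      (prj h V : ((EtCoh.bc h).obj V).left ⟶ V.left) _ hw F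
      (hg ((EtCoh.bc h).obj V) ((EtDesc.pullSh (prj h V)).obj F))
  exact ⟨fun hh V F => (key V F).1 (hh V F), fun hh V F => (key V F).2 (hh V F)⟩

end Sets

/-- S3513. -/
theorem main_S3513 {X Y Z : Scheme.{u}} (g : X ⟶ Y) (h : Y ⟶ Z) (L : Set ℕ) (n : ℕ) :
    (IsAcyclicN g L n → (IsAcyclicN h L n ↔ IsAcyclicN (g ≫ h) L n)) ∧
      (IsZeroAcyclic g → (IsZeroAcyclic h ↔ IsZeroAcyclic (g ≫ h))) :=
  ⟨isAcyclicN_comp_iff g h L n, isZeroAcyclic_comp_iff g h⟩

end Groth.Agent.Lib.Helper15.AcycComp
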