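import Groth.Prelude.Def_CAlgX
import Mathlib

/-! Adic formal smoothness: change of a base ring `R` to a ring `R'` in which `R` is dense
(e.g. its completion). -/

set_option autoImplicit false
universe u

namespace Groth.Agent.Lib.Helper15.AdicFSBase

theorem isAdicFormallySmooth_iff_of_dense {R R' T : Type u} [CommRing R] [CommRing R'] [CommRing T]
    [Algebra R R'] [Algebra R T] [Algebra R' T] [IsScalarTower R R' T] (𝔪 : Ideal R)
    (𝔱 : Ideal T) (hc : ∃ c : ℕ, (𝔪 ^ c).map (algebraMap R T) ≤ 𝔱)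
    (hev : ∀ N : ℕ, ∃ ev : R' →+* R ⧸ 𝔪 ^ N,
      (∀ r, ev (algebraMap R R' r) = Ideal.Quotient.mk _ r) ∧
      ∀ x, ev x = 0 → x ∈ (𝔪 ^ N).map (algebraMap R R')) :
    CAlgX.IsAdicFormallySmooth R T 𝔱 ↔ CAlgX.IsAdicFormallySmooth R' T 𝔱 := by
  obtain ⟨c, hc⟩ := hc
  have hck : ∀ k, (𝔪 ^ (c * k)).map (algebraMap R T) ≤ 𝔱 ^ k := fun k => by
    rw [pow_mul, Ideal.map_pow]
    exact Ideal.pow_right_mono hc k
  have hdense : ∀ (N : ℕ) (x : R'), ∃ r : R,
      x - algebraMap R R' r ∈ (𝔪 ^ N).map (algebraMap R R') := by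
    intro N x
    obtain ⟨ev, hev1, hev2⟩ := hev N
    obtain ⟨r, hr⟩ := Ideal.Quotient.mk_surjective (ev x)
    exact ⟨r, hev2 _ (by rw [map_sub, hev1, hr, sub_self])⟩
  have hmapT : ∀ (N : ℕ) (y : R'), y ∈ (𝔪 ^ N).map (algebraMap R R') →
      algebraMap R' T y ∈ (𝔪 ^ N).map (algebraMap R T) := by
    intro N y hy
    have h2 : algebraMap R' T y ∈ ((𝔪 ^ N).map (algebraMap R R')).map (algebraMap R' T) :=
      Ideal.mem_map_of_mem _ hy
    rw [Ideal.map_map, ← IsScalarTower.algebraMap_eq R R' T] at h2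
    exact h2
  constructor
  · intro H A _ _ J hJ φ hk
    obtain ⟨k, hk⟩ := hk
    letI : Algebra R A := ((algebraMap R' A).comp (algebraMap R R')).toAlgebra
    have hRA : ∀ r, algebraMap R A r = algebraMap R' A (algebraMap R R' r) := fun r => rfl
    obtain ⟨φR, hφR⟩ : ∃ φR : T →ₐ[R] A ⧸ J, ∀ x, φR x = φ x :=
      ⟨{ φ.toRingHom with
          commutes' := fun r => by
            show φ (algebraMap R T r) = Ideal.Quotient.mk J (algebraMap R A r)
            rw [IsScalarTower.algebraMap_apply R R' T, φ.commutes, hRA]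
            rfl }, fun _ => rfl⟩
    obtain ⟨χ, hχ⟩ := H A J hJ φR ⟨k, fun x hx => by rw [hφR]; exact hk x hx⟩
    have hχφ : ∀ x, Ideal.Quotient.mk J (χ x) = φ x := fun x => by
      rw [← hφR]
      exact AlgHom.congr_fun hχ x
    have hχJ : ∀ x ∈ 𝔱 ^ k, χ x ∈ J := fun x hx => by
      rw [← Ideal.Quotient.eq_zero_iff_mem, hχφ]
      exact hk x hx
    have hχkill : ∀ x ∈ 𝔱 ^ (k + k), χ x = 0 := by
      intro x hx
      rw [pow_add] at hx
      refine Submodule.mul_induction_on hx ?_ ?_
      · intro y hy z hz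
        rw [map_mul]
        have h1 : χ y * χ z ∈ J ^ 2 := by
          rw [sq]
          exact Ideal.mul_mem_mul (hχJ y hy) (hχJ z hz)
        rw [hJ] at h1
        exact (Submodule.mem_bot _).mp h1
      · intro y z hy hz
        rw [map_add, hy, hz, add_zero]
    have hAJ : ∀ r ∈ 𝔪 ^ (c * k), algebraMap R A r ∈ J := by
      intro r hr
      rw [← Ideal.Quotient.eq_zero_iff_mem]
      have h1 : Ideal.Quotient.mk J (algebraMap R A r) = φR (algebraMap R T r) :=
        (φR.commutes r).symm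
      rw [h1, hφR]
      exact hk _ (hck k (Ideal.mem_map_of_mem _ hr))
    have hA0 : ∀ r ∈ 𝔪 ^ (c * k + c * k), algebraMap R A r = 0 := by
      intro r hr
      rw [pow_add] at hr
      refine Submodule.mul_induction_on hr ?_ ?_
      · intro y hy z hz
        rw [map_mul]
        have h1 : algebraMap R A y * algebraMap R A z ∈ J ^ 2 := by
          rw [sq]
          exact Ideal.mul_mem_mul (hAJ y hy) (hAJ z hz)
        rw [hJ] at h1
        exact (Submodule.mem_bot _).mp h1
      · intro y z hy hz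
        rw [map_add, hy, hz, add_zero]
    have hcomm : ∀ x : R', χ (algebraMap R' T x) = algebraMap R' A x := by
      intro x
      obtain ⟨r, hr⟩ := hdense (c * k + c * k) x
      have h1 : χ (algebraMap R' T (x - algebraMap R R' r)) = 0 := by
        apply hχkill
        have h3 : (𝔪 ^ (c * k + c * k)).map (algebraMap R T) ≤ 𝔱 ^ (k + k) := by
          rw [← mul_add]
          exact hck (k + k)
        exact h3 (hmapT _ _ hr)
      have h4 : algebraMap R' A (x - algebraMap R R' r) = 0 := by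
        have h5 : (𝔪 ^ (c * k + c * k)).map (algebraMap R R') ≤
            RingHom.ker (algebraMap R' A) := by
          rw [Ideal.map_le_iff_le_comap]
          intro r' hr'
          rw [Ideal.mem_comap, RingHom.mem_ker, ← hRA]
          exact hA0 r' hr'
        exact RingHom.mem_ker.mp (h5 hr)
      rw [map_sub, map_sub, sub_eq_zero] at h1
      rw [map_sub, sub_eq_zero] at h4
      rw [h1, h4, ← IsScalarTower.algebraMap_apply R R' T, χ.commutes, hRA]
    refine ⟨{ χ.toRingHom with commutes' := hcomm }, AlgHom.ext fun x => ?_⟩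
    exact hχφ x
  · intro H A _ _ J hJ φ hk
    obtain ⟨k, hk⟩ := hk
    have hAJ : ∀ r ∈ 𝔪 ^ (c * k), algebraMap R A r ∈ J := by
      intro r hr
      rw [← Ideal.Quotient.eq_zero_iff_mem]
      have h1 : Ideal.Quotient.mk J (algebraMap R A r) = φ (algebraMap R T r) :=
        (φ.commutes r).symm
      rw [h1]
      exact hk _ (hck k (Ideal.mem_map_of_mem _ hr))
    have hA0 : ∀ r ∈ 𝔪 ^ (c * k + c * k), algebraMap R A r = 0 := by
      intro r hr
      rw [pow_add] at hr
      refine Submodule.mul_induction_on hr ?_ ?_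
      · intro y hy z hz
        rw [map_mul]
        have h1 : algebraMap R A y * algebraMap R A z ∈ J ^ 2 := by
          rw [sq]
          exact Ideal.mul_mem_mul (hAJ y hy) (hAJ z hz)
        rw [hJ] at h1
        exact (Submodule.mem_bot _).mp h1
      · intro y z hy hz
        rw [map_add, hy, hz, add_zero]
    obtain ⟨ev, hev1, hev2⟩ := hev (c * k + c * k)
    obtain ⟨ρ, hρ⟩ : ∃ ρ : R' →+* A, ∀ r, ρ (algebraMap R R' r) = algebraMap R A r :=
      ⟨(Ideal.Quotient.lift (𝔪 ^ (c * k + c * k)) (algebraMap R A) hA0).comp ev, fun r => by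
        show Ideal.Quotient.lift _ _ hA0 (ev (algebraMap R R' r)) = _
        rw [hev1]
        rfl⟩
    letI : Algebra R' A := ρ.toAlgebra
    have hρA : ∀ x, algebraMap R' A x = ρ x := fun x => rfl
    have hρkill : ∀ y ∈ (𝔪 ^ (c * k + c * k)).map (algebraMap R R'), ρ y = 0 := by
      have h5 : (𝔪 ^ (c * k + c * k)).map (algebraMap R R') ≤ RingHom.ker ρ := by
        rw [Ideal.map_le_iff_le_comap]
        intro r hr
        rw [Ideal.mem_comap, RingHom.mem_ker, hρ]
        exact hA0 r hr
      exact fun y hy => RingHom.mem_ker.mp (h5 hy)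
    have hφkill : ∀ y ∈ (𝔪 ^ (c * k + c * k)).map (algebraMap R R'),
        φ (algebraMap R' T y) = 0 := by
      intro y hy
      apply hk
      have h3 : (𝔪 ^ (c * k + c * k)).map (algebraMap R T) ≤ 𝔱 ^ k := by
        rw [← mul_add]
        exact (hck (k + k)).trans (Ideal.pow_le_pow_right (Nat.le_add_left k k))
      exact h3 (hmapT _ _ hy)
    have hφcomm : ∀ x : R', φ (algebraMap R' T x) = Ideal.Quotient.mk J (ρ x) := by
      intro x
      obtain ⟨r, hr⟩ := hdense (c * k + c * k) x
      have h1 := hφkill _ hr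
      have h4 := hρkill _ hr
      rw [map_sub, map_sub, sub_eq_zero] at h1
      rw [map_sub, sub_eq_zero] at h4
      rw [h1, h4, ← IsScalarTower.algebraMap_apply R R' T, φ.commutes, hρ]
      rfl
    obtain ⟨φ', hφ'⟩ : ∃ φ' : T →ₐ[R'] A ⧸ J, ∀ x, φ' x = φ x :=
      ⟨{ φ.toRingHom with commutes' := fun x => hφcomm x }, fun _ => rfl⟩
    obtain ⟨χ', hχ'⟩ := H A J hJ φ' ⟨k, fun x hx => by rw [hφ']; exact hk x hx⟩
    refine ⟨{ χ'.toRingHom with commutes' := fun r => ?_ }, AlgHom.ext fun x => ?_⟩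
    · show χ' (algebraMap R T r) = algebraMap R A r
      rw [IsScalarTower.algebraMap_apply R R' T, χ'.commutes, hρA, hρ]
    · show Ideal.Quotient.mk J (χ' x) = φ x
      rw [← hφ']
      exact AlgHom.congr_fun hχ' x

end Groth.Agent.Lib.Helper15.AdicFSBase
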