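import Mathlib

/-!
# Helper library (helper15): affine Zariski covering systems over cofinite posets

For a cofinite poset `Λ` and an inverse system `X : Λᵒᵖ ⥤ Scheme` of qcqs schemes we construct an
inverse system of affine schemes `Y` with a levelwise Zariski covering `Y ⟶ X`.

Part A chooses, by well-founded recursion on `Λ`, for every level `l` and every point `x` of `X_l`
an affine open neighbourhood `A l x` taking only finitely many values and compatible with the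
transition maps.  Part B builds the functor `Y_l = ∐_t (top of t)` indexed by the finitely many
tuples `(A m (x_m))_{m ≤ l}`.
-/

set_option autoImplicit false
universe u v

open CategoryTheory CategoryTheory.Limits AlgebraicGeometry Opposite TopologicalSpace

noncomputable section

namespace Groth.Agent.Lib.Helper15.AffZarSys

attribute [local instance] Classical.propDecidable

section tr

variable {Λ : Type v} [PartialOrder Λ] (X : Λᵒᵖ ⥤ Scheme.{u})

/-- transition map of the inverse system -/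
def tr {l' l : Λ} (h : l' ≤ l) : X.obj (op l) ⟶ X.obj (op l') := X.map (homOfLE h).op

theorem tr_refl (l : Λ) : tr X (le_refl l) = 𝟙 _ := by
  have h : (homOfLE (le_refl l)).op = 𝟙 (op l) := by
    rw [← op_id]
    exact congrArg Quiver.Hom.op (Subsingleton.elim _ _)
  unfold tr
  rw [h, X.map_id]

theorem tr_trans {l'' l' l : Λ} (h1 : l'' ≤ l') (h2 : l' ≤ l) :
    tr X h2 ≫ tr X h1 = tr X (h1.trans h2) := by
  have h : (homOfLE h2).op ≫ (homOfLE h1).op = (homOfLE (h1.trans h2)).op := by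
    rw [← op_comp]
    exact congrArg Quiver.Hom.op (Subsingleton.elim _ _)
  unfold tr
  rw [← X.map_comp, h]

theorem map_eq_tr {l l' : Λ} (φ : op l ⟶ op l') : X.map φ = tr X (leOfHom φ.unop) :=
  congrArg (fun ψ : l' ⟶ l => X.map ψ.op) (Subsingleton.elim φ.unop (homOfLE (leOfHom φ.unop)))

theorem tr_tr_apply {l'' l' l : Λ} (h1 : l'' ≤ l') (h2 : l' ≤ l) (x : X.obj (op l)) :
    tr X h1 (tr X h2 x) = tr X (h1.trans h2) x := by
  rw [← tr_trans X h1 h2, Scheme.Hom.comp_apply]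

theorem tr_refl_apply (l : Λ) (x : X.obj (op l)) : tr X (le_refl l) x = x := by
  rw [tr_refl]
  rfl

end tr

section PartA

variable {Λ : Type v} [PartialOrder Λ] (X : Λᵒᵖ ⥤ Scheme.{u})

theorem wf_lt (hΛ : ∀ l : Λ, (Set.Iic l).Finite) : WellFounded ((· < ·) : Λ → Λ → Prop) := by
  refine Subrelation.wf (r := InvImage (· < ·) (fun l : Λ => (hΛ l).toFinset.card)) ?_
    (InvImage.wf _ wellFounded_lt)
  intro m l hml
  show (hΛ m).toFinset.card < (hΛ l).toFinset.card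
  apply Finset.card_lt_card
  rw [Set.Finite.toFinset_ssubset_toFinset]
  exact Set.Iic_ssubset_Iic.2 hml

/-- a chosen finite affine cover of a compact open subset (and `∅` otherwise) -/
def cov {Z : Scheme.{u}} (O : Set Z) : Set Z.affineOpens :=
  if h : IsCompact O ∧ IsOpen O then
    (isCompact_and_isOpen_iff_finite_and_eq_biUnion_affineOpens.1 h).choose
  else ∅

theorem cov_finite {Z : Scheme.{u}} (O : Set Z) : (cov O).Finite := by
  unfold cov
  split_ifs with h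
  · exact (isCompact_and_isOpen_iff_finite_and_eq_biUnion_affineOpens.1 h).choose_spec.1
  · exact Set.finite_empty

theorem cov_eq {Z : Scheme.{u}} {O : Set Z} (hc : IsCompact O) (ho : IsOpen O) :
    O = ⋃ i ∈ cov O, ((i : Z.Opens) : Set Z) := by
  have h : IsCompact O ∧ IsOpen O := ⟨hc, ho⟩
  have h2 := (isCompact_and_isOpen_iff_finite_and_eq_biUnion_affineOpens.1 h).choose_spec.2
  have h3 : cov O = (isCompact_and_isOpen_iff_finite_and_eq_biUnion_affineOpens.1 h).choose := by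
    unfold cov
    rw [dif_pos h]
  rw [h3]
  exact h2

theorem mem_cov {Z : Scheme.{u}} {O : Set Z} (hc : IsCompact O) (ho : IsOpen O) {x : Z}
    (hx : x ∈ O) : ∃ W : Z.affineOpens, W ∈ cov O ∧ x ∈ W.1 := by
  have hx' := (Set.ext_iff.1 (cov_eq hc ho) x).1 hx
  obtain ⟨W, hW, hxW⟩ := Set.mem_iUnion₂.1 hx'
  exact ⟨W, hW, hxW⟩

theorem cov_subset {Z : Scheme.{u}} {O : Set Z} (hc : IsCompact O) (ho : IsOpen O)
    {W : Z.affineOpens} (hW : W ∈ cov O) : ((W : Z.Opens) : Set Z) ⊆ O := by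
  intro y hy
  exact (Set.ext_iff.1 (cov_eq hc ho) y).2 (Set.mem_iUnion₂.2 ⟨W, hW, hy⟩)

/-- the empty affine open -/
def botAff (Z : Scheme.{u}) : Z.affineOpens := ⟨⊥, isAffineOpen_bot Z⟩

/-- the open subset of `X_l` cut out by the affine opens chosen at lower levels -/
def Oset (l : Λ) (IH : ∀ m : Λ, m < l → (X.obj (op m) → (X.obj (op m)).affineOpens))
    (x : X.obj (op l)) : Set (X.obj (op l)) :=
  ⋂ m : Set.Iio l, (tr X (le_of_lt (Set.mem_Iio.1 m.2))) ⁻¹'
    (((IH m.1 (Set.mem_Iio.1 m.2) (tr X (le_of_lt (Set.mem_Iio.1 m.2)) x)).1 :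
      (X.obj (op m.1)).Opens) : Set (X.obj (op m.1)))

/-- one step of the recursion -/
def step (l : Λ) (IH : ∀ m : Λ, m < l → (X.obj (op m) → (X.obj (op m)).affineOpens))
    (x : X.obj (op l)) : (X.obj (op l)).affineOpens :=
  if h : ∃ W : (X.obj (op l)).affineOpens, W ∈ cov (Oset X l IH x) ∧ x ∈ W.1 then h.choose
  else botAff _

variable (hΛ : ∀ l : Λ, (Set.Iic l).Finite)

/-- the chosen affine open neighbourhoods -/
def A : ∀ l : Λ, X.obj (op l) → (X.obj (op l)).affineOpens :=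
  (wf_lt hΛ).fix (fun l IH => step X l IH)

theorem A_eq (l : Λ) (x : X.obj (op l)) :
    A X hΛ l x = step X l (fun m _ => A X hΛ m) x :=
  congrFun ((wf_lt hΛ).fix_eq (fun l IH => step X l IH) l) x

/-- the open set attached to `x` at level `l` -/
abbrev OA (l : Λ) (x : X.obj (op l)) : Set (X.obj (op l)) := Oset X l (fun m _ => A X hΛ m) x

theorem mem_OA_iff (l : Λ) (x y : X.obj (op l)) : y ∈ OA X hΛ l x ↔
    ∀ m (hm : m < l), tr X hm.le y ∈ (A X hΛ m (tr X hm.le x)).1 := by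
  constructor
  · intro h m hm
    exact Set.mem_iInter.1 h ⟨m, hm⟩
  · intro h
    exact Set.mem_iInter.2 (fun m => h m.1 m.2)

theorem A_mem_or (l : Λ) (x : X.obj (op l)) :
    A X hΛ l x ∈ cov (OA X hΛ l x) ∨ A X hΛ l x = botAff _ := by
  rw [A_eq]
  unfold step
  split_ifs with h
  · exact Or.inl h.choose_spec.1
  · exact Or.inr rfl

theorem A_spec (l : Λ) (x : X.obj (op l))
    (h : ∃ W : (X.obj (op l)).affineOpens, W ∈ cov (OA X hΛ l x) ∧ x ∈ W.1) :
    A X hΛ l x ∈ cov (OA X hΛ l x) ∧ x ∈ (A X hΛ l x).1 := by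
  rw [A_eq]
  unfold step
  split_ifs with h'
  · exact h'.choose_spec
  · exact absurd h h'

theorem A_props (hqc : ∀ l : Λ, CompactSpace ↥(X.obj (op l)))
    (hqs : ∀ l : Λ, QuasiSeparatedSpace ↥(X.obj (op l))) (l : Λ) :
    (Set.range (A X hΛ l)).Finite ∧ (∀ x, x ∈ (A X hΛ l x).1) ∧
      ∀ x, ((A X hΛ l x).1 : Set (X.obj (op l))) ⊆ OA X hΛ l x := by
  apply (wf_lt hΛ).induction l
  intro l IH
  haveI := hqc l
  haveI : Finite (Set.Iio l) := ((hΛ l).subset Set.Iio_subset_Iic_self).to_subtype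
  have hO : ∀ x, IsCompact (OA X hΛ l x) ∧ IsOpen (OA X hΛ l x) := by
    intro x
    constructor
    · show IsCompact (⋂ m : Set.Iio l, _)
      rw [← Set.sInter_range]
      haveI := hqs l
      refine QuasiSeparatedSpace.isCompact_sInter (Set.finite_range _) ?_ ?_
      · rintro _ ⟨m, rfl⟩
        exact Or.inl ((Opens.isOpen _).preimage (tr X _).continuous)
      · rintro _ ⟨m, rfl⟩
        haveI := hqs m.1
        exact QuasiCompact.isCompact_preimage (f := tr X (le_of_lt (Set.mem_Iio.1 m.2))) _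
          (Opens.isOpen _) (IsAffineOpen.isCompact (A X hΛ m.1 _).2)
    · exact isOpen_iInter_of_finite (fun m => (Opens.isOpen _).preimage (tr X _).continuous)
  have hxO : ∀ x, x ∈ OA X hΛ l x := by
    intro x
    rw [mem_OA_iff]
    intro m hm
    exact (IH m hm).2.1 _
  have hex : ∀ x, ∃ W : (X.obj (op l)).affineOpens, W ∈ cov (OA X hΛ l x) ∧ x ∈ W.1 :=
    fun x => mem_cov (hO x).1 (hO x).2 (hxO x)
  refine ⟨?_, fun x => (A_spec X hΛ l x (hex x)).2,
    fun x => cov_subset (hO x).1 (hO x).2 (A_spec X hΛ l x (hex x)).1⟩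
  haveI : ∀ m : Set.Iio l, Finite ↥(Set.range (A X hΛ m.1)) :=
    fun m => (IH m.1 m.2).1.to_subtype
  obtain ⟨G, hG⟩ : ∃ G : (∀ m : Set.Iio l, ↥(Set.range (A X hΛ m.1))) → Set (X.obj (op l)),
      ∀ x, ∃ τ, G τ = OA X hΛ l x := by
    refine ⟨fun τ => ⋂ m : Set.Iio l, (tr X (le_of_lt (Set.mem_Iio.1 m.2))) ⁻¹'
      (((τ m).1.1 : (X.obj (op m.1)).Opens) : Set (X.obj (op m.1))), fun x => ?_⟩
    exact ⟨fun m => ⟨A X hΛ m.1 (tr X (le_of_lt (Set.mem_Iio.1 m.2)) x), Set.mem_range_self _⟩, rfl⟩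
  have hfinG : (Set.range G).Finite := Set.finite_range G
  refine ((hfinG.biUnion (fun O' _ => cov_finite O')).union
    (Set.finite_singleton (botAff _))).subset ?_
  rintro _ ⟨x, rfl⟩
  rcases A_mem_or X hΛ l x with h | h
  · left
    obtain ⟨τ, hτ⟩ := hG x
    exact Set.mem_biUnion (⟨τ, hτ⟩ : OA X hΛ l x ∈ Set.range G) h
  · right
    exact h

theorem A_compat (hqc : ∀ l : Λ, CompactSpace ↥(X.obj (op l)))
    (hqs : ∀ l : Λ, QuasiSeparatedSpace ↥(X.obj (op l))) {m l : Λ} (h : m ≤ l)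
    (x y : X.obj (op l)) (hy : y ∈ (A X hΛ l x).1) :
    tr X h y ∈ (A X hΛ m (tr X h x)).1 := by
  rcases h.eq_or_lt with rfl | hlt
  · rw [tr_refl_apply, tr_refl_apply]
    exact hy
  · have := (A_props X hΛ hqc hqs l).2.2 x hy
    rw [mem_OA_iff] at this
    exact this m hlt

/-- the tuple of affine opens attached to a point -/
def τ (l : Λ) (x : X.obj (op l)) : ∀ m : Set.Iic l, (X.obj (op m.1)).affineOpens :=
  fun m => A X hΛ m.1 (tr X (Set.mem_Iic.1 m.2) x)

theorem finite_range_τ (hqc : ∀ l : Λ, CompactSpace ↥(X.obj (op l)))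
    (hqs : ∀ l : Λ, QuasiSeparatedSpace ↥(X.obj (op l))) (l : Λ) :
    Finite ↥(Set.range (τ X hΛ l)) := by
  haveI : Finite (Set.Iic l) := (hΛ l).to_subtype
  have h1 : ∀ m : Set.Iic l, (Set.range (A X hΛ m.1)).Finite :=
    fun m => (A_props X hΛ hqc hqs m.1).1
  have h2 := Set.Finite.pi' h1
  refine (h2.subset ?_).to_subtype
  rintro _ ⟨x, rfl⟩ m
  exact Set.mem_range_self _

end PartA

section PartB

variable {Λ : Type v} [PartialOrder Λ]

/-- abstract covering data -/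
structure CovData (X : Λᵒᵖ ⥤ Scheme.{u}) where
  J : Λ → Type (max u v)
  fin : ∀ l, Finite (J l)
  rs : ∀ {l' l : Λ}, l' ≤ l → J l → J l'
  rs_refl : ∀ (l : Λ) (t : J l), rs (le_refl l) t = t
  rs_trans : ∀ {l'' l' l : Λ} (h1 : l'' ≤ l') (h2 : l' ≤ l) (t : J l),
    rs h1 (rs h2 t) = rs (h1.trans h2) t
  tp : ∀ l : Λ, J l → (X.obj (op l)).affineOpens
  compat : ∀ {l' l : Λ} (h : l' ≤ l) (t : J l) (y : X.obj (op l)),
    y ∈ (tp l t).1 → tr X h y ∈ (tp l' (rs h t)).1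
  cover : ∀ (l : Λ) (x : X.obj (op l)), ∃ t : J l, x ∈ (tp l t).1

namespace CovData

variable {X : Λᵒᵖ ⥤ Scheme.{u}} (D : CovData X)

instance (l : Λ) : Finite (D.J l) := D.fin l

/-- the components -/
abbrev b (l : Λ) (t : D.J l) : Scheme.{u} := (D.tp l t).1.toScheme

instance (l : Λ) (t : D.J l) : IsAffine (D.b l t) := (D.tp l t).2

/-- the inclusion of a component -/
def inc (l : Λ) (t : D.J l) : D.b l t ⟶ X.obj (op l) := (D.tp l t).1.ι

instance (l : Λ) (t : D.J l) : IsOpenImmersion (D.inc l t) := by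
  unfold inc
  infer_instance

theorem range_inc (l : Λ) (t : D.J l) :
    Set.range (D.inc l t) = ((D.tp l t).1 : Set (X.obj (op l))) :=
  Scheme.Opens.range_ι _

/-- the levels of the covering system -/
abbrev Yobj (l : Λ) : Scheme.{u} := ∐ (D.b l)

theorem q_range {l' l : Λ} (h : l' ≤ l) (t : D.J l) :
    Set.range (D.inc l t ≫ tr X h) ⊆ Set.range (D.inc l' (D.rs h t)) := by
  rintro _ ⟨y, rfl⟩
  rw [range_inc, Scheme.Hom.comp_apply]
  have hy : D.inc l t y ∈ ((D.tp l t).1 : Set (X.obj (op l))) := by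
    rw [← range_inc]
    exact ⟨y, rfl⟩
  exact D.compat h t _ hy

/-- the transition maps on components -/
def q {l' l : Λ} (h : l' ≤ l) (t : D.J l) : D.b l t ⟶ D.b l' (D.rs h t) :=
  IsOpenImmersion.lift (D.inc l' (D.rs h t)) (D.inc l t ≫ tr X h) (D.q_range h t)

@[reassoc]
theorem q_inc {l' l : Λ} (h : l' ≤ l) (t : D.J l) :
    D.q h t ≫ D.inc l' (D.rs h t) = D.inc l t ≫ tr X h :=
  IsOpenImmersion.lift_fac _ _ _

theorem comp_ι_congr (l : Λ) {Z : Scheme.{u}} {s s' : D.J l} (hs : s = s') (g : Z ⟶ D.b l s)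
    (g' : Z ⟶ D.b l s') (hg : g ≫ D.inc l s = g' ≫ D.inc l s') :
    g ≫ Sigma.ι (D.b l) s = g' ≫ Sigma.ι (D.b l) s' := by
  subst hs
  rw [cancel_mono] at hg
  rw [hg]

/-- the transition maps -/
def Ymap {l' l : Λ} (h : l' ≤ l) : D.Yobj l ⟶ D.Yobj l' :=
  Sigma.desc (fun t => D.q h t ≫ Sigma.ι (D.b l') (D.rs h t))

@[reassoc]
theorem ι_Ymap {l' l : Λ} (h : l' ≤ l) (t : D.J l) :
    Sigma.ι (D.b l) t ≫ D.Ymap h = D.q h t ≫ Sigma.ι (D.b l') (D.rs h t) := by
  unfold Ymap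
  simp

theorem Ymap_refl (l : Λ) : D.Ymap (le_refl l) = 𝟙 _ := by
  refine Sigma.hom_ext _ _ (fun t => ?_)
  rw [ι_Ymap, Category.comp_id]
  have := D.comp_ι_congr l (D.rs_refl l t) (D.q (le_refl l) t) (𝟙 _) (by
    rw [q_inc, tr_refl, Category.comp_id, Category.id_comp])
  rw [this, Category.id_comp]

theorem Ymap_trans {l'' l' l : Λ} (h1 : l'' ≤ l') (h2 : l' ≤ l) :
    D.Ymap h2 ≫ D.Ymap h1 = D.Ymap (h1.trans h2) := by
  refine Sigma.hom_ext _ _ (fun t => ?_)
  rw [ι_Ymap_assoc, ι_Ymap, ι_Ymap, ← Category.assoc]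
  refine D.comp_ι_congr l'' (D.rs_trans h1 h2 t) _ _ ?_
  simp only [Category.assoc, q_inc, q_inc_assoc, tr_trans]

/-- the covering maps -/
def πapp (l : Λ) : D.Yobj l ⟶ X.obj (op l) := Sigma.desc (fun t => D.inc l t)

@[reassoc]
theorem ι_πapp (l : Λ) (t : D.J l) : Sigma.ι (D.b l) t ≫ D.πapp l = D.inc l t := by
  unfold πapp
  simp

theorem Ymap_πapp {l' l : Λ} (h : l' ≤ l) : D.Ymap h ≫ D.πapp l' = D.πapp l ≫ tr X h := by
  refine Sigma.hom_ext _ _ (fun t => ?_)
  rw [ι_Ymap_assoc, ι_πapp, q_inc, ι_πapp_assoc]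

/-- the covering system -/
def Y : Λᵒᵖ ⥤ Scheme.{u} where
  obj l := D.Yobj l.unop
  map {l l'} φ := D.Ymap (leOfHom φ.unop)
  map_id l := D.Ymap_refl l.unop
  map_comp {l l' l''} φ ψ := (D.Ymap_trans (leOfHom ψ.unop) (leOfHom φ.unop)).symm

/-- the covering morphism -/
def π : D.Y ⟶ X where
  app l := D.πapp l.unop
  naturality {l l'} φ := by
    show D.Ymap _ ≫ D.πapp _ = D.πapp _ ≫ X.map φ
    rw [Ymap_πapp]
    congr 1

theorem main (D : CovData X) : ∃ (Y : Λᵒᵖ ⥤ Scheme.{u}) (π : Y ⟶ X), ∀ l : Λ,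
    IsAffine (Y.obj (op l)) ∧ Surjective (π.app (op l)) ∧
      ∃ (ι : Type u) (U : ι → (Y.obj (op l)).Opens),
        Pairwise (fun i j => Disjoint (U i) (U j)) ∧ iSup U = ⊤ ∧
          ∀ i, IsOpenImmersion ((U i).ι ≫ π.app (op l)) := by
  refine ⟨D.Y, D.π, fun l => ⟨?_, ?_, ?_⟩⟩
  · show IsAffine (∐ D.b l)
    infer_instance
  · constructor
    intro x
    obtain ⟨t, ht⟩ := D.cover l x
    have hx : x ∈ Set.range (D.inc l t) := by
      rw [range_inc]
      exact ht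
    obtain ⟨y, rfl⟩ := hx
    refine ⟨Sigma.ι (D.b l) t y, ?_⟩
    show D.πapp l (Sigma.ι (D.b l) t y) = _
    rw [← Scheme.Hom.comp_apply, ι_πapp]
  · obtain ⟨n, ⟨e⟩⟩ := Finite.exists_equiv_fin (D.J l)
    have hsurj : Function.Surjective (fun i : ULift.{u} (Fin n) => e.symm i.down) :=
      e.symm.surjective.comp ULift.down_surjective
    refine ⟨ULift.{u} (Fin n), fun i => (Sigma.ι (D.b l) (e.symm i.down)).opensRange, ?_, ?_, ?_⟩
    · intro i j hij
      refine disjoint_opensRange_sigmaι _ _ _ (fun h => hij ?_)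
      exact ULift.down_injective (e.symm.injective h)
    · have h1 := (sigmaOpenCover (D.b l)).iSup_opensRange
      have h2 := hsurj.iSup_comp (fun t : D.J l => (Sigma.ι (D.b l) t).opensRange)
      exact h2.trans h1
    · intro i
      show IsOpenImmersion ((Sigma.ι (D.b l) (e.symm i.down)).opensRange.ι ≫ D.πapp l)
      rw [← Scheme.Hom.isoOpensRange_inv_comp, Category.assoc, ι_πapp]
      infer_instance

end CovData

end PartB

section Assemble

variable {Λ : Type v} [PartialOrder Λ] (X : Λᵒᵖ ⥤ Scheme.{u})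
  (hΛ : ∀ l : Λ, (Set.Iic l).Finite) (hqc : ∀ l : Λ, CompactSpace ↥(X.obj (op l)))
  (hqs : ∀ l : Λ, QuasiSeparatedSpace ↥(X.obj (op l)))

/-- the covering data produced by Part A -/
def covData : CovData X where
  J l := ↥(Set.range (τ X hΛ l))
  fin l := finite_range_τ X hΛ hqc hqs l
  rs {l' l} h t := ⟨fun m => t.1 ⟨m.1, Set.mem_Iic.2 (le_trans (Set.mem_Iic.1 m.2) h)⟩, by
    obtain ⟨x, hx⟩ := t.2
    refine ⟨tr X h x, funext fun m => ?_⟩
    rw [← hx]
    show A X hΛ m.1 (tr X _ (tr X h x)) = A X hΛ m.1 (tr X _ x)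
    rw [tr_tr_apply]⟩
  rs_refl l t := Subtype.ext (funext fun m => rfl)
  rs_trans h1 h2 t := Subtype.ext (funext fun m => rfl)
  tp l t := t.1 ⟨l, Set.mem_Iic.2 le_rfl⟩
  compat := by
    rintro l' l h ⟨_, x, rfl⟩ y hy
    have hy' : y ∈ (A X hΛ l (tr X (le_refl l) x)).1 := hy
    rw [tr_refl_apply] at hy'
    exact A_compat X hΛ hqc hqs h x y hy'
  cover l x := by
    refine ⟨⟨τ X hΛ l x, x, rfl⟩, ?_⟩
    show x ∈ (A X hΛ l (tr X (le_refl l) x)).1
    rw [tr_refl_apply]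
    exact (A_props X hΛ hqc hqs l).2.1 x

theorem exists_affine_zariskiCovering_system {Λ : Type v} [PartialOrder Λ] (X : Λᵒᵖ ⥤ Scheme.{u})
    (hΛ : ∀ l : Λ, (Set.Iic l).Finite) (hqc : ∀ l : Λ, CompactSpace ↥(X.obj (op l)))
    (hqs : ∀ l : Λ, QuasiSeparatedSpace ↥(X.obj (op l))) :
    ∃ (Y : Λᵒᵖ ⥤ Scheme.{u}) (π : Y ⟶ X), ∀ l : Λ,
      IsAffine (Y.obj (op l)) ∧ Surjective (π.app (op l)) ∧
        ∃ (ι : Type u) (U : ι → (Y.obj (op l)).Opens),
          Pairwise (fun i j => Disjoint (U i) (U j)) ∧ iSup U = ⊤ ∧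
            ∀ i, IsOpenImmersion ((U i).ι ≫ π.app (op l)) :=
  (covData X hΛ hqc hqs).main

end Assemble

end Groth.Agent.Lib.Helper15.AffZarSys
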