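import Groth.Prelude.Def_AlgSpOX
import Groth.Agent.Lib.Helper16.FppfLocal2
import Mathlib.CategoryTheory.Sites.RegularEpi

/-!
# Helper library (helper15): morphisms from an algebraic space to an affine scheme are ring maps on global functions
-/

set_option autoImplicit false
set_option backward.isDefEq.respectTransparency false

universe u
open CategoryTheory CategoryTheory.Limits AlgebraicGeometry Opposite

namespace Groth.Agent.Lib.Helper15.AlgSpAffineHom

open AlgSp

theorem exists_hom_appTop {X' Y : Scheme.{u}} [IsAffine Y] (ψ : Γ(Y, ⊤) ⟶ Γ(X', ⊤)) :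
    ∃ g : X' ⟶ Y, g.appTop = ψ := by
  refine ⟨X'.toSpecΓ ≫ Spec.map ψ ≫ Y.isoSpec.inv, ?_⟩
  rw [Scheme.Hom.comp_appTop, Scheme.Hom.comp_appTop, Scheme.toSpecΓ_appTop, Category.assoc,
    Scheme.ΓSpecIso_naturality]
  have h : Y.isoSpec.inv.appTop ≫ (Scheme.ΓSpecIso Γ(Y, ⊤)).hom = 𝟙 _ := by
    rw [← Scheme.toSpecΓ_appTop, ← Scheme.isoSpec_hom, ← Scheme.Hom.comp_appTop, Iso.hom_inv_id]
    rfl
  rw [← Category.assoc, h, Category.id_comp]

variable {S : Scheme.{u}}

/-- The component at `E` of a ring map to the global functions. -/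
noncomputable def comp {X : Sp S} {A : Type u} [CommRing A] (φ : A →+* ↥(gsectEt (OEt X)))
    (E : EtOver X) : A →+* Γ(E.obj.left.left, ⊤) :=
  (ULift.ringEquiv : ULift.{u + 1} Γ(E.obj.left.left, ⊤) ≃+* _).toRingHom.comp
    ((limit.π (OEt X).obj (op E)).hom.comp φ)

theorem comp_apply {X : Sp S} {A : Type u} [CommRing A] (φ : A →+* ↥(gsectEt (OEt X)))
    (E : EtOver X) (r : A) : comp φ E r = ((limit.π (OEt X).obj (op E)) (φ r)).down := rfl

theorem comp_compat {X : Sp S} {A : Type u} [CommRing A] (φ : A →+* ↥(gsectEt (OEt X)))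
    {E' E : EtOver X} (k : E' ⟶ E) (r : A) :
    k.hom.left.left.appTop.hom (comp φ E r) = comp φ E' r := by
  have := congrArg (fun m => (m.hom (φ r)).down) (limit.w (OEt X).obj k.op)
  exact this

theorem result (hS : IsTerminal S) (X : AlgSp.Space S)
    (T : Over S) [IsAffine T.left] (φ : Γ(T.left, ⊤) →+* ↥(gsectEt (OEt X.obj))) :
    ∃! f : X.obj ⟶ (yon S).obj T,
      ∀ (E : EtOver X.obj) (r : Γ(T.left, ⊤)),
        ((limit.π (OEt X.obj).obj (op E)) (φ r)).down =
          ((yon S).preimage (E.obj.hom ≫ f)).left.appTop r := by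
  choose g hg using fun E : EtOver X.obj =>
    exists_hom_appTop (X' := E.obj.left.left) (Y := T.left) (CommRingCat.ofHom (comp φ E))
  obtain ⟨gO, hgO⟩ : ∃ gO : ∀ E : EtOver X.obj, E.obj.left ⟶ T, ∀ E, (gO E).left = g E :=
    ⟨fun E => Over.homMk (g E) (hS.hom_ext _ _), fun E => rfl⟩
  have happ : ∀ (E : EtOver X.obj) (r : Γ(T.left, ⊤)), (gO E).left.appTop r = comp φ E r := by
    intro E r
    rw [hgO]
    exact congrArg (fun m => m.hom r) (hg E)
  have compat : ∀ {E' E : EtOver X.obj} (k : E' ⟶ E), k.hom.left ≫ gO E = gO E' := by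
    intro E' E k
    apply Over.OverMorphism.ext
    apply ext_of_isAffine
    rw [Over.comp_left, Scheme.Hom.comp_appTop]
    ext r
    change k.hom.left.left.appTop.hom ((gO E).left.appTop r) = (gO E').left.appTop r
    rw [happ, happ]
    exact comp_compat φ k r
  obtain ⟨U₀, a₀, hae, has⟩ := X.property.atlas
  obtain ⟨E₀, hE₀⟩ : ∃ E₀ : EtOver X.obj, E₀ = EtOver.mk a₀ hae := ⟨_, rfl⟩
  haveI : Sheaf.IsLocallySurjective a₀ :=
    Groth.Agent.Lib.Helper16.isLocallySurjective_of_etale_surjective a₀ hae has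
  haveI : Epi a₀ := inferInstance
  haveI : IsRegularEpi a₀ := IsRegularEpiCategory.regularEpiOfEpi a₀
  have hk : IsKernelPair a₀ ((yon S).map (EtOver.prodSnd (EtOver.mk a₀ hae) (EtOver.mk a₀ hae)).hom.left)
      ((yon S).map (EtOver.prodFst (EtOver.mk a₀ hae) (EtOver.mk a₀ hae)).hom.left) := by
    have h1 := hae.1.isPullback a₀
    have h2 : (yon S).map (EtOver.prodSnd (EtOver.mk a₀ hae) (EtOver.mk a₀ hae)).hom.left =
        hae.1.fst a₀ := Functor.relativelyRepresentable.map_fst' _ _
    rw [← h2] at h1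
    exact h1
  obtain ⟨f, hf⟩ := IsRegularEpi.exists_of_isKernelPair a₀ hk
    ((yon S).map (gO (EtOver.mk a₀ hae))) (by
      rw [← Functor.map_comp, ← Functor.map_comp, compat, compat])
  -- the key claim
  have key : ∀ E : EtOver X.obj, E.obj.hom ≫ f = (yon S).map (gO E) := by
    intro E
    have hsurj : Surjective (EtOver.prodFst E (EtOver.mk a₀ hae)).hom.left.left :=
      has.property_snd E.obj.hom
    have hetale : Etale (EtOver.prodFst E (EtOver.mk a₀ hae)).hom.left.left := EtOver.etale_left _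
    haveI : Sheaf.IsLocallySurjective ((yon S).map (EtOver.prodFst E (EtOver.mk a₀ hae)).hom.left) :=
      Groth.Agent.Lib.Helper16.isLocallySurjective_of_etale_surjective _
        ((repWith_yon_map_iff @Etale _).2 hetale) ((repWith_yon_map_iff @Surjective _).2 hsurj)
    rw [← cancel_epi ((yon S).map (EtOver.prodFst E (EtOver.mk a₀ hae)).hom.left)]
    rw [← Category.assoc, EtOver.w (EtOver.prodFst E (EtOver.mk a₀ hae)),
      ← EtOver.w (EtOver.prodSnd E (EtOver.mk a₀ hae)), Category.assoc]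
    change (yon S).map _ ≫ a₀ ≫ f = _
    rw [hf, ← Functor.map_comp, ← Functor.map_comp, compat, compat]
  have hpre : ∀ E : EtOver X.obj, (yon S).preimage (E.obj.hom ≫ f) = gO E := fun E =>
    (yon S).map_injective (by rw [Functor.map_preimage, key])
  refine ⟨f, fun E r => ?_, fun f' hf' => ?_⟩
  · rw [hpre E, happ]
    rfl
  · rw [← cancel_epi a₀, hf]
    have h1 : (yon S).preimage (a₀ ≫ f') = gO (EtOver.mk a₀ hae) := by
      apply Over.OverMorphism.ext
      apply ext_of_isAffine
      ext r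
      change ((yon S).preimage (a₀ ≫ f')).left.appTop r = (gO (EtOver.mk a₀ hae)).left.appTop r
      rw [happ]
      exact (hf' (EtOver.mk a₀ hae) r).symm
    rw [← h1, Functor.map_preimage]

end Groth.Agent.Lib.Helper15.AlgSpAffineHom
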