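import Groth.Agent.Lib.Helper15.AlgSpSupp2
import Groth.Agent.Lib.Helper15.ClosedNbhd
import Groth.Prelude.Def_AlgSpOX2
import Groth.Prelude.Def_AlgSpOX3

/-!
# Helper library (helper15): closed immersions of algebraic spaces and the small etale sites

For a closed immersion `i : Z ⟶ X` of algebraic spaces, etale neighbourhoods of a geometric point
of `Z` are dominated by base changes of etale neighbourhoods of its image in `X`
(`exists_lift_closed`).  Consequences: the stalk of `i_*` (`stalk_push_equiv`), the base change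
functor of small etale sites is cover dense and locally full, so `i_*` is fully faithful
(`push_ff`).
-/

set_option autoImplicit false
set_option backward.isDefEq.respectTransparency false

universe u
open CategoryTheory CategoryTheory.Limits AlgebraicGeometry Opposite

namespace Groth.Agent.Lib.Helper15.AlgSpClosed

open AlgSp Groth.Agent.Lib.Helper15.AlgSpStalk Groth.Agent.Lib.Helper15.AlgSpPoint

variable {S : Scheme.{u}} {Z X : AlgSp.Space S} (i : Z ⟶ X)
  (hi : AlgSp.RepWith @IsClosedImmersion i.hom)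

/-- The lift of the point to the base change of a neighbourhood. -/
noncomputable abbrev liftPt (z : FieldPt Z.obj) (N : EtNbhd (z.map i.hom)) :
    (FieldPt.liftsTo z).obj ((EtOver.bc hi.1).obj N.1) :=
  ⟨hi.1.lift z.toHom N.2.1 ((N.2.2.trans (FieldPt.toHom_map i.hom z)).symm), hi.1.lift_fst _ _ _⟩

/-- The base change of a neighbourhood. -/
noncomputable abbrev bcNbhd (z : FieldPt Z.obj) (N : EtNbhd (z.map i.hom)) : EtNbhd z :=
  ⟨(EtOver.bc hi.1).obj N.1, liftPt i hi z N⟩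

theorem liftPt_snd (z : FieldPt Z.obj) (N : EtNbhd (z.map i.hom)) :
    (liftPt i hi z N).1 ≫ hi.1.snd N.1.obj.hom = N.2.1 :=
  hi.1.lift_snd _ _ _

theorem liftPt_fst (z : FieldPt Z.obj) (N : EtNbhd (z.map i.hom)) :
    (yon S).map (liftPt i hi z N).1 ≫ hi.1.fst N.1.obj.hom = z.toHom :=
  hi.1.lift_fst _ _ _

/-- The image in `X` of a lift of the point to a base change. -/
noncomputable def downPt (z : FieldPt Z.obj) {E : EtOver X.obj}
    (l : (FieldPt.liftsTo z).obj ((EtOver.bc hi.1).obj E)) :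
    (FieldPt.liftsTo (z.map i.hom)).obj E :=
  ⟨l.1 ≫ hi.1.snd E.obj.hom, by
    rw [FieldPt.toHom_map, Functor.map_comp, Category.assoc, ← hi.1.w, ← Category.assoc]
    exact congrArg (· ≫ i.hom) l.2⟩

theorem liftPt_downPt (z : FieldPt Z.obj) {E : EtOver X.obj}
    (l : (FieldPt.liftsTo z).obj ((EtOver.bc hi.1).obj E)) :
    liftPt i hi z ⟨E, downPt i hi z l⟩ = l :=
  Subtype.ext (hi.1.hom_ext ((hi.1.lift_fst _ _ _).trans l.2.symm) (hi.1.lift_snd _ _ _))

theorem liftPt_map (z : FieldPt Z.obj) {N' N : EtNbhd (z.map i.hom)} (a : N' ⟶ N) :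
    (liftPt i hi z N').1 ≫ ((EtOver.bc hi.1).map a.1).hom.left = (liftPt i hi z N).1 := by
  have ha : N'.2.1 ≫ a.1.hom.left = N.2.1 := congrArg Subtype.val a.2
  refine hi.1.hom_ext ?_ ?_
  · rw [Functor.map_comp, Category.assoc]
    have h1 : (yon S).map ((EtOver.bc hi.1).map a.1).hom.left ≫ hi.1.fst N.1.obj.hom =
        hi.1.fst N'.1.obj.hom := EtOver.map_bcMap_fst hi.1 a.1
    rw [h1]
    exact (liftPt_fst i hi z N').trans (liftPt_fst i hi z N).symm
  · rw [Category.assoc]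
    have h2 : ((EtOver.bc hi.1).map a.1).hom.left ≫ hi.1.snd N.1.obj.hom =
        hi.1.snd N'.1.obj.hom ≫ a.1.hom.left := EtOver.bcMap_snd hi.1 a.1
    rw [h2, ← Category.assoc, liftPt_snd i hi z N', ha]
    exact (liftPt_snd i hi z N).symm

/-- Base change of a morphism of neighbourhoods. -/
noncomputable def bcNbhdMap (z : FieldPt Z.obj) {N' N : EtNbhd (z.map i.hom)} (a : N' ⟶ N) :
    bcNbhd i hi z N' ⟶ bcNbhd i hi z N :=
  ⟨(EtOver.bc hi.1).map a.1, Subtype.ext (liftPt_map i hi z a)⟩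

theorem exists_lift_closed_aux (z : FieldPt Z.obj) (E : EtOver X.obj)
    (u : (FieldPt.liftsTo (z.map i.hom)).obj E) (Q : EtOver Z.obj)
    (μ : (FieldPt.liftsTo z).obj Q) (m : Q ⟶ (EtOver.bc hi.1).obj E)
    (hm : (FieldPt.liftsTo z).map m μ = liftPt i hi z ⟨E, u⟩)
    (E' : EtOver X.obj) (a₀ : E' ⟶ E) (u'' : (FieldPt.liftsTo (z.map i.hom)).obj E')
    (hu''a : (FieldPt.liftsTo (z.map i.hom)).map a₀ u'' = u)
    (t : pullback a₀.hom.left.left (hi.1.snd E.obj.hom).left ⟶ Q.obj.left.left)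
    (ht1 : t ≫ m.hom.left.left = pullback.snd a₀.hom.left.left (hi.1.snd E.obj.hom).left)
    (h1 : u''.1.left ≫ a₀.hom.left.left =
      (μ.1.left ≫ m.hom.left.left) ≫ (hi.1.snd E.obj.hom).left)
    (ht2 : pullback.lift u''.1.left (μ.1.left ≫ m.hom.left.left) h1 ≫ t = μ.1.left) :
    ∃ (b : (EtOver.bc hi.1).obj E' ⟶ Q), b ≫ m = (EtOver.bc hi.1).map a₀ ∧
      (FieldPt.liftsTo z).map b (liftPt i hi z ⟨E', u''⟩) = μ := by
  have hm' : μ.1 ≫ m.hom.left = (liftPt i hi z ⟨E, u⟩).1 := congrArg Subtype.val hm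
  have sq : IsPullback (hi.1.snd E'.obj.hom).left (EtOver.bcMap hi.1 a₀).hom.left.left
      a₀.hom.left.left (hi.1.snd E.obj.hom).left := (EtOver.isPullback_bcMap_left hi.1 a₀).flip
  have hb₀q : (sq.isoPullback.hom ≫ t) ≫ m.hom.left.left =
      (EtOver.bcMap hi.1 a₀).hom.left.left := by
    rw [Category.assoc, ht1, sq.isoPullback_hom_snd]
  obtain ⟨bO, hbOl⟩ : ∃ bO : ((EtOver.bc hi.1).obj E').obj.left ⟶ Q.obj.left,
      bO.left = sq.isoPullback.hom ≫ t :=
    ⟨Over.homMk (sq.isoPullback.hom ≫ t) (by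
      have h3 := Over.w m.hom.left
      have h4 := Over.w (EtOver.bcMap hi.1 a₀).hom.left
      rw [← h3, ← Category.assoc, hb₀q]
      exact h4), rfl⟩
  have hbOm : bO ≫ m.hom.left = (EtOver.bcMap hi.1 a₀).hom.left := Over.OverMorphism.ext (by
    rw [Over.comp_left, hbOl]; exact hb₀q)
  obtain ⟨b, hbl⟩ : ∃ b : (EtOver.bc hi.1).obj E' ⟶ Q, b.hom.left = bO :=
    ⟨EtOver.homMk bO (by
      rw [← EtOver.w m, ← Category.assoc, ← Functor.map_comp, hbOm]
      exact EtOver.w (EtOver.bcMap hi.1 a₀)), rfl⟩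
  have hbm : b ≫ m = (EtOver.bc hi.1).map a₀ := EtOver.hom_ext _ _ (by
    change b.hom.left ≫ m.hom.left = _
    rw [hbl]; exact hbOm)
  have hptmap : (liftPt i hi z ⟨E', u''⟩).1 ≫ (EtOver.bcMap hi.1 a₀).hom.left =
      (liftPt i hi z ⟨E, u⟩).1 :=
    liftPt_map i hi z (N' := ⟨E', u''⟩) (N := ⟨E, u⟩) ⟨a₀, hu''a⟩
  have hpt : (liftPt i hi z ⟨E', u''⟩).1 ≫ bO = μ.1 := Over.OverMorphism.ext (by
    rw [Over.comp_left, hbOl]
    refine Eq.trans ?_ ht2
    rw [← Category.assoc]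
    congr 1
    apply pullback.hom_ext
    · rw [Category.assoc, sq.isoPullback_hom_fst, pullback.lift_fst]
      exact congrArg (fun k => k.left) (liftPt_snd i hi z ⟨E', u''⟩)
    · rw [Category.assoc, sq.isoPullback_hom_snd, pullback.lift_snd]
      exact (congrArg (fun k => k.left) hptmap).trans (congrArg (fun k => k.left) hm'.symm))
  refine ⟨b, hbm, Subtype.ext ?_⟩
  change (liftPt i hi z ⟨E', u''⟩).1 ≫ b.hom.left = μ.1
  rw [hbl]; exact hpt

theorem exists_lift_closed (z : FieldPt Z.obj) (N : EtNbhd (z.map i.hom)) (M : EtNbhd z)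
    (m : M ⟶ bcNbhd i hi z N) :
    ∃ (N' : EtNbhd (z.map i.hom)) (a : N' ⟶ N) (b : bcNbhd i hi z N' ⟶ M),
      b.1 ≫ m.1 = (EtOver.bc hi.1).map a.1 := by
  obtain ⟨E, u⟩ := N
  obtain ⟨Q, μ⟩ := M
  obtain ⟨m, hm⟩ := m
  have hm' : μ.1 ≫ m.hom.left = (liftPt i hi z ⟨E, u⟩).1 := congrArg Subtype.val hm
  have hmsnd : (μ.1 ≫ m.hom.left) ≫ hi.1.snd E.obj.hom = u.1 := by
    rw [hm']; exact liftPt_snd i hi z ⟨E, u⟩
  haveI hπ : IsClosedImmersion (hi.1.snd E.obj.hom).left := hi.property_snd E.obj.hom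
  haveI hq : Etale m.hom.left.left := EtOver.etale_left m
  obtain ⟨U, p, hp, u', h1, t, ht1, ht2⟩ :=
    ClosedNbhd.exists_lift_nbhd (Z := (hi.1.pullback E.obj.hom).left) (X := E.obj.left.left)
      (V := Q.obj.left.left) (hi.1.snd E.obj.hom).left m.hom.left.left (Ω := z.K) μ.1.left
  haveI := hp
  have hu'p : u' ≫ p = u.1.left := by
    rw [h1]
    exact congrArg (fun k => k.left) hmsnd
  obtain ⟨u'', hu''l⟩ : ∃ u'' : z.pt ⟶
      ((EtOver.ofChart E.obj.hom E.property).obj (Scheme.Etale.mk p)).obj.left, u''.left = u' :=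
    ⟨Over.homMk u' (by
      change u' ≫ (p ≫ E.obj.left.hom) = z.str
      rw [← Category.assoc, hu'p]
      exact Over.w u.1), rfl⟩
  subst hu''l
  have hu''a : u'' ≫ EtOver.homOfEtale (Scheme.Etale.mk p) = u.1 := Over.OverMorphism.ext (by
    rw [Over.comp_left]
    exact hu'p)
  have hu'' : (yon S).map u'' ≫
      ((EtOver.ofChart E.obj.hom E.property).obj (Scheme.Etale.mk p)).obj.hom =
      (z.map i.hom).toHom := by
    change (yon S).map u'' ≫ (yon S).map (EtOver.homOfEtale (Scheme.Etale.mk p)) ≫ E.obj.hom = _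
    rw [← Category.assoc, ← Functor.map_comp, hu''a]
    exact u.2
  obtain ⟨b, hbm, hb⟩ := exists_lift_closed_aux i hi z E u Q μ m hm
    ((EtOver.ofChart E.obj.hom E.property).obj (Scheme.Etale.mk p))
    (EtOver.homMk (EtOver.homOfEtale (Scheme.Etale.mk p)) rfl) ⟨u'', hu''⟩
    (Subtype.ext hu''a) t ht1 h1 ht2
  exact ⟨⟨_, ⟨u'', hu''⟩⟩, ⟨EtOver.homMk (EtOver.homOfEtale (Scheme.Etale.mk p)) rfl,
    Subtype.ext hu''a⟩, ⟨b, hb⟩, hbm⟩

theorem exists_nbhd_to (z : FieldPt Z.obj) (hz : z.IsGeometric) (M : EtNbhd z) :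
    ∃ (N' : EtNbhd (z.map i.hom)), Nonempty (bcNbhd i hi z N' ⟶ M) := by
  have hz' : (z.map i.hom).IsGeometric := hz
  obtain ⟨N₀⟩ := nonempty_etNbhd X (z.map i.hom) hz'
  obtain ⟨W, m₁, m₂, -⟩ := cone_objs z M (bcNbhd i hi z N₀)
  obtain ⟨N', a, b, -⟩ := exists_lift_closed i hi z N₀ W m₂
  exact ⟨N', ⟨b ≫ m₁⟩⟩

end Groth.Agent.Lib.Helper15.AlgSpClosed
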