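import Groth.Agent.Lib.Helper15.AlgSpClosed

/-!
# Helper library (helper15): closed immersions of algebraic spaces, stalks and full faithfulness
of the direct image on small etale sites
-/

set_option autoImplicit false
set_option backward.isDefEq.respectTransparency false

universe u
open CategoryTheory CategoryTheory.Limits AlgebraicGeometry Opposite

namespace Groth.Agent.Lib.Helper15.AlgSpClosed

open AlgSp Groth.Agent.Lib.Helper15.AlgSpStalk Groth.Agent.Lib.Helper15.AlgSpPoint

variable {S : Scheme.{u}} {Z X : AlgSp.Space S} (i : Z ⟶ X)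
  (hi : AlgSp.RepWith @IsClosedImmersion i.hom)

/-- The cocone computing the stalk of the direct image. -/
noncomputable def pushCocone (z : FieldPt Z.obj) (F : EtSh Z.obj (Type (u + 1))) :
    Cocone (stalkEtDiagram (z.map i.hom) ((pushEt hi.1 (Type (u + 1))).obj F)) where
  pt := stalkEt z F
  ι :=
    { app := fun N => stalkEtι z F (bcNbhd i hi z N.unop)
      naturality := fun _ _ f =>
        (colimit.w (stalkEtDiagram z F) (bcNbhdMap i hi z f.unop).op).trans
          (Category.comp_id _).symm }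

theorem stalk_push_equiv (z : FieldPt Z.obj) (hz : z.IsGeometric)
    (F : EtSh Z.obj (Type (u + 1))) :
    ∃ φ : stalkEt (z.map i.hom) ((pushEt hi.1 (Type (u + 1))).obj F) ≃ stalkEt z F,
      ∀ (N : EtNbhd (z.map i.hom)) (s : F.obj.obj (op ((EtOver.bc hi.1).obj N.1))),
        φ (stalkEtι (z.map i.hom) ((pushEt hi.1 (Type (u + 1))).obj F) N s) =
          stalkEtι z F (bcNbhd i hi z N) s := by
  have hz' : (z.map i.hom).IsGeometric := hz
  obtain ⟨φ₀, hφ₀⟩ : ∃ φ₀ : stalkEt (z.map i.hom) ((pushEt hi.1 (Type (u + 1))).obj F) ⟶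
      stalkEt z F, ∀ (N : EtNbhd (z.map i.hom))
        (s : F.obj.obj (op ((EtOver.bc hi.1).obj N.1))),
        φ₀ (stalkEtι (z.map i.hom) ((pushEt hi.1 (Type (u + 1))).obj F) N s) =
          stalkEtι z F (bcNbhd i hi z N) s :=
    ⟨colimit.desc _ (pushCocone i hi z F), fun N s =>
      (ConcreteCategory.comp_apply _ _ _).symm.trans
        (ConcreteCategory.congr_hom (colimit.ι_desc (pushCocone i hi z F) (op N)) s)⟩
  -- restriction of germs
  have hres : ∀ {N₁ N : EtNbhd (z.map i.hom)} (f : N ⟶ N₁)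
      (s : F.obj.obj (op ((EtOver.bc hi.1).obj N₁.1))),
      stalkEtι (z.map i.hom) ((pushEt hi.1 (Type (u + 1))).obj F) N₁ s =
        stalkEtι (z.map i.hom) ((pushEt hi.1 (Type (u + 1))).obj F) N
          (F.obj.map ((EtOver.bc hi.1).map f.1).op s) := fun {N₁ N} f s =>
    ((ConcreteCategory.comp_apply _ _ _).symm.trans (ConcreteCategory.congr_hom
      (colimit.w (stalkEtDiagram (z.map i.hom) ((pushEt hi.1 (Type (u + 1))).obj F)) f.op) s)).symm
  have hinj : Function.Injective (fun x => φ₀ x) := by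
    intro a b hab
    obtain ⟨N₁, s₁, rfl⟩ := germ_jointly_surjective X (z.map i.hom) hz'
      ((pushEt hi.1 (Type (u + 1))).obj F).obj a
    obtain ⟨N₂, s₂, rfl⟩ := germ_jointly_surjective X (z.map i.hom) hz'
      ((pushEt hi.1 (Type (u + 1))).obj F).obj b
    obtain ⟨N, f₁, f₂, -⟩ := cone_objs (z.map i.hom) N₁ N₂
    have e₁ := hres f₁ s₁
    have e₂ := hres f₂ s₂
    have hab' : stalkEtι z F (bcNbhd i hi z N) (F.obj.map ((EtOver.bc hi.1).map f₁.1).op s₁) =
        stalkEtι z F (bcNbhd i hi z N) (F.obj.map ((EtOver.bc hi.1).map f₂.1).op s₂) :=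
      (hφ₀ N _).symm.trans ((congrArg (fun x => φ₀ x) e₁.symm).trans
        (hab.trans ((congrArg (fun x => φ₀ x) e₂).trans (hφ₀ N _))))
    obtain ⟨M, m, hm⟩ := (germ_eq_iff Z z hz F.obj (bcNbhd i hi z N) _ _).1 hab'
    obtain ⟨N', a', b', hb'⟩ := exists_lift_closed i hi z N M m
    refine e₁.trans (Eq.trans ?_ e₂.symm)
    refine (germ_eq_iff X (z.map i.hom) hz' ((pushEt hi.1 (Type (u + 1))).obj F).obj N _ _).2
      ⟨N', a', ?_⟩
    have hmap : F.obj.map ((EtOver.bc hi.1).map a'.1).op = F.obj.map m.1.op ≫ F.obj.map b'.1.op := by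
      rw [← hb', op_comp, Functor.map_comp]
    change F.obj.map ((EtOver.bc hi.1).map a'.1).op _ = F.obj.map ((EtOver.bc hi.1).map a'.1).op _
    rw [hmap]
    exact congrArg (fun x => F.obj.map b'.1.op x) hm
  have hsurj : Function.Surjective (fun x => φ₀ x) := by
    intro c
    obtain ⟨M, t, rfl⟩ := germ_jointly_surjective Z z hz F.obj c
    obtain ⟨N', ⟨b⟩⟩ := exists_nbhd_to i hi z hz M
    refine ⟨stalkEtι (z.map i.hom) ((pushEt hi.1 (Type (u + 1))).obj F) N'
      (F.obj.map b.1.op t), ?_⟩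
    change φ₀ _ = _
    rw [hφ₀]
    exact (ConcreteCategory.comp_apply _ _ _).symm.trans
      (ConcreteCategory.congr_hom (colimit.w (stalkEtDiagram z F) b.op) t)
  exact ⟨Equiv.ofBijective (fun x => φ₀ x) ⟨hinj, hsurj⟩, fun N s => hφ₀ N s⟩

end Groth.Agent.Lib.Helper15.AlgSpClosed
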