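import Groth.Agent.Lib.Helper15.AlgSpClosed

/-!
# Helper library (helper15): for a closed immersion of algebraic spaces the base change functor of
small etale sites is cover dense and locally full; the direct image is fully faithful
-/

set_option autoImplicit false
set_option backward.isDefEq.respectTransparency false

universe u
open CategoryTheory CategoryTheory.Limits AlgebraicGeometry Opposite

namespace Groth.Agent.Lib.Helper15.AlgSpClosed

open AlgSp Groth.Agent.Lib.Helper15.AlgSpStalk Groth.Agent.Lib.Helper15.AlgSpPoint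

variable {S : Scheme.{u}} {Z X : AlgSp.Space S} (i : Z ⟶ X)
  (hi : AlgSp.RepWith @IsClosedImmersion i.hom)

theorem isCoverDense : (EtOver.bc hi.1).IsCoverDense (etTop Z.obj) := by
  constructor
  intro Q
  refine (etTop Z.obj).superset_covering ?_
    (ofArrows_mem_etTop (ι := Σ Q' : EtOver Z.obj,
        {g : Q' ⟶ Q // (Sieve.coverByImage (EtOver.bc hi.1) Q) g})
      (fun j => j.1) (fun j => j.2.1) ?_)
  · rw [Sieve.generate_le_iff]
    rintro Q' g ⟨j⟩
    exact j.2.2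
  · intro x
    obtain ⟨p, hp, l, hl⟩ := exists_geomPoint_over Q x
    obtain ⟨N', ⟨b⟩⟩ := exists_nbhd_to i hi p hp ⟨Q, l⟩
    have h1 : (liftPt i hi p N').1 ≫ b.1.hom.left = l.1 := congrArg Subtype.val b.2
    refine ⟨⟨(EtOver.bc hi.1).obj N'.1, ⟨b.1, Presieve.in_coverByImage _ _⟩⟩,
      (liftPt i hi p N').1.left (IsLocalRing.closedPoint p.K), ?_⟩
    rw [← hl (IsLocalRing.closedPoint p.K), ← h1]
    rfl

theorem exists_local_lift (z : FieldPt Z.obj) {E E' : EtOver X.obj}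
    (f : (EtOver.bc hi.1).obj E ⟶ (EtOver.bc hi.1).obj E')
    (l : (FieldPt.liftsTo z).obj ((EtOver.bc hi.1).obj E)) :
    ∃ (W : EtOver X.obj) (a : W ⟶ E) (b : W ⟶ E'),
      (EtOver.bc hi.1).map b = (EtOver.bc hi.1).map a ≫ f ∧
      ∃ w : (FieldPt.liftsTo z).obj ((EtOver.bc hi.1).obj W),
        (FieldPt.liftsTo z).map ((EtOver.bc hi.1).map a) w = l := by
  have hf : (yon S).map f.hom.left ≫ hi.1.fst E'.obj.hom = hi.1.fst E.obj.hom := EtOver.w f
  have hcompat : (yon S).map (f.hom.left ≫ hi.1.snd E'.obj.hom) ≫ E'.obj.hom =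
      (yon S).map (hi.1.snd E.obj.hom) ≫ E.obj.hom := by
    rw [Functor.map_comp, Category.assoc, ← hi.1.w, ← Category.assoc, hf, hi.1.w]
  obtain ⟨g₀, hg₀1, hg₀2⟩ : ∃ g₀ : hi.1.pullback E.obj.hom ⟶ (EtOver.prodObj E E').obj.left,
      g₀ ≫ (EtOver.prodFst E E').hom.left = hi.1.snd E.obj.hom ∧
      g₀ ≫ (EtOver.prodSnd E E').hom.left = f.hom.left ≫ hi.1.snd E'.obj.hom :=
    ⟨E'.property.1.lift' (f.hom.left ≫ hi.1.snd E'.obj.hom) (hi.1.snd E.obj.hom) hcompat,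
      Functor.relativelyRepresentable.lift'_snd _ _ _ _,
      Functor.relativelyRepresentable.lift'_fst _ _ _ _⟩
  have hγ : hi.1.fst E.obj.hom ≫ i.hom = (yon S).map g₀ ≫ (EtOver.prodObj E E').obj.hom := by
    rw [← EtOver.w (EtOver.prodFst E E'), ← Category.assoc, ← Functor.map_comp, hg₀1]
    exact hi.1.w _
  obtain ⟨γ, hγ1, hγ2⟩ : ∃ γ : hi.1.pullback E.obj.hom ⟶
      hi.1.pullback (EtOver.prodObj E E').obj.hom,
      (yon S).map γ ≫ hi.1.fst (EtOver.prodObj E E').obj.hom = hi.1.fst E.obj.hom ∧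
      γ ≫ hi.1.snd (EtOver.prodObj E E').obj.hom = g₀ :=
    ⟨hi.1.lift (hi.1.fst E.obj.hom) g₀ hγ, hi.1.lift_fst _ _ _, hi.1.lift_snd _ _ _⟩
  obtain ⟨Γ, hΓ⟩ : ∃ Γ : (EtOver.bc hi.1).obj E ⟶ (EtOver.bc hi.1).obj (EtOver.prodObj E E'),
      Γ.hom.left = γ := ⟨EtOver.homMk γ hγ1, rfl⟩
  have hΓ1 : Γ ≫ (EtOver.bc hi.1).map (EtOver.prodFst E E') = 𝟙 _ := by
    apply EtOver.hom_ext
    change Γ.hom.left ≫ (EtOver.bcMap hi.1 (EtOver.prodFst E E')).hom.left = 𝟙 _
    rw [hΓ]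
    refine hi.1.hom_ext ?_ ?_
    · rw [Functor.map_comp, Category.assoc, EtOver.map_bcMap_fst, hγ1, (yon S).map_id,
        Category.id_comp]
    · rw [Category.assoc, EtOver.bcMap_snd, ← Category.assoc, hγ2, hg₀1, Category.id_comp]
  have hΓ2 : Γ ≫ (EtOver.bc hi.1).map (EtOver.prodSnd E E') = f := by
    apply EtOver.hom_ext
    change Γ.hom.left ≫ (EtOver.bcMap hi.1 (EtOver.prodSnd E E')).hom.left = f.hom.left
    rw [hΓ]
    refine hi.1.hom_ext ?_ ?_
    · rw [Functor.map_comp, Category.assoc, EtOver.map_bcMap_fst, hγ1, hf]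
    · rw [Category.assoc, EtOver.bcMap_snd, ← Category.assoc, hγ2, hg₀2]
  obtain ⟨N', a', b', hb'⟩ := exists_lift_closed i hi z
    ⟨EtOver.prodObj E E', downPt i hi z ((FieldPt.liftsTo z).map Γ l)⟩
    ⟨(EtOver.bc hi.1).obj E, l⟩ ⟨Γ, (liftPt_downPt i hi z _).symm⟩
  have hba : (EtOver.bc hi.1).map (a'.1 ≫ EtOver.prodFst E E') = b'.1 := by
    rw [Functor.map_comp, ← hb', Category.assoc, hΓ1, Category.comp_id]
  have hbb : (EtOver.bc hi.1).map (a'.1 ≫ EtOver.prodSnd E E') = b'.1 ≫ f := by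
    rw [Functor.map_comp, ← hb', Category.assoc, hΓ2]
  refine ⟨N'.1, a'.1 ≫ EtOver.prodFst E E', a'.1 ≫ EtOver.prodSnd E E', by rw [hba, hbb],
    liftPt i hi z N', ?_⟩
  rw [hba]
  exact b'.2

theorem isLocallyFull : (EtOver.bc hi.1).IsLocallyFull (etTop Z.obj) := by
  constructor
  intro E E' f
  refine (etTop Z.obj).superset_covering ?_
    (ofArrows_mem_etTop (ι := Σ Q' : EtOver Z.obj,
        {g : Q' ⟶ (EtOver.bc hi.1).obj E //
          ((Functor.imageSieve (EtOver.bc hi.1) f).functorPushforward (EtOver.bc hi.1)) g})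
      (fun j => j.1) (fun j => j.2.1) ?_)
  · rw [Sieve.generate_le_iff]
    rintro Q' g ⟨j⟩
    exact j.2.2
  · intro x
    obtain ⟨z, hz, l, hl⟩ := exists_geomPoint_over ((EtOver.bc hi.1).obj E) x
    obtain ⟨W, a, b, hab, w, hw⟩ := exists_local_lift i hi z f l
    have h1 : w.1 ≫ ((EtOver.bc hi.1).map a).hom.left = l.1 := congrArg Subtype.val hw
    refine ⟨⟨(EtOver.bc hi.1).obj W, ⟨(EtOver.bc hi.1).map a,
      Sieve.image_mem_functorPushforward _ _ ⟨b, hab⟩⟩⟩,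
      w.1.left (IsLocalRing.closedPoint z.K), ?_⟩
    rw [← hl (IsLocalRing.closedPoint z.K), ← h1]
    rfl

theorem push_ff :
    ((AlgSp.pushEt hi.1 (Type (u + 1))).Full ∧ (AlgSp.pushEt hi.1 (Type (u + 1))).Faithful) ∧
    ((AlgSp.pushEt hi.1 AddCommGrpCat.{u + 1}).Full ∧
      (AlgSp.pushEt hi.1 AddCommGrpCat.{u + 1}).Faithful) ∧
    IsIso (AlgSp.pullPushAdjEt hi.1 (Type (u + 1))).counit := by
  haveI := isCoverDense i hi
  haveI := isLocallyFull i hi
  haveI h1 : (AlgSp.pushEt hi.1 (Type (u + 1))).Full :=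
    Functor.IsCoverDense.full_sheafPushforwardContinuous _ _ _
  haveI h2 : (AlgSp.pushEt hi.1 (Type (u + 1))).Faithful :=
    Functor.IsCoverDense.faithful_sheafPushforwardContinuous _ _ _
  haveI h3 : (AlgSp.pushEt hi.1 AddCommGrpCat.{u + 1}).Full :=
    Functor.IsCoverDense.full_sheafPushforwardContinuous _ _ _
  haveI h4 : (AlgSp.pushEt hi.1 AddCommGrpCat.{u + 1}).Faithful :=
    Functor.IsCoverDense.faithful_sheafPushforwardContinuous _ _ _
  exact ⟨⟨h1, h2⟩, ⟨h3, h4⟩, inferInstance⟩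

end Groth.Agent.Lib.Helper15.AlgSpClosed
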