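import Groth.Agent.Lib.Helper15.AlgSpStalk
import Mathlib.FieldTheory.IsAlgClosed.AlgebraicClosure

/-!
# Helper library (helper15): geometric points form a conservative family of points of the small etale site
of an algebraic space.
-/

set_option autoImplicit false
set_option backward.isDefEq.respectTransparency false

universe v₂ u₂ u
open CategoryTheory CategoryTheory.Limits AlgebraicGeometry Opposite

namespace Groth.Agent.Lib.Helper15.AlgSpStalk

open AlgSp

variable {S : Scheme.{u}}

/-- A field-valued point from a morphism `h_{Spec K} ⟶ F`. -/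
noncomputable def mkPt {F : Sp S} {K : Type u} [Field K] (str : Spec (CommRingCat.of K) ⟶ S)
    (h : (yon S).obj (Over.mk str) ⟶ F) : FieldPt F :=
  ⟨K, str, (J S).uliftYonedaEquiv h⟩

theorem mkPt_toHom {F : Sp S} {K : Type u} [Field K] (str : Spec (CommRingCat.of K) ⟶ S)
    (h : (yon S).obj (Over.mk str) ⟶ F) : (mkPt str h).toHom = h := by
  unfold FieldPt.toHom mkPt
  exact Equiv.symm_apply_apply _ _

variable (X : AlgSp.Space S)

/-- The family of points of the small etale site defined by geometric points. -/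
def geomPoints : ObjectProperty (GrothendieckTopology.Point.{u + 1} (etTop X.obj)) :=
  fun Φ => ∃ (p : FieldPt X.obj) (hp : p.IsGeometric), Φ = geomPoint X p hp

theorem isConservative_geomPoints : (geomPoints X).IsConservativeFamilyOfPoints := by
  refine ObjectProperty.IsConservativeFamilyOfPoints.mk' (fun E R hR => ?_)
  obtain ⟨I, Y, f, rfl⟩ := R.exists_eq_ofArrows
  refine ofArrows_mem_etTop Y f (fun x => ?_)
  obtain ⟨K, _, _, ξ, hξ⟩ : ∃ (K : Type u) (_ : Field K) (_ : IsAlgClosed K)
      (ξ : Spec (CommRingCat.of K) ⟶ E.obj.left.left), ∀ z, ξ z = x :=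
    ⟨AlgebraicClosure (E.obj.left.left.residueField x), inferInstance, inferInstance,
      Spec.map (CommRingCat.ofHom (algebraMap (E.obj.left.left.residueField x)
        (AlgebraicClosure (E.obj.left.left.residueField x)))) ≫
        E.obj.left.left.fromSpecResidueField x,
      fun z => by
        rw [Scheme.Hom.comp_apply]
        exact Scheme.fromSpecResidueField_apply _ _⟩
  obtain ⟨u₀, hu₀⟩ : ∃ u₀ : Over.mk (ξ ≫ E.obj.left.hom) ⟶ E.obj.left, u₀.left = ξ :=
    ⟨Over.homMk ξ rfl, rfl⟩
  obtain ⟨p, hpK, hpt⟩ : ∃ p : FieldPt X.obj, p.IsGeometric ∧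
      ∃ (xt : (FieldPt.liftsTo p).obj E), ∀ z, xt.1.left z = x :=
    ⟨mkPt (ξ ≫ E.obj.left.hom) ((yon S).map u₀ ≫ E.obj.hom), ‹IsAlgClosed K›,
      ⟨u₀, (mkPt_toHom _ _).symm⟩, fun z => by
        change u₀.left z = x
        rw [hu₀]; exact hξ z⟩
  obtain ⟨xt, hxt⟩ := hpt
  obtain ⟨W, g, hg, y, hy⟩ := hR ⟨geomPoint X p hpK, ⟨p, hpK, rfl⟩⟩ (ULift.up xt)
  obtain ⟨Z, h, k, hk, hgk⟩ := hg
  cases hk with
  | mk i =>
    have h1 : y.down.1 ≫ g.hom.left = xt.1 := congrArg (fun z => z.down.1) hy
    have h2 : g.hom.left.left = h.hom.left.left ≫ (f i).hom.left.left := by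
      rw [← hgk]; rfl
    refine ⟨i, h.hom.left.left (y.down.1.left (IsLocalRing.closedPoint p.K)), ?_⟩
    rw [← hxt (IsLocalRing.closedPoint p.K), ← h1, Over.comp_left, h2]
    simp only [Scheme.Hom.comp_apply]


theorem mono_iff_stalk {F G : EtSh X.obj (Type (u + 1))} (a : F ⟶ G) :
    Mono a ↔ ∀ p : FieldPt X.obj, p.IsGeometric →
      Function.Injective ((stalkEtFunctor (Type (u + 1)) p).map a) := by
  constructor
  · intro h p hp
    haveI := stalk_pfl_type X p hp
    exact (mono_iff_injective _).1 inferInstance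
  · intro h
    have hJ := (isConservative_geomPoints X).jointlyReflectMonomorphisms (Type (u + 1))
    haveI : ∀ Φ : (geomPoints X).FullSubcategory, Mono (Φ.obj.sheafFiber.map a) := by
      rintro ⟨Φ, p, hp, rfl⟩
      have h1 : Mono ((stalkEtFunctor (Type (u + 1)) p).map a) :=
        (mono_iff_injective _).2 (h p hp)
      exact ((MorphismProperty.monomorphisms _).arrow_mk_iso_iff
        (((Functor.mapArrowFunctor _ _).mapIso (stalkIso X p hp (Type (u + 1)))).app
          (Arrow.mk a))).1 h1
    exact hJ.mono a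

theorem epi_iff_stalk {F G : EtSh X.obj (Type (u + 1))} (a : F ⟶ G) :
    Epi a ↔ ∀ p : FieldPt X.obj, p.IsGeometric →
      Function.Surjective ((stalkEtFunctor (Type (u + 1)) p).map a) := by
  constructor
  · intro h p hp
    haveI := stalk_pfc_type X p hp
    exact (epi_iff_surjective _).1 inferInstance
  · intro h
    have hJ := (isConservative_geomPoints X).jointlyReflectEpimorphisms (Type (u + 1))
    haveI : ∀ Φ : (geomPoints X).FullSubcategory, Epi (Φ.obj.sheafFiber.map a) := by
      rintro ⟨Φ, p, hp, rfl⟩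
      have h1 : Epi ((stalkEtFunctor (Type (u + 1)) p).map a) :=
        (epi_iff_surjective _).2 (h p hp)
      exact ((MorphismProperty.epimorphisms _).arrow_mk_iso_iff
        (((Functor.mapArrowFunctor _ _).mapIso (stalkIso X p hp (Type (u + 1)))).app
          (Arrow.mk a))).1 h1
    exact hJ.epi a

theorem exact_iff_stalk (C : ShortComplex (AbEt X.obj)) :
    C.Exact ↔ ∀ p : FieldPt X.obj, p.IsGeometric →
      ∀ y : ↥((stalkEtFunctor AddCommGrpCat.{u + 1} p).obj C.X₂),
        ((stalkEtFunctor AddCommGrpCat.{u + 1} p).map C.g) y = 0 →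
          ∃ x : ↥((stalkEtFunctor AddCommGrpCat.{u + 1} p).obj C.X₁),
            ((stalkEtFunctor AddCommGrpCat.{u + 1} p).map C.f) x = y := by
  have hJ := (isConservative_geomPoints X).jointlyReflectIsomorphisms AddCommGrpCat.{u + 1}
  rw [hJ.exact_iff]
  constructor
  · intro h p hp
    haveI : (stalkEtFunctor AddCommGrpCat.{u + 1} p).PreservesZeroMorphisms :=
      Functor.preservesZeroMorphisms_of_iso (stalkIso X p hp AddCommGrpCat.{u + 1}).symm
    have h1 := h ⟨geomPoint X p hp, ⟨p, hp, rfl⟩⟩
    have h2 : (C.map (stalkEtFunctor AddCommGrpCat.{u + 1} p)).Exact :=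
      (ShortComplex.exact_iff_of_iso
        (ShortComplex.mapNatIso C (stalkIso X p hp AddCommGrpCat.{u + 1}))).2 h1
    exact (ShortComplex.ab_exact_iff _).1 h2
  · rintro h ⟨Φ, p, hp, rfl⟩
    haveI : (stalkEtFunctor AddCommGrpCat.{u + 1} p).PreservesZeroMorphisms :=
      Functor.preservesZeroMorphisms_of_iso (stalkIso X p hp AddCommGrpCat.{u + 1}).symm
    exact (ShortComplex.exact_iff_of_iso
      (ShortComplex.mapNatIso C (stalkIso X p hp AddCommGrpCat.{u + 1}))).1
      ((ShortComplex.ab_exact_iff _).2 (h p hp))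

end Groth.Agent.Lib.Helper15.AlgSpStalk
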