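import Groth.Agent.Lib.Helper15.AlgSpPsh

/-!
# Helper library (helper15): germs in etale stalks at geometric points of algebraic spaces
-/

set_option autoImplicit false
set_option backward.isDefEq.respectTransparency false

universe w' v₂ u₂ u
open CategoryTheory CategoryTheory.Limits AlgebraicGeometry Opposite

namespace Groth.Agent.Lib.Helper15.AlgSpStalk

open AlgSp

variable {S : Scheme.{u}} (X : AlgSp.Space S) (p : FieldPt X.obj) (hp : p.IsGeometric)
variable {A : Type u₂} [Category.{v₂} A] [HasColimitsOfSize.{u + 1, u + 1} A]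
  [HasColimitsOfShape (EtNbhd p)ᵒᵖ A]

theorem stalkEtι_comp_pshStalkIso (P : (EtOver X.obj)ᵒᵖ ⥤ A) (N : EtNbhd p) :
    colimit.ι ((EtNbhd.toEtOver p).op ⋙ P) (op N) ≫ (pshStalkIso X p hp A).hom.app P =
      (geomPoint X p hp).toPresheafFiber N.1 (ULift.up N.2) P := by
  unfold pshStalkIso fiberIso
  simp only [NatIso.ofComponents_hom_app]
  exact colimit.comp_coconePointUniqueUpToIso_hom _ _

variable {FC : A → A → Type*} {CC : A → Type w'}
  [∀ (X Y : A), FunLike (FC X Y) (CC X) (CC Y)] [ConcreteCategory.{w'} A FC]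

theorem pshStalkIso_germ (P : (EtOver X.obj)ᵒᵖ ⥤ A) (Y : EtOver X.obj)
    (y : (geomPoint X p hp).fiber.obj Y) (z : ToType (P.obj (op Y))) :
    (pshStalkIso X p hp A).hom.app P
        (colimit.ι ((EtNbhd.toEtOver p).op ⋙ P) (op ⟨Y, y.down⟩) z) =
      (geomPoint X p hp).toPresheafFiber Y y P z := by
  have h := stalkEtι_comp_pshStalkIso X p hp P ⟨Y, y.down⟩
  exact (ConcreteCategory.comp_apply _ _ _).symm.trans (ConcreteCategory.congr_hom h z)

theorem pshStalkIso_hom_injective (P : (EtOver X.obj)ᵒᵖ ⥤ A)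
    (a b : ToType (colimit ((EtNbhd.toEtOver p).op ⋙ P)))
    (hab : (pshStalkIso X p hp A).hom.app P a = (pshStalkIso X p hp A).hom.app P b) : a = b := by
  have h1 := congrArg (fun t => (pshStalkIso X p hp A).inv.app P t) hab
  simp only [← ConcreteCategory.comp_apply, Iso.hom_inv_id_app, ConcreteCategory.id_apply] at h1
  exact h1

variable [PreservesFilteredColimitsOfSize.{u + 1, u + 1} (forget A)]

include hp in
theorem germ_eq_iff (P : (EtOver X.obj)ᵒᵖ ⥤ A) (N : EtNbhd p) (z₁ z₂ : ToType (P.obj (op N.1))) :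
    colimit.ι ((EtNbhd.toEtOver p).op ⋙ P) (op N) z₁ =
        colimit.ι ((EtNbhd.toEtOver p).op ⋙ P) (op N) z₂ ↔
      ∃ (N' : EtNbhd p) (f : N' ⟶ N), P.map f.1.op z₁ = P.map f.1.op z₂ := by
  have key := (geomPoint X p hp).toPresheafFiber_eq_iff' (P := P) N.1 (ULift.up N.2) z₁ z₂
  rw [← pshStalkIso_germ X p hp P N.1 (ULift.up N.2) z₁,
    ← pshStalkIso_germ X p hp P N.1 (ULift.up N.2) z₂] at key
  constructor
  · intro h
    obtain ⟨Y, f, y, hy, hf⟩ := key.1 (congrArg _ h)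
    exact ⟨⟨Y, y.down⟩, ⟨f, congrArg ULift.down hy⟩, hf⟩
  · rintro ⟨N', f, hf⟩
    exact pshStalkIso_hom_injective X p hp P _ _
      (key.2 ⟨N'.1, f.1, ULift.up N'.2, congrArg ULift.up f.2, hf⟩)

include hp in
theorem germ_jointly_surjective (P : (EtOver X.obj)ᵒᵖ ⥤ A)
    (s : ToType (colimit ((EtNbhd.toEtOver p).op ⋙ P))) :
    ∃ (N : EtNbhd p) (z : ToType (P.obj (op N.1))),
      colimit.ι ((EtNbhd.toEtOver p).op ⋙ P) (op N) z = s := by
  obtain ⟨Y, y, z, hz⟩ := (geomPoint X p hp).toPresheafFiber_jointly_surjective (P := P)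
    ((pshStalkIso X p hp A).hom.app P s)
  refine ⟨⟨Y, y.down⟩, z, pshStalkIso_hom_injective X p hp P _ _ ?_⟩
  rw [pshStalkIso_germ X p hp P Y y z]
  exact hz

end Groth.Agent.Lib.Helper15.AlgSpStalk
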