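import Groth.Prelude.Def_AlgSpOX3
import Groth.Agent.Lib.Helper16.GeomPoints
import Mathlib.CategoryTheory.Sites.Point.Conservative
import Mathlib.CategoryTheory.Sites.Point.Skyscraper
import Mathlib.CategoryTheory.Functor.ReflectsIso.Exact

/-!
# Helper library (helper15): geometric points of an algebraic space as points of its small etale site
-/

set_option autoImplicit false
set_option backward.isDefEq.respectTransparency false

universe w w' v₁ u₁ u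
open CategoryTheory CategoryTheory.Limits AlgebraicGeometry Opposite

namespace Groth.Agent.Lib.Helper15.AlgSpPoint

open AlgSp

variable {S : Scheme.{u}}

section Cofiltered

variable {X : AlgSp.Sp S} (p : FieldPt X)

theorem cone_objs (N1 N2 : EtNbhd p) : ∃ (W : EtNbhd p) (_ : W ⟶ N1) (_ : W ⟶ N2), True := by
  obtain ⟨E1, u1, hu1⟩ := N1
  obtain ⟨E2, u2, hu2⟩ := N2
  have hc : (yon S).map u2 ≫ E2.obj.hom = (yon S).map u1 ≫ E1.obj.hom := hu2.trans hu1.symm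
  obtain ⟨w, hw1, hw2⟩ : ∃ w : p.pt ⟶ (EtOver.prodObj E1 E2).obj.left,
      w ≫ (EtOver.prodFst E1 E2).hom.left = u1 ∧ w ≫ (EtOver.prodSnd E1 E2).hom.left = u2 :=
    ⟨E2.property.1.lift' u2 u1 hc, Functor.relativelyRepresentable.lift'_snd _ _ _ _,
      Functor.relativelyRepresentable.lift'_fst _ _ _ _⟩
  have hw : (yon S).map w ≫ (EtOver.prodObj E1 E2).obj.hom = p.toHom := by
    rw [← EtOver.w (EtOver.prodFst E1 E2), ← Category.assoc, ← Functor.map_comp, hw1]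
    exact hu1
  exact ⟨⟨EtOver.prodObj E1 E2, ⟨w, hw⟩⟩, ⟨EtOver.prodFst E1 E2, Subtype.ext hw1⟩,
    ⟨EtOver.prodSnd E1 E2, Subtype.ext hw2⟩, trivial⟩

theorem cone_maps (N1 N2 : EtNbhd p) (f g : N1 ⟶ N2) :
    ∃ (W : EtNbhd p) (h : W ⟶ N1), h ≫ f = h ≫ g := by
  obtain ⟨E1, u1, hu1⟩ := N1
  obtain ⟨E2, u2, hu2⟩ := N2
  obtain ⟨f, hf⟩ := f
  obtain ⟨g, hg⟩ := g
  have hf' : u1 ≫ f.hom.left = u2 := congrArg Subtype.val hf
  have hg' : u1 ≫ g.hom.left = u2 := congrArg Subtype.val hg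
  obtain ⟨h, hh1, hh2⟩ : ∃ h : E1 ⟶ EtOver.prodObj E2 E2,
      h ≫ EtOver.prodFst E2 E2 = f ∧ h ≫ EtOver.prodSnd E2 E2 = g :=
    ⟨(EtOver.prodIsLimit E2 E2).lift (BinaryFan.mk f g),
      (EtOver.prodIsLimit E2 E2).fac (BinaryFan.mk f g) ⟨WalkingPair.left⟩,
      (EtOver.prodIsLimit E2 E2).fac (BinaryFan.mk f g) ⟨WalkingPair.right⟩⟩
  obtain ⟨δ, hδ1, hδ2⟩ : ∃ δ : E2 ⟶ EtOver.prodObj E2 E2,
      δ ≫ EtOver.prodFst E2 E2 = 𝟙 _ ∧ δ ≫ EtOver.prodSnd E2 E2 = 𝟙 _ :=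
    ⟨(EtOver.prodIsLimit E2 E2).lift (BinaryFan.mk (𝟙 _) (𝟙 _)),
      (EtOver.prodIsLimit E2 E2).fac (BinaryFan.mk (𝟙 _) (𝟙 _)) ⟨WalkingPair.left⟩,
      (EtOver.prodIsLimit E2 E2).fac (BinaryFan.mk (𝟙 _) (𝟙 _)) ⟨WalkingPair.right⟩⟩
  have hcond : u1 ≫ h.hom.left = u2 ≫ δ.hom.left := by
    refine Functor.relativelyRepresentable.hom_ext' E2.property.1 (g := E2.obj.hom) ?_ ?_
    · change (u1 ≫ h.hom.left) ≫ (EtOver.prodSnd E2 E2).hom.left =
        (u2 ≫ δ.hom.left) ≫ (EtOver.prodSnd E2 E2).hom.left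
      have e1 : h.hom.left ≫ (EtOver.prodSnd E2 E2).hom.left = g.hom.left :=
        congrArg (fun k => k.hom.left) hh2
      have e2 : δ.hom.left ≫ (EtOver.prodSnd E2 E2).hom.left = 𝟙 _ :=
        congrArg (fun k => k.hom.left) hδ2
      rw [Category.assoc, Category.assoc, e1, e2, hg', Category.comp_id]
    · change (u1 ≫ h.hom.left) ≫ (EtOver.prodFst E2 E2).hom.left =
        (u2 ≫ δ.hom.left) ≫ (EtOver.prodFst E2 E2).hom.left
      have e1 : h.hom.left ≫ (EtOver.prodFst E2 E2).hom.left = f.hom.left :=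
        congrArg (fun k => k.hom.left) hh1
      have e2 : δ.hom.left ≫ (EtOver.prodFst E2 E2).hom.left = 𝟙 _ :=
        congrArg (fun k => k.hom.left) hδ1
      rw [Category.assoc, Category.assoc, e1, e2, hf', Category.comp_id]
  obtain ⟨w, hw1⟩ : ∃ w : p.pt ⟶ (EtOver.pullbackObj h δ).obj.left,
      w ≫ (EtOver.pullbackFst h δ).hom.left = u1 :=
    ⟨pullback.lift u1 u2 hcond, pullback.lift_fst _ _ _⟩
  have hw : (yon S).map w ≫ (EtOver.pullbackObj h δ).obj.hom = p.toHom := by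
    rw [← EtOver.w (EtOver.pullbackFst h δ), ← Category.assoc, ← Functor.map_comp, hw1]
    exact hu1
  have heq : EtOver.pullbackFst h δ ≫ f = EtOver.pullbackFst h δ ≫ g := by
    rw [← hh1, ← hh2, ← Category.assoc, ← Category.assoc, EtOver.pullback_condition,
      Category.assoc, Category.assoc, hδ1, hδ2]
  exact ⟨⟨EtOver.pullbackObj h δ, ⟨w, hw⟩⟩, ⟨EtOver.pullbackFst h δ, Subtype.ext hw1⟩,
    Subtype.ext heq⟩

end Cofiltered

/-- A geometric point of an algebraic space lifts to any atlas. -/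
theorem nonempty_etNbhd (X : AlgSp.Space S) (p : FieldPt X.obj) (hp : p.IsGeometric) :
    Nonempty (EtNbhd p) := by
  haveI : IsAlgClosed p.K := hp
  obtain ⟨V₀, b, hbe, hbs⟩ := X.property.atlas
  obtain ⟨E, e, φ, sq⟩ := hbe.rep p.toHom
  have hee : Etale e.left := hbe.property _ _ _ sq
  have hes : Surjective e.left := hbs.property _ _ _ sq
  obtain ⟨e₁, he₁⟩ : ∃ e₁ : E.left ⟶ Spec (CommRingCat.of p.K), e₁ = e.left := ⟨_, rfl⟩
  have hee₁ : Etale e₁ := he₁ ▸ hee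
  have hes₁ : Surjective e₁ := he₁ ▸ hes
  have hne : Nonempty ↥E.left := ⟨(hes₁.surj (IsLocalRing.closedPoint p.K)).choose⟩
  obtain ⟨s₀, hs₀⟩ := Groth.Agent.Lib.Helper16.exists_section_of_nonempty e₁
  have hσw : s₀ ≫ E.hom = p.str := by
    have h1 : e₁ ≫ p.str = E.hom := by rw [he₁]; exact Over.w e
    rw [← h1, ← Category.assoc, hs₀]
    exact Category.id_comp _
  obtain ⟨σ, hσl⟩ : ∃ σ : p.pt ⟶ E, σ.left = s₀ := ⟨Over.homMk s₀ hσw, rfl⟩
  have hσ : σ ≫ e = 𝟙 p.pt := by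
    apply Over.OverMorphism.ext
    rw [Over.comp_left, hσl, ← he₁, hs₀]
    rfl
  obtain ⟨v₀, hv₀⟩ := (yon S).map_surjective ((yon S).map σ ≫ φ)
  have hv : (yon S).map v₀ ≫ b = p.toHom := by
    rw [hv₀, Category.assoc, sq.w, ← Category.assoc, ← Functor.map_comp, hσ, (yon S).map_id,
      Category.id_comp]
  exact ⟨⟨EtOver.mk b hbe, ⟨v₀, hv⟩⟩⟩

theorem isCofiltered_etNbhd (X : AlgSp.Space S) (p : FieldPt X.obj) (hp : p.IsGeometric) :
    IsCofiltered (EtNbhd p) := by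
  haveI : IsCofilteredOrEmpty (EtNbhd p) := ⟨cone_objs p, cone_maps p⟩
  haveI : Nonempty (EtNbhd p) := nonempty_etNbhd X p hp
  exact {}

end Groth.Agent.Lib.Helper15.AlgSpPoint
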