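import Mathlib

/-!
# Helper15: a ring covered by a directed system of rings, closed under étale extensions compatible
with a map to a separably closed field, is strictly henselian

Abstract form of the argument of `Groth.Agent.S0111`.
-/

set_option autoImplicit false
universe u v w

namespace Helper15.StrictHensSystem

open Polynomial

variable {Ω : Type u} [Field Ω] {R : Type v} [CommRing R] {I : Type w}
  {A : I → Type u} [∀ i, CommRing (A i)] (τ : ∀ i, A i →+* R) (ev : R →+* Ω)
  (hsurj : ∀ r : R, ∃ (i : I) (a : A i), τ i a = r)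
  (hcommon : ∀ i j : I, ∃ (k : I) (f : A i →+* A k) (g : A j →+* A k),
    (τ k).comp f = τ i ∧ (τ k).comp g = τ j)
  (hext : ∀ (i : I) (B : Type u) [CommRing B] (ψ : A i →+* B), ψ.Etale →
    ∀ e' : B →+* Ω, e'.comp ψ = ev.comp (τ i) →
      ∃ κ : B →+* R, κ.comp ψ = τ i ∧ ev.comp κ = e')

include hsurj hext in
lemma isUnit_of_ev_ne_zero (r : R) (h : ev r ≠ 0) : IsUnit r := by
  obtain ⟨i, a, rfl⟩ := hsurj r
  have hψ : (algebraMap (A i) (Localization.Away a)).Etale :=
    RingHom.etale_algebraMap.2 (Algebra.Etale.of_isLocalizationAway a)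
  have hu : IsUnit ((ev.comp (τ i)) a) := IsUnit.mk0 _ h
  obtain ⟨κ, hκ, -⟩ := hext i (Localization.Away a) (algebraMap _ _) hψ
    (IsLocalization.Away.lift a hu) (IsLocalization.Away.lift_comp a hu)
  have h1 : τ i a = κ (algebraMap _ _ a) := (congrArg (fun f => f a) hκ).symm
  rw [h1]
  exact (IsLocalization.Away.algebraMap_isUnit a).map κ

include hsurj hext in
lemma isLocalRing : IsLocalRing R := by
  haveI : Nontrivial R := ev.domain_nontrivial
  refine IsLocalRing.of_isUnit_or_isUnit_one_sub_self (fun a => ?_)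
  by_cases h : ev a = 0
  · right
    apply isUnit_of_ev_ne_zero τ ev hsurj hext
    rw [map_sub, map_one, h, sub_zero]
    exact one_ne_zero
  · left
    exact isUnit_of_ev_ne_zero τ ev hsurj hext a h

include hsurj hext in
lemma mem_maximalIdeal_iff [IsLocalRing R] (a : R) :
    a ∈ IsLocalRing.maximalIdeal R ↔ ev a = 0 := by
  rw [IsLocalRing.mem_maximalIdeal, mem_nonunits_iff]
  constructor
  · intro h
    by_contra h'
    exact h (isUnit_of_ev_ne_zero τ ev hsurj hext a h')
  · intro h hu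
    exact (hu.map ev).ne_zero h

include hsurj hcommon in
lemma exists_common_nbhd [Nonempty I] (s : Finset R) :
    ∃ i : I, ∀ r ∈ s, r ∈ Set.range (τ i) := by
  classical
  induction s using Finset.induction_on with
  | empty => exact ⟨Classical.arbitrary I, by simp⟩
  | insert r s hr ih =>
    obtain ⟨i₁, h₁⟩ := ih
    obtain ⟨i₂, a, rfl⟩ := hsurj r
    obtain ⟨k, f₁, f₂, hf₁, hf₂⟩ := hcommon i₁ i₂
    refine ⟨k, fun r' hr' => ?_⟩
    rw [Finset.mem_insert] at hr'
    rcases hr' with rfl | hr'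
    · exact ⟨f₂ a, congrArg (fun g => g a) hf₂⟩
    · obtain ⟨b, rfl⟩ := h₁ r' hr'
      exact ⟨f₁ b, congrArg (fun g => g b) hf₁⟩

include ev hsurj hcommon in
lemma exists_monic_lift [Nonempty I] (f : Polynomial R) (hf : f.Monic) (s : Finset R) :
    ∃ (i : I) (g : Polynomial (A i)), g.Monic ∧ g.map (τ i) = f ∧
      ∀ r ∈ s, r ∈ Set.range (τ i) := by
  classical
  haveI : Nontrivial R := ev.domain_nontrivial
  obtain ⟨i, hU⟩ := exists_common_nbhd τ hsurj hcommon (s ∪ f.coeffs)
  have hf_lifts : f ∈ Polynomial.lifts (τ i) := by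
    rw [Polynomial.lifts_iff_coeff_lifts]
    intro n
    by_cases hn : f.coeff n = 0
    · rw [hn]
      exact ⟨0, map_zero _⟩
    · exact hU _ (Finset.mem_union_right _ (Polynomial.coeff_mem_coeffs hn))
  obtain ⟨g, hg, -, hgm⟩ := Polynomial.lifts_and_degree_eq_and_monic hf_lifts hf
  exact ⟨i, g, hgm, hg, fun r hr => hU r (Finset.mem_union_left _ hr)⟩

include hext in
/-- Hensel-type lifting via a standard étale extension. -/
lemma H (i : I) (g : Polynomial (A i)) (hg : g.Monic) (ω : Ω)
    (h0 : (g.map (ev.comp (τ i))).eval ω = 0)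
    (h1 : (g.map (ev.comp (τ i))).derivative.eval ω ≠ 0) :
    ∃ a : R, (g.map (τ i)).eval a = 0 ∧ ev a = ω := by
  let Pr : StandardEtalePair (A i) := ⟨g, hg, Polynomial.derivative g, ⟨1, 0, 1, by simp⟩⟩
  letI : Algebra (A i) Ω := (ev.comp (τ i)).toAlgebra
  have hmap : Pr.HasMap ω := by
    constructor
    · show Polynomial.aeval ω g = 0
      rw [Polynomial.aeval_def, ← Polynomial.eval_map]
      exact h0
    · show IsUnit (Polynomial.aeval ω (Polynomial.derivative g))
      rw [Polynomial.aeval_def, ← Polynomial.eval_map, ← Polynomial.derivative_map]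
      exact IsUnit.mk0 _ h1
  have hψ : (algebraMap (A i) Pr.Ring).Etale := RingHom.etale_algebraMap.2 inferInstance
  obtain ⟨κ, hκ, hκ'⟩ := hext i Pr.Ring (algebraMap _ _) hψ (Pr.lift ω hmap).toRingHom (by
    ext a
    exact (Pr.lift ω hmap).commutes a)
  refine ⟨κ Pr.X, ?_, ?_⟩
  · rw [← hκ, Polynomial.eval_map, ← Polynomial.hom_eval₂, ← Polynomial.aeval_def]
    have hX : Polynomial.aeval Pr.X g = 0 := (StandardEtalePair.hasMap_X (P := Pr)).1
    rw [hX, map_zero]
  · have h2 := congrArg (fun f => f Pr.X) hκ'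
    exact h2.trans (Pr.lift_X ω hmap)

include hsurj hcommon hext in
lemma henselian [Nonempty I] [IsLocalRing R] : HenselianLocalRing R := by
  refine { is_henselian := fun f hf a₀ h₁ h₂ => ?_ }
  classical
  obtain ⟨i, g, hgm, hg, hs⟩ := exists_monic_lift τ ev hsurj hcommon f hf {a₀}
  obtain ⟨a₀', ha₀'⟩ := hs a₀ (Finset.mem_singleton_self _)
  have hmapev : g.map (ev.comp (τ i)) = f.map ev := by
    rw [← Polynomial.map_map, hg]
  have e0 : (g.map (ev.comp (τ i))).eval ((ev.comp (τ i)) a₀') = 0 := by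
    rw [hmapev, RingHom.comp_apply, ha₀', Polynomial.eval_map, Polynomial.eval₂_at_apply]
    exact (mem_maximalIdeal_iff τ ev hsurj hext _).1 h₁
  have e1 : (Polynomial.derivative (g.map (ev.comp (τ i)))).eval ((ev.comp (τ i)) a₀') ≠ 0 := by
    rw [hmapev, Polynomial.derivative_map, RingHom.comp_apply, ha₀', Polynomial.eval_map,
      Polynomial.eval₂_at_apply]
    exact (h₂.map ev).ne_zero
  obtain ⟨a, ha, hav⟩ := H τ ev hext i g hgm _ e0 e1
  refine ⟨a, ?_, ?_⟩
  · rw [hg] at ha
    exact ha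
  · rw [mem_maximalIdeal_iff τ ev hsurj hext, map_sub, hav, RingHom.comp_apply, ha₀', sub_self]

include hsurj hcommon hext in
lemma sepClosed [Nonempty I] [IsSepClosed Ω] [IsLocalRing R] :
    IsSepClosed (IsLocalRing.ResidueField R) := by
  classical
  haveI : IsLocalHom ev := ⟨fun a ha => isUnit_of_ev_ne_zero τ ev hsurj hext a ha.ne_zero⟩
  obtain ⟨ι, hι⟩ : ∃ ι : IsLocalRing.ResidueField R →+* Ω,
      ι.comp (IsLocalRing.residue R) = ev :=
    ⟨IsLocalRing.ResidueField.lift ev, IsLocalRing.ResidueField.lift_comp_residue ev⟩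
  refine IsSepClosed.of_exists_root _ (fun p hpm hpi hps => ?_)
  have hp_lifts : p ∈ Polynomial.lifts (IsLocalRing.residue R) :=
    Polynomial.mem_lifts_of_surjective (IsLocalRing.residue_surjective) p
  obtain ⟨f, hf, -, hfm⟩ := Polynomial.lifts_and_degree_eq_and_monic hp_lifts hpm
  obtain ⟨i, g, hgm, hg, -⟩ := exists_monic_lift τ ev hsurj hcommon f hfm ∅
  have hsep : (p.map ι).Separable := hps.map
  have hdeg : (p.map ι).degree ≠ 0 := by
    rw [Polynomial.degree_map]
    exact (Polynomial.degree_pos_of_irreducible hpi).ne'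
  obtain ⟨ω, hω⟩ := IsSepClosed.exists_root (p.map ι) hdeg hsep
  have hmapev : g.map (ev.comp (τ i)) = p.map ι := by
    rw [← Polynomial.map_map, hg, ← hι, ← Polynomial.map_map, hf]
  have e1 : (Polynomial.derivative (g.map (ev.comp (τ i)))).eval ω ≠ 0 := by
    rw [hmapev]
    have h := hsep.eval₂_derivative_ne_zero (RingHom.id Ω) (x := ω)
      (by rw [Polynomial.eval₂_id]; exact hω)
    rwa [Polynomial.eval₂_id] at h
  obtain ⟨a, ha, -⟩ := H τ ev hext i g hgm ω (by rw [hmapev]; exact hω) e1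
  refine ⟨IsLocalRing.residue _ a, ?_⟩
  rw [← hf, Polynomial.eval_map, Polynomial.eval₂_at_apply, ← hg, ha, map_zero]

end Helper15.StrictHensSystem
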