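import Mathlib
import Groth.Prelude.Def_AlgSpOX3
import Groth.Prelude.Def_EtBase
import Groth.Agent.Lib.Helper15.AlgSpPoint
import Groth.Agent.Lib.Helper15.StrictHensSystem
import Groth.Agent.S0111

/-!
# Helper15: the étale local ring of an algebraic space at a geometric point is strictly henselian
-/

set_option autoImplicit false
set_option backward.isDefEq.respectTransparency false
universe u
open CategoryTheory CategoryTheory.Limits AlgebraicGeometry Opposite

namespace Helper15.AlgSpHens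

open AlgSp

variable {S : Scheme.{u}} (X : AlgSp.Space S) (p : FieldPt X.obj)

/-- the lift of the point to the neighbourhood, as a morphism of schemes -/
noncomputable def ptL (N : EtNbhd p) : Spec (CommRingCat.of p.K) ⟶ N.1.obj.left.left :=
  N.2.1.left

/-- evaluation of functions on a neighbourhood at the point -/
noncomputable def evU (N : EtNbhd p) : Γ(N.1.obj.left.left, ⊤) →+* p.K :=
  ((ptL X p N).appTop ≫ (Scheme.ΓSpecIso (CommRingCat.of p.K)).hom).hom

lemma ptL_comp {N N' : EtNbhd p} (φ : N ⟶ N') :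
    ptL X p N ≫ φ.1.hom.left.left = ptL X p N' := by
  have h0 := congrArg (fun t => t.1.left) φ.2
  exact h0

lemma evU_compat {N N' : EtNbhd p} (φ : N ⟶ N') :
    (evU X p N).comp φ.1.hom.left.left.appTop.hom = evU X p N' := by
  have h := ptL_comp X p φ
  have h2 : φ.1.hom.left.left.appTop ≫ (ptL X p N).appTop ≫
      (Scheme.ΓSpecIso (CommRingCat.of p.K)).hom =
      (ptL X p N').appTop ≫ (Scheme.ΓSpecIso (CommRingCat.of p.K)).hom := by
    rw [Groth.Agent.S0111.appTop_comp_aux, h]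
  exact congrArg CommRingCat.Hom.hom h2

/-- the cocone of evaluations -/
noncomputable def evCocone : Cocone (stalkEtDiagram p (OEt X.obj)) where
  pt := CommRingCat.of (ULift.{u+1} p.K)
  ι :=
    { app := fun N => CommRingCat.ofHom
        ((ULift.ringEquiv.symm : p.K ≃+* ULift.{u+1} p.K).toRingHom.comp
          ((evU X p N.unop).comp
            (ULift.ringEquiv : ULift.{u+1} Γ(N.unop.1.obj.left.left, ⊤) ≃+* _).toRingHom))
      naturality := fun N N' g => by
        refine Eq.trans ?_ (Category.comp_id _).symm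
        apply CommRingCat.hom_ext
        apply RingHom.ext
        intro s
        have h := RingHom.congr_fun (evU_compat X p g.unop) s.down
        exact congrArg ULift.up h }

/-- evaluation on the étale local ring -/
noncomputable def ev : ↑(OEtStalk p) →+* p.K :=
  (ULift.ringEquiv : ULift.{u+1} p.K ≃+* p.K).toRingHom.comp
    (colimit.desc _ (evCocone X p)).hom

/-- the canonical map from functions on a neighbourhood to the étale local ring -/
noncomputable def tau (N : EtNbhd p) : Γ(N.1.obj.left.left, ⊤) →+* ↑(OEtStalk p) :=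
  (stalkEtι p (OEt X.obj) N).hom.comp
    (ULift.ringEquiv.symm : Γ(N.1.obj.left.left, ⊤) ≃+* ULift.{u+1} _).toRingHom

lemma ev_tau (N : EtNbhd p) (a : Γ(N.1.obj.left.left, ⊤)) :
    ev X p (tau X p N a) = evU X p N a := by
  have h := ConcreteCategory.congr_hom (colimit.ι_desc (evCocone X p) (op N)) (ULift.up a)
  exact congrArg ULift.down h

lemma ev_comp_tau (N : EtNbhd p) : (ev X p).comp (tau X p N) = evU X p N := by
  ext a
  exact ev_tau X p N a

lemma tau_w {N' N : EtNbhd p} (φ : N' ⟶ N) (a : Γ(N.1.obj.left.left, ⊤)) :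
    tau X p N' (φ.1.hom.left.left.appTop.hom a) = tau X p N a := by
  have h := ConcreteCategory.congr_hom
    (colimit.w (stalkEtDiagram p (OEt X.obj)) φ.op) (ULift.up a)
  exact h

lemma tau_surj (hp : p.IsGeometric) (r : ↑(OEtStalk p)) :
    ∃ (N : EtNbhd p) (a : Γ(N.1.obj.left.left, ⊤)), tau X p N a = r := by
  haveI := Groth.Agent.Lib.Helper15.AlgSpPoint.isCofiltered_etNbhd X p hp
  haveI : PreservesFilteredColimitsOfSize.{u, u+1} (forget CommRingCat.{u+1}) :=
    preservesFilteredColimitsOfSize_of_univLE.{u+1, u+1, u, u+1} _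
  obtain ⟨j, y, hy⟩ := Concrete.colimit_exists_rep (stalkEtDiagram p (OEt X.obj)) r
  exact ⟨j.unop, y.down, hy⟩

lemma hcommon (hp : p.IsGeometric) (N₁ N₂ : EtNbhd p) :
    ∃ (k : EtNbhd p) (f : Γ(N₁.1.obj.left.left, ⊤) →+* Γ(k.1.obj.left.left, ⊤))
      (g : Γ(N₂.1.obj.left.left, ⊤) →+* Γ(k.1.obj.left.left, ⊤)),
      (tau X p k).comp f = tau X p N₁ ∧ (tau X p k).comp g = tau X p N₂ := by
  haveI := Groth.Agent.Lib.Helper15.AlgSpPoint.isCofiltered_etNbhd X p hp
  refine ⟨IsCofiltered.min N₁ N₂, (IsCofiltered.minToLeft N₁ N₂).1.hom.left.left.appTop.hom,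
    (IsCofiltered.minToRight N₁ N₂).1.hom.left.left.appTop.hom, ?_, ?_⟩
  · ext a
    exact tau_w X p (IsCofiltered.minToLeft N₁ N₂) a
  · ext a
    exact tau_w X p (IsCofiltered.minToRight N₁ N₂) a

section nbhd

variable (N : EtNbhd p) (V : Scheme.{u}) (p₁ : V ⟶ N.1.obj.left.left) [Etale p₁]

/-- the étale neighbourhood `V → U → X` -/
noncomputable def nbhdE : EtOver X.obj :=
  (EtOver.ofChart N.1.obj.hom N.1.property).obj (Scheme.Etale.mk p₁)

noncomputable def nbhdMap : nbhdE X p N V p₁ ⟶ N.1 :=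
  EtOver.homMk (EtOver.homOfEtale (Scheme.Etale.mk p₁)) rfl

variable (s' : Spec (CommRingCat.of p.K) ⟶ V) (hs' : s' ≫ p₁ = ptL X p N)

noncomputable def nbhdPtHom :
    p.pt ⟶ EtOver.overOfEtale (U := N.1.obj.left) (Scheme.Etale.mk p₁) :=
  Over.homMk s' (by
    have h := Over.w N.2.1
    show s' ≫ (p₁ ≫ N.1.obj.left.hom) = p.pt.hom
    rw [← Category.assoc, hs']
    exact h)

lemma nbhdPtHom_comp :
    nbhdPtHom X p N V p₁ s' hs' ≫ EtOver.homOfEtale (Scheme.Etale.mk p₁) = N.2.1 :=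
  Over.OverMorphism.ext hs'

noncomputable def nbhdPt : (FieldPt.liftsTo p).obj (nbhdE X p N V p₁) :=
  ⟨nbhdPtHom X p N V p₁ s' hs', by
    show (yon S).map (nbhdPtHom X p N V p₁ s' hs') ≫
      ((yon S).map (EtOver.homOfEtale (Scheme.Etale.mk p₁)) ≫ N.1.obj.hom) = p.toHom
    rw [← Category.assoc, ← Functor.map_comp, nbhdPtHom_comp]
    exact N.2.2⟩

noncomputable def nbhdN : EtNbhd p := ⟨nbhdE X p N V p₁, nbhdPt X p N V p₁ s' hs'⟩

noncomputable def nbhdφ : nbhdN X p N V p₁ s' hs' ⟶ N :=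
  ⟨nbhdMap X p N V p₁, Subtype.ext (nbhdPtHom_comp X p N V p₁ s' hs')⟩

include hs' in
lemma K1 (B : Type u) [CommRing B] (ψ : Γ(N.1.obj.left.left, ⊤) →+* B)
    (κ₀ : B →+* Γ(V, ⊤)) (h1 : κ₀.comp ψ = p₁.appTop.hom) (e' : B →+* p.K)
    (h2 : (s'.appTop ≫ (Scheme.ΓSpecIso (CommRingCat.of p.K)).hom).hom.comp κ₀ = e') :
    ∃ κ : B →+* ↑(OEtStalk p), κ.comp ψ = tau X p N ∧ (ev X p).comp κ = e' := by
  refine ⟨(tau X p (nbhdN X p N V p₁ s' hs')).comp κ₀, ?_, ?_⟩
  · ext a
    have h := tau_w X p (nbhdφ X p N V p₁ s' hs') a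
    refine Eq.trans ?_ h
    exact congrArg (tau X p (nbhdN X p N V p₁ s' hs')) (congrArg (fun f => f a) h1)
  · ext b
    have h := ev_tau X p (nbhdN X p N V p₁ s' hs') (κ₀ b)
    refine h.trans ?_
    exact congrArg (fun f => f b) h2

end nbhd

lemma hext (N : EtNbhd p) (B : Type u) [CommRing B] (ψ : Γ(N.1.obj.left.left, ⊤) →+* B)
    (hψ : ψ.Etale) (e' : B →+* p.K) (he : e'.comp ψ = (ev X p).comp (tau X p N)) :
    ∃ κ : B →+* ↑(OEtStalk p), κ.comp ψ = tau X p N ∧ (ev X p).comp κ = e' := by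
  have he' : e'.comp ψ = evU X p N := he.trans (ev_comp_tau X p N)
  haveI : Etale (Spec.map (CommRingCat.ofHom ψ)) :=
    (HasRingHomProperty.Spec_iff (P := @Etale)).2 hψ
  obtain ⟨s', h1, h2, h3⟩ := Groth.Agent.S0111.K0 N.1.obj.left.left (Spec (CommRingCat.of p.K))
    (ptL X p N) (CommRingCat.of B) (CommRingCat.ofHom ψ)
    (CommRingCat.ofHom e' ≫ (Scheme.ΓSpecIso (CommRingCat.of p.K)).inv) (by
      rw [← Category.assoc, ← CommRingCat.ofHom_comp, he']
      exact Groth.Agent.S0111.ofHom_aux (ptL X p N).appTop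
        (Scheme.ΓSpecIso (CommRingCat.of p.K)))
  refine K1 X p N _ (pullback.fst N.1.obj.left.left.toSpecΓ (Spec.map (CommRingCat.ofHom ψ)))
    s' h1 B ψ
    ((Scheme.ΓSpecIso (CommRingCat.of B)).inv ≫
      (pullback.snd N.1.obj.left.left.toSpecΓ (Spec.map (CommRingCat.ofHom ψ))).appTop).hom
    (congrArg CommRingCat.Hom.hom h2) e' ?_
  have h4 : ((Scheme.ΓSpecIso (CommRingCat.of B)).inv ≫
      (pullback.snd N.1.obj.left.left.toSpecΓ (Spec.map (CommRingCat.ofHom ψ))).appTop) ≫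
      s'.appTop ≫ (Scheme.ΓSpecIso (CommRingCat.of p.K)).hom = CommRingCat.ofHom e' := by
    rw [← Category.assoc, h3, Category.assoc, Iso.inv_hom_id, Category.comp_id]
  exact congrArg CommRingCat.Hom.hom h4

theorem main (hp : p.IsGeometric) :
    IsLocalRing ↑(OEtStalk p) ∧ EtCoh.IsStrictlyHenselianLocalRing ↑(OEtStalk p) := by
  haveI : IsAlgClosed p.K := hp
  haveI : Nonempty (EtNbhd p) := Groth.Agent.Lib.Helper15.AlgSpPoint.nonempty_etNbhd X p hp
  have hloc : IsLocalRing ↑(OEtStalk p) :=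
    Helper15.StrictHensSystem.isLocalRing (tau X p) (ev X p) (tau_surj X p hp) (hext X p)
  haveI := hloc
  exact ⟨hloc,
    Helper15.StrictHensSystem.henselian (tau X p) (ev X p) (tau_surj X p hp) (hcommon X p hp)
      (hext X p),
    Helper15.StrictHensSystem.sepClosed (tau X p) (ev X p) (tau_surj X p hp) (hcommon X p hp)
      (hext X p)⟩

end Helper15.AlgSpHens
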