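import Mathlib
import Groth.Agent.Lib.Helper5.HenselLift
import Groth.Agent.Lib.Helper8.Hzl.Universal
import Groth.Agent.Lib.Helper8.Hzl.Lift
import Groth.Agent.Lib.Helper8.Hzl.Main

/-!
# Helper15: universe-polymorphic étale lifting into henselian local rings, lifting along a
directed system of étale algebras, and comparison with the strict henselization
-/

set_option autoImplicit false
universe u v w w'

open IsLocalRing Polynomial

namespace Helper15.HensLift

/-- étale lifting into a henselian local ring (universe polymorphic in the target) -/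
theorem exists_lift {A C : Type u} {B : Type v} [CommRing A] [CommRing C]
    [Algebra A C] [Algebra.Etale A C] [CommRing B]
    [HenselianLocalRing B] [Algebra A B] (χ : C →ₐ[A] ResidueField B) :
    ∃ φ : C →ₐ[A] B, ∀ c : C, residue B (φ c) = χ c := by
  obtain ⟨q, hqdef⟩ : ∃ q : Ideal C, q = RingHom.ker χ.toRingHom := ⟨_, rfl⟩
  haveI : q.IsPrime := hqdef ▸ RingHom.ker_isPrime _
  have hχ : ∀ c, c ∉ q → χ c ≠ 0 := fun c hc h0 => hc (by
    rw [hqdef]
    exact RingHom.mem_ker.mpr (show χ.toRingHom c = 0 from h0))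
  haveI : Algebra.IsEtaleAt A q := Algebra.FormallyEtale.comp A C (Localization.AtPrime q)
  obtain ⟨f, hf, hstd⟩ := Algebra.IsEtaleAt.exists_isStandardEtale (R := A) q
  let P := hstd.nonempty_standardEtalePresentation.some
  have hunit : ∀ y : Submonoid.powers f, IsUnit (χ y) := by
    rintro ⟨_, n, rfl⟩
    rw [map_pow]
    exact (IsUnit.mk0 _ (hχ f hf)).pow n
  let χf : Localization.Away f →ₐ[A] ResidueField B :=
    IsLocalization.liftAlgHom (M := Submonoid.powers f) (f := χ) hunit
  have hχf : ∀ c : C, χf (algebraMap C (Localization.Away f) c) = χ c := fun c => by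
    simp [χf, IsLocalization.lift_eq]
  obtain ⟨φf, hφf⟩ := Groth.Agent.Lib.Helper5.exists_algHom_of_standardEtalePresentation P χf
  refine ⟨φf.comp (IsScalarTower.toAlgHom A C (Localization.Away f)), ?_⟩
  intro c
  have := congrArg (fun g => g (algebraMap C (Localization.Away f) c)) hφf
  simp only [AlgHom.comp_apply, IsScalarTower.coe_toAlgHom', ResidueField.algebraMap_eq] at this
  rw [← hχf c, ← this]
  rfl

/-- ring hom version, with uniqueness -/
theorem existsUnique_ringHom_lift {R₀ A : Type u} {T : Type v} [CommRing R₀] [CommRing A]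
    [CommRing T] [HenselianLocalRing T] (ψ : R₀ →+* A) (hψ : ψ.Etale) (f₀ : R₀ →+* T)
    (χ : A →+* ResidueField T) (hχ : χ.comp ψ = (residue T).comp f₀) :
    ∃! h : A →+* T, h.comp ψ = f₀ ∧ (residue T).comp h = χ := by
  letI : Algebra R₀ A := ψ.toAlgebra
  letI : Algebra R₀ T := f₀.toAlgebra
  haveI : Algebra.Etale R₀ A := hψ
  obtain ⟨χ', hχ'⟩ : ∃ χ' : A →ₐ[R₀] ResidueField T, ∀ a, χ' a = χ a :=
    ⟨{ χ with commutes' := fun r => RingHom.congr_fun hχ r }, fun a => rfl⟩
  obtain ⟨φ, hφ⟩ := exists_lift χ'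
  refine ⟨φ.toRingHom, ⟨?_, ?_⟩, ?_⟩
  · ext r
    exact φ.commutes r
  · ext a
    exact (hφ a).trans (hχ' a)
  · rintro h' ⟨h1, h2⟩
    obtain ⟨φ', hφ'⟩ : ∃ φ' : A →ₐ[R₀] T, ∀ a, φ' a = h' a :=
      ⟨{ h' with commutes' := fun r => RingHom.congr_fun h1 r }, fun a => rfl⟩
    have key := Groth.Agent.Lib.Helper8.Hzl.algHom_ext_residue φ' φ (fun e => by
      rw [hφ e, hχ' e, hφ' e]
      exact RingHom.congr_fun h2 e)
    ext a
    rw [← hφ' a, key]
    rfl

section System

variable {R₀ : Type u} [CommRing R₀] {S : Type v} [CommRing S] {T : Type w} [CommRing T]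
  [HenselianLocalRing T]
  {I : Type w'} (A : I → Type u) [∀ i, CommRing (A i)]
  (ψ : ∀ i, R₀ →+* A i) (hψ : ∀ i, (ψ i).Etale)
  (τ : ∀ i, A i →+* S) (ι₀ : R₀ →+* S) (hτ : ∀ i, (τ i).comp (ψ i) = ι₀)
  (hsurj : ∀ s : S, ∃ (i : I) (a : A i), τ i a = s)
  (hdir : ∀ i j, ∃ (k : I) (f : A i →+* A k) (g : A j →+* A k),
      f.comp (ψ i) = ψ k ∧ g.comp (ψ j) = ψ k ∧ (τ k).comp f = τ i ∧ (τ k).comp g = τ j)
  (hker : ∀ i (a : A i), τ i a = 0 → ∃ (k : I) (f : A i →+* A k),
      f.comp (ψ i) = ψ k ∧ (τ k).comp f = τ i ∧ f a = 0)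
  (f₀ : R₀ →+* T) (ρ : S →+* ResidueField T) (hρ : ρ.comp ι₀ = (residue T).comp f₀)

include hψ hτ hsurj hdir hker hρ in
/-- Lifting a map to a henselian local ring along a directed system of étale algebras. -/
theorem existsUnique_lift_of_system :
    ∃! g : S →+* T, g.comp ι₀ = f₀ ∧ (residue T).comp g = ρ := by
  have hL : ∀ i, ∃! h : A i →+* T, h.comp (ψ i) = f₀ ∧
      (residue T).comp h = ρ.comp (τ i) := by
    intro i
    refine existsUnique_ringHom_lift (ψ i) (hψ i) f₀ (ρ.comp (τ i)) ?_
    rw [RingHom.comp_assoc, hτ i, hρ]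
  choose h hh hhu using hL
  have hcomp : ∀ (i k : I) (f : A i →+* A k), f.comp (ψ i) = ψ k → (τ k).comp f = τ i →
      (h k).comp f = h i := by
    intro i k f h1 h2
    apply hhu i
    constructor
    · rw [RingHom.comp_assoc, h1]
      exact (hh k).1
    · rw [← RingHom.comp_assoc, (hh k).2, RingHom.comp_assoc, h2]
  have hwd : ∀ (i j : I) (a : A i) (b : A j), τ i a = τ j b → h i a = h j b := by
    intro i j a b hab
    obtain ⟨k, f, g, hf1, hg1, hf2, hg2⟩ := hdir i j
    have h0 : τ k (f a - g b) = 0 := by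
      have e1 : τ k (f a) = τ i a := RingHom.congr_fun hf2 a
      have e2 : τ k (g b) = τ j b := RingHom.congr_fun hg2 b
      rw [map_sub, sub_eq_zero, e1, e2, hab]
    obtain ⟨k', f', hf'1, hf'2, hf'0⟩ := hker k (f a - g b) h0
    have e1 : h i a = h k (f a) := (RingHom.congr_fun (hcomp i k f hf1 hf2) a).symm
    have e2 : h j b = h k (g b) := (RingHom.congr_fun (hcomp j k g hg1 hg2) b).symm
    have e3 : ∀ c, h k c = h k' (f' c) :=
      fun c => (RingHom.congr_fun (hcomp k k' f' hf'1 hf'2) c).symm
    have e4 : f' (f a) = f' (g b) := by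
      rw [map_sub, sub_eq_zero] at hf'0
      exact hf'0
    rw [e1, e2, e3 (f a), e3 (g b), e4]
  choose idx rep hrep using hsurj
  have key : ∀ (s : S) (i : I) (a : A i), τ i a = s → h (idx s) (rep s) = h i a :=
    fun s i a e => hwd _ _ _ _ ((hrep s).trans e.symm)
  obtain ⟨g, hg⟩ : ∃ g : S →+* T, ∀ s, g s = h (idx s) (rep s) := by
    refine ⟨{ toFun := fun s => h (idx s) (rep s)
              map_one' := ?_
              map_mul' := ?_
              map_zero' := ?_
              map_add' := ?_ }, fun s => rfl⟩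
    · exact (key 1 (idx 1) 1 (map_one _)).trans (map_one _)
    · intro s t
      obtain ⟨k, f, g', hf1, hg1, hf2, hg2⟩ := hdir (idx s) (idx t)
      have es : τ k (f (rep s)) = s := (RingHom.congr_fun hf2 _).trans (hrep s)
      have et : τ k (g' (rep t)) = t := (RingHom.congr_fun hg2 _).trans (hrep t)
      have e1 := key (s * t) k (f (rep s) * g' (rep t)) (by rw [map_mul, es, et])
      have e2 := key s k (f (rep s)) es
      have e3 := key t k (g' (rep t)) et
      show h (idx (s * t)) (rep (s * t)) = h (idx s) (rep s) * h (idx t) (rep t)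
      rw [e1, e2, e3, map_mul]
    · exact (key 0 (idx 0) 0 (map_zero _)).trans (map_zero _)
    · intro s t
      obtain ⟨k, f, g', hf1, hg1, hf2, hg2⟩ := hdir (idx s) (idx t)
      have es : τ k (f (rep s)) = s := (RingHom.congr_fun hf2 _).trans (hrep s)
      have et : τ k (g' (rep t)) = t := (RingHom.congr_fun hg2 _).trans (hrep t)
      have e1 := key (s + t) k (f (rep s) + g' (rep t)) (by rw [map_add, es, et])
      have e2 := key s k (f (rep s)) es
      have e3 := key t k (g' (rep t)) et
      show h (idx (s + t)) (rep (s + t)) = h (idx s) (rep s) + h (idx t) (rep t)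
      rw [e1, e2, e3, map_add]
  have hgτ : ∀ (i : I) (a : A i), g (τ i a) = h i a := fun i a => by
    rw [hg]
    exact key _ i a rfl
  refine ⟨g, ⟨?_, ?_⟩, ?_⟩
  · ext r
    have e : ι₀ r = τ (idx 0) (ψ (idx 0) r) := (RingHom.congr_fun (hτ (idx 0)) r).symm
    show g (ι₀ r) = f₀ r
    rw [e, hgτ]
    exact RingHom.congr_fun (hh (idx 0)).1 r
  · ext s
    show residue T (g s) = ρ s
    rw [hg]
    have := RingHom.congr_fun (hh (idx s)).2 (rep s)
    refine this.trans ?_
    show ρ (τ (idx s) (rep s)) = ρ s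
    rw [hrep]
  · rintro g' ⟨hg'1, hg'2⟩
    ext s
    have e1 : g'.comp (τ (idx s)) = h (idx s) := by
      apply hhu (idx s)
      constructor
      · rw [RingHom.comp_assoc, hτ]
        exact hg'1
      · rw [← RingHom.comp_assoc, hg'2]
    rw [hg, ← e1]
    show g' s = g' (τ (idx s) (rep s))
    rw [hrep]

end System

section UniversalPoly

open Groth.Agent.Lib.Helper8.Hzl

variable {R : Type u} [CommRing R] {Ω : Type u} [Field Ω] [Algebra R Ω]
variable (T : Type v) [CommRing T] [HenselianLocalRing T] [Algebra R T]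
  (τ : Ω →ₐ[R] ResidueField T)

lemma exists_gE (i : Idx R Ω) : ∃ g : i.E →ₐ[R] T, ∀ e, residue T (g e) = τ (i.χ e) := by
  obtain ⟨g, hg⟩ := exists_lift (τ.comp i.χ)
  exact ⟨g, fun e => hg e⟩

lemma exists_gB (i : Idx R Ω) : ∃ g : i.B →ₐ[R] T, ∀ b, residue T (g b) = τ (i.χB b) := by
  obtain ⟨g, hg⟩ := exists_gE T τ i
  have hu : ∀ y : i.q.primeCompl, IsUnit (g y) := fun y => by
    rw [← residue_ne_zero_iff_isUnit, hg]
    exact (map_ne_zero τ).mpr (i.isUnit_χ y).ne_zero
  let g' : i.B →ₐ[R] T := IsLocalization.liftAlgHom (M := i.q.primeCompl) (f := g) hu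
  refine ⟨g', fun b => ?_⟩
  have h1 : (residue T).comp (g' : i.B →+* T) =
      (τ : Ω →+* ResidueField T).comp (i.χB : i.B →+* Ω) := by
    apply IsLocalization.ringHom_ext i.q.primeCompl
    ext e
    simp [g', hg]
  exact DFunLike.congr_fun h1 b

/-- maps out of `Hz R Ω` into henselian local rings of any universe -/
theorem exists_desc : ∃ g : Hz R Ω →ₐ[R] T, ∀ x, residue T (g x) = τ (χS R Ω x) := by
  choose gB hgB using exists_gB T τ
  have htr : ∀ (i j : Idx R Ω) (h : i ≤ j) (b : i.B), gB j (Idx.tr i j h b) = gB i b := by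
    intro i j h b
    have h1 : (gB j).comp (Idx.tr i j h) = gB i :=
      algHom_ext_residue _ _ (fun e => by
        simp only [AlgHom.comp_apply, hgB, Idx.χB_tr])
    exact DFunLike.congr_fun h1 b
  refine ⟨liftAlg gB htr, fun x => ?_⟩
  obtain ⟨i, b, rfl⟩ := exists_ofHom x
  rw [liftAlg_ofHom, hgB, χS_ofHom]

end UniversalPoly

section Iso

open Groth.Agent.Lib.Helper8.Hzl

variable (R : Type u) [CommRing R] [IsLocalRing R] (S : Type v) [CommRing S]
  [HenselianLocalRing S] [Algebra R S] [IsLocalHom (algebraMap R S)]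
  [IsSepClosure (ResidueField R) (ResidueField S)]

/-- A henselian local algebra with separably closed residue field, satisfying the universal
property of the strict henselization (with respect to the model `SHens R` and to itself), is
isomorphic to `SHens R`. -/
theorem nonempty_ringEquiv_SHens
    (UP₁ : ∀ (ρ : S →+* ResidueField (SHens R)),
      ρ.comp (algebraMap R S) = (residue (SHens R)).comp (algebraMap R (SHens R)) →
      ∃ g : S →+* SHens R, g.comp (algebraMap R S) = algebraMap R (SHens R) ∧
        (residue (SHens R)).comp g = ρ)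
    (UP₂ : ∀ g : S →+* S, g.comp (algebraMap R S) = algebraMap R S →
      (residue S).comp g = residue S → g = RingHom.id S) :
    Nonempty (S ≃+* SHens R) := by
  haveI hSH := isStrictHenselization R
  haveI : HenselianLocalRing (SHens R) := hSH.henselian
  obtain ⟨σ, -⟩ : ∃ σ : ResidueField (SHens R) ≃ₐ[ResidueField R] ResidueField S, True :=
    ⟨IsSepClosure.equiv (ResidueField R) (ResidueField (SHens R)) (ResidueField S), trivial⟩
  have hres0 : ∀ x : SHens R, (resAlgEquiv R).symm (χS R (Ωs R) x) = residue (SHens R) x := by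
    intro x
    rw [AlgEquiv.symm_apply_eq]
    exact (resEquiv_residue (χS_surjective_strict R) x).symm
  obtain ⟨τ', hτ'⟩ : ∃ τ' : Ωs R →ₐ[R] ResidueField S,
      ∀ ω, τ' ω = σ ((resAlgEquiv R).symm ω) := by
    refine ⟨{ toRingHom := (σ : ResidueField (SHens R) →+* ResidueField S).comp
                ((resAlgEquiv R).symm : Ωs R →+* ResidueField (SHens R))
              commutes' := fun r => ?_ }, fun ω => rfl⟩
    show σ ((resAlgEquiv R).symm (algebraMap R (Ωs R) r)) = residue S (algebraMap R S r)
    rw [IsScalarTower.algebraMap_apply R (ResidueField R) (Ωs R), AlgEquiv.commutes,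
      AlgEquiv.commutes]
    rfl
  obtain ⟨h, hh⟩ := exists_desc S τ'
  have hres : ∀ x : SHens R, residue S (h x) = σ (residue (SHens R) x) := by
    intro x
    rw [hh, hτ', hres0]
  obtain ⟨g, hg1, hg2⟩ := UP₁
    ((σ.symm : ResidueField S →+* ResidueField (SHens R)).comp (residue S)) (by
      ext r
      show σ.symm (residue S (algebraMap R S r)) = residue (SHens R) (algebraMap R (SHens R) r)
      have e : residue S (algebraMap R S r) =
          algebraMap (ResidueField R) (ResidueField S) (residue R r) := rfl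
      rw [e, AlgEquiv.commutes]
      rfl)
  have hg2' : ∀ s : S, residue (SHens R) (g s) = σ.symm (residue S s) :=
    fun s => RingHom.congr_fun hg2 s
  have hgh : g.comp (h : SHens R →+* S) = RingHom.id (SHens R) := by
    obtain ⟨g₀, -, huniq⟩ := hSH.universal (SHens R) (algebraMap R (SHens R))
      (RingHom.id _) rfl
    have e1 : g.comp (h : SHens R →+* S) = g₀ := by
      apply huniq
      constructor
      · ext r
        show g (h (algebraMap R (SHens R) r)) = algebraMap R (SHens R) r
        rw [AlgHom.commutes]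
        exact RingHom.congr_fun hg1 r
      · intro x
        show residue (SHens R) (g (h x)) = residue (SHens R) x
        rw [hg2', hres, AlgEquiv.symm_apply_apply]
    have e2 : RingHom.id (SHens R) = g₀ := by
      apply huniq
      exact ⟨rfl, fun x => rfl⟩
    rw [e1, e2]
  have hhg : (h : SHens R →+* S).comp g = RingHom.id S := by
    apply UP₂
    · ext r
      show h (g (algebraMap R S r)) = algebraMap R S r
      have e : g (algebraMap R S r) = algebraMap R (SHens R) r := RingHom.congr_fun hg1 r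
      rw [e, AlgHom.commutes]
    · ext s
      show residue S (h (g s)) = residue S s
      rw [hres, hg2', AlgEquiv.apply_symm_apply]
  exact ⟨RingEquiv.ofRingHom g (h : SHens R →+* S) hgh hhg⟩

end Iso

end Helper15.HensLift
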