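import Mathlib
import Groth.Agent.Lib.Helper15.AlgSpHens
import Groth.Agent.Lib.Helper15.HensLift

/-!
# Helper15: the universal property of the étale local ring of an algebraic space at a geometric
point (with respect to an affine étale neighbourhood), and separability of its residue field
-/

set_option autoImplicit false
set_option backward.isDefEq.respectTransparency false
universe u w

open CategoryTheory CategoryTheory.Limits AlgebraicGeometry Opposite IsLocalRing

namespace Helper15.AlgSpHensUniv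

open AlgSp Helper15.AlgSpHens

variable {S : Scheme.{u}} (X : AlgSp.Space S) (p : FieldPt X.obj)

/-- restriction of functions along a morphism of neighbourhoods -/
noncomputable def res {N N' : EtNbhd p} (φ : N ⟶ N') :
    Γ(N'.1.obj.left.left, ⊤) →+* Γ(N.1.obj.left.left, ⊤) :=
  φ.1.hom.left.left.appTop.hom

lemma res_comp {N N' N'' : EtNbhd p} (α : N ⟶ N') (β : N' ⟶ N'') :
    res X p (α ≫ β) = (res X p α).comp (res X p β) := rfl

lemma tau_res {N N' : EtNbhd p} (φ : N ⟶ N') (a : Γ(N'.1.obj.left.left, ⊤)) :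
    tau X p N (res X p φ a) = tau X p N' a := tau_w X p φ a

theorem exists_affine_refinement (N : EtNbhd p) :
    ∃ (N' : EtNbhd p) (_ : N' ⟶ N), IsAffine N'.1.obj.left.left := by
  obtain ⟨v, hv⟩ : ∃ v, v = (ptL X p N) (IsLocalRing.closedPoint p.K) := ⟨_, rfl⟩
  obtain ⟨V, hV, hvV, -⟩ := exists_isAffineOpen_mem_and_subset
    (x := v) (U := (⊤ : N.1.obj.left.left.Opens)) trivial
  have hrange : Set.range (ptL X p N) ⊆ Set.range V.ι := by
    rintro _ ⟨y, rfl⟩
    rw [Scheme.Opens.range_ι]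
    have : y = IsLocalRing.closedPoint p.K := Subsingleton.elim _ _
    rw [this, ← hv]
    exact hvV
  obtain ⟨s', hs'⟩ : ∃ s' : Spec (CommRingCat.of p.K) ⟶ ↑V, s' ≫ V.ι = ptL X p N :=
    ⟨IsOpenImmersion.lift V.ι (ptL X p N) hrange, IsOpenImmersion.lift_fac _ _ _⟩
  exact ⟨nbhdN X p N ↑V V.ι s' hs', nbhdφ X p N ↑V V.ι s' hs', hV⟩

lemma exists_res_eq_zero (hp : p.IsGeometric) (N : EtNbhd p) (a : Γ(N.1.obj.left.left, ⊤))
    (ha : tau X p N a = 0) :
    ∃ (N' : EtNbhd p) (φ : N' ⟶ N), res X p φ a = 0 := by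
  haveI := Groth.Agent.Lib.Helper15.AlgSpPoint.isCofiltered_etNbhd X p hp
  haveI : PreservesFilteredColimitsOfSize.{u, u+1} (forget CommRingCat.{u+1}) :=
    preservesFilteredColimitsOfSize_of_univLE.{u+1, u+1, u, u+1} _
  have hz : (colimit.ι (stalkEtDiagram p (OEt X.obj)) (op N)).hom 0 = 0 := map_zero _
  have h0 : (colimit.ι (stalkEtDiagram p (OEt X.obj)) (op N)).hom (ULift.up a) =
      (colimit.ι (stalkEtDiagram p (OEt X.obj)) (op N)).hom 0 := ha.trans hz.symm
  obtain ⟨k, f, g, hfg⟩ := Concrete.colimit_exists_of_rep_eq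
    (stalkEtDiagram p (OEt X.obj)) (ULift.up a) 0 h0
  have hg0 : ((stalkEtDiagram p (OEt X.obj)).map g).hom 0 = 0 := map_zero _
  have h1 := hfg.trans hg0
  exact ⟨k.unop, f.unop, congrArg ULift.down h1⟩

variable (N₀ : EtNbhd p)

/-- affine neighbourhoods over `N₀` -/
structure Good where
  /-- the neighbourhood -/
  N : EtNbhd p
  /-- the map to `N₀` -/
  π : N ⟶ N₀
  /-- it is affine -/
  aff : IsAffine N.1.obj.left.left

variable {X p N₀}

/-- functions on a good neighbourhood -/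
abbrev Good.A (i : Good X p N₀) : Type u := Γ(i.N.1.obj.left.left, ⊤)

lemma Good.etale_res [IsAffine N₀.1.obj.left.left] (i : Good X p N₀) :
    (res X p i.π).Etale := by
  haveI := i.aff
  exact HasRingHomProperty.appTop @Etale _ (EtOver.etale_left i.π.1)

variable (X p N₀)

lemma good_surj (hp : p.IsGeometric) (s : ↑(OEtStalk p)) :
    ∃ (i : Good X p N₀) (a : i.A), tau X p i.N a = s := by
  haveI := Groth.Agent.Lib.Helper15.AlgSpPoint.isCofiltered_etNbhd X p hp
  obtain ⟨N, a, rfl⟩ := tau_surj X p hp s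
  obtain ⟨N', ν, haff⟩ := exists_affine_refinement X p (IsCofiltered.min N N₀)
  exact ⟨⟨N', ν ≫ IsCofiltered.minToRight N N₀, haff⟩,
    res X p (ν ≫ IsCofiltered.minToLeft N N₀) a, tau_res X p _ a⟩

/-- The universal property of the étale local ring with respect to an affine neighbourhood. -/
theorem existsUnique_lift (hp : p.IsGeometric) [IsAffine N₀.1.obj.left.left]
    {T : Type w} [CommRing T] [HenselianLocalRing T]
    (f₀ : Γ(N₀.1.obj.left.left, ⊤) →+* T) (ρ : ↑(OEtStalk p) →+* ResidueField T)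
    (hρ : ρ.comp (tau X p N₀) = (residue T).comp f₀) :
    ∃! g : ↑(OEtStalk p) →+* T, g.comp (tau X p N₀) = f₀ ∧ (residue T).comp g = ρ := by
  haveI := Groth.Agent.Lib.Helper15.AlgSpPoint.isCofiltered_etNbhd X p hp
  refine Helper15.HensLift.existsUnique_lift_of_system (I := Good X p N₀) (fun i => i.A)
    (fun i => res X p i.π) (fun i => i.etale_res) (fun i => tau X p i.N) (tau X p N₀)
    ?_ (good_surj X p N₀ hp) ?_ ?_ f₀ ρ hρ
  · intro i
    ext a
    exact tau_res X p i.π a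
  · intro i j
    obtain ⟨M, φ₁, φ₂, -⟩ : ∃ (M : EtNbhd p) (_ : M ⟶ i.N) (_ : M ⟶ j.N), True :=
      ⟨IsCofiltered.min i.N j.N, IsCofiltered.minToLeft _ _, IsCofiltered.minToRight _ _, trivial⟩
    obtain ⟨E, e, he⟩ : ∃ (E : EtNbhd p) (e : E ⟶ M), e ≫ (φ₁ ≫ i.π) = e ≫ (φ₂ ≫ j.π) :=
      ⟨IsCofiltered.eq (φ₁ ≫ i.π) (φ₂ ≫ j.π), IsCofiltered.eqHom _ _,
        IsCofiltered.eq_condition _ _⟩
    obtain ⟨N', ν, haff⟩ := exists_affine_refinement X p E
    refine ⟨⟨N', ν ≫ e ≫ φ₁ ≫ i.π, haff⟩, res X p (ν ≫ e ≫ φ₁), res X p (ν ≫ e ≫ φ₂),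
      ?_, ?_, ?_, ?_⟩
    · show (res X p (ν ≫ e ≫ φ₁)).comp (res X p i.π) = res X p (ν ≫ e ≫ φ₁ ≫ i.π)
      rw [← res_comp]
      congr 1
    · show (res X p (ν ≫ e ≫ φ₂)).comp (res X p j.π) = res X p (ν ≫ e ≫ φ₁ ≫ i.π)
      rw [← res_comp]
      congr 1
      simp only [Category.assoc]
      rw [he]
    · ext a
      exact tau_res X p _ a
    · ext a
      exact tau_res X p _ a
  · intro i a ha
    obtain ⟨N', φ, hφ⟩ := exists_res_eq_zero X p hp i.N a ha
    obtain ⟨N'', ν, haff⟩ := exists_affine_refinement X p N'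
    refine ⟨⟨N'', ν ≫ φ ≫ i.π, haff⟩, res X p (ν ≫ φ), ?_, ?_, ?_⟩
    · show (res X p (ν ≫ φ)).comp (res X p i.π) = res X p (ν ≫ φ ≫ i.π)
      rw [← res_comp]
      congr 1
    · ext b
      exact tau_res X p _ b
    · rw [res_comp]
      show res X p ν (res X p φ a) = 0
      rw [hφ, map_zero]

/-- Residues of elements of the étale local ring are separable over any field under the ring of
functions of an affine neighbourhood. -/
theorem isSeparable_residue (hp : p.IsGeometric) [IsAffine N₀.1.obj.left.left]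
    [IsLocalRing ↑(OEtStalk p)] (k : Type u) [Field k]
    (c : Γ(N₀.1.obj.left.left, ⊤) →+* k) (e : k →+* ResidueField ↑(OEtStalk p))
    (he : e.comp c = (residue ↑(OEtStalk p)).comp (tau X p N₀))
    (x : ResidueField ↑(OEtStalk p)) :
    @IsSeparable k (ResidueField ↑(OEtStalk p)) _ _ e.toAlgebra x := by
  obtain ⟨s, rfl⟩ := residue_surjective x
  obtain ⟨i, a, rfl⟩ := good_surj X p N₀ hp s
  letI : Algebra Γ(N₀.1.obj.left.left, ⊤) k := c.toAlgebra
  letI : Algebra Γ(N₀.1.obj.left.left, ⊤) i.A := (res X p i.π).toAlgebra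
  letI : Algebra k (ResidueField ↑(OEtStalk p)) := e.toAlgebra
  letI : Algebra Γ(N₀.1.obj.left.left, ⊤) (ResidueField ↑(OEtStalk p)) :=
    ((residue ↑(OEtStalk p)).comp (tau X p N₀)).toAlgebra
  haveI : IsScalarTower Γ(N₀.1.obj.left.left, ⊤) k (ResidueField ↑(OEtStalk p)) :=
    IsScalarTower.of_algebraMap_eq (fun r => (RingHom.congr_fun he r).symm)
  haveI : Algebra.Etale Γ(N₀.1.obj.left.left, ⊤) i.A := i.etale_res
  obtain ⟨θ, hθ⟩ : ∃ θ : i.A →ₐ[Γ(N₀.1.obj.left.left, ⊤)] ResidueField ↑(OEtStalk p),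
      ∀ b, θ b = residue _ (tau X p i.N b) :=
    ⟨{ toRingHom := (residue ↑(OEtStalk p)).comp (tau X p i.N)
       commutes' := fun r => by
        show residue _ (tau X p i.N (res X p i.π r)) = residue _ (tau X p N₀ r)
        rw [tau_res] }, fun b => rfl⟩
  obtain ⟨φ, hφ⟩ : ∃ φ : TensorProduct Γ(N₀.1.obj.left.left, ⊤) k i.A →ₐ[k]
      ResidueField ↑(OEtStalk p), ∀ b : i.A, φ ((1 : k) ⊗ₜ b) = θ b :=
    ⟨Algebra.TensorProduct.lift (Algebra.ofId k _) θ (fun _ _ => Commute.all _ _), fun b => by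
      rw [Algebra.TensorProduct.lift_tmul, map_one, one_mul]⟩
  obtain ⟨m, hm⟩ : ∃ m : Ideal (TensorProduct Γ(N₀.1.obj.left.left, ⊤) k i.A),
      m = RingHom.ker φ.toRingHom := ⟨_, rfl⟩
  haveI : m.IsPrime := hm ▸ RingHom.ker_isPrime _
  obtain ⟨φbar, hφbar⟩ : ∃ φbar : (TensorProduct Γ(N₀.1.obj.left.left, ⊤) k i.A ⧸ m) →ₐ[k]
      ResidueField ↑(OEtStalk p), ∀ b, φbar (Ideal.Quotient.mk m b) = φ b :=
    ⟨Ideal.Quotient.liftₐ m φ (fun b hb => by rw [hm] at hb; exact hb), fun b => rfl⟩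
  have hx : residue _ (tau X p i.N a) = φbar (Ideal.Quotient.mk m ((1 : k) ⊗ₜ a)) := by
    rw [hφbar, hφ, hθ]
  have hsep : IsSeparable k (Ideal.Quotient.mk m ((1 : k) ⊗ₜ[Γ(N₀.1.obj.left.left, ⊤)] a)) :=
    Algebra.IsSeparable.isSeparable k _
  rw [hx]
  exact Polynomial.Separable.of_dvd hsep (minpoly.dvd k _ (by
    rw [Polynomial.aeval_algHom_apply, minpoly.aeval, map_zero]))

end Helper15.AlgSpHensUniv
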