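import Mathlib
import Groth.Agent.Lib.Helper15.AlgSpHensUniv
import Groth.Agent.Lib.Helper8.BranchFibre
import Groth.Agent.Lib.Helper16.Charts

/-!
# Helper15: the étale local ring of an algebraic space at a geometric point is the strict
henselization of the local ring of any étale chart at a point over it
-/

set_option autoImplicit false
set_option backward.isDefEq.respectTransparency false
universe u v

open CategoryTheory CategoryTheory.Limits AlgebraicGeometry Opposite IsLocalRing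

namespace Helper15.AlgSpHensIso

open Groth.Agent.Lib.Helper8.Hzl

section Alg

theorem key_alg {A : Type u} [CommRing A] (𝔭 : Ideal A) [𝔭.IsPrime]
    (R : Type u) [CommRing R] [IsLocalRing R] [Algebra A R] [IsLocalization.AtPrime R 𝔭]
    (S : Type v) [CommRing S] [HenselianLocalRing S]
    (τ : A →+* S)
    (hsc : IsSepClosed (ResidueField S))
    (h1 : ∀ f : A, IsUnit (τ f) ↔ IsUnit (algebraMap A R f))
    (h2 : ∀ (c : A →+* ResidueField R) (e : ResidueField R →+* ResidueField S),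
      e.comp c = (residue S).comp τ →
      ∀ x, @IsSeparable (ResidueField R) (ResidueField S) _ _ e.toAlgebra x)
    (UPa : ∀ (f₀ : A →+* SHens R) (ρ : S →+* ResidueField (SHens R)),
      ρ.comp τ = (residue (SHens R)).comp f₀ →
      ∃ g : S →+* SHens R, g.comp τ = f₀ ∧ (residue (SHens R)).comp g = ρ)
    (UPb : ∀ g : S →+* S, g.comp τ = τ → (residue S).comp g = residue S → g = RingHom.id S) :
    Nonempty (S ≃+* SHens R) := by
  have hunits : ∀ y : 𝔭.primeCompl, IsUnit (τ y) := fun y =>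
    (h1 y).2 ((IsLocalization.AtPrime.isUnit_to_map_iff R 𝔭 (y : A)).2 y.2)
  obtain ⟨ρalg, hρdef⟩ : ∃ ρalg : R →+* S,
      ρalg = IsLocalization.lift (M := 𝔭.primeCompl) (g := τ) hunits := ⟨_, rfl⟩
  have hρ : ρalg.comp (algebraMap A R) = τ := by
    rw [hρdef]; exact IsLocalization.lift_comp hunits
  have hρ' : ∀ b : A, ρalg (algebraMap A R b) = τ b := fun b => RingHom.congr_fun hρ b
  letI : Algebra R S := ρalg.toAlgebra
  have hloc : IsLocalHom (algebraMap R S) := by
    refine ⟨fun r hr => ?_⟩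
    obtain ⟨a, s, rfl⟩ := IsLocalization.exists_mk'_eq 𝔭.primeCompl r
    have e1 : ρalg (IsLocalization.mk' R a s) * τ s = τ a := by
      have h3 := congrArg ρalg (IsLocalization.mk'_spec R a s)
      rw [map_mul, hρ', hρ'] at h3
      exact h3
    have hu : IsUnit (τ a) := by
      rw [← e1]; exact IsUnit.mul hr (hunits s)
    have ha : a ∈ 𝔭.primeCompl :=
      (IsLocalization.AtPrime.isUnit_to_map_iff R 𝔭 a).1 ((h1 a).1 hu)
    exact (IsLocalization.AtPrime.isUnit_mk'_iff R 𝔭 a s).2 ha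
  haveI := hloc
  haveI : IsSepClosure (ResidueField R) (ResidueField S) := by
    rw [isSepClosure_iff]
    refine ⟨hsc, ⟨fun x => ?_⟩⟩
    have h4 := h2 ((residue R).comp (algebraMap A R))
      (algebraMap (ResidueField R) (ResidueField S)) (by
      ext a
      show algebraMap (ResidueField R) (ResidueField S) (residue R (algebraMap A R a)) =
        residue S (τ a)
      rw [← hρ' a]
      rfl) x
    have halg : (algebraMap (ResidueField R) (ResidueField S)).toAlgebra =
        (inferInstance : Algebra (ResidueField R) (ResidueField S)) :=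
      Algebra.algebra_ext _ _ (fun r => rfl)
    rw [halg] at h4
    exact h4
  refine Helper15.HensLift.nonempty_ringEquiv_SHens R S ?_ ?_
  · intro ρ hρ2
    obtain ⟨g, hg1, hg2⟩ := UPa ((algebraMap R (SHens R)).comp (algebraMap A R)) ρ (by
      ext a
      have e1 : τ a = algebraMap R S (algebraMap A R a) := (hρ' a).symm
      show ρ (τ a) = residue (SHens R) (algebraMap R (SHens R) (algebraMap A R a))
      rw [e1]
      exact RingHom.congr_fun hρ2 (algebraMap A R a))
    refine ⟨g, ?_, hg2⟩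
    apply IsLocalization.ringHom_ext 𝔭.primeCompl
    ext a
    have e1 : algebraMap R S (algebraMap A R a) = τ a := hρ' a
    show g (algebraMap R S (algebraMap A R a)) = algebraMap R (SHens R) (algebraMap A R a)
    rw [e1]
    exact RingHom.congr_fun hg1 a
  · intro g hg hres
    apply UPb g ?_ hres
    ext a
    have e1 : τ a = algebraMap R S (algebraMap A R a) := (hρ' a).symm
    show g (τ a) = τ a
    rw [e1]
    exact RingHom.congr_fun hg (algebraMap A R a)

end Alg

section Transfer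

theorem nonempty_ringEquiv_SHens_of_ringEquiv {R R' : Type u} [CommRing R] [IsLocalRing R]
    [CommRing R'] [IsLocalRing R'] (e : R ≃+* R') : Nonempty (SHens R ≃+* SHens R') := by
  haveI := isStrictHenselization R'
  haveI := isStrictHenselization R
  haveI : IsLocalHom (e : R →+* R') := Groth.Agent.Lib.Helper8.BranchFibre.isLocalHom_ringEquiv e
  letI : Algebra R (SHens R') := ((algebraMap R' (SHens R')).comp (e : R →+* R')).toAlgebra
  haveI : IsLocalHom (algebraMap R (SHens R')) :=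
    (RingHom.isLocalHom_comp _ _ : IsLocalHom ((algebraMap R' (SHens R')).comp (e : R →+* R')))
  haveI := Groth.Agent.Lib.Helper8.BranchFibre.isStrictHenselization_of_ringEquiv
    (S := SHens R') e rfl
  obtain ⟨f⟩ := nonempty_algEquiv_of_isStrictHenselization R (SHens R) (SHens R')
  exact ⟨f.toRingEquiv⟩

theorem encard_minimalPrimes_of_ringEquiv {R : Type u} {R' : Type v} [CommRing R] [CommRing R']
    (e : R ≃+* R') : (minimalPrimes R).encard = (minimalPrimes R').encard := by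
  have h1 : minimalPrimes R = Ideal.comap (e : R →+* R') '' minimalPrimes R' := by
    have h2 := Ideal.comap_minimalPrimes_eq_of_surjective (f := (e : R →+* R')) e.surjective ⊥
    have h3 : (⊥ : Ideal R').comap (e : R →+* R') = ⊥ :=
      Ideal.comap_bot_of_injective _ e.injective
    rw [h3] at h2
    exact h2
  rw [h1]
  exact (Ideal.comap_injective_of_surjective (e : R →+* R') e.surjective).encard_image _

end Transfer

section Geo

open AlgSp Helper15.AlgSpHens Helper15.AlgSpHensUniv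

variable {S : Scheme.{u}} (X : AlgSp.Space S) (p : FieldPt X.obj)

/-- the image of the point in a neighbourhood -/
noncomputable abbrev ptOf (N : EtNbhd p) : ↥N.1.obj.left.left :=
  (ptL X p N) (IsLocalRing.closedPoint p.K)

theorem ofPt_ptOf (N : EtNbhd p) : Points.ofPt N.1.obj.hom (ptOf X p N) = Points.mk p := by
  obtain ⟨E, s, hs⟩ := N
  show Points.ofPt E.obj.hom (s.left (IsLocalRing.closedPoint p.K)) = Points.mk p
  rw [← Groth.Agent.Lib.Helper16.ofPt_yon_map_comp s E.obj.hom, hs]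
  exact Points.ofPt_toHom p _

theorem exists_theta (N₀ : EtNbhd p) (hx : ptOf X p N₀ ∈ (⊤ : N₀.1.obj.left.left.Opens)) :
    ∃ θ : ↑(N₀.1.obj.left.left.presheaf.stalk (ptOf X p N₀)) →+* p.K, IsLocalHom θ ∧
      ∀ f : Γ(N₀.1.obj.left.left, ⊤),
        θ ((N₀.1.obj.left.left.presheaf.germ ⊤ (ptOf X p N₀) hx).hom f) = evU X p N₀ f := by
  haveI i1 : IsLocalRing ↑(CommRingCat.of p.K) := inferInstanceAs (IsLocalRing p.K)
  have h0 : N₀.1.obj.left.left.presheaf.germ ⊤ (ptOf X p N₀) hx ≫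
      @Scheme.stalkClosedPointTo _ (CommRingCat.of p.K) i1 (ptL X p N₀) =
      (ptL X p N₀).appTop ≫ (Scheme.ΓSpecIso (CommRingCat.of p.K)).hom := by
    rw [Scheme.stalkClosedPointTo, Scheme.Hom.germ_stalkMap_assoc]
    exact congrArg (fun t => (ptL X p N₀).app ⊤ ≫ t)
      (germ_stalkClosedPointIso_hom (CommRingCat.of p.K))
  exact ⟨(@Scheme.stalkClosedPointTo _ (CommRingCat.of p.K) i1 (ptL X p N₀)).hom,
    @Scheme.isLocalHom_stalkClosedPointTo _ (CommRingCat.of p.K) i1 (ptL X p N₀),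
    fun f => ConcreteCategory.congr_hom h0 f⟩

theorem key_affine (hp : p.IsGeometric) (N₀ : EtNbhd p) [IsAffine N₀.1.obj.left.left] :
    Nonempty (↑(OEtStalk p) ≃+*
      SHens ↑(N₀.1.obj.left.left.presheaf.stalk (ptOf X p N₀))) := by
  haveI : IsAlgClosed p.K := hp
  have h0 := Helper15.AlgSpHens.main X p hp
  obtain ⟨hloc, h1'⟩ := h0
  obtain ⟨hhens, hsc⟩ := h1'
  haveI := hhens
  have hx : ptOf X p N₀ ∈ (⊤ : N₀.1.obj.left.left.Opens) := trivial
  refine Exists.elim (exists_theta X p N₀ hx) (fun θ hθ5 => ?_)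
  haveI hθloc : IsLocalHom θ := hθ5.1
  have hθ := hθ5.2
  have h1 : ∀ f : Γ(N₀.1.obj.left.left, ⊤), IsUnit (tau X p N₀ f) ↔
      IsUnit ((N₀.1.obj.left.left.presheaf.germ ⊤ (ptOf X p N₀) hx).hom f) := by
    intro f
    constructor
    · intro hu
      have h3 : ev X p (tau X p N₀ f) ≠ 0 := (hu.map (ev X p)).ne_zero
      rw [ev_tau, ← hθ] at h3
      exact (isUnit_map_iff θ _).1 (IsUnit.mk0 _ h3)
    · intro hu
      apply Helper15.StrictHensSystem.isUnit_of_ev_ne_zero (tau X p) (ev X p) (tau_surj X p hp)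
        (hext X p)
      rw [ev_tau, ← hθ]
      exact (hu.map θ).ne_zero
  have h2 : ∀ (c : Γ(N₀.1.obj.left.left, ⊤) →+*
        ResidueField ↑(N₀.1.obj.left.left.presheaf.stalk (ptOf X p N₀)))
      (e : ResidueField ↑(N₀.1.obj.left.left.presheaf.stalk (ptOf X p N₀)) →+*
        ResidueField ↑(OEtStalk p)),
      e.comp c = (residue ↑(OEtStalk p)).comp (tau X p N₀) →
      ∀ x, @IsSeparable (ResidueField ↑(N₀.1.obj.left.left.presheaf.stalk (ptOf X p N₀)))
        (ResidueField ↑(OEtStalk p)) _ _ e.toAlgebra x :=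
    fun c e he x => isSeparable_residue X p N₀ hp _ c e he x
  have UPa : ∀ (f₀ : Γ(N₀.1.obj.left.left, ⊤) →+*
        SHens ↑(N₀.1.obj.left.left.presheaf.stalk (ptOf X p N₀)))
      (ρ : ↑(OEtStalk p) →+*
        ResidueField (SHens ↑(N₀.1.obj.left.left.presheaf.stalk (ptOf X p N₀)))),
      ρ.comp (tau X p N₀) = (residue _).comp f₀ →
      ∃ g : ↑(OEtStalk p) →+* SHens ↑(N₀.1.obj.left.left.presheaf.stalk (ptOf X p N₀)),
        g.comp (tau X p N₀) = f₀ ∧ (residue _).comp g = ρ := by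
    intro f₀ ρ hρ
    exact (existsUnique_lift X p N₀ hp f₀ ρ hρ).exists
  have UPb : ∀ g : ↑(OEtStalk p) →+* ↑(OEtStalk p), g.comp (tau X p N₀) = tau X p N₀ →
      (residue ↑(OEtStalk p)).comp g = residue ↑(OEtStalk p) → g = RingHom.id _ := by
    intro g hg hres
    exact (existsUnique_lift X p N₀ hp (tau X p N₀) (residue ↑(OEtStalk p)) rfl).unique
      ⟨hg, hres⟩ ⟨RingHom.id_comp _, RingHom.comp_id _⟩
  letI algA : Algebra Γ(N₀.1.obj.left.left, ⊤)
      ↑(N₀.1.obj.left.left.presheaf.stalk (ptOf X p N₀)) :=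
    N₀.1.obj.left.left.presheaf.algebra_section_stalk (U := ⊤) ⟨ptOf X p N₀, hx⟩
  haveI hlocz := (isAffineOpen_top N₀.1.obj.left.left).isLocalization_stalk
    ⟨ptOf X p N₀, hx⟩
  exact key_alg ((isAffineOpen_top N₀.1.obj.left.left).primeIdealOf ⟨ptOf X p N₀, hx⟩).asIdeal
    ↑(N₀.1.obj.left.left.presheaf.stalk (ptOf X p N₀)) ↑(OEtStalk p) (tau X p N₀) hsc h1 h2
    UPa UPb

theorem key_nbhdN (hp : p.IsGeometric) (N : EtNbhd p) (V : Scheme.{u})
    (p₁ : V ⟶ N.1.obj.left.left) [Etale p₁] (s' : Spec (CommRingCat.of p.K) ⟶ V)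
    (hs' : s' ≫ p₁ = ptL X p N) [hV : IsAffine V] :
    Nonempty (↑(OEtStalk p) ≃+*
      SHens ↑(V.presheaf.stalk (s' (IsLocalRing.closedPoint p.K)))) :=
  haveI : IsAffine (nbhdN X p N V p₁ s' hs').1.obj.left.left := hV
  key_affine X p hp (nbhdN X p N V p₁ s' hs')

/-- the neighbourhood defined by a chart and a lift of the point -/
noncomputable abbrev nbhdOfLift {U : Over S} (a : (yon S).obj U ⟶ X.obj) (ha : RepWith @Etale a)
    (s : p.pt ⟶ U) (hs : (yon S).map s ≫ a = p.toHom) : EtNbhd p :=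
  ⟨EtOver.mk a ha, ⟨s, hs⟩⟩

theorem exists_lift_through (hp : p.IsGeometric) {U : Over S} (a : (yon S).obj U ⟶ X.obj)
    (ha : RepWith @Etale a) (u : ↥U.left) (hu : Points.ofPt a u = Points.mk p) :
    ∃ s : p.pt ⟶ U, (yon S).map s ≫ a = p.toHom ∧
      s.left (IsLocalRing.closedPoint p.K) = u := by
  haveI : IsAlgClosed p.K := hp
  obtain ⟨E, e, φ, sq⟩ := ha.rep p.toHom
  have hee : Etale e.left := ha.property _ _ _ sq
  obtain ⟨c, hc⟩ := (yon S).map_surjective φ
  subst hc
  obtain ⟨w, hw1, hw2⟩ := Groth.Agent.Lib.Helper16.exists_point_of_isPullback_yon_yon sq u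
    (IsLocalRing.closedPoint p.K) (hu.trans (Points.ofPt_toHom p _).symm)
  obtain ⟨e₁, he₁⟩ : ∃ e₁ : E.left ⟶ Spec (CommRingCat.of p.K), e₁ = e.left := ⟨_, rfl⟩
  haveI hee₁ : Etale e₁ := he₁ ▸ hee
  haveI : LocallyQuasiFinite e₁ := Groth.Agent.Lib.Helper16.locallyQuasiFinite_of_etale e₁
  have hdisc : DiscreteTopology ↥E.left := by
    rw [← isDiscrete_univ_iff]
    have h := e₁.isDiscrete_preimage_singleton (IsLocalRing.closedPoint p.K)
    have huniv : (e₁ ⁻¹' {IsLocalRing.closedPoint p.K} : Set ↥E.left) = Set.univ :=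
      Set.eq_univ_of_forall (fun z => Subsingleton.elim (e₁ z) (IsLocalRing.closedPoint p.K))
    rwa [huniv] at h
  have hcl : IsClosed ({w} : Set ↥E.left) := isClosed_discrete _
  obtain ⟨s₀, hs₀, hs₀w⟩ : ∃ s₀ : Spec (CommRingCat.of p.K) ⟶ E.left,
      s₀ ≫ e₁ = 𝟙 _ ∧ s₀ (IsLocalRing.closedPoint p.K) = w :=
    ⟨pointOfClosedPoint e₁ w hcl, pointOfClosedPoint_comp e₁ w hcl,
      pointOfClosedPoint_apply e₁ w hcl _⟩
  have hσw : s₀ ≫ E.hom = p.str := by
    have h1 : e₁ ≫ p.str = E.hom := by rw [he₁]; exact Over.w e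
    rw [← h1, ← Category.assoc, hs₀]
    exact Category.id_comp _
  obtain ⟨σ, hσl⟩ : ∃ σ : p.pt ⟶ E, σ.left = s₀ := ⟨Over.homMk s₀ hσw, rfl⟩
  have hσ : σ ≫ e = 𝟙 p.pt := by
    apply Over.OverMorphism.ext
    rw [Over.comp_left, hσl, ← he₁, hs₀]
    rfl
  refine ⟨σ ≫ c, ?_, ?_⟩
  · rw [Functor.map_comp, Category.assoc, sq.w, ← Category.assoc, ← Functor.map_comp, hσ,
      (yon S).map_id, Category.id_comp]
  · have h1 : (σ ≫ c).left (IsLocalRing.closedPoint p.K) =
        c.left (σ.left (IsLocalRing.closedPoint p.K)) := rfl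
    have h2 : σ.left (IsLocalRing.closedPoint p.K) = w := by rw [hσl]; exact hs₀w
    rw [h1, h2, hw1]

theorem key_chart (hp : p.IsGeometric) {U : Over S} (a : (yon S).obj U ⟶ X.obj)
    (ha : RepWith @Etale a) (u : ↥U.left) (hu : Points.ofPt a u = Points.mk p) :
    Nonempty (↑(OEtStalk p) ≃+* SHens ↑(U.left.presheaf.stalk u)) := by
  obtain ⟨s, hs1, hs2⟩ := exists_lift_through X p hp a ha u hu
  obtain ⟨W, hW, huW, -⟩ := exists_isAffineOpen_mem_and_subset
    (x := u) (U := (⊤ : U.left.Opens)) trivial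
  have hrange : Set.range (ptL X p (nbhdOfLift X p a ha s hs1)) ⊆ Set.range W.ι := by
    rintro _ ⟨y, rfl⟩
    rw [Scheme.Opens.range_ι]
    have hy : y = IsLocalRing.closedPoint p.K := Subsingleton.elim _ _
    rw [hy]
    show s.left (IsLocalRing.closedPoint p.K) ∈ W
    rw [hs2]
    exact huW
  obtain ⟨s', hs'⟩ : ∃ s' : Spec (CommRingCat.of p.K) ⟶ ↑W,
      s' ≫ W.ι = ptL X p (nbhdOfLift X p a ha s hs1) :=
    ⟨IsOpenImmersion.lift W.ι (ptL X p (nbhdOfLift X p a ha s hs1)) hrange,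
      IsOpenImmersion.lift_fac _ _ _⟩
  haveI : IsAffine (↑W : Scheme.{u}) := hW
  obtain ⟨e₁⟩ := key_nbhdN X p hp (nbhdOfLift X p a ha s hs1) ↑W W.ι s' hs'
  obtain ⟨v, hv⟩ : ∃ v : ↥(↑W : Scheme.{u}), v = s' (IsLocalRing.closedPoint p.K) := ⟨_, rfl⟩
  rw [← hv] at e₁
  have hvu : W.ι v = u := by
    rw [hv, ← hs2]
    exact congrArg (fun t => t (IsLocalRing.closedPoint p.K)) hs'
  subst hvu
  obtain ⟨e₃⟩ := nonempty_ringEquiv_SHens_of_ringEquiv
    (asIso (W.ι.stalkMap v)).commRingCatIsoToRingEquiv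
  exact ⟨e₁.trans e₃.symm⟩

end Geo

end Helper15.AlgSpHensIso
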