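import Mathlib
import Groth.Agent.Lib.Helper15.AlgSpHensIso
import Groth.Agent.Lib.Helper8.BranchNbhd
import Groth.Agent.S0540
import Groth.Agent.S2747
import Groth.Agent.S2743
import Groth.Agent.S0541
import Groth.Agent.S2135
import Groth.Agent.S9238
import Groth.Agent.S9782
import Groth.Agent.S9753

/-!
# Helper15: consequences of `OEtStalk p ≃ (O_{U,u})^{sh}` for étale charts of algebraic spaces
-/

set_option autoImplicit false
set_option backward.isDefEq.respectTransparency false
universe u v

open CategoryTheory CategoryTheory.Limits AlgebraicGeometry Opposite IsLocalRing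

namespace Helper15.AlgSpHensApps

open AlgSp Groth.Agent.Lib.Helper8.Hzl Helper15.AlgSpHensIso

section Ring

theorem hasUniqueMinimalPrime_of_ringEquiv {R : Type u} {R' : Type v} [CommRing R] [CommRing R']
    (e : R ≃+* R') (h : CAlgX.HasUniqueMinimalPrime R) : CAlgX.HasUniqueMinimalPrime R' := by
  rw [Groth.Agent.Lib.Helper8.BranchNbhd.hasUniqueMinimalPrime_iff_encard_eq_one] at h ⊢
  rw [← encard_minimalPrimes_of_ringEquiv e]
  exact h

theorem hasUniqueMinimalPrime_of_isGeomUnibranch (A : Type u) [CommRing A] [IsLocalRing A]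
    (h : CAlg2.IsGeomUnibranch A) : CAlgX.HasUniqueMinimalPrime A := by
  have hdom : IsDomain (A ⧸ nilradical A) := h.1.1
  have hprime : (nilradical A).IsPrime := (Ideal.Quotient.isDomain_iff_prime _).1 hdom
  refine ⟨nilradical A, ⟨⟨hprime, bot_le⟩, fun Q hQ _ => ?_⟩, fun Q hQ => ?_⟩
  · exact nilradical_le_prime Q (H := hQ.1)
  · have h1 : nilradical A ≤ Q := nilradical_le_prime Q (H := hQ.1.1)
    exact le_antisymm (hQ.2 ⟨hprime, bot_le⟩ h1) h1

end Ring

variable {S : Scheme.{u}} (X : AlgSp.Space S)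

theorem exists_geometric (x : Points X.obj) :
    ∃ p : FieldPt X.obj, p.IsGeometric ∧ Points.mk p = x := by
  induction x using Points.ind with
  | h q =>
  obtain ⟨α, -⟩ : ∃ α : Spec (CommRingCat.of (AlgebraicClosure q.K)) ⟶
      Spec (CommRingCat.of q.K), True :=
    ⟨Spec.map (CommRingCat.ofHom (algebraMap q.K (AlgebraicClosure q.K))), trivial⟩
  refine ⟨Groth.Agent.Lib.Helper16.fieldPtOfHom (AlgebraicClosure q.K) (α ≫ q.str)
    ((yon S).map (Over.homMk α rfl : Over.mk (α ≫ q.str) ⟶ q.pt) ≫ q.toHom), ?_, ?_⟩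
  · show IsAlgClosed (AlgebraicClosure q.K)
    infer_instance
  · exact Groth.Agent.Lib.Helper16.mk_fieldPtOfHom_comp q (AlgebraicClosure q.K) (α ≫ q.str)
      (Over.homMk α rfl : Over.mk (α ≫ q.str) ⟶ q.pt)

theorem exists_chart (x : Points X.obj) :
    ∃ (U : Over S) (a : (yon S).obj U ⟶ X.obj) (u : ↥U.left),
      RepWith @Etale a ∧ Points.ofPt a u = x := by
  obtain ⟨U₀, a₀, hae, has⟩ := X.property.atlas
  obtain ⟨u₀, hu₀⟩ := Groth.Agent.Lib.Helper16.ofPt_surjective_of_surjective a₀ has x
  exact ⟨U₀, a₀, u₀, hae, hu₀⟩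

/-- composing a chart with an étale morphism of schemes -/
theorem comp_chart {U : Over S} (a : (yon S).obj U ⟶ X.obj) (ha : RepWith @Etale a)
    {V : Scheme.{u}} (g : V ⟶ U.left) (hg : Etale g) (v : ↥V) :
    RepWith @Etale ((yon S).map (Over.homMk g rfl : Over.mk (g ≫ U.hom) ⟶ U) ≫ a) ∧
      Points.ofPt ((yon S).map (Over.homMk g rfl : Over.mk (g ≫ U.hom) ⟶ U) ≫ a) v =
        Points.ofPt a (g v) := by
  have h1 : RepWith @Etale ((yon S).map (Over.homMk g rfl : Over.mk (g ≫ U.hom) ⟶ U)) :=
    (repWith_yon_map_iff @Etale (Over.homMk g rfl : Over.mk (g ≫ U.hom) ⟶ U)).2 hg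
  exact ⟨(repWith_isMultiplicative (S := S) @Etale).comp_mem _ _ h1 ha,
    Groth.Agent.Lib.Helper16.ofPt_yon_map_comp
      (Over.homMk g rfl : Over.mk (g ≫ U.hom) ⟶ U) a v⟩

section Chart

variable (p : FieldPt X.obj) (hp : p.IsGeometric) {U : Over S} (a : (yon S).obj U ⟶ X.obj)
  (ha : RepWith @Etale a) (u : ↥U.left) (hu : Points.ofPt a u = Points.mk p)

include hp ha hu in
theorem dim_eq : ringKrullDim ↑(OEtStalk p) = ringKrullDim ↑(U.left.presheaf.stalk u) := by
  obtain ⟨e⟩ := key_chart X p hp a ha u hu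
  haveI := isStrictHenselization ↑(U.left.presheaf.stalk u)
  rw [ringKrullDim_eq_of_ringEquiv e]
  exact Groth.Agent.S0541.result ↑(U.left.presheaf.stalk u) (SHens ↑(U.left.presheaf.stalk u))

include hp ha hu in
theorem reduced_iff : IsReduced ↑(OEtStalk p) ↔ IsReduced ↑(U.left.presheaf.stalk u) := by
  obtain ⟨e⟩ := key_chart X p hp a ha u hu
  haveI := isStrictHenselization ↑(U.left.presheaf.stalk u)
  rw [← Groth.Agent.S2747.result ↑(U.left.presheaf.stalk u) (SHens ↑(U.left.presheaf.stalk u))]
  constructor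
  · intro h
    haveI := h
    exact isReduced_of_injective e.symm e.symm.injective
  · intro h
    haveI := h
    exact isReduced_of_injective e e.injective

include hp ha hu in
theorem noeth_iff :
    IsNoetherianRing ↑(OEtStalk p) ↔ IsNoetherianRing ↑(U.left.presheaf.stalk u) := by
  obtain ⟨e⟩ := key_chart X p hp a ha u hu
  haveI := isStrictHenselization ↑(U.left.presheaf.stalk u)
  rw [Groth.Agent.S0540.result ↑(U.left.presheaf.stalk u) (SHens ↑(U.left.presheaf.stalk u))]
  constructor
  · intro h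
    haveI := h
    exact isNoetherianRing_of_ringEquiv _ e
  · intro h
    haveI := h
    exact isNoetherianRing_of_ringEquiv _ e.symm

include hp ha hu in
theorem regular_iff :
    IsRegularLocalRing ↑(OEtStalk p) ↔ IsRegularLocalRing ↑(U.left.presheaf.stalk u) := by
  obtain ⟨e⟩ := key_chart X p hp a ha u hu
  haveI := isStrictHenselization ↑(U.left.presheaf.stalk u)
  constructor
  · intro h
    haveI := h
    have h1 : IsRegularLocalRing (SHens ↑(U.left.presheaf.stalk u)) :=
      IsRegularLocalRing.of_ringEquiv e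
    haveI := h1
    haveI : IsNoetherianRing (SHens ↑(U.left.presheaf.stalk u)) := inferInstance
    haveI : IsNoetherianRing ↑(U.left.presheaf.stalk u) :=
      (Groth.Agent.S0540.result ↑(U.left.presheaf.stalk u)
        (SHens ↑(U.left.presheaf.stalk u))).2 inferInstance
    exact (Groth.Agent.S2743.result ↑(U.left.presheaf.stalk u)
      (SHens ↑(U.left.presheaf.stalk u))).1 h1
  · intro h
    haveI := h
    haveI : IsNoetherianRing ↑(U.left.presheaf.stalk u) := inferInstance
    haveI h1 : IsRegularLocalRing (SHens ↑(U.left.presheaf.stalk u)) :=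
      (Groth.Agent.S2743.result ↑(U.left.presheaf.stalk u)
        (SHens ↑(U.left.presheaf.stalk u))).2 h
    exact IsRegularLocalRing.of_ringEquiv e.symm

include hp ha hu in
theorem uniqueMin_iff_geomUnibranch :
    CAlgX.HasUniqueMinimalPrime ↑(OEtStalk p) ↔
      CAlg2.IsGeomUnibranch ↑(U.left.presheaf.stalk u) := by
  obtain ⟨e⟩ := key_chart X p hp a ha u hu
  haveI := isStrictHenselization ↑(U.left.presheaf.stalk u)
  rw [Groth.Agent.S2135.result (A := ↑(U.left.presheaf.stalk u))
    (Ash := SHens ↑(U.left.presheaf.stalk u))]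
  exact ⟨hasUniqueMinimalPrime_of_ringEquiv e, hasUniqueMinimalPrime_of_ringEquiv e.symm⟩

include hp ha hu in
theorem encard_eq :
    (minimalPrimes ↑(OEtStalk p)).encard = Brnch.numGeomBranchesAt U.left u := by
  obtain ⟨e⟩ := key_chart X p hp a ha u hu
  haveI := isStrictHenselization ↑(U.left.presheaf.stalk u)
  rw [encard_minimalPrimes_of_ringEquiv e]
  exact Groth.Agent.S9238.result ↑(U.left.presheaf.stalk u) (SHens ↑(U.left.presheaf.stalk u))

end Chart

section Sch

/-- the geometric branch number as a supremum of numbers of minimal primes -/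
theorem numGeomBranchesAt_eq_iSup (X : Scheme.{u}) (x : X) :
    Brnch.numGeomBranchesAt X x =
      ⨆ (U : Scheme.{u}) (g : U ⟶ X) (u : U) (_ : Etale g ∧ g u = x),
        (minimalPrimes ↑(U.presheaf.stalk u)).encard := by
  rw [Groth.Agent.S9753.result X x]
  refine iSup_congr (fun U => iSup_congr (fun g => iSup_congr (fun u => iSup_congr (fun _ => ?_))))
  exact Groth.Agent.Lib.Helper8.BranchNbhd.encard_irreducibleComponents_mem U u

theorem isGeomUnibranch_stalk_iff (X : Scheme.{u}) (x : X) :
    CAlg2.IsGeomUnibranch ↑(X.presheaf.stalk x) ↔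
      ∀ (U : Scheme.{u}) (g : U ⟶ X) (u : U), Etale g → g u = x →
        CAlgX.HasUniqueMinimalPrime ↑(U.presheaf.stalk u) := by
  rw [Groth.Agent.S9782.result X x]
  refine forall_congr' (fun U => forall_congr' (fun g => forall_congr' (fun u =>
    forall_congr' (fun _ => forall_congr' (fun _ => ?_)))))
  rw [Groth.Agent.Lib.Helper8.BranchNbhd.encard_irreducibleComponents_mem U u,
    Groth.Agent.Lib.Helper8.BranchNbhd.hasUniqueMinimalPrime_iff_encard_eq_one]

end Sch

end Helper15.AlgSpHensApps
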