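import Mathlib
import Groth.Agent.Lib.Helper15.AlgSpHensApps

/-!
# Helper15: the geometric branch number of a scheme at a point as an attained supremum
-/

set_option autoImplicit false
set_option backward.isDefEq.respectTransparency false
universe u

open CategoryTheory CategoryTheory.Limits AlgebraicGeometry Opposite IsLocalRing

namespace Helper15.AlgSpHensApps2

open Helper15.AlgSpHensApps

theorem le_numGeomBranchesAt (X : Scheme.{u}) (x : X) :
    (minimalPrimes ↑(X.presheaf.stalk x)).encard ≤ Brnch.numGeomBranchesAt X x := by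
  rw [numGeomBranchesAt_eq_iSup]
  exact le_iSup_of_le X (le_iSup_of_le (𝟙 X) (le_iSup_of_le x
    (le_iSup_of_le ⟨inferInstance, rfl⟩ le_rfl)))

theorem exists_etale_encard_eq (X : Scheme.{u}) (x : X) (n : ℕ) (hn : 1 ≤ n)
    (h : Brnch.numGeomBranchesAt X x = n) :
    ∃ (U : Scheme.{u}) (g : U ⟶ X) (u : U), Etale g ∧ g u = x ∧
      (minimalPrimes ↑(U.presheaf.stalk u)).encard = n := by
  by_contra hne
  push_neg at hne
  have hle : ∀ (U : Scheme.{u}) (g : U ⟶ X) (u : U), Etale g → g u = x →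
      (minimalPrimes ↑(U.presheaf.stalk u)).encard ≤ ((n - 1 : ℕ) : ℕ∞) := by
    intro U g u hg hgu
    have h1 : (minimalPrimes ↑(U.presheaf.stalk u)).encard ≤ n := by
      rw [← h, numGeomBranchesAt_eq_iSup]
      exact le_iSup_of_le U (le_iSup_of_le g (le_iSup_of_le u
        (le_iSup_of_le ⟨hg, hgu⟩ le_rfl)))
    have h2 := hne U g u hg hgu
    have h3 : (minimalPrimes ↑(U.presheaf.stalk u)).encard < n := lt_of_le_of_ne h1 h2
    obtain ⟨m, hm⟩ := ENat.ne_top_iff_exists.1 (ne_top_of_lt h3)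
    rw [← hm] at h3 ⊢
    have h4 : m < n := by exact_mod_cast h3
    exact_mod_cast Nat.le_sub_one_of_lt h4
  have hsup : Brnch.numGeomBranchesAt X x ≤ ((n - 1 : ℕ) : ℕ∞) := by
    rw [numGeomBranchesAt_eq_iSup]
    exact iSup_le (fun U => iSup_le (fun g => iSup_le (fun u => iSup_le
      (fun hgu => hle U g u hgu.1 hgu.2))))
  rw [h] at hsup
  have h5 : n ≤ n - 1 := by exact_mod_cast hsup
  omega

end Helper15.AlgSpHensApps2
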