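import Groth.Agent.Lib.Helper15.AlgSpStalk
import Mathlib.AlgebraicGeometry.Sites.AffineEtale
import Mathlib.AlgebraicGeometry.Sites.EtalePoint

/-!
# Helper library (helper15): the category of etale neighbourhoods of a geometric point of an algebraic space
is initially small; the resulting point of the small etale site with fibre functor `liftsTo p`.
-/

set_option autoImplicit false
set_option backward.isDefEq.respectTransparency false

universe u
open CategoryTheory CategoryTheory.Limits AlgebraicGeometry Opposite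

namespace Groth.Agent.Lib.Helper15.AlgSpStalk

open AlgSp

variable {S : Scheme.{u}}

theorem exists_affine_nbhd {X : Sp S} (p : FieldPt X) [IsAlgClosed p.K] {U₀ : Over S}
    (a₀ : (yon S).obj U₀ ⟶ X) (hae : RepWith @Etale a₀) (has : RepWith @Surjective a₀)
    (N : EtNbhd p) :
    ∃ (W : U₀.left.AffineEtale)
      (t : (FieldPt.liftsTo p).obj
        ((EtOver.ofChart a₀ hae).obj ((Scheme.AffineEtale.Spec U₀.left).obj W))),
      Nonempty (Functor.elementsMk (FieldPt.liftsTo p) _ t ⟶ N) := by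
  obtain ⟨E, u, hu⟩ := N
  have hsurj : Surjective (EtOver.prodFst E (EtOver.mk a₀ hae)).hom.left.left :=
    has.property_snd E.obj.hom
  haveI : Etale (EtOver.prodFst E (EtOver.mk a₀ hae)).hom.left.left := EtOver.etale_left _
  obtain ⟨y, hy⟩ := hsurj.surj (u.left (IsLocalRing.closedPoint p.K))
  obtain ⟨w₀, hw₀⟩ := Groth.Agent.Lib.Helper16.exists_lift_of_algClosed
    (EtOver.prodFst E (EtOver.mk a₀ hae)).hom.left.left u.left y hy
  -- `w₀` is a morphism over `S`
  have hw₀S : w₀ ≫ (EtOver.prodObj E (EtOver.mk a₀ hae)).obj.left.hom = p.pt.hom := by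
    have h1 := Over.w (EtOver.prodFst E (EtOver.mk a₀ hae)).hom.left
    have h2 := Over.w u
    rw [← h1, ← Category.assoc, hw₀, h2]
  obtain ⟨w, hwl⟩ : ∃ w : p.pt ⟶ (EtOver.prodObj E (EtOver.mk a₀ hae)).obj.left, w.left = w₀ :=
    ⟨Over.homMk w₀ hw₀S, rfl⟩
  have hwu : w ≫ (EtOver.prodFst E (EtOver.mk a₀ hae)).hom.left = u :=
    Over.OverMorphism.ext (by rw [Over.comp_left, hwl, hw₀])
  have hwP : (yon S).map w ≫ (EtOver.prodObj E (EtOver.mk a₀ hae)).obj.hom = p.toHom := by
    rw [← EtOver.w (EtOver.prodFst E (EtOver.mk a₀ hae)), ← Category.assoc, ← Functor.map_comp, hwu]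
    exact hu
  -- an affine open neighbourhood of the image point
  obtain ⟨R, j, hj, hjmem, -⟩ := Scheme.exists_affine_mem_range_and_range_subset
    (x := w₀ (IsLocalRing.closedPoint p.K))
    (U := (⊤ : (EtOver.prodObj E (EtOver.mk a₀ hae)).obj.left.left.Opens)) (by simp)
  have hrange : Set.range w₀ ⊆ Set.range j := by
    rintro _ ⟨a, rfl⟩
    rwa [Subsingleton.elim a (IsLocalRing.closedPoint p.K)]
  obtain ⟨y', hy'⟩ : ∃ y' : Spec (CommRingCat.of p.K) ⟶ Spec R, y' ≫ j = w₀ :=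
    ⟨IsOpenImmersion.lift j w₀ hrange, IsOpenImmersion.lift_fac j w₀ hrange⟩
  haveI : Etale (EtOver.prodSnd E (EtOver.mk a₀ hae)).hom.left.left := EtOver.etale_left _
  obtain ⟨g, hg⟩ : ∃ g : (EtOver.prodObj E (EtOver.mk a₀ hae)).obj.left.left ⟶ U₀.left,
      g = (EtOver.prodSnd E (EtOver.mk a₀ hae)).hom.left.left := ⟨_, rfl⟩
  haveI : Etale g := hg ▸ inferInstance
  haveI : Etale (j ≫ g) := inferInstance
  have hgS : g ≫ U₀.hom = (EtOver.prodObj E (EtOver.mk a₀ hae)).obj.left.hom := by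
    rw [hg]; exact Over.w (EtOver.prodSnd E (EtOver.mk a₀ hae)).hom.left
  -- the morphism from the affine chart to the product
  obtain ⟨jO, hjOl⟩ : ∃ jO : ((EtOver.ofChart a₀ hae).obj ((Scheme.AffineEtale.Spec U₀.left).obj
      (Scheme.AffineEtale.mk (j ≫ g)))).obj.left ⟶ (EtOver.prodObj E (EtOver.mk a₀ hae)).obj.left,
      jO.left = j :=
    ⟨Over.homMk j (by
      change j ≫ _ = (j ≫ g) ≫ U₀.hom
      rw [Category.assoc, hgS]), rfl⟩
  have hjOsnd : jO ≫ (EtOver.prodSnd E (EtOver.mk a₀ hae)).hom.left =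
      EtOver.homOfEtale ((Scheme.AffineEtale.Spec U₀.left).obj (Scheme.AffineEtale.mk (j ≫ g))) :=
    Over.OverMorphism.ext (by
      rw [Over.comp_left, hjOl, ← hg]
      rfl)
  obtain ⟨k, hkl⟩ : ∃ k : (EtOver.ofChart a₀ hae).obj ((Scheme.AffineEtale.Spec U₀.left).obj
      (Scheme.AffineEtale.mk (j ≫ g))) ⟶ EtOver.prodObj E (EtOver.mk a₀ hae), k.hom.left = jO :=
    ⟨EtOver.homMk jO (by
      rw [← EtOver.w (EtOver.prodSnd E (EtOver.mk a₀ hae)), ← Category.assoc, ← Functor.map_comp,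
        hjOsnd]
      rfl), rfl⟩
  -- the lift of the point to the affine chart
  obtain ⟨t, htl⟩ : ∃ t : p.pt ⟶ ((EtOver.ofChart a₀ hae).obj ((Scheme.AffineEtale.Spec U₀.left).obj
      (Scheme.AffineEtale.mk (j ≫ g)))).obj.left, t.left = y' :=
    ⟨Over.homMk y' (by
      change y' ≫ ((j ≫ g) ≫ U₀.hom) = p.pt.hom
      rw [Category.assoc, hgS, ← Category.assoc, hy', hw₀S]), rfl⟩
  have htk : t ≫ k.hom.left = w :=
    Over.OverMorphism.ext (by rw [Over.comp_left, hkl, hjOl, htl, hy', hwl])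
  have ht : (yon S).map t ≫ ((EtOver.ofChart a₀ hae).obj ((Scheme.AffineEtale.Spec U₀.left).obj
      (Scheme.AffineEtale.mk (j ≫ g)))).obj.hom = p.toHom := by
    rw [← EtOver.w k, ← Category.assoc, ← Functor.map_comp, htk]
    exact hwP
  refine ⟨Scheme.AffineEtale.mk (j ≫ g), ⟨t, ht⟩,
    ⟨⟨k ≫ EtOver.prodFst E (EtOver.mk a₀ hae), Subtype.ext ?_⟩⟩⟩
  change t ≫ (k ≫ EtOver.prodFst E (EtOver.mk a₀ hae)).hom.left = u
  have : (k ≫ EtOver.prodFst E (EtOver.mk a₀ hae)).hom.left =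
      k.hom.left ≫ (EtOver.prodFst E (EtOver.mk a₀ hae)).hom.left := rfl
  rw [this, ← Category.assoc, htk, hwu]

theorem initiallySmall_etNbhd (X : AlgSp.Space S) (p : FieldPt X.obj) (hp : p.IsGeometric) :
    InitiallySmall.{u} (EtNbhd p) := by
  haveI : IsAlgClosed p.K := hp
  haveI := Groth.Agent.Lib.Helper15.AlgSpPoint.isCofiltered_etNbhd X p hp
  obtain ⟨U₀, a₀, hae, has⟩ := X.property.atlas
  refine initiallySmall_of_essentiallySmall_weakly_initial_objectProperty
    (Functor.Elements.precomp (Scheme.AffineEtale.Spec U₀.left ⋙ EtOver.ofChart a₀ hae)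
      (FieldPt.liftsTo p)).essImage (fun N => ?_)
  obtain ⟨W, t, ⟨f⟩⟩ := exists_affine_nbhd p a₀ hae has N
  exact ⟨_, ⟨Functor.elementsMk _ W t, ⟨Iso.refl _⟩⟩, ⟨f⟩⟩

/-- The point of the small etale site with fibre functor `liftsTo p` (in the universe of the base). -/
noncomputable def geomPoint' (X : AlgSp.Space S) (p : FieldPt X.obj) (hp : p.IsGeometric) :
    GrothendieckTopology.Point.{u} (etTop X.obj) where
  fiber := FieldPt.liftsTo p
  isCofiltered := Groth.Agent.Lib.Helper15.AlgSpPoint.isCofiltered_etNbhd X p hp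
  initiallySmall := initiallySmall_etNbhd X p hp
  jointly_surjective R hR x := jointly_surjective_liftsTo X p hp R hR x

end Groth.Agent.Lib.Helper15.AlgSpStalk
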