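import Groth.Prelude.Def_AlgSpOX
import Groth.Prelude.Def_ModSite

/-!
# Helper library (helper15): the small etale site of an algebraic space with `O_X` is locally ringed
-/

set_option autoImplicit false
set_option backward.isDefEq.respectTransparency false

universe u
open CategoryTheory CategoryTheory.Limits AlgebraicGeometry Opposite

namespace Groth.Agent.Lib.Helper15.AlgSpLocRing

open AlgSp

variable {S : Scheme.{u}} {X : Sp S}

theorem isUnit_of_basicOpen_eq_top {W : Scheme.{u}} (s : Γ(W, ⊤)) (h : W.basicOpen s = ⊤) :
    IsUnit s := by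
  refine W.toLocallyRingedSpace.toRingedSpace.isUnit_of_isUnit_germ ⊤ s (fun x hx => ?_)
  exact (W.mem_basicOpen_top s x).1 (h.symm ▸ (show x ∈ (⊤ : W.Opens) from trivial))

/-- An open subscheme of an object of the small etale site, as an object. -/
noncomputable abbrev openObj (E : EtOver X) (V : E.obj.left.left.Opens) : EtOver X :=
  (EtOver.ofChart E.obj.hom E.property).obj (Scheme.Etale.mk V.ι)

/-- The inclusion of an open subscheme. -/
noncomputable abbrev openHom (E : EtOver X) (V : E.obj.left.left.Opens) : openObj E V ⟶ E :=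
  EtOver.homMk (EtOver.homOfEtale (Scheme.Etale.mk V.ι)) rfl

theorem openHom_left (E : EtOver X) (V : E.obj.left.left.Opens) :
    (openHom E V).hom.left.left = V.ι := rfl

theorem isUnit_map_openHom (E : EtOver X) (f : (OEt X).obj.obj (op E)) :
    IsUnit (((OEt X).obj.map (openHom E (E.obj.left.left.basicOpen f.down)).op).hom f) := by
  have h1 : IsUnit ((E.obj.left.left.basicOpen f.down).ι.appTop.hom f.down) := by
    apply isUnit_of_basicOpen_eq_top
    rw [← Scheme.preimage_basicOpen_top]
    exact Scheme.Opens.ι_preimage_self _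
  exact h1.map (ULift.ringEquiv.symm : _ ≃+* ULift.{u + 1} _)

theorem mem_range_ι_of_isUnit {W : Scheme.{u}} (s : Γ(W, ⊤)) (x : W)
    (h : IsUnit ((W.presheaf.germ ⊤ x trivial).hom s)) : x ∈ Set.range ⇑(W.basicOpen s).ι := by
  rw [Scheme.Opens.range_ι]
  exact (W.mem_basicOpen_top s x).2 h

theorem isUnit_comp_openHom (E : EtOver X) (t : (OEt X).obj.obj (op E)) {Z : EtOver X}
    (a : Z ⟶ openObj E (E.obj.left.left.basicOpen t.down)) :
    IsUnit (((OEt X).obj.map (a ≫ openHom E (E.obj.left.left.basicOpen t.down)).op).hom t) := by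
  have key : ((OEt X).obj.map (a ≫ openHom E (E.obj.left.left.basicOpen t.down)).op).hom t =
      ((OEt X).obj.map a.op).hom
        (((OEt X).obj.map (openHom E (E.obj.left.left.basicOpen t.down)).op).hom t) := by
    rw [op_comp, Functor.map_comp, CommRingCat.hom_comp, RingHom.comp_apply]
  rw [key]
  exact (isUnit_map_openHom E t).map _

theorem isLocallyRinged (X : Sp S) : ModSite.IsLocallyRinged (etTop X) (OEt X) := by
  refine ⟨fun E f => ?_, fun E h01 => ?_⟩
  · refine ⟨Sieve.ofArrows
      (fun b : Bool => openObj E (E.obj.left.left.basicOpen (bif b then f else 1 - f).down))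
      (fun b => openHom E _), ofArrows_mem_etTop _ _ (fun x => ?_), ?_⟩
    · have hloc := IsLocalRing.isUnit_or_isUnit_one_sub_self
        ((E.obj.left.left.presheaf.germ ⊤ x trivial).hom f.down)
      rcases hloc with h | h
      · exact ⟨true, mem_range_ι_of_isUnit f.down x h⟩
      · refine ⟨false, mem_range_ι_of_isUnit (1 - f).down x ?_⟩
        have e : (E.obj.left.left.presheaf.germ ⊤ x trivial).hom (1 - f).down =
            1 - (E.obj.left.left.presheaf.germ ⊤ x trivial).hom f.down := by
          have := map_sub ((E.obj.left.left.presheaf.germ ⊤ x trivial).hom.comp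
            (ULift.ringEquiv : ULift.{u + 1} Γ(E.obj.left.left, ⊤) ≃+* _).toRingHom) 1 f
          rw [map_one] at this
          exact this
        exact (congrArg IsUnit e).mpr h
    · rintro V k ⟨Z, a, _, ⟨b⟩, rfl⟩
      cases b
      · exact Or.inr (isUnit_comp_openHom E (1 - f) a)
      · exact Or.inl (isUnit_comp_openHom E f a)
  · have hempty : IsEmpty E.obj.left.left := by
      constructor
      intro x
      have h2 : (0 : Γ(E.obj.left.left, ⊤)) = 1 := congrArg ULift.down h01
      have h3 := congrArg (E.obj.left.left.presheaf.germ ⊤ x trivial).hom h2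
      rw [map_zero, map_one] at h3
      exact zero_ne_one h3
    have hm := ofArrows_mem_etTop (X := X) (E := E) (fun i : PEmpty.{1} => i.elim)
      (fun i => i.elim) (fun x => (hempty.false x).elim)
    refine (etTop X).superset_covering ?_ hm
    rintro Z k ⟨_, _, _, ⟨i⟩, _⟩
    exact i.elim

end Groth.Agent.Lib.Helper15.AlgSpLocRing
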