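import Mathlib

/-!
# Helper library (helper15): surjective spectral maps detect constructible sets

`isConstructible_of_preimage`: if `f : A → W` is a surjective spectral map, `A` is a spectral space and
`W` is T0, prespectral and quasi-separated, then `T ⊆ W` is constructible as soon as `f ⁻¹' T` is.
The proof goes through the constructible (patch) topologies.
-/

set_option autoImplicit false

namespace Groth.Agent.Lib.Helper15.SpectralSurj

open Topology TopologicalSpace Set

section general

variable {A W : Type*} [TopologicalSpace A] [TopologicalSpace W]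

/-- A continuous surjection from a compact space to a Hausdorff space is a quotient map. -/
theorem isOpen_of_preimage [CompactSpace A] [T2Space W] {f : A → W} (hf : Continuous f)
    (hs : Function.Surjective f) {T : Set W} (h : IsOpen (f ⁻¹' T)) : IsOpen T :=
  ((hf.isClosedMap).isQuotientMap hf hs).isOpen_preimage.1 h

theorem isCompact_of_preimage [CompactSpace A] {f : A → W} (hf : Continuous f)
    (hs : Function.Surjective f) {T : Set W} (h : IsClosed (f ⁻¹' T)) : IsCompact T := by
  have := h.isCompact.image hf
  rwa [Set.image_preimage_eq T hs] at this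

/-- A compact open set of a topology generated by a subbasis `b` is a finite union of finite
intersections of members of `b`; stated for a predicate stable under these operations. -/
theorem of_isOpen_isCompact_generateFrom {b : Set (Set W)}
    (hb : (inferInstance : TopologicalSpace W) = generateFrom b)
    (P : Set W → Prop) (hP_inter : ∀ G : Set (Set W), G.Finite → (∀ s ∈ G, P s) → P (⋂₀ G))
    (hP_union : ∀ G : Set (Set W), G.Finite → (∀ s ∈ G, P s) → P (⋃₀ G))
    (hbP : ∀ s ∈ b, P s) {T : Set W} (ho : IsOpen T) (hc : IsCompact T) : P T := by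
  have hB := isTopologicalBasis_of_subbasis hb
  have h1 : ∀ x ∈ T, ∃ v, v ∈ ((fun f => ⋂₀ f) '' {f : Set (Set W) | f.Finite ∧ f ⊆ b}) ∧
      x ∈ v ∧ v ⊆ T := fun x hx => hB.exists_subset_of_mem_open hx ho
  choose! v hv hxv hvT using h1
  obtain ⟨s, hsT, hs⟩ := hc.elim_nhds_subcover v
    (fun x hx => (hB.isOpen (hv x hx)).mem_nhds (hxv x hx))
  have hT : T = ⋃₀ (v '' (s : Set W)) := by
    apply Set.Subset.antisymm
    · intro x hx
      obtain ⟨y, hy, hxy⟩ := Set.mem_iUnion₂.1 (hs hx)
      exact ⟨v y, ⟨y, hy, rfl⟩, hxy⟩
    · rintro x ⟨_, ⟨y, hy, rfl⟩, hxy⟩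
      exact hvT y (hsT y hy) hxy
  rw [hT]
  refine hP_union _ (s.finite_toSet.image v) ?_
  rintro _ ⟨y, hy, rfl⟩
  obtain ⟨G, ⟨hGf, hGb⟩, hG⟩ := hv y (hsT y hy)
  have hG' : ⋂₀ G = v y := hG
  rw [← hG']
  exact hP_inter G hGf (fun s hs => hbP s (hGb hs))

end general

section cons

variable {A W : Type*} [TopologicalSpace A] [TopologicalSpace W]

theorem isOpen_cons_of_isCompact_isOpen {s : Set A} (ho : IsOpen s) (hc : IsCompact s) :
    IsOpen[constructibleTopology A] s := hc.isOpen_constructibleTopology_of_isOpen ho

theorem isClosed_cons_of_isCompact_isOpen {s : Set A} (ho : IsOpen s) (hc : IsCompact s) :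
    IsClosed[constructibleTopology A] s := by
  have h1 : IsCompact sᶜᶜ := by rwa [compl_compl]
  have h2 : IsOpen[constructibleTopology A] sᶜ :=
    IsCompact.isOpen_constructibleTopology_of_isClosed h1 ho.isClosed_compl
  exact @IsClosed.mk A (constructibleTopology A) s h2

omit [TopologicalSpace A] in
theorem isOpen_union_aux (t : TopologicalSpace A) {s s' : Set A} (h : IsOpen[t] s) (h' : IsOpen[t] s') :
    IsOpen[t] (s ∪ s') := IsOpen.union h h'

omit [TopologicalSpace A] in
theorem isClosed_union_aux (t : TopologicalSpace A) {s s' : Set A} (h : IsClosed[t] s)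
    (h' : IsClosed[t] s') : IsClosed[t] (s ∪ s') := IsClosed.union h h'

omit [TopologicalSpace A] in
theorem isOpen_compl_aux (t : TopologicalSpace A) {s : Set A} (h : IsClosed[t] s) :
    IsOpen[t] sᶜ := h.isOpen_compl

omit [TopologicalSpace A] in
theorem isClosed_compl_aux (t : TopologicalSpace A) {s : Set A} (h : IsOpen[t] s) :
    IsClosed[t] sᶜ := h.isClosed_compl

/-- Constructible sets of a compact space are clopen for the constructible topology. -/
theorem isClopen_cons_of_isConstructible [CompactSpace A] {s : Set A} (hs : IsConstructible s) :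
    IsOpen[constructibleTopology A] s ∧ IsClosed[constructibleTopology A] s := by
  induction hs using IsConstructible.empty_union_induction with
  | open_retrocompact U hUo hUc =>
    exact ⟨isOpen_cons_of_isCompact_isOpen hUo hUc.isCompact,
      isClosed_cons_of_isCompact_isOpen hUo hUc.isCompact⟩
  | union s hs t ht hs' ht' =>
    exact ⟨isOpen_union_aux _ hs'.1 ht'.1, isClosed_union_aux _ hs'.2 ht'.2⟩
  | compl s hs hs' =>
    exact ⟨isOpen_compl_aux _ hs'.2, isClosed_compl_aux _ hs'.1⟩

theorem compactSpace_constructibleTopology [CompactSpace A] [QuasiSober A] [PrespectralSpace A]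
    [QuasiSeparatedSpace A] : @CompactSpace A (constructibleTopology A) :=
  @Function.Surjective.compactSpace _ _ _ (constructibleTopology A) _
    (WithTopology.continuous_ofTopology _) _ (WithTopology.ofTopology_surjective _)

theorem t2Space_constructibleTopology [T0Space W] [PrespectralSpace W] :
    @T2Space W (constructibleTopology W) := by
  refine @T2Space.mk W (constructibleTopology W) ?_
  intro x y hxy
  obtain ⟨U, hUo, hU⟩ := exists_isOpen_xor'_mem hxy
  rcases hU with ⟨hx, hy⟩ | ⟨hy, hx⟩
  · obtain ⟨V, ⟨hVo, hVc⟩, hxV, hVU⟩ :=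
      (PrespectralSpace.isTopologicalBasis (X := W)).exists_subset_of_mem_open hx hUo
    exact ⟨V, Vᶜ, isOpen_cons_of_isCompact_isOpen hVo hVc,
      isOpen_compl_aux _ (isClosed_cons_of_isCompact_isOpen hVo hVc), hxV,
      fun h => hy (hVU h), disjoint_compl_right⟩
  · obtain ⟨V, ⟨hVo, hVc⟩, hyV, hVU⟩ :=
      (PrespectralSpace.isTopologicalBasis (X := W)).exists_subset_of_mem_open hy hUo
    exact ⟨Vᶜ, V, isOpen_compl_aux _ (isClosed_cons_of_isCompact_isOpen hVo hVc),
      isOpen_cons_of_isCompact_isOpen hVo hVc, fun h => hx (hVU h), hyV, disjoint_compl_left⟩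

theorem continuous_constructibleTopology {f : A → W} (hf : IsSpectralMap f) :
    Continuous[constructibleTopology A, constructibleTopology W] f := by
  refine continuous_generateFrom_iff.2 ?_
  rintro s (⟨ho, hc⟩ | ⟨hcl, hc⟩)
  · exact (hf.isCompact_preimage_of_isOpen ho hc).isOpen_constructibleTopology_of_isOpen
      (ho.preimage hf.continuous)
  · refine IsCompact.isOpen_constructibleTopology_of_isClosed ?_ (hcl.preimage hf.continuous)
    rw [← Set.preimage_compl]
    exact hf.isCompact_preimage_of_isOpen hcl.isOpen_compl hc

/-- **Surjective spectral maps detect constructible sets.** -/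
theorem isConstructible_of_preimage
    [CompactSpace A] [QuasiSober A] [PrespectralSpace A] [QuasiSeparatedSpace A]
    [T0Space W] [PrespectralSpace W] [QuasiSeparatedSpace W]
    {f : A → W} (hf : IsSpectralMap f) (hs : Function.Surjective f) {T : Set W}
    (hT : IsConstructible (f ⁻¹' T)) : IsConstructible T := by
  have hclopen := isClopen_cons_of_isConstructible hT
  have hcA := compactSpace_constructibleTopology (A := A)
  have hT2 := t2Space_constructibleTopology (W := W)
  have hfc := continuous_constructibleTopology hf
  have hTo : IsOpen[constructibleTopology W] T :=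
    @isOpen_of_preimage A W (constructibleTopology A) (constructibleTopology W) hcA hT2 f hfc hs T
      hclopen.1
  have hTc : @IsCompact W (constructibleTopology W) T :=
    @isCompact_of_preimage A W (constructibleTopology A) (constructibleTopology W) hcA f hfc hs T
      hclopen.2
  refine @of_isOpen_isCompact_generateFrom W (constructibleTopology W)
    (constructibleTopologySubbasis W) rfl IsConstructible ?_ ?_ ?_ T hTo hTc
  · intro G hG h
    exact IsConstructible.sInter hG h
  · intro G hG h
    exact IsConstructible.sUnion hG h
  · rintro s (⟨ho, hc⟩ | ⟨hcl, hc⟩)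
    · exact hc.isConstructible ho
    · exact (hc.isConstructible hcl.isOpen_compl).of_compl

end cons

end Groth.Agent.Lib.Helper15.SpectralSurj
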