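import Mathlib
import Groth.Agent.S10338
import Groth.Agent.S10339
import Groth.Agent.S10350
import Groth.Agent.Lib.Helper16.QuasiCompact
import Groth.Agent.Lib.Helper16.QsField
import Groth.Agent.Lib.Helper16.Charts
import Groth.Agent.Lib.Helper15.SpectralSurj

/-!
# Helper library (helper15): `|X|` is locally spectral for a quasi-separated algebraic space

Over a base with quasi-separated underlying space, the space of points of a quasi-separated
algebraic space is prespectral and quasi-separated, and etale charts from quasi-compact schemes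
induce spectral maps on points.
-/

set_option autoImplicit false
universe u
open CategoryTheory CategoryTheory.Limits AlgebraicGeometry Topology TopologicalSpace
open AlgSp

namespace Groth.Agent.Lib.Helper15.AlgSpLocSpectral
open Groth.Agent.Lib.Helper16

variable {S : Scheme.{u}}

/-- Two charts from quasi-compact schemes: the preimage of the image of one in the other is compact. -/
theorem isCompact_preimage_range [QuasiSeparatedSpace ↥S] {X : Sp S} (hqs : IsQuasiSeparatedSp X)
    {U V : Over S} (a : (yon S).obj U ⟶ X) (ha : RepWith @Etale a) (b : (yon S).obj V ⟶ X)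
    [CompactSpace ↥U.left] [CompactSpace ↥V.left] :
    IsCompact (Points.ofPt a ⁻¹' Set.range (Points.ofPt b)) := by
  have hAq : QuasiCompact U.hom := inferInstance
  have sq := ha.rep.isPullback b
  obtain ⟨c, hc⟩ := (yon S).map_surjective (ha.rep.fst b)
  rw [← hc] at sq
  haveI : CompactSpace ↥(ha.rep.pullback b).left :=
    compactSpace_of_isPullback_of_quasiCompact_diag hqs a b c (ha.rep.snd b) sq hAq
  have hrange : Points.ofPt a ⁻¹' Set.range (Points.ofPt b) =
      Set.range (fun r : ↥(ha.rep.pullback b).left => c.left r) := by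
    ext u
    constructor
    · rintro ⟨v, hv⟩
      obtain ⟨r, hr1, hr2⟩ := exists_point_of_isPullback_yon_yon sq u v hv.symm
      exact ⟨r, hr1⟩
    · rintro ⟨r, rfl⟩
      refine ⟨(ha.rep.snd b).left r, ?_⟩
      rw [← ofPt_yon_map_comp, ← ofPt_yon_map_comp, sq.w]
  rw [hrange]
  exact isCompact_range c.left.continuous

/-- The range of a chart restricted to an open is the image of the open. -/
theorem range_ofPt_restrict {F : Sp S} {V : Over S} (q : (yon S).obj V ⟶ F) (W : V.left.Opens) :
    Set.range (Points.ofPt ((yon S).map (overOpenι V W) ≫ q)) = Points.ofPt q '' (W : Set ↥V.left) := by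
  ext x
  constructor
  · rintro ⟨w, rfl⟩
    refine ⟨W.ι w, ?_, (ofPt_restrict q W w).symm⟩
    rw [← Scheme.Opens.range_ι W]
    exact ⟨w, rfl⟩
  · rintro ⟨v, hv, rfl⟩
    have h1 : v ∈ Set.range W.ι := by rw [Scheme.Opens.range_ι]; exact hv
    obtain ⟨w, rfl⟩ := h1
    exact ⟨w, ofPt_restrict q W w⟩

/-- `|X|` has a basis of quasi-compact opens. -/
theorem prespectralSpace_points {X : Sp S} (hX : IsAlgSpace X) : PrespectralSpace (Points X) := by
  obtain ⟨U, p, hpe, hps⟩ := hX.atlas
  have hπc : Continuous (Points.ofPt p) := Points.continuous_ofPt p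
  have hπo : IsOpenMap (Points.ofPt p) := isOpenMap_ofPt_of_etale p hpe
  have hπs : Function.Surjective (Points.ofPt p) := ofPt_surjective_of_surjective p hps
  refine PrespectralSpace.of_isTopologicalBasis (B := {W | ∃ V : U.left.Opens,
    IsCompact (V : Set ↥U.left) ∧ Points.ofPt p '' (V : Set ↥U.left) = W}) ?_ ?_
  · apply isTopologicalBasis_of_isOpen_of_nhds
    · rintro W ⟨V, -, rfl⟩
      exact hπo _ V.isOpen
    · intro x W hxW hWo
      obtain ⟨u, rfl⟩ := hπs x
      obtain ⟨V, ⟨hVo, hVc⟩, huV, hVW⟩ :=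
        (PrespectralSpace.isTopologicalBasis (X := ↥U.left)).exists_subset_of_mem_open
          (show u ∈ Points.ofPt p ⁻¹' W from hxW) (hWo.preimage hπc)
      refine ⟨_, ⟨⟨V, hVo⟩, hVc, rfl⟩, ⟨u, huV, rfl⟩, ?_⟩
      rintro _ ⟨v, hv, rfl⟩
      exact hVW hv
  · rintro W ⟨V, hV, rfl⟩
    exact hV.image hπc

/-- Every quasi-compact open of `|X|` is the range of an etale chart from a quasi-compact scheme. -/
theorem exists_chart_range_eq {X : Sp S} (hX : IsAlgSpace X) {K : Set (Points X)} (hKo : IsOpen K)
    (hKc : IsCompact K) :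
    ∃ (V : Over S) (b : (yon S).obj V ⟶ X), RepWith @Etale b ∧ CompactSpace ↥V.left ∧
      Set.range (Points.ofPt b) = K := by
  obtain ⟨U, p, hpe, hps⟩ := hX.atlas
  have hπc : Continuous (Points.ofPt p) := Points.continuous_ofPt p
  have hπo : IsOpenMap (Points.ofPt p) := isOpenMap_ofPt_of_etale p hpe
  have hπs : Function.Surjective (Points.ofPt p) := ofPt_surjective_of_surjective p hps
  obtain ⟨V, hVc, hVK⟩ := IsOpenMap.exists_opens_image_eq_of_prespectralSpace hπc hπo
    (fun x _ => hπs x) hKo hKc
  refine ⟨overOpen U V, (yon S).map (overOpenι U V) ≫ p, repWith_etale_restrict p hpe V,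
    isCompact_iff_compactSpace.mp hVc, ?_⟩
  rw [range_ofPt_restrict, ← hVK]

/-- Etale charts from quasi-compact schemes induce spectral maps on points. -/
theorem isCompact_preimage_ofPt [QuasiSeparatedSpace ↥S] {X : Sp S} (hX : IsAlgSpace X)
    (hqs : IsQuasiSeparatedSp X) {U : Over S} (a : (yon S).obj U ⟶ X) (ha : RepWith @Etale a)
    [CompactSpace ↥U.left] {K : Set (Points X)} (hKo : IsOpen K) (hKc : IsCompact K) :
    IsCompact (Points.ofPt a ⁻¹' K) := by
  obtain ⟨V, b, -, hV, hb⟩ := exists_chart_range_eq hX hKo hKc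
  haveI := hV
  rw [← hb]
  exact isCompact_preimage_range hqs a ha b

/-- `|X|` is quasi-separated. -/
theorem quasiSeparatedSpace_points [QuasiSeparatedSpace ↥S] {X : Sp S} (hX : IsAlgSpace X)
    (hqs : IsQuasiSeparatedSp X) : QuasiSeparatedSpace (Points X) := by
  refine ⟨fun W₁ W₂ hW₁o hW₁c hW₂o hW₂c => ?_⟩
  obtain ⟨V, b, hbe, hV, hb⟩ := exists_chart_range_eq hX hW₁o hW₁c
  haveI := hV
  have h := (isCompact_preimage_ofPt hX hqs b hbe hW₂o hW₂c).image (Points.continuous_ofPt b)
  rw [Set.image_preimage_eq_inter_range, hb, Set.inter_comm] at h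
  exact h

end Groth.Agent.Lib.Helper15.AlgSpLocSpectral
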