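import Groth.Agent.Lib.Helper15.AlgSpConservative

/-!
# Helper library (helper15): presheaf stalks at geometric points of algebraic spaces
-/

set_option autoImplicit false
set_option backward.isDefEq.respectTransparency false

universe v₂ u₂ u
open CategoryTheory CategoryTheory.Limits AlgebraicGeometry Opposite

namespace Groth.Agent.Lib.Helper15.AlgSpStalk

open AlgSp

variable {S : Scheme.{u}} (X : AlgSp.Space S) (p : FieldPt X.obj) (hp : p.IsGeometric)

include hp in
theorem pshStalk_pfl_ab : PreservesFiniteLimits (stalkEtPshFunctor AddCommGrpCat.{u + 1} p) :=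
  preservesFiniteLimits_of_natIso (pshStalkIso X p hp AddCommGrpCat.{u + 1}).symm

include hp in
theorem pshStalk_pfc_ab : PreservesFiniteColimits (stalkEtPshFunctor AddCommGrpCat.{u + 1} p) :=
  haveI : PreservesFiniteColimits
      ((geomPoint X p hp).presheafFiber (A := AddCommGrpCat.{u + 1})) :=
    PreservesColimitsOfSize.preservesFiniteColimits.{u + 1, u + 1} _
  preservesFiniteColimits_of_natIso (pshStalkIso X p hp AddCommGrpCat.{u + 1}).symm

include hp in
theorem isIso_pshStalk_toSheafify (P : (EtOver X.obj)ᵒᵖ ⥤ Type (u + 1)) :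
    IsIso ((stalkEtPshFunctor (Type (u + 1)) p).map (toSheafify (etTop X.obj) P)) := by
  have h : IsIso ((geomPoint X p hp).presheafFiber.map (toSheafify (etTop X.obj) P)) :=
    inferInstance
  exact ((MorphismProperty.isomorphisms _).arrow_mk_iso_iff
    (((Functor.mapArrowFunctor _ _).mapIso (pshStalkIso X p hp (Type (u + 1)))).app
      (Arrow.mk (toSheafify (etTop X.obj) P)))).2 h


include hp in
theorem isZero_stalk_of_epi {F G : AbEt X.obj} (a : F ⟶ G) [Epi a]
    (hF : IsZero (stalkEt p F)) : IsZero (stalkEt p G) := by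
  haveI := stalk_pfc_ab X p hp
  haveI : Epi ((stalkEtFunctor AddCommGrpCat.{u + 1} p).map a) := inferInstance
  exact Limits.IsZero.of_epi ((stalkEtFunctor AddCommGrpCat.{u + 1} p).map a) hF

include hp in
theorem isZero_stalk_of_mono {F G : AbEt X.obj} (a : F ⟶ G) [Mono a]
    (hG : IsZero (stalkEt p G)) : IsZero (stalkEt p F) := by
  haveI := stalk_pfl_ab X p hp
  haveI : Mono ((stalkEtFunctor AddCommGrpCat.{u + 1} p).map a) := inferInstance
  exact Limits.IsZero.of_mono ((stalkEtFunctor AddCommGrpCat.{u + 1} p).map a) hG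

end Groth.Agent.Lib.Helper15.AlgSpStalk
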