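import Groth.Agent.Lib.Helper15.GroupoidPts
import Groth.Agent.Lib.Helper16.Charts
import Mathlib.AlgebraicGeometry.Morphisms.IsIso

/-!
# Helper library (helper15): open subspaces and points; invariant opens of groupoids
-/

set_option autoImplicit false
universe u
open CategoryTheory CategoryTheory.Limits AlgebraicGeometry Opposite

namespace Groth.Agent.Lib.Helper15

open AlgSp Groth.Agent.Lib.Helper16

variable {S : Scheme.{u}}

/-- A point of `U` with values in a scheme `T` factors through an open subspace `W ⟶ U` iff all its points lie in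
`|W|`. -/
theorem exists_factor_iff_of_openImmersion {W U : Sp S} (w : W ⟶ U) (hw : RepWith @IsOpenImmersion w)
    {T : Over S} (x : (yon S).obj T ⟶ U) :
    (∃ a : (yon S).obj T ⟶ W, a ≫ w = x) ↔
      ∀ p : ↥T.left, Points.ofPt x p ∈ Set.range (Points.map w) := by
  constructor
  · rintro ⟨a, rfl⟩ p
    exact ⟨Points.ofPt a p, Points.map_ofPt a w p⟩
  · intro h
    have sq := hw.rep.isPullback x
    have ho : IsOpenImmersion (hw.rep.snd x).left := hw.property_snd x
    have hs : Surjective (hw.rep.snd x).left := by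
      constructor
      intro p
      obtain ⟨y, hy⟩ := h p
      obtain ⟨v, -, hv⟩ := exists_point_of_isPullback_yon sq y p hy
      exact ⟨v, hv⟩
    have hiso : IsIso (hw.rep.snd x).left := (isIso_iff_isOpenImmersion_and_surjective _).2 ⟨ho, hs⟩
    have hiso0 : IsIso ((Over.forget S).map (hw.rep.snd x)) := hiso
    have hiso' : IsIso (hw.rep.snd x) :=
      isIso_of_reflects_iso (hw.rep.snd x) (Over.forget S)
    have hid : (yon S).map (𝟙 T) = 𝟙 _ := (yon S).map_id T
    refine ⟨(yon S).map (inv (hw.rep.snd x)) ≫ hw.rep.fst x, ?_⟩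
    rw [Category.assoc, sq.w, ← Category.assoc, ← Functor.map_comp, IsIso.inv_hom_id, hid,
      Category.id_comp]

/-- The set `s(t⁻¹(A))` is stable under the groupoid. -/
theorem GroupoidSp.points_invariant {B : Sp S} (G : AlgSp.GroupoidSp B) (A : Set (Points G.U)) (ρ : Points G.R) :
    Points.map G.t ρ ∈ Points.map G.s '' (Points.map G.t ⁻¹' A) ↔
      Points.map G.s ρ ∈ Points.map G.s '' (Points.map G.t ⁻¹' A) := by
  have key : ∀ ρ : Points G.R, Points.map G.t ρ ∈ Points.map G.s '' (Points.map G.t ⁻¹' A) →
      Points.map G.s ρ ∈ Points.map G.s '' (Points.map G.t ⁻¹' A) := by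
    rintro ρ ⟨ρ₁, hρ₁, hρ₁'⟩
    obtain ⟨z, hz1, hz2⟩ := exists_point_of_isPullback (IsPullback.of_hasPullback G.s G.t) ρ₁ ρ hρ₁'
    refine ⟨Points.map G.c z, ?_, ?_⟩
    · change Points.map G.t (Points.map G.c z) ∈ A
      rw [← Points.map_comp, GroupoidSp.c_t, Points.map_comp, hz1]
      exact hρ₁
    · rw [← Points.map_comp, GroupoidSp.c_s, Points.map_comp, hz2]
  refine ⟨key ρ, fun h => ?_⟩
  have h1 := key (Points.map G.i ρ) (by rw [← Points.map_comp, G.i_t]; exact h)
  rwa [← Points.map_comp, G.i_s] at h1

/-- An open subspace whose set of points is `s(t⁻¹(A))` is invariant. -/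
theorem GroupoidSp.isInvariant_of_range_eq {B : Sp S} (G : AlgSp.GroupoidSp B) {W' : Sp S} (w' : W' ⟶ G.U)
    (hw' : RepWith @IsOpenImmersion w') (A : Set (Points G.U))
    (himg : Set.range (Points.map w') = Points.map G.s '' (Points.map G.t ⁻¹' A)) :
    G.IsInvariant w' := by
  intro T r
  rw [exists_factor_iff_of_openImmersion w' hw', exists_factor_iff_of_openImmersion w' hw', himg]
  constructor
  · intro h p
    have := (GroupoidSp.points_invariant G A (Points.ofPt r p)).1 (h p)
    exact this
  · intro h p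
    have := (GroupoidSp.points_invariant G A (Points.ofPt r p)).2 (h p)
    exact this

end Groth.Agent.Lib.Helper15
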