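import Groth.Prelude.Def_AlgSpOX
import Groth.Prelude.Def_AlgSpSub
import Groth.Agent.Lib.Helper16.SchImgRed2

/-!
# Helper library (helper15): global functions on a reduced algebraic space
-/

set_option autoImplicit false
set_option backward.isDefEq.respectTransparency false

universe u
open CategoryTheory CategoryTheory.Limits AlgebraicGeometry Opposite

namespace Groth.Agent.Lib.Helper15.AlgSpReducedSect

open AlgSp

variable {S : Scheme.{u}} {X : Sp S}

theorem gsect_ext (f g : ↥(gsectEt (OEt X)))
    (h : ∀ E : EtOver X, (limit.π (OEt X).obj (op E)) f = (limit.π (OEt X).obj (op E)) g) :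
    f = g :=
  Concrete.limit_ext _ _ _ (fun j => h j.unop)

theorem result (hX : IsReducedSp X) :
    _root_.IsReduced ↥(gsectEt (OEt X)) ∧
      ∀ f : ↥(gsectEt (OEt X)),
        (∀ E : EtOver X,
            E.obj.left.left.basicOpen ((limit.π (OEt X).obj (op E)) f).down = ⊥) →
          f = 0 := by
  have hred : ∀ E : EtOver X, IsReduced E.obj.left.left := fun E =>
    Groth.Agent.Lib.Helper16.SchImg.isReduced_of_etale_of_isReducedSp hX E.obj.hom E.property
  refine ⟨⟨fun f hf => ?_⟩, fun f hf => ?_⟩
  · apply gsect_ext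
    intro E
    rw [map_zero]
    have h1 : IsNilpotent ((limit.π (OEt X).obj (op E)).hom f) := hf.map _
    haveI := hred E
    have h2 : IsNilpotent (((limit.π (OEt X).obj (op E)).hom f).down) :=
      h1.map (ULift.ringEquiv : ULift.{u + 1} Γ(E.obj.left.left, ⊤) ≃+* _)
    haveI hr : _root_.IsReduced Γ(E.obj.left.left, ⊤) := inferInstance
    have h3 : ((limit.π (OEt X).obj (op E)).hom f).down = 0 :=
      hr.eq_zero _ h2
    exact ULift.ext _ _ h3
  · apply gsect_ext
    intro E
    rw [map_zero]
    haveI := hred E
    have h3 := (basicOpen_eq_bot_iff _).1 (hf E)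
    exact ULift.ext _ _ h3

end Groth.Agent.Lib.Helper15.AlgSpReducedSect
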