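import Groth.Agent.Lib.Helper15.AlgSpPoint

/-!
# Helper library (helper15): the point of the small etale site of an algebraic space defined by a geometric point,
and comparison of its fibre functors with the prelude's stalk functors.
-/

set_option autoImplicit false
set_option backward.isDefEq.respectTransparency false

universe w w' v₁ u₁ v₂ u₂ u
open CategoryTheory CategoryTheory.Limits AlgebraicGeometry Opposite

namespace Groth.Agent.Lib.Helper15.AlgSpStalk

section General

variable {C : Type u₁} [Category.{v₁} C] (F : C ⥤ Type w)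

/-- The category of elements of `F` maps to that of `F ⋙ uliftFunctor`. -/
def elementsULift : F.Elements ⥤ (F ⋙ uliftFunctor.{w'}).Elements where
  obj x := ⟨x.1, ULift.up x.2⟩
  map {x y} f := ⟨f.1, congrArg ULift.up f.2⟩
  map_id _ := rfl
  map_comp _ _ := rfl

instance : (elementsULift.{w, w'} F).Faithful where
  map_injective {_ _ a₁ a₂} h := by
    have h' : ((elementsULift.{w, w'} F).map a₁).1 = ((elementsULift.{w, w'} F).map a₂).1 := by rw [h]
    exact Subtype.ext h'

instance : (elementsULift.{w, w'} F).Full where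
  map_surjective f := ⟨⟨f.1, congrArg ULift.down f.2⟩, rfl⟩

instance : (elementsULift.{w, w'} F).EssSurj where
  mem_essImage y := ⟨⟨y.1, y.2.down⟩, ⟨Iso.refl _⟩⟩

instance : (elementsULift.{w, w'} F).IsEquivalence where

variable {A : Type u₂} [Category.{v₂} A]

/-- Stalk functors over the elements of `F` and of `F ⋙ uliftFunctor` agree. -/
noncomputable def fiberIso [HasColimitsOfShape F.Elementsᵒᵖ A]
    [HasColimitsOfShape (F ⋙ uliftFunctor.{w'}).Elementsᵒᵖ A] :
    (Functor.whiskeringLeft _ _ A).obj (CategoryOfElements.π F).op ⋙ colim ≅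
      (Functor.whiskeringLeft _ _ A).obj (CategoryOfElements.π (F ⋙ uliftFunctor.{w'})).op ⋙ colim :=
  NatIso.ofComponents
    (fun P => (colimit.isColimit ((CategoryOfElements.π F).op ⋙ P)).coconePointUniqueUpToIso
      ((Functor.Final.isColimitWhiskerEquiv (elementsULift.{w, w'} F).op
        (colimit.cocone ((CategoryOfElements.π (F ⋙ uliftFunctor.{w'})).op ⋙ P))).symm
        (colimit.isColimit _)))
    (fun {P Q} α => by
      apply colimit.hom_ext
      intro j
      dsimp
      simp only [ι_colimMap_assoc, colimit.comp_coconePointUniqueUpToIso_hom,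
        colimit.comp_coconePointUniqueUpToIso_hom_assoc]
      dsimp
      simp only [ι_colimMap]
      rfl)

end General


open AlgSp

variable {S : Scheme.{u}}

section Point

variable (X : AlgSp.Space S) (p : FieldPt X.obj) (hp : p.IsGeometric)

include hp in
theorem jointly_surjective_liftsTo {E : EtOver X.obj} (R : Sieve E) (hR : R ∈ etTop X.obj E)
    (x : (FieldPt.liftsTo p).obj E) :
    ∃ (Y : EtOver X.obj) (f : Y ⟶ E) (_ : R f) (y : (FieldPt.liftsTo p).obj Y),
      (FieldPt.liftsTo p).map f y = x := by
  haveI : IsAlgClosed p.K := hp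
  have hR' : R ∈ (etPre X.obj).toGrothendieck E := hR
  obtain ⟨R₀, hR₀, hle⟩ :=
    (Precoverage.mem_toGrothendieck_iff_of_isStableUnderComposition (J := etPre X.obj)).1 hR'
  obtain ⟨α, T, f, rfl⟩ := R₀.exists_eq_ofArrows
  obtain ⟨i, y, hy⟩ := (ofArrows_mem_etPre_iff T f).1 hR₀ (x.1.left (IsLocalRing.closedPoint p.K))
  haveI : Etale (f i).hom.left.left := EtOver.etale_left (f i)
  obtain ⟨x', hx'⟩ :=
    Groth.Agent.Lib.Helper16.exists_lift_of_algClosed (f i).hom.left.left x.1.left y hy
  have hw : x' ≫ (T i).obj.left.hom = p.pt.hom := by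
    have h1 := Over.w (f i).hom.left
    have h2 := Over.w x.1
    rw [← h1, ← Category.assoc, hx', h2]
  obtain ⟨u', hu'l⟩ : ∃ u' : p.pt ⟶ (T i).obj.left, u'.left = x' := ⟨Over.homMk x' hw, rfl⟩
  have hu' : u' ≫ (f i).hom.left = x.1 := Over.OverMorphism.ext (by
    rw [Over.comp_left, hu'l, hx'])
  refine ⟨T i, f i, hle _ _ (Presieve.ofArrows.mk i), ⟨u', ?_⟩, Subtype.ext hu'⟩
  rw [← EtOver.w (f i), ← Category.assoc, ← Functor.map_comp, hu']
  exact x.2

/-- The point of the small etale site of `X` defined by a geometric point. -/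
noncomputable def geomPoint : GrothendieckTopology.Point.{u + 1} (etTop X.obj) where
  fiber := FieldPt.liftsTo p ⋙ uliftFunctor.{u + 1, u}
  isCofiltered := by
    haveI := Groth.Agent.Lib.Helper15.AlgSpPoint.isCofiltered_etNbhd X p hp
    exact IsCofiltered.of_equivalence (elementsULift.{u, u + 1} (FieldPt.liftsTo p)).asEquivalence
  initiallySmall := by
    haveI : EssentiallySmall.{u + 1} (FieldPt.liftsTo p ⋙ uliftFunctor.{u + 1, u}).Elements :=
      inferInstance
    exact initiallySmall_of_essentiallySmall _
  jointly_surjective R hR x := by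
    obtain ⟨Y, f, hf, y, hy⟩ := jointly_surjective_liftsTo X p hp R hR x.down
    exact ⟨Y, f, hf, ULift.up y, congrArg ULift.up hy⟩

end Point


section Stalk

variable (X : AlgSp.Space S) (p : FieldPt X.obj) (hp : p.IsGeometric)
variable (A : Type u₂) [Category.{v₂} A] [HasColimitsOfSize.{u + 1, u + 1} A]
  [HasColimitsOfShape (EtNbhd p)ᵒᵖ A]

/-- The prelude's presheaf stalk functor is the presheaf fibre functor of `geomPoint`. -/
noncomputable def pshStalkIso :
    stalkEtPshFunctor A p ≅ (geomPoint X p hp).presheafFiber (A := A) :=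
  haveI : HasColimitsOfShape (FieldPt.liftsTo p ⋙ uliftFunctor.{u + 1, u}).Elementsᵒᵖ A :=
    inferInstanceAs (HasColimitsOfShape (geomPoint X p hp).fiber.Elementsᵒᵖ A)
  fiberIso.{u, u + 1} (FieldPt.liftsTo p)

/-- The prelude's stalk functor is the sheaf fibre functor of `geomPoint`. -/
noncomputable def stalkIso :
    stalkEtFunctor A p ≅ (geomPoint X p hp).sheafFiber (A := A) :=
  Functor.isoWhiskerLeft (sheafToPresheaf (etTop X.obj) A) (pshStalkIso X p hp A)

end Stalk

section Exact

variable (X : AlgSp.Space S) (p : FieldPt X.obj) (hp : p.IsGeometric)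

include hp in
theorem stalk_pfl_type : PreservesFiniteLimits (stalkEtFunctor (Type (u + 1)) p) :=
  preservesFiniteLimits_of_natIso (stalkIso X p hp (Type (u + 1))).symm

include hp in
theorem stalk_pfc_type : PreservesFiniteColimits (stalkEtFunctor (Type (u + 1)) p) :=
  preservesFiniteColimits_of_natIso (stalkIso X p hp (Type (u + 1))).symm

include hp in
theorem stalk_pfl_ab : PreservesFiniteLimits (stalkEtFunctor AddCommGrpCat.{u + 1} p) :=
  preservesFiniteLimits_of_natIso (stalkIso X p hp AddCommGrpCat.{u + 1}).symm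

include hp in
theorem stalk_pfc_ab : PreservesFiniteColimits (stalkEtFunctor AddCommGrpCat.{u + 1} p) :=
  preservesFiniteColimits_of_natIso (stalkIso X p hp AddCommGrpCat.{u + 1}).symm

end Exact

end Groth.Agent.Lib.Helper15.AlgSpStalk
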