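import Groth.Agent.Lib.Helper15.AlgSpGerm

/-!
# Helper library (helper15): supports of sections of abelian sheaves on the small etale site of an algebraic space
-/

set_option autoImplicit false
set_option backward.isDefEq.respectTransparency false

universe u
open CategoryTheory CategoryTheory.Limits AlgebraicGeometry Opposite

namespace Groth.Agent.Lib.Helper15.AlgSpStalk

open AlgSp

variable {S : Scheme.{u}}

theorem exists_preimage_of_isPullback {P X Y Z : Scheme.{u}} {fst : P ⟶ X} {snd : P ⟶ Y}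
    {f : X ⟶ Z} {g : Y ⟶ Z} (h : IsPullback fst snd f g) (x : X) (y : Y) (hxy : f x = g y) :
    ∃ z : P, fst z = x ∧ snd z = y := by
  obtain ⟨z, hz1, hz2⟩ := Scheme.Pullback.exists_preimage_pullback x y hxy
  refine ⟨h.isoPullback.inv z, ?_, ?_⟩
  · rw [← Scheme.Hom.comp_apply, h.isoPullback_inv_fst]; exact hz1
  · rw [← Scheme.Hom.comp_apply, h.isoPullback_inv_snd]; exact hz2

theorem exists_lift_nbhd {X : Sp S} (p : FieldPt X) [IsAlgClosed p.K] {V U : EtOver X} (φ : V ⟶ U)
    (l : (FieldPt.liftsTo p).obj U) (v : ↥V.obj.left.left)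
    (hv : φ.hom.left.left v = l.1.left (IsLocalRing.closedPoint p.K)) :
    ∃ l' : (FieldPt.liftsTo p).obj V, (FieldPt.liftsTo p).map φ l' = l := by
  haveI : Etale φ.hom.left.left := EtOver.etale_left φ
  obtain ⟨x', hx'⟩ :=
    Groth.Agent.Lib.Helper16.exists_lift_of_algClosed φ.hom.left.left l.1.left v hv
  have hw : x' ≫ V.obj.left.hom = p.pt.hom := by
    have h1 := Over.w φ.hom.left
    have h2 := Over.w l.1
    rw [← h1, ← Category.assoc, hx', h2]
  obtain ⟨u', hu'l⟩ : ∃ u' : p.pt ⟶ V.obj.left, u'.left = x' := ⟨Over.homMk x' hw, rfl⟩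
  have hu' : u' ≫ φ.hom.left = l.1 := Over.OverMorphism.ext (by
    rw [Over.comp_left, hu'l, hx'])
  refine ⟨⟨u', ?_⟩, Subtype.ext hu'⟩
  rw [← EtOver.w φ, ← Category.assoc, ← Functor.map_comp, hu']
  exact l.2

theorem ab_sheaf_ext {X : Sp S} (F : AbEt X) {V : EtOver X} (R : Sieve V) (hR : R ∈ etTop X V)
    (a b : ↥(F.obj.obj (op V)))
    (h : ∀ ⦃Q : EtOver X⦄ (g : Q ⟶ V), R g → (F.obj.map g.op).hom a = (F.obj.map g.op).hom b) :
    a = b := by
  have hF : Presheaf.IsSheaf (etTop X) (F.obj ⋙ forget AddCommGrpCat.{u + 1}) :=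
    (Presheaf.isSheaf_iff_isSheaf_forget _ F.obj (forget AddCommGrpCat.{u + 1})).1 F.2
  have hs := (isSheaf_iff_isSheaf_of_type _ _).1 hF R hR
  exact hs.isSeparatedFor.ext (fun Q g hg => h g hg)

/-- The vanishing locus of a section. -/
theorem section_support (X : AlgSp.Space S) (F : AbEt X.obj) (U : EtOver X.obj)
    (σ : ↥(F.obj.obj (op U))) :
    ∃ W : TopologicalSpace.Opens ↥U.obj.left.left,
      (∀ (V : EtOver X.obj) (φ : V ⟶ U),
          (F.obj.map φ.op).hom σ = 0 ↔
            Set.range (fun v => φ.hom.left.left v) ⊆ (W : Set ↥U.obj.left.left)) ∧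
      (∀ p : FieldPt X.obj, p.IsGeometric → ∀ l : (FieldPt.liftsTo p).obj U,
          (stalkEtι p F ⟨U, l⟩).hom σ = 0 ↔ l.1.left (IsLocalRing.closedPoint p.K) ∈ W) := by
  obtain ⟨W, hW⟩ : ∃ W : TopologicalSpace.Opens ↥U.obj.left.left, ∀ x, x ∈ W ↔
      ∃ (V : EtOver X.obj) (φ : V ⟶ U), (F.obj.map φ.op).hom σ = 0 ∧
        x ∈ Set.range (fun v => φ.hom.left.left v) := by
    refine ⟨⟨{x | ∃ (V : EtOver X.obj) (φ : V ⟶ U), (F.obj.map φ.op).hom σ = 0 ∧
        x ∈ Set.range (fun v => φ.hom.left.left v)}, ?_⟩, fun x => Iff.rfl⟩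
    rw [isOpen_iff_forall_mem_open]
    rintro x ⟨V, φ, hφ, hx⟩
    haveI : Etale φ.hom.left.left := EtOver.etale_left φ
    exact ⟨Set.range (fun v => φ.hom.left.left v), fun y hy => ⟨V, φ, hφ, hy⟩,
      φ.hom.left.left.isOpenMap.isOpen_range, hx⟩
  have part1 : ∀ (V : EtOver X.obj) (φ : V ⟶ U),
      (F.obj.map φ.op).hom σ = 0 ↔
        Set.range (fun v => φ.hom.left.left v) ⊆ (W : Set ↥U.obj.left.left) := by
    intro V φ
    constructor
    · intro hφ x hx
      exact (hW x).2 ⟨V, φ, hφ, hx⟩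
    · intro hsub
      -- the sieve of arrows on which the restriction vanishes
      let R : Sieve V :=
        { arrows := fun Q g => (F.obj.map g.op).hom ((F.obj.map φ.op).hom σ) = 0
          downward_closed := by
            intro Q Q' g hg k
            change (F.obj.map (k ≫ g).op).hom _ = 0
            rw [op_comp, Functor.map_comp]
            change (F.obj.map k.op).hom ((F.obj.map g.op).hom _) = 0
            rw [hg, map_zero] }
      have hR : R ∈ etTop X.obj V := by
        refine (etTop X.obj).superset_covering ?_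
          (ofArrows_mem_etTop (ι := Σ Q : EtOver X.obj, {g : Q ⟶ V // R g})
            (fun i => i.1) (fun i => i.2.1) ?_)
        · rw [Sieve.generate_le_iff]
          rintro Q g ⟨i⟩
          exact i.2.2
        · intro v
          obtain ⟨V', φ', hφ', v', hv'⟩ := (hW _).1 (hsub ⟨v, rfl⟩)
          have hpb := (EtOver.isPullback φ φ').map (EtOver.toScheme X.obj)
          obtain ⟨z, hz1, -⟩ := exists_preimage_of_isPullback hpb v v' hv'.symm
          refine ⟨⟨EtOver.pullbackObj φ φ', ⟨EtOver.pullbackFst φ φ', ?_⟩⟩, z, hz1⟩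
          change (F.obj.map (EtOver.pullbackFst φ φ').op).hom ((F.obj.map φ.op).hom σ) = 0
          have e1 : (F.obj.map (EtOver.pullbackFst φ φ').op).hom ((F.obj.map φ.op).hom σ) =
              (F.obj.map (EtOver.pullbackFst φ φ' ≫ φ).op).hom σ := by
            rw [op_comp, Functor.map_comp]; rfl
          rw [e1, EtOver.pullback_condition, op_comp, Functor.map_comp]
          change (F.obj.map (EtOver.pullbackSnd φ φ').op).hom ((F.obj.map φ'.op).hom σ) = 0
          rw [hφ', map_zero]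
      refine ab_sheaf_ext F R hR _ _ (fun Q g hg => ?_)
      rw [map_zero]
      exact hg
  refine ⟨W, part1, ?_⟩
  intro p hp l
  haveI : IsAlgClosed p.K := hp
  have key := germ_eq_iff X p hp (A := AddCommGrpCat.{u + 1}) F.obj ⟨U, l⟩ σ 0
  have key' : (stalkEtι p F ⟨U, l⟩).hom σ = 0 ↔
      ∃ (N' : EtNbhd p) (f : N' ⟶ (⟨U, l⟩ : EtNbhd p)), (F.obj.map f.1.op).hom σ = 0 := by
    refine Iff.trans ?_ (key.trans ?_)
    · change _ ↔ (stalkEtι p F ⟨U, l⟩).hom σ = (stalkEtι p F ⟨U, l⟩).hom 0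
      rw [map_zero]
    · refine exists_congr fun N' => exists_congr fun f => ?_
      change (F.obj.map f.1.op).hom σ = (F.obj.map f.1.op).hom 0 ↔ _
      rw [map_zero]
  rw [key']
  constructor
  · rintro ⟨N', f, hf⟩
    refine (hW _).2 ⟨N'.1, f.1, hf, N'.2.1.left (IsLocalRing.closedPoint p.K), ?_⟩
    have h1 : N'.2.1 ≫ f.1.hom.left = l.1 := congrArg Subtype.val f.2
    rw [← h1]
    rfl
  · intro hl
    obtain ⟨V', φ', hφ', v', hv'⟩ := (hW _).1 hl
    obtain ⟨l', hl'⟩ := exists_lift_nbhd p φ' l v' hv'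
    exact ⟨⟨V', l'⟩, ⟨φ', hl'⟩, hφ'⟩

end Groth.Agent.Lib.Helper15.AlgSpStalk
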