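import Groth.Agent.Lib.Helper15.AlgSpSupp
import Groth.Agent.Lib.Helper16.Charts

/-!
# Helper library (helper15): supports of abelian sheaves on the small etale site of an algebraic space
-/

set_option autoImplicit false
set_option backward.isDefEq.respectTransparency false

universe u
open CategoryTheory CategoryTheory.Limits AlgebraicGeometry Opposite

namespace Groth.Agent.Lib.Helper15.AlgSpStalk

open AlgSp

variable {S : Scheme.{u}}

theorem exists_geomPoint_over {X : Sp S} (E : EtOver X) (x : ↥E.obj.left.left) :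
    ∃ p : FieldPt X, p.IsGeometric ∧
      ∃ (l : (FieldPt.liftsTo p).obj E), ∀ z, l.1.left z = x := by
  obtain ⟨K, _, _, ξ, hξ⟩ : ∃ (K : Type u) (_ : Field K) (_ : IsAlgClosed K)
      (ξ : Spec (CommRingCat.of K) ⟶ E.obj.left.left), ∀ z, ξ z = x :=
    ⟨AlgebraicClosure (E.obj.left.left.residueField x), inferInstance, inferInstance,
      Spec.map (CommRingCat.ofHom (algebraMap (E.obj.left.left.residueField x)
        (AlgebraicClosure (E.obj.left.left.residueField x)))) ≫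
        E.obj.left.left.fromSpecResidueField x,
      fun z => by
        rw [Scheme.Hom.comp_apply]
        exact Scheme.fromSpecResidueField_apply _ _⟩
  obtain ⟨u₀, hu₀⟩ : ∃ u₀ : Over.mk (ξ ≫ E.obj.left.hom) ⟶ E.obj.left, u₀.left = ξ :=
    ⟨Over.homMk ξ rfl, rfl⟩
  exact ⟨mkPt (ξ ≫ E.obj.left.hom) ((yon S).map u₀ ≫ E.obj.hom), ‹IsAlgClosed K›,
    ⟨u₀, (mkPt_toHom _ _).symm⟩, fun z => by
      change u₀.left z = x
      rw [hu₀]; exact hξ z⟩

theorem mk_eq_ofPt {X : Sp S} (p : FieldPt X) {E : EtOver X} (l : (FieldPt.liftsTo p).obj E) :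
    Points.mk p = Points.ofPt E.obj.hom (l.1.left (IsLocalRing.closedPoint p.K)) := by
  have h1 : Points.ofPt ((yon S).map l.1 ≫ E.obj.hom) (IsLocalRing.closedPoint p.K) =
      Points.ofPt E.obj.hom (l.1.left (IsLocalRing.closedPoint p.K)) :=
    Groth.Agent.Lib.Helper16.ofPt_yon_map_comp _ _ _
  have h2 : Points.ofPt ((yon S).map l.1 ≫ E.obj.hom) (IsLocalRing.closedPoint p.K) =
      Points.ofPt p.toHom (IsLocalRing.closedPoint p.K) :=
    congrArg (fun t => Points.ofPt t (IsLocalRing.closedPoint p.K)) l.2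
  exact (Points.ofPt_toHom p _).symm.trans (h2.symm.trans h1)

theorem germ_ab_eq_zero_iff (X : AlgSp.Space S) (p : FieldPt X.obj) (hp : p.IsGeometric)
    (F : AbEt X.obj) (N : EtNbhd p) (σ : ↥(F.obj.obj (op N.1))) :
    (stalkEtι p F N).hom σ = 0 ↔
      ∃ (N' : EtNbhd p) (f : N' ⟶ N), (F.obj.map f.1.op).hom σ = 0 := by
  have key := germ_eq_iff X p hp (A := AddCommGrpCat.{u + 1}) F.obj N σ 0
  refine Iff.trans ?_ (key.trans ?_)
  · change _ ↔ (stalkEtι p F N).hom σ = (stalkEtι p F N).hom 0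
    rw [map_zero]
  · refine exists_congr fun N' => exists_congr fun f => ?_
    change (F.obj.map f.1.op).hom σ = (F.obj.map f.1.op).hom 0 ↔ _
    rw [map_zero]

theorem germ_ab_surjective (X : AlgSp.Space S) (p : FieldPt X.obj) (hp : p.IsGeometric)
    (F : AbEt X.obj) (s : ↥(stalkEt p F)) :
    ∃ (N : EtNbhd p) (σ : ↥(F.obj.obj (op N.1))), (stalkEtι p F N).hom σ = s :=
  germ_jointly_surjective X p hp (A := AddCommGrpCat.{u + 1}) F.obj s

theorem support_iff (X : AlgSp.Space S) (F : AbEt X.obj) (x : Points X.obj) :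
    (∃ p : FieldPt X.obj, p.IsGeometric ∧ Points.mk p = x ∧ ¬ IsZero (stalkEt p F)) ↔
      ∃ (U : EtOver X.obj) (σ : ↥(F.obj.obj (op U))) (u : ↥U.obj.left.left),
        Points.ofPt U.obj.hom u = x ∧
          ∀ (V : EtOver X.obj) (φ : V ⟶ U), (F.obj.map φ.op).hom σ = 0 →
            u ∉ Set.range (fun v => φ.hom.left.left v) := by
  constructor
  · rintro ⟨p, hp, hx, hF⟩
    haveI : IsAlgClosed p.K := hp
    obtain ⟨s, hs⟩ : ∃ s : ↥(stalkEt p F), s ≠ 0 := by
      by_contra hcon'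
      have hcon : ∀ s : ↥(stalkEt p F), s = 0 := fun s => by_contra (fun h => hcon' ⟨s, h⟩)
      haveI : Subsingleton ↥(stalkEt p F) := ⟨fun a b => (hcon a).trans (hcon b).symm⟩
      exact hF (AddCommGrpCat.isZero_of_subsingleton _)
    obtain ⟨⟨U, l⟩, σ, hσ⟩ := germ_ab_surjective X p hp F s
    refine ⟨U, σ, l.1.left (IsLocalRing.closedPoint p.K), ?_, ?_⟩
    · rw [← mk_eq_ofPt p l, hx]
    · rintro V φ hφ ⟨v, hv⟩
      obtain ⟨l', hl'⟩ := exists_lift_nbhd p φ l v hv
      apply hs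
      rw [← hσ]
      exact (germ_ab_eq_zero_iff X p hp F ⟨U, l⟩ σ).2 ⟨⟨V, l'⟩, ⟨φ, hl'⟩, hφ⟩
  · rintro ⟨U, σ, u, hx, hcond⟩
    obtain ⟨p, hp, l, hl⟩ := exists_geomPoint_over U u
    refine ⟨p, hp, ?_, ?_⟩
    · rw [mk_eq_ofPt p l, hl, hx]
    · intro hzero
      have h0 : (stalkEtι p F ⟨U, l⟩).hom σ = 0 := by
        haveI := AddCommGrpCat.subsingleton_of_isZero hzero
        exact Subsingleton.elim _ _
      obtain ⟨N', f, hf⟩ := (germ_ab_eq_zero_iff X p hp F ⟨U, l⟩ σ).1 h0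
      refine hcond N'.1 f.1 hf ⟨N'.2.1.left (IsLocalRing.closedPoint p.K), ?_⟩
      have h1 : N'.2.1 ≫ f.1.hom.left = l.1 := congrArg Subtype.val f.2
      rw [← hl (IsLocalRing.closedPoint p.K), ← h1]
      rfl

end Groth.Agent.Lib.Helper15.AlgSpStalk
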