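import Groth.Agent.Lib.Helper15.AlgSpSupp2
import Groth.Agent.S10216

/-!
# Helper library (helper15): the support of a sheaf of rings on the small etale site of an algebraic space is closed
-/

set_option autoImplicit false
set_option backward.isDefEq.respectTransparency false

universe u
open CategoryTheory CategoryTheory.Limits AlgebraicGeometry Opposite

namespace Groth.Agent.Lib.Helper15.AlgSpStalk

open AlgSp

variable {S : Scheme.{u}}

/-- A geometric point over the image of a point `u` of an etale chart lifts to the chart. -/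
theorem exists_lift_of_mk_eq (X : AlgSp.Space S) (p : FieldPt X.obj) (hp : p.IsGeometric)
    (U : EtOver X.obj) (u : ↥U.obj.left.left) (h : Points.mk p = Points.ofPt U.obj.hom u) :
    Nonempty ((FieldPt.liftsTo p).obj U) := by
  obtain ⟨φ, hφ⟩ : ∃ φ : (AlgSp.ofScheme S).obj U.obj.left ⟶ X, φ.hom = U.obj.hom :=
    ⟨ObjectProperty.homMk U.obj.hom, rfl⟩
  have hφe : IsEtaleMor φ.hom := by rw [hφ]; exact isEtaleMor_of_repWith _ U.property
  have hu : Points.map φ.hom (Points.ofScheme U.obj.left u) = Points.mk p := by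
    rw [hφ, ← Points.ofPt_eq_map_ofScheme]; exact h.symm
  obtain ⟨ubar, h1, -⟩ := Groth.Agent.S10216.result φ hφe p hp _ hu
  obtain ⟨l, hl⟩ := (yon S).map_surjective ubar
  refine ⟨⟨l, ?_⟩⟩
  rw [hl, ← hφ]
  exact h1

theorem support_ring_closed (X : AlgSp.Space S) (O' : EtSh X.obj CommRingCat.{u + 1}) :
    IsClosed {x : Points X.obj |
      ∃ p : FieldPt X.obj, p.IsGeometric ∧ Points.mk p = x ∧ Nontrivial ↥(stalkEt p O')} := by
  rw [← isOpen_compl_iff]
  have hset : {x : Points X.obj |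
      ∃ p : FieldPt X.obj, p.IsGeometric ∧ Points.mk p = x ∧ Nontrivial ↥(stalkEt p O')}ᶜ =
      ⋃ (U : {U : EtOver X.obj // Subsingleton ↥(O'.obj.obj (op U))}),
        Set.range (Points.ofPt U.1.obj.hom) := by
    ext x
    constructor
    · intro hx
      obtain ⟨U₀, a₀, hae, has⟩ := X.property.atlas
      obtain ⟨u₀, hu₀⟩ := Groth.Agent.Lib.Helper16.ofPt_surjective_of_surjective a₀ has x
      obtain ⟨p, hp, l, hl⟩ := exists_geomPoint_over (EtOver.mk a₀ hae) u₀
      have hpx : Points.mk p = x := by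
        rw [mk_eq_ofPt p l, hl]; exact hu₀
      have htriv : ¬ Nontrivial ↥(stalkEt p O') := fun h => hx ⟨p, hp, hpx, h⟩
      rw [not_nontrivial_iff_subsingleton] at htriv
      have h01 : colimit.ι ((EtNbhd.toEtOver p).op ⋙ O'.obj) (op ⟨EtOver.mk a₀ hae, l⟩)
            (1 : ↥(O'.obj.obj (op (EtOver.mk a₀ hae)))) =
          colimit.ι ((EtNbhd.toEtOver p).op ⋙ O'.obj) (op ⟨EtOver.mk a₀ hae, l⟩)
            (0 : ↥(O'.obj.obj (op (EtOver.mk a₀ hae)))) :=
        Subsingleton.elim (α := ↥(stalkEt p O')) _ _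
      obtain ⟨N', f, hf⟩ := (germ_eq_iff X p hp (A := CommRingCat.{u + 1}) O'.obj
        ⟨EtOver.mk a₀ hae, l⟩ 1 0).1 h01
      have h10 : (1 : ↥(O'.obj.obj (op N'.1))) = 0 := by
        have e1 : (O'.obj.map f.1.op).hom 1 = 1 := map_one _
        have e0 : (O'.obj.map f.1.op).hom 0 = 0 := map_zero _
        exact e1.symm.trans (hf.trans e0)
      have hsub : Subsingleton ↥(O'.obj.obj (op N'.1)) := subsingleton_of_zero_eq_one h10.symm
      refine Set.mem_iUnion.2 ⟨⟨N'.1, hsub⟩, N'.2.1.left (IsLocalRing.closedPoint p.K), ?_⟩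
      rw [← mk_eq_ofPt p N'.2]; exact hpx
    · intro hx
      obtain ⟨⟨U, hU⟩, u, rfl⟩ := Set.mem_iUnion.1 hx
      rintro ⟨p, hp, hpx, hnt⟩
      obtain ⟨l⟩ := exists_lift_of_mk_eq X p hp U u hpx
      have e1 : (stalkEtι p O' ⟨U, l⟩).hom 1 = 1 := map_one _
      have e0 : (stalkEtι p O' ⟨U, l⟩).hom 0 = 0 := map_zero _
      have h10 : (0 : ↥(stalkEt p O')) = 1 := by
        rw [← e1, ← e0]
        exact congrArg _ (Subsingleton.elim _ _)
      haveI := subsingleton_of_zero_eq_one h10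
      exact not_nontrivial _ hnt
  rw [hset]
  exact isOpen_iUnion fun U =>
    (Groth.Agent.Lib.Helper16.isOpenMap_ofPt_of_etale U.1.obj.hom U.1.property).isOpen_range

end Groth.Agent.Lib.Helper15.AlgSpStalk
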