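import Groth.Agent.Lib.Helper15.BcQLocal
import Groth.Prelude.Def_EtBCD

/-!
# Helper15: the base change map for sheaves of sets `EtBC.baseChange0Sh` is an isomorphism if it
is so etale-locally (S6691).  Port of the `S6668` machinery to sheaves of sets.
-/

set_option autoImplicit false
set_option backward.isDefEq.respectTransparency false
universe u

open CategoryTheory CategoryTheory.Limits AlgebraicGeometry Opposite
open Groth.Agent.Lib.Helper13.EtaleRestr Groth.Agent.Lib.Helper13.ExtZeroExact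
open Groth.Agent.Lib.Helper15.BcVcomp Groth.Agent.Lib.Helper15.FinitePushBC
open Groth.Agent.Lib.Helper15.FinitePushVanish

namespace Groth.Agent.Lib.Helper15.Bc0Sh

section Sheaf

variable {X Y X' Y' : Scheme.{u}} (f : X ⟶ Y) (g : Y' ⟶ Y) (f' : X' ⟶ Y') (g' : X' ⟶ X)
  (w : g' ≫ f = f' ≫ g)

/-- `g'_* ⋙ f_* ≅ f'_* ⋙ g_*` for sheaves of sets. -/
noncomputable def ΘSh :
    EtDesc.pushSh g' ⋙ EtDesc.pushSh f ≅ EtDesc.pushSh f' ⋙ EtDesc.pushSh g :=
  EtDesc.pushCompSh f g' ≪≫ EtBC.pushCongrSh w ≪≫ (EtDesc.pushCompSh g f').symm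

lemma ΘSh_app (F' : EtDesc.Sh X') (V : Y.Etale) :
    ((ΘSh f g f' g' w).hom.app F').hom.app (op V) = F'.obj.map (θ f g f' g' w V).op := by
  unfold ΘSh θ
  rw [op_comp, op_comp, Functor.map_comp, Functor.map_comp]
  rfl

/-- the untransposed base change map -/
noncomputable def γSh (F : EtDesc.Sh X) :
    (EtDesc.pushSh f).obj F ⟶
      (EtDesc.pushSh g).obj ((EtDesc.pushSh f').obj ((EtDesc.pullSh g').obj F)) :=
  (EtDesc.pushSh f).map ((EtDesc.adjSh g').unit.app F) ≫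
    (ΘSh f g f' g' w).hom.app ((EtDesc.pullSh g').obj F)

lemma baseChange0Sh_eq (F : EtDesc.Sh X) :
    EtBC.baseChange0Sh f g f' g' w F =
      ((EtDesc.adjSh g).homEquiv _ _).symm (γSh f g f' g' w F) := rfl

end Sheaf

section SheafTower

variable {X S Y T W Z : Scheme.{u}} (f : X ⟶ S) (g : T ⟶ S) (h : Y ⟶ X) (e : Y ⟶ T)
  (w₁ : e ≫ g = h ≫ f) (i : W ⟶ X) (j : Z ⟶ W) (k : Z ⟶ Y) (w₂ : k ≫ h = j ≫ i)
  (w₃ : (k ≫ e) ≫ g = j ≫ (i ≫ f))

lemma Θ_cohSh (G : EtDesc.Sh Z) :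
    (EtDesc.pushSh g).map ((EtDesc.pushCompSh e k).hom.app G) ≫
      (ΘSh g (i ≫ f) j (k ≫ e) w₃).hom.app G ≫
      (EtDesc.pushCompSh f i).inv.app ((EtDesc.pushSh j).obj G) =
    (ΘSh g f h e w₁).hom.app ((EtDesc.pushSh k).obj G) ≫
      (EtDesc.pushSh f).map ((ΘSh h i j k w₂).hom.app G) := by
  apply Sheaf.hom_ext
  apply NatTrans.ext
  funext U
  obtain ⟨U⟩ := U
  have key := congrArg (fun t => G.obj.map t.op) (θ_coh f g h e w₁ i j k w₂ w₃ U)
  simp only [op_comp, Functor.map_comp, Category.assoc] at key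
  show G.obj.map (pcHom k e ((EtCoh.bc g).obj U)).op ≫
      ((ΘSh g (i ≫ f) j (k ≫ e) w₃).hom.app G).hom.app (op U) ≫
      G.obj.map ((EtCoh.bc j).map (pcInv i f U)).op =
    ((ΘSh g f h e w₁).hom.app ((EtDesc.pushSh k).obj G)).hom.app (op U) ≫
      ((ΘSh h i j k w₂).hom.app G).hom.app (op ((EtCoh.bc f).obj U))
  rw [ΘSh_app, ΘSh_app, ΘSh_app]
  exact key

lemma unit_compSh (F : EtDesc.Sh T) :
    (EtDesc.adjSh (k ≫ e)).unit.app F =
      (EtDesc.adjSh e).unit.app F ≫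
        (EtDesc.pushSh e).map ((EtDesc.adjSh k).unit.app ((EtDesc.pullSh e).obj F)) ≫
        (EtDesc.pushCompSh e k).hom.app ((EtDesc.pullSh k).obj ((EtDesc.pullSh e).obj F)) ≫
        (EtDesc.pushSh (k ≫ e)).map ((EtDesc.pullCompSh k e).inv.app F) := by
  have h1 := Adjunction.unit_leftAdjointUniq_hom_app (EtDesc.adjSh (k ≫ e))
    (((EtDesc.adjSh e).comp (EtDesc.adjSh k)).ofNatIsoRight (EtDesc.pushCompSh e k)) F
  have h2 : (((EtDesc.adjSh e).comp (EtDesc.adjSh k)).ofNatIsoRight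
      (EtDesc.pushCompSh e k)).unit.app F =
      (EtDesc.adjSh e).unit.app F ≫
        (EtDesc.pushSh e).map ((EtDesc.adjSh k).unit.app ((EtDesc.pullSh e).obj F)) ≫
        (EtDesc.pushCompSh e k).hom.app ((EtDesc.pullSh k).obj ((EtDesc.pullSh e).obj F)) := by
    rw [← Adjunction.homEquiv_id, Adjunction.homEquiv_ofNatIsoRight_apply, Adjunction.homEquiv_id,
      Adjunction.comp_unit_app, Category.assoc]
    rfl
  have h3 : (EtDesc.pullCompSh k e).hom.app F ≫ (EtDesc.pullCompSh k e).inv.app F = 𝟙 _ :=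
    Iso.hom_inv_id_app _ _
  calc (EtDesc.adjSh (k ≫ e)).unit.app F
      = ((EtDesc.adjSh (k ≫ e)).unit.app F ≫
          (EtDesc.pushSh (k ≫ e)).map ((EtDesc.pullCompSh k e).hom.app F)) ≫
          (EtDesc.pushSh (k ≫ e)).map ((EtDesc.pullCompSh k e).inv.app F) := by
        rw [Category.assoc, ← Functor.map_comp, h3, CategoryTheory.Functor.map_id]
        exact (Category.comp_id _).symm
    _ = _ := by
        rw [show (EtDesc.adjSh (k ≫ e)).unit.app F ≫
          (EtDesc.pushSh (k ≫ e)).map ((EtDesc.pullCompSh k e).hom.app F) = _ from h1, h2]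
        simp only [Category.assoc]

lemma γ_vcompSh (F : EtDesc.Sh T) :
    γSh g (i ≫ f) j (k ≫ e) w₃ F ≫
      (EtDesc.pushCompSh f i).inv.app ((EtDesc.pushSh j).obj ((EtDesc.pullSh (k ≫ e)).obj F)) =
    γSh g f h e w₁ F ≫ (EtDesc.pushSh f).map (γSh h i j k w₂ ((EtDesc.pullSh e).obj F)) ≫
      (EtDesc.pushSh f).map ((EtDesc.pushSh i).map ((EtDesc.pushSh j).map
        ((EtDesc.pullCompSh k e).inv.app F))) := by
  unfold γSh
  rw [unit_compSh e k F]
  obtain ⟨t, ht⟩ : ∃ t, t = (EtDesc.pullCompSh k e).inv.app F := ⟨_, rfl⟩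
  rw [← ht]
  have n3 := (ΘSh g (i ≫ f) j (k ≫ e) w₃).hom.naturality t
  have n4 := (EtDesc.pushCompSh f i).inv.naturality ((EtDesc.pushSh j).map t)
  have n1 := (ΘSh g f h e w₁).hom.naturality
    ((EtDesc.adjSh k).unit.app ((EtDesc.pullSh e).obj F))
  have co := Θ_cohSh f g h e w₁ i j k w₂ w₃ ((EtDesc.pullSh k).obj ((EtDesc.pullSh e).obj F))
  simp only [Functor.comp_map, Functor.comp_obj] at n1 n3 n4
  simp only [Functor.map_comp, Category.assoc, Functor.comp_obj]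
  rw [reassoc_of% n3, n4, reassoc_of% co, reassoc_of% n1]

end SheafTower

section Restr

variable {U X : Scheme.{u}} (j : U ⟶ X) [Etale j]

/-- restriction of sheaves of sets along an etale morphism -/
noncomputable abbrev restrSh : EtDesc.Sh X ⥤ EtDesc.Sh U :=
  (EtShriek.compEtale j).sheafPushforwardContinuous (Type (u + 1)) U.smallEtaleTopology
    X.smallEtaleTopology

noncomputable def restrPushAdjSh : restrSh j ⊣ EtDesc.pushSh j :=
  (adjSites j).sheafPushforwardContinuous (E := Type (u + 1)) U.smallEtaleTopology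
    X.smallEtaleTopology

noncomputable def pullIsoRestrSh : EtDesc.pullSh j ≅ restrSh j :=
  (EtDesc.adjSh j).leftAdjointUniq (restrPushAdjSh j)

end Restr

section Conc

open Groth.Agent.Lib.Helper15.BcQEt

variable {X S X' S' : Scheme.{u}} (f : X ⟶ S) (g : S' ⟶ S) [Etale g] (f' : X' ⟶ S') (g' : X' ⟶ X)
  [Etale g'] (h : IsPullback g' f' f g)

lemma bc0Restr_appSh (N : EtDesc.Sh X) (W : S'.Etale) :
    (((restrPushAdjSh g).homEquiv _ _).symm
      ((EtDesc.pushSh f).map ((restrPushAdjSh g').unit.app N) ≫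
        (ΘSh f g f' g' h.w).hom.app ((restrSh g').obj N))).hom.app (op W) =
    N.obj.map (ψ f g f' g' h W).op := by
  rw [Adjunction.homEquiv_counit]
  have e2 := ΘSh_app f g f' g' h.w ((restrSh g').obj N) ((EtShriek.compEtale g).obj W)
  show (N.obj.map ((adjSites g').counit.app ((EtCoh.bc f).obj ((EtShriek.compEtale g).obj W))).op ≫
    ((ΘSh f g f' g' h.w).hom.app ((restrSh g').obj N)).hom.app
      (op ((EtShriek.compEtale g).obj W))) ≫
    N.obj.map ((EtShriek.compEtale g').map ((EtCoh.bc f').map ((adjSites g).unit.app W))).op = _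
  rw [e2]
  show (N.obj.map ((adjSites g').counit.app ((EtCoh.bc f).obj ((EtShriek.compEtale g).obj W))).op ≫
    N.obj.map ((EtShriek.compEtale g').map (θ f g f' g' h.w ((EtShriek.compEtale g).obj W))).op) ≫
    N.obj.map ((EtShriek.compEtale g').map ((EtCoh.bc f').map ((adjSites g).unit.app W))).op = _
  rw [← Functor.map_comp, ← Functor.map_comp, ← op_comp, ← op_comp]
  rfl

lemma isIso_bc0RestrSh (N : EtDesc.Sh X) :
    IsIso (((restrPushAdjSh g).homEquiv _ _).symm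
      ((EtDesc.pushSh f).map ((restrPushAdjSh g').unit.app N) ≫
        (ΘSh f g f' g' h.w).hom.app ((restrSh g').obj N))) := by
  have : ∀ V, IsIso ((((restrPushAdjSh g).homEquiv _ _).symm
      ((EtDesc.pushSh f).map ((restrPushAdjSh g').unit.app N) ≫
        (ΘSh f g f' g' h.w).hom.app ((restrSh g').obj N))).hom.app V) := by
    intro V
    have e := bc0Restr_appSh f g f' g' h N V.unop
    rw [ψ_eq] at e
    show IsIso ((((restrPushAdjSh g).homEquiv _ _).symm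
      ((EtDesc.pushSh f).map ((restrPushAdjSh g').unit.app N) ≫
        (ΘSh f g f' g' h.w).hom.app ((restrSh g').obj N))).hom.app (op V.unop))
    rw [e]
    infer_instance
  obtain ⟨φ, hφ⟩ : ∃ φ, φ = ((restrPushAdjSh g).homEquiv _ _).symm
      ((EtDesc.pushSh f).map ((restrPushAdjSh g').unit.app N) ≫
        (ΘSh f g f' g' h.w).hom.app ((restrSh g').obj N)) := ⟨_, rfl⟩
  rw [← hφ] at this ⊢
  haveI : IsIso φ.hom := NatIso.isIso_of_isIso_app _
  haveI : IsIso ((sheafToPresheaf S'.smallEtaleTopology (Type (u + 1))).map φ) :=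
    (inferInstance : IsIso φ.hom)
  exact isIso_of_reflects_iso φ (sheafToPresheaf _ _)

/-- etale base change for sheaves of sets -/
theorem isIso_baseChange0Sh_of_etale (N : EtDesc.Sh X) :
    IsIso (EtBC.baseChange0Sh f g f' g' h.w N) := by
  rw [baseChange0Sh_eq]
  exact isIso_mate_of_isIso_mate (ΘSh f g f' g' h.w).hom (EtDesc.adjSh g') (restrPushAdjSh g')
    (EtDesc.adjSh g) (restrPushAdjSh g) N (isIso_bc0RestrSh f g f' g' h N)

end Conc

section Loc

variable {X : Scheme.{u}} {ι : Type u} (U : ι → X.Etale)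

set_option backward.isDefEq.respectTransparency.types false in
lemma restr_jointly_faithfulSh (hU : EtCoh.Covers U) [∀ i, Etale (U i).hom] {A B : EtDesc.Sh X}
    (a b : A ⟶ B)
    (hab : ∀ i, (restrSh (U i).hom).map a = (restrSh (U i).hom).map b) :
    a = b := by
  apply ObjectProperty.hom_ext
  ext V : 2
  induction V using Opposite.rec with
  | _ V =>
    have hc : Sieve.ofArrows
        (fun i : ι => (EtShriek.compEtale (U i).hom).obj ((EtCoh.bc (U i).hom).obj V))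
        (fun i => (adjSites (U i).hom).counit.app V) ∈ X.smallEtaleTopology V := by
      rw [Scheme.ofArrows_mem_smallEtaleTopology_iff]
      ext x
      simp only [Set.mem_iUnion, Set.mem_range, Set.mem_univ, iff_true]
      obtain ⟨i, y, hy⟩ := hU (V.hom.base x)
      obtain ⟨z, hz1, hz2⟩ := Scheme.Pullback.exists_preimage_pullback x y hy.symm
      exact ⟨i, z, hz1⟩
    refine B.property.hom_ext_ofArrows _ hc (fun i => ?_)
    rw [← a.hom.naturality, ← b.hom.naturality]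
    congr 1
    exact congr_app (congrArg (fun m => m.hom) (hab i)) (op ((EtCoh.bc (U i).hom).obj V))

theorem isIso_of_pull_coverSh (hU : EtCoh.Covers U) {A B : EtDesc.Sh X} (β : A ⟶ B)
    (h : ∀ i, IsIso ((EtDesc.pullSh (U i).hom).map β)) : IsIso β := by
  haveI : ∀ i, Etale (U i).hom := fun i => (U i).prop
  have h' : ∀ i, IsIso ((restrSh (U i).hom).map β) := fun i =>
    (NatIso.isIso_map_iff (pullIsoRestrSh (U i).hom) β).1 (h i)
  haveI : Mono β := ⟨fun {Z} a b hab => restr_jointly_faithfulSh U hU a b (fun i => by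
    haveI := h' i
    rw [← cancel_mono ((restrSh (U i).hom).map β), ← Functor.map_comp,
      ← Functor.map_comp, hab])⟩
  haveI : Epi β := ⟨fun {Z} a b hab => restr_jointly_faithfulSh U hU a b (fun i => by
    haveI := h' i
    rw [← cancel_epi ((restrSh (U i).hom).map β), ← Functor.map_comp,
      ← Functor.map_comp, hab])⟩
  exact isIso_of_mono_of_epi β

end Loc

section Main

open Groth.Agent.Lib.Helper15.BcQLoc

lemma isIso_baseChange0Sh_congr {X S X' S' : Scheme.{u}} (f : X ⟶ S) {g₁ g₂ : S' ⟶ S}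
    (hg : g₁ = g₂) (f' : X' ⟶ S') {g'₁ g'₂ : X' ⟶ X} (hg' : g'₁ = g'₂)
    (w₁ : g'₁ ≫ f = f' ≫ g₁) (w₂ : g'₂ ≫ f = f' ≫ g₂) (F : EtDesc.Sh X)
    (h : IsIso (EtBC.baseChange0Sh f g₁ f' g'₁ w₁ F)) :
    IsIso (EtBC.baseChange0Sh f g₂ f' g'₂ w₂ F) := by
  subst hg
  subst hg'
  exact h

variable {X S Y T W Z : Scheme.{u}} (f : X ⟶ S) (g : T ⟶ S) (h : Y ⟶ X) (e : Y ⟶ T)
  (w₁ : e ≫ g = h ≫ f) (i : W ⟶ X) (j : Z ⟶ W) (k : Z ⟶ Y) (w₂ : k ≫ h = j ≫ i)
  (w₃ : (k ≫ e) ≫ g = j ≫ (i ≫ f))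

theorem isIso_baseChange0Sh_comp (F : EtDesc.Sh T)
    (h1 : IsIso (EtBC.baseChange0Sh g f h e w₁ F))
    (h2 : IsIso (EtBC.baseChange0Sh h i j k w₂ ((EtDesc.pullSh e).obj F))) :
    IsIso (EtBC.baseChange0Sh g (i ≫ f) j (k ≫ e) w₃ F) :=
  isIso_transpose_vcomp (EtDesc.adjSh f) (EtDesc.adjSh i) (EtDesc.adjSh (i ≫ f))
    (EtDesc.pushCompSh f i).inv (γSh g f h e w₁ F) (γSh h i j k w₂ ((EtDesc.pullSh e).obj F))
    (γSh g (i ≫ f) j (k ≫ e) w₃ F)
    ((EtDesc.pushSh j).mapIso ((EtDesc.pullCompSh k e).symm.app F))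
    (γ_vcompSh f g h e w₁ i j k w₂ w₃ F) h1 h2

theorem isIso_pull_baseChange0Sh_of_comp (F : EtDesc.Sh T)
    (h3 : IsIso (EtBC.baseChange0Sh g (i ≫ f) j (k ≫ e) w₃ F))
    (h2 : IsIso (EtBC.baseChange0Sh h i j k w₂ ((EtDesc.pullSh e).obj F))) :
    IsIso ((EtDesc.pullSh i).map (EtBC.baseChange0Sh g f h e w₁ F)) :=
  isIso_map_transpose_of_vcomp (EtDesc.adjSh f) (EtDesc.adjSh i) (EtDesc.adjSh (i ≫ f))
    (EtDesc.pushCompSh f i).inv (γSh g f h e w₁ F) (γSh h i j k w₂ ((EtDesc.pullSh e).obj F))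
    (γSh g (i ≫ f) j (k ≫ e) w₃ F)
    ((EtDesc.pushSh j).mapIso ((EtDesc.pullCompSh k e).symm.app F))
    (γ_vcompSh f g h e w₁ i j k w₂ w₃ F) h3 h2

theorem main_S6691 {X S Y T : Scheme.{u}} (f : X ⟶ S) (g : T ⟶ S) (h : Y ⟶ X) (e : Y ⟶ T)
    (c : IsPullback e h g f) (F : EtDesc.Sh T)
    {ι : Type u} (U : ι → X.Etale) (hU : EtCoh.Covers U) (V : ι → S.Etale)
    (a : ∀ i, (U i).left ⟶ (V i).left) (ha : ∀ i, a i ≫ (V i).hom = (U i).hom ≫ f)
    (Ti Yi : ι → Scheme.{u}) (gi : ∀ i, Ti i ⟶ (V i).left) (ti : ∀ i, Ti i ⟶ T)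
    (cT : ∀ i, IsPullback (ti i) (gi i) g (V i).hom)
    (hi : ∀ i, Yi i ⟶ (U i).left) (ei : ∀ i, Yi i ⟶ Ti i)
    (cY : ∀ i, IsPullback (ei i) (hi i) (gi i) (a i))
    (hloc : ∀ i, IsIso (EtBC.baseChange0Sh (gi i) (a i) (hi i) (ei i) (cY i).w
      ((EtDesc.pullSh (ti i)).obj F))) :
    IsIso (EtBC.baseChange0Sh g f h e c.w F) := by
  refine isIso_of_pull_coverSh U hU _ (fun i => ?_)
  haveI : Etale (U i).hom := (U i).prop
  haveI : Etale (V i).hom := (V i).prop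
  haveI : Etale (ti i) := MorphismProperty.of_isPullback (P := @Etale) (cT i).flip inferInstance
  have hT : IsIso (EtBC.baseChange0Sh g (V i).hom (gi i) (ti i) (cT i).w F) :=
    isIso_baseChange0Sh_of_etale g (V i).hom (gi i) (ti i) (cT i) F
  have w31 : (ei i ≫ ti i) ≫ g = hi i ≫ (a i ≫ (V i).hom) := by
    rw [Category.assoc, (cT i).w, ← Category.assoc, (cY i).w, Category.assoc]
  have hO1 : IsIso (EtBC.baseChange0Sh g (a i ≫ (V i).hom) (hi i) (ei i ≫ ti i) w31 F) :=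
    isIso_baseChange0Sh_comp (V i).hom g (gi i) (ti i) (cT i).w (a i) (hi i) (ei i) (cY i).w w31
      F hT (hloc i)
  have wk : (ei i ≫ ti i) ≫ g = (hi i ≫ (U i).hom) ≫ f := by
    rw [w31, ha i, Category.assoc]
  obtain ⟨k, hk1, hk2⟩ : ∃ k : Yi i ⟶ Y, k ≫ e = ei i ≫ ti i ∧ k ≫ h = hi i ≫ (U i).hom :=
    ⟨c.lift _ _ wk, c.lift_fst _ _ _, c.lift_snd _ _ _⟩
  have cO : IsPullback (ei i ≫ ti i) (hi i) g (a i ≫ (V i).hom) := (cY i).paste_horiz (cT i)
  have cO' : IsPullback (k ≫ e) (hi i) g ((U i).hom ≫ f) := by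
    rw [hk1, ← ha i]
    exact cO
  have cL : IsPullback k (hi i) h (U i).hom := IsPullback.of_right cO' hk2 c
  haveI : Etale k := MorphismProperty.of_isPullback (P := @Etale) cL.flip inferInstance
  have hL : IsIso (EtBC.baseChange0Sh h (U i).hom (hi i) k cL.w ((EtDesc.pullSh e).obj F)) :=
    isIso_baseChange0Sh_of_etale h (U i).hom (hi i) k cL _
  have w32 : (k ≫ e) ≫ g = hi i ≫ ((U i).hom ≫ f) := cO'.w
  have hO2 : IsIso (EtBC.baseChange0Sh g ((U i).hom ≫ f) (hi i) (k ≫ e) w32 F) :=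
    isIso_baseChange0Sh_congr g (ha i) (hi i) hk1.symm w31 w32 F hO1
  exact isIso_pull_baseChange0Sh_of_comp f g h e c.w (U i).hom (hi i) k cL.w w32 F hO2 hL

end Main

end Groth.Agent.Lib.Helper15.Bc0Sh
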