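import Mathlib

/-!
# Helper15: abstract diagram chase for the vertical composition of base change morphisms
-/

set_option autoImplicit false
set_option backward.isDefEq.respectTransparency false

open CategoryTheory

namespace Groth.Agent.Lib.Helper15.BcVcomp

section Abstract

variable {KT KS KY KX KZ KW DT DS DY DX DZ DW : Type*}
  [Category KT] [Category KS] [Category KY] [Category KX] [Category KZ] [Category KW]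
  [Category DT] [Category DS] [Category DY] [Category DX] [Category DZ] [Category DW]
  {QT : KT ⥤ DT} {QS : KS ⥤ DS} {QY : KY ⥤ DY} {QX : KX ⥤ DX} {QZ : KZ ⥤ DZ} {QW : KW ⥤ DW}
  {gH : KT ⥤ KS} {fH : KX ⥤ KS} {hH : KY ⥤ KX} {iH : KW ⥤ KX} {jH : KZ ⥤ KW} {ifH : KW ⥤ KS}
  {eP : KT ⥤ KY} {kP : KY ⥤ KZ} {keP : KT ⥤ KZ}
  {Rg : DT ⥤ DS} {Rf : DX ⥤ DS} {Rh : DY ⥤ DX} {Ri : DW ⥤ DX} {Rj : DZ ⥤ DW} {Rif : DW ⥤ DS}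
  {eD : DT ⥤ DY} {kD : DY ⥤ DZ} {keD : DT ⥤ DZ}
  (ηg : gH ⋙ QS ⟶ QT ⋙ Rg) (ηf : fH ⋙ QS ⟶ QX ⋙ Rf) (ηh : hH ⋙ QX ⟶ QY ⋙ Rh)
  (ηi : iH ⋙ QX ⟶ QW ⋙ Ri) (ηj : jH ⋙ QW ⟶ QZ ⋙ Rj) (ηif : ifH ⋙ QS ⟶ QW ⋙ Rif)
  (φe : QT ⋙ eD ≅ eP ⋙ QY) (φk : QY ⋙ kD ≅ kP ⋙ QZ) (φke : QT ⋙ keD ≅ keP ⋙ QZ)
  (P₁ : gH ⟶ eP ⋙ hH ⋙ fH) (P₂ : hH ⟶ kP ⋙ jH ⋙ iH) (P₃ : gH ⟶ keP ⋙ jH ⋙ ifH)
  (Cc : ifH ⟶ iH ⋙ fH) (τH : eP ⋙ kP ⟶ keP)
  (β₁ : Rg ⟶ eD ⋙ Rh ⋙ Rf) (β₂ : Rh ⟶ kD ⋙ Rj ⋙ Ri) (β₃ : Rg ⟶ keD ⋙ Rj ⋙ Rif)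
  (c : Rif ⟶ Ri ⋙ Rf) (τ : eD ⋙ kD ⟶ keD)

include φk in
theorem abstract_vcomp
    (hH₀ : ∀ K₀ : KT, P₃.app K₀ ≫ Cc.app (jH.obj (keP.obj K₀)) =
      P₁.app K₀ ≫ fH.map (P₂.app (eP.obj K₀)) ≫ fH.map (iH.map (jH.map (τH.app K₀))))
    (fac1 : ∀ K₀ : KT, ηg.app K₀ ≫ β₁.app (QT.obj K₀) =
      QS.map (P₁.app K₀) ≫ ηf.app (hH.obj (eP.obj K₀)) ≫ Rf.map (ηh.app (eP.obj K₀)) ≫
        Rf.map (Rh.map (φe.inv.app K₀)))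
    (fac2 : ∀ L₀ : KY, ηh.app L₀ ≫ β₂.app (QY.obj L₀) =
      QX.map (P₂.app L₀) ≫ ηi.app (jH.obj (kP.obj L₀)) ≫ Ri.map (ηj.app (kP.obj L₀)) ≫
        Ri.map (Rj.map (φk.inv.app L₀)))
    (fac3 : ∀ K₀ : KT, ηg.app K₀ ≫ β₃.app (QT.obj K₀) =
      QS.map (P₃.app K₀) ≫ ηif.app (jH.obj (keP.obj K₀)) ≫ Rif.map (ηj.app (keP.obj K₀)) ≫
        Rif.map (Rj.map (φke.inv.app K₀)))
    (facc : ∀ M : KW, ηif.app M ≫ c.app (QW.obj M) =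
      QS.map (Cc.app M) ≫ ηf.app (iH.obj M) ≫ Rf.map (ηi.app M))
    (τfac : ∀ K₀ : KT, τ.app (QT.obj K₀) =
      kD.map (φe.hom.app K₀) ≫ φk.hom.app (eP.obj K₀) ≫ QZ.map (τH.app K₀) ≫ φke.inv.app K₀)
    (K₀ : KT) :
    ηg.app K₀ ≫ β₃.app (QT.obj K₀) ≫ c.app (Rj.obj (keD.obj (QT.obj K₀))) =
      ηg.app K₀ ≫ β₁.app (QT.obj K₀) ≫ Rf.map (β₂.app (eD.obj (QT.obj K₀))) ≫
        Rf.map (Ri.map (Rj.map (τ.app (QT.obj K₀)))) := by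
  have nc1 := c.naturality (Rj.map (φke.inv.app K₀))
  have nc2 := c.naturality (ηj.app (keP.obj K₀))
  have nb2 := β₂.naturality (φe.inv.app K₀)
  have nf1 := (ηf.naturality (P₂.app (eP.obj K₀))).symm
  have nj := (ηj.naturality (τH.app K₀)).symm
  have ni := (ηi.naturality (jH.map (τH.app K₀))).symm
  have nf2 := (ηf.naturality (iH.map (jH.map (τH.app K₀)))).symm
  simp only [Functor.comp_map, Functor.comp_obj] at nc1 nc2 nb2 nf1 nj ni nf2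
  -- the common tail
  have L : ηg.app K₀ ≫ β₃.app (QT.obj K₀) ≫ c.app (Rj.obj (keD.obj (QT.obj K₀))) =
      QS.map (P₃.app K₀ ≫ Cc.app (jH.obj (keP.obj K₀))) ≫
        ηf.app (iH.obj (jH.obj (keP.obj K₀))) ≫ Rf.map (ηi.app (jH.obj (keP.obj K₀))) ≫
        Rf.map (Ri.map (ηj.app (keP.obj K₀))) ≫ Rf.map (Ri.map (Rj.map (φke.inv.app K₀))) := by
    rw [← Category.assoc, fac3 K₀]
    simp only [Category.assoc]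
    rw [nc1, reassoc_of% nc2, reassoc_of% (facc (jH.obj (keP.obj K₀))), Functor.map_comp,
      Category.assoc]
  have τ' : φk.inv.app (eP.obj K₀) ≫ kD.map (φe.inv.app K₀) ≫ τ.app (QT.obj K₀) =
      QZ.map (τH.app K₀) ≫ φke.inv.app K₀ := by
    have e1 : φe.inv.app K₀ ≫ φe.hom.app K₀ = 𝟙 _ := Iso.inv_hom_id_app _ _
    have e2 : kD.map (φe.inv.app K₀) ≫ kD.map (φe.hom.app K₀) = 𝟙 _ := by
      rw [← kD.map_comp, e1]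
      exact kD.map_id _
    have e3 : φk.inv.app (eP.obj K₀) ≫ φk.hom.app (eP.obj K₀) = 𝟙 _ := Iso.inv_hom_id_app _ _
    rw [τfac K₀, reassoc_of% e2, reassoc_of% e3]
  have τ'' := congrArg (fun x => Ri.map (Rj.map x)) τ'
  simp only [Functor.map_comp] at τ''
  have nj' := congrArg (fun x => Ri.map x) nj
  simp only [Functor.map_comp] at nj'
  have inner : ηh.app (eP.obj K₀) ≫ Rh.map (φe.inv.app K₀) ≫ β₂.app (eD.obj (QT.obj K₀)) ≫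
      Ri.map (Rj.map (τ.app (QT.obj K₀))) =
      QX.map (P₂.app (eP.obj K₀)) ≫ QX.map (iH.map (jH.map (τH.app K₀))) ≫
        ηi.app (jH.obj (keP.obj K₀)) ≫ Ri.map (ηj.app (keP.obj K₀)) ≫
        Ri.map (Rj.map (φke.inv.app K₀)) := by
    rw [reassoc_of% nb2, reassoc_of% (fac2 (eP.obj K₀)), τ'', reassoc_of% nj', reassoc_of% ni]
  have inner' := congrArg (fun x => Rf.map x) inner
  simp only [Functor.map_comp] at inner'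
  have R : ηg.app K₀ ≫ β₁.app (QT.obj K₀) ≫ Rf.map (β₂.app (eD.obj (QT.obj K₀))) ≫
      Rf.map (Ri.map (Rj.map (τ.app (QT.obj K₀)))) =
      QS.map (P₁.app K₀ ≫ fH.map (P₂.app (eP.obj K₀)) ≫ fH.map (iH.map (jH.map (τH.app K₀)))) ≫
        ηf.app (iH.obj (jH.obj (keP.obj K₀))) ≫ Rf.map (ηi.app (jH.obj (keP.obj K₀))) ≫
        Rf.map (Ri.map (ηj.app (keP.obj K₀))) ≫ Rf.map (Ri.map (Rj.map (φke.inv.app K₀))) := by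
    rw [← Category.assoc, fac1 K₀]
    simp only [Category.assoc]
    rw [inner', reassoc_of% nf1, reassoc_of% nf2]
    simp only [Functor.map_comp, Category.assoc]
  rw [L, R, hH₀ K₀]

end Abstract

section Univ

variable {C D E : Type*} [Category C] [Category D] [Category E]

/-- `x : A ⟶ G N` is a universal arrow from `A` to `G`. -/
def IsUniv {A : C} (G : D ⥤ C) {N : D} (x : A ⟶ G.obj N) : Prop :=
  ∀ M : D, Function.Bijective (fun φ : N ⟶ M => x ≫ G.map φ)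

lemma isIso_transpose_iff {F : C ⥤ D} {G : D ⥤ C} (adj : F ⊣ G) {A : C} {N : D}
    (x : A ⟶ G.obj N) : IsIso ((adj.homEquiv A N).symm x) ↔ IsUniv G x := by
  rw [isIso_iff_coyoneda_map_bijective]
  refine forall_congr' fun M => ?_
  have : (fun φ : N ⟶ M => x ≫ G.map φ) =
      (adj.homEquiv A M) ∘ (fun φ : N ⟶ M => (adj.homEquiv A N).symm x ≫ φ) := by
    funext φ
    simp [Adjunction.homEquiv_naturality_right]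
  rw [this]
  exact (Equiv.comp_bijective _ (adj.homEquiv A M)).symm

lemma IsUniv.comp {G₁ : D ⥤ C} {G₂ : E ⥤ D} {A : C} {N₁ : D} {N₂ : E} {x : A ⟶ G₁.obj N₁}
    {y : N₁ ⟶ G₂.obj N₂} (hx : IsUniv G₁ x) (hy : IsUniv G₂ y) :
    IsUniv (G₂ ⋙ G₁) (N := N₂) (x ≫ G₁.map y) := by
  intro M
  have : (fun φ : N₂ ⟶ M => (x ≫ G₁.map y) ≫ (G₂ ⋙ G₁).map φ) =
      (fun ψ : N₁ ⟶ G₂.obj M => x ≫ G₁.map ψ) ∘ (fun φ : N₂ ⟶ M => y ≫ G₂.map φ) := by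
    funext φ
    simp
  rw [this]
  exact (hx _).comp (hy M)

lemma IsUniv.of_iso_obj {G : D ⥤ C} {A : C} {N N' : D} {x : A ⟶ G.obj N} (hx : IsUniv G x)
    (t : N ≅ N') : IsUniv G (x ≫ G.map t.hom) := by
  intro M
  have : (fun φ : N' ⟶ M => (x ≫ G.map t.hom) ≫ G.map φ) =
      (fun ψ : N ⟶ M => x ≫ G.map ψ) ∘ (fun φ : N' ⟶ M => t.hom ≫ φ) := by
    funext φ
    simp
  rw [this]
  refine (hx M).comp ⟨fun a b hab => ?_, fun ψ => ⟨t.inv ≫ ψ, by simp⟩⟩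
  exact (cancel_epi t.hom).1 hab

lemma IsUniv.of_natTrans {G G' : D ⥤ C} (c : G ⟶ G') [∀ M, IsIso (c.app M)] {A : C} {N : D}
    {x : A ⟶ G.obj N} (hx : IsUniv G' (x ≫ c.app N)) : IsUniv G x := by
  intro M
  have : (fun φ : N ⟶ M => (x ≫ c.app N) ≫ G'.map φ) =
      (fun z : A ⟶ G.obj M => z ≫ c.app M) ∘ (fun φ : N ⟶ M => x ≫ G.map φ) := by
    funext φ
    simp
  have h := hx M
  rw [this] at h
  refine (Function.Bijective.of_comp_iff' ?_ _).1 h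
  exact ⟨fun a b hab => (cancel_mono (c.app M)).1 hab,
    fun z => ⟨z ≫ inv (c.app M), by simp⟩⟩

theorem isIso_transpose_vcomp {F₁ : C ⥤ D} {G₁ : D ⥤ C} (adj₁ : F₁ ⊣ G₁) {F₂ : D ⥤ E}
    {G₂ : E ⥤ D} (adj₂ : F₂ ⊣ G₂) {F₃ : C ⥤ E} {G₃ : E ⥤ C} (adj₃ : F₃ ⊣ G₃)
    (c : G₃ ⟶ G₂ ⋙ G₁) [∀ M, IsIso (c.app M)] {A : C} {N₁ : D} {N₂ N₃ : E}
    (b₁ : A ⟶ G₁.obj N₁) (b₂ : N₁ ⟶ G₂.obj N₂) (b₃ : A ⟶ G₃.obj N₃) (t : N₂ ≅ N₃)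
    (hc : b₃ ≫ c.app N₃ = b₁ ≫ G₁.map b₂ ≫ G₁.map (G₂.map t.hom))
    (h1 : IsIso ((adj₁.homEquiv _ _).symm b₁)) (h2 : IsIso ((adj₂.homEquiv _ _).symm b₂)) :
    IsIso ((adj₃.homEquiv _ _).symm b₃) := by
  rw [isIso_transpose_iff] at h1 h2 ⊢
  have u := (h1.comp h2).of_iso_obj t
  have e : (b₁ ≫ G₁.map b₂) ≫ (G₂ ⋙ G₁).map t.hom = b₃ ≫ c.app N₃ := by
    rw [hc, Category.assoc]
    rfl
  rw [e] at u
  exact IsUniv.of_natTrans c u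

end Univ

end Groth.Agent.Lib.Helper15.BcVcomp
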