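import Mathlib
import Groth.Prelude.Def_EtBase
import Groth.Agent.Lib.Helper15.FinKLGeom
import Groth.Agent.Lib.Helper15.FinitePushExact

/-!
# The stalk of `f_* F` for a finite morphism `f`

For finite `f : X ⟶ Y`, an abelian étale sheaf `F` on `X` and a geometric point `η` of `Y` with
values in an algebraically closed field, `(f_* F)_η ≅ ∐_{ξ ↦ η} F_ξ`.
-/

set_option autoImplicit false
set_option backward.isDefEq.respectTransparency false
universe u

namespace Groth.Agent.Lib.Helper15.FinitePushStalk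

open CategoryTheory Limits AlgebraicGeometry Opposite
open Groth.Agent.Lib.Helper15

section maps

variable {X Y : Scheme.{u}} (f : X ⟶ Y) {Ω : Type u} [Field Ω] [IsSepClosed Ω]
  (η : Spec (CommRingCat.of Ω) ⟶ Y) (ξ : Spec (CommRingCat.of Ω) ⟶ X) (hξ : ξ ≫ f = η)

/-- The point of `X ×_Y V` over `ξ` and a point `v` of `V` over `η`. -/
noncomputable def liftPt (V : Y.Etale) (v : (Scheme.pointSmallEtale η).fiber.obj V) :
    (Scheme.pointSmallEtale ξ).fiber.obj ((EtCoh.bc f).obj V) :=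
  Over.homMk (pullback.lift v.left ξ (by rw [hξ]; exact Over.w v) :
    Spec (CommRingCat.of Ω) ⟶ pullback V.hom f) (pullback.lift_snd _ _ _)

lemma liftPt_left_fst (V : Y.Etale) (v : (Scheme.pointSmallEtale η).fiber.obj V) :
    (liftPt f η ξ hξ V v).left ≫ pullback.fst V.hom f = v.left := pullback.lift_fst _ _ _

lemma liftPt_left_snd (V : Y.Etale) (v : (Scheme.pointSmallEtale η).fiber.obj V) :
    (liftPt f η ξ hξ V v).left ≫ pullback.snd V.hom f = ξ := pullback.lift_snd _ _ _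

lemma fiber_ext {Z : X.Etale} (a b : (Scheme.pointSmallEtale ξ).fiber.obj Z)
    (h : a.left = b.left) : a = b := Over.OverMorphism.ext h

lemma fiber_map_left {Z Z' : X.Etale} (g : Z ⟶ Z') (a : (Scheme.pointSmallEtale ξ).fiber.obj Z) :
    ((Scheme.pointSmallEtale ξ).fiber.map g a).left = a.left ≫ g.left := rfl

lemma liftPt_map {V V' : Y.Etale} (g : V ⟶ V') (v : (Scheme.pointSmallEtale η).fiber.obj V) :
    (Scheme.pointSmallEtale ξ).fiber.map ((EtCoh.bc f).map g) (liftPt f η ξ hξ V v) =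
      liftPt f η ξ hξ V' ((Scheme.pointSmallEtale η).fiber.map g v) := by
  apply fiber_ext
  rw [fiber_map_left]
  apply pullback.hom_ext
  · rw [Category.assoc, FinitePushVanish.bc_map_fst, ← Category.assoc, liftPt_left_fst,
      liftPt_left_fst]
    rfl
  · rw [Category.assoc, FinitePushVanish.bc_map_snd, liftPt_left_snd, liftPt_left_snd]

/-- The comparison map `(f_* F)_η ⟶ F_ξ`. -/
noncomputable def toStalk (F : EtCoh.Ab X) :
    (Scheme.pointSmallEtale η).presheafFiber.obj ((EtCoh.push f).obj F).obj ⟶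
      (Scheme.pointSmallEtale ξ).presheafFiber.obj F.obj :=
  (Scheme.pointSmallEtale η).presheafFiberDesc
    (P := ((EtCoh.push f).obj F).obj)
    (fun V v => (Scheme.pointSmallEtale ξ).toPresheafFiber ((EtCoh.bc f).obj V)
      (liftPt f η ξ hξ V v) F.obj) (by
    intro V V' g v
    show F.obj.map ((EtCoh.bc f).map g).op ≫ _ = _
    rw [GrothendieckTopology.Point.toPresheafFiber_w, liftPt_map])

lemma toPresheafFiber_toStalk (F : EtCoh.Ab X) (V : Y.Etale)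
    (v : (Scheme.pointSmallEtale η).fiber.obj V) :
    (Scheme.pointSmallEtale η).toPresheafFiber V v ((EtCoh.push f).obj F).obj ≫
      toStalk f η ξ hξ F =
    (Scheme.pointSmallEtale ξ).toPresheafFiber ((EtCoh.bc f).obj V) (liftPt f η ξ hξ V v)
      F.obj := by
  unfold toStalk
  exact GrothendieckTopology.Point.toPresheafFiber_presheafFiberDesc _ _ _ V v

lemma toStalk_apply (F : EtCoh.Ab X) (V : Y.Etale) (v : (Scheme.pointSmallEtale η).fiber.obj V)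
    (s : F.obj.obj (op ((EtCoh.bc f).obj V))) :
    toStalk f η ξ hξ F ((Scheme.pointSmallEtale η).toPresheafFiber V v
      ((EtCoh.push f).obj F).obj s) =
    (Scheme.pointSmallEtale ξ).toPresheafFiber ((EtCoh.bc f).obj V) (liftPt f η ξ hξ V v)
      F.obj s :=
  (ConcreteCategory.comp_apply _ _ _).symm.trans (ConcreteCategory.congr_hom
    (toPresheafFiber_toStalk f η ξ hξ F V v) s)

/-- The canonical map from an étale `X`-scheme to `X ×_Y Y`. -/
noncomputable def gcan (U : X.Etale) : U ⟶ (EtCoh.bc f).obj (EtCoh.top Y) :=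
  MorphismProperty.Over.homMk (pullback.lift (U.hom ≫ f) U.hom (Category.comp_id _) :
    U.left ⟶ pullback (EtCoh.top Y).hom f) (pullback.lift_snd _ _ _)

lemma gcan_left_fst (U : X.Etale) :
    (gcan f U).left ≫ pullback.fst (EtCoh.top Y).hom f = U.hom ≫ f := pullback.lift_fst _ _ _

lemma gcan_left_snd (U : X.Etale) :
    (gcan f U).left ≫ pullback.snd (EtCoh.top Y).hom f = U.hom := pullback.lift_snd _ _ _

end maps

section main

variable {X Y : Scheme.{u}} (f : X ⟶ Y) [IsFinite f] {Ω : Type u} [Field Ω] [IsAlgClosed Ω]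
  (η : Spec (CommRingCat.of Ω) ⟶ Y)

theorem finite_lifts : Finite {ξ : Spec (CommRingCat.of Ω) ⟶ X // ξ ≫ f = η} := by
  obtain ⟨V', vh, hvh, a, v', κ, hκ, pt, W, m, wp, h1, h2, h3, h4, h5, h6, h7, h8⟩ :=
    FinKLGeom.exists_refinement f (EtCoh.top Y) η (fun _ => (EtCoh.bc f).obj (EtCoh.top Y))
      (fun _ => 𝟙 _) (fun ξ => ξ) (fun ξ _ => Category.comp_id ξ)
  have hl : ∀ ξ : {ξ : Spec (CommRingCat.of Ω) ⟶ X // ξ ≫ f = η}, ∃ k,
      pt k ≫ pullback.snd (EtCoh.top Y).hom f = ξ.1 := by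
    intro ξ
    obtain ⟨k, hk⟩ := h2 (pullback.lift η ξ.1 (by rw [ξ.2]; exact Category.comp_id η))
      (pullback.lift_fst _ _ _)
    exact ⟨k, by rw [hk]; exact pullback.lift_snd _ _ _⟩
  choose ι hι using hl
  refine Finite.of_injective ι ?_
  intro ξ ξ' h
  apply Subtype.ext
  rw [← hι ξ, ← hι ξ', h]

variable (F : EtCoh.Ab X)

set_option maxHeartbeats 1600000 in
theorem toStalk_injective (x : ToType ((Scheme.pointSmallEtale η).presheafFiber.obj
      ((EtCoh.push f).obj F).obj))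
    (hx : ∀ (ξ : Spec (CommRingCat.of Ω) ⟶ X) (hξ : ξ ≫ f = η), toStalk f η ξ hξ F x = 0) :
    x = 0 := by
  classical
  obtain ⟨V, v, s, rfl⟩ := (Scheme.pointSmallEtale η).toPresheafFiber_jointly_surjective x
  have h0 : ∀ ξ : {ξ : Spec (CommRingCat.of Ω) ⟶ X // ξ ≫ f = η},
      ∃ (Z : X.Etale) (g : Z ⟶ (EtCoh.bc f).obj V)
        (z : (Scheme.pointSmallEtale ξ.1).fiber.obj Z),
        (Scheme.pointSmallEtale ξ.1).fiber.map g z = liftPt f η ξ.1 ξ.2 V v ∧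
        F.obj.map g.op s = 0 := by
    intro ξ
    have h1 := hx ξ.1 ξ.2
    rw [toStalk_apply] at h1
    have h2 : (Scheme.pointSmallEtale ξ.1).toPresheafFiber ((EtCoh.bc f).obj V)
        (liftPt f η ξ.1 ξ.2 V v) F.obj s =
        (Scheme.pointSmallEtale ξ.1).toPresheafFiber ((EtCoh.bc f).obj V)
        (liftPt f η ξ.1 ξ.2 V v) F.obj 0 := h1.trans (map_zero _).symm
    obtain ⟨Z, g, z, hz, hg⟩ :=
      ((Scheme.pointSmallEtale ξ.1).toPresheafFiber_eq_iff' _ _ s 0).1 h2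
    exact ⟨Z, g, z, hz, hg.trans (map_zero _)⟩
  choose Z g z hz hs using h0
  obtain ⟨vl, hvl⟩ : ∃ vl : Spec (CommRingCat.of Ω) ⟶ V.left, vl = v.left := ⟨_, rfl⟩
  have hvη : vl ≫ V.hom = η := hvl ▸ Over.w v
  have hΞ : ∀ ξt : Spec (CommRingCat.of Ω) ⟶ ((EtCoh.bc f).obj V).left,
      ξt ≫ pullback.fst V.hom f = vl → (ξt ≫ pullback.snd V.hom f) ≫ f = η := by
    intro ξt h
    rw [Category.assoc, ← pullback.condition, ← Category.assoc, h, hvη]
  obtain ⟨D, hD⟩ : ∃ D : (Spec (CommRingCat.of Ω) ⟶ ((EtCoh.bc f).obj V).left) →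
      Σ Z : X.Etale, (Z ⟶ (EtCoh.bc f).obj V) × (Spec (CommRingCat.of Ω) ⟶ Z.left),
      ∀ ξt (h : ξt ≫ pullback.fst V.hom f = vl),
        D ξt = ⟨Z ⟨_, hΞ ξt h⟩, g ⟨_, hΞ ξt h⟩, (z ⟨_, hΞ ξt h⟩).left⟩ :=
    ⟨fun ξt => if h : ξt ≫ pullback.fst V.hom f = vl then
        ⟨Z ⟨_, hΞ ξt h⟩, g ⟨_, hΞ ξt h⟩, (z ⟨_, hΞ ξt h⟩).left⟩
      else ⟨(EtCoh.bc f).obj V, 𝟙 _, ξt⟩, fun ξt h => dif_pos h⟩
  have hDa : ∀ ξt, ξt ≫ pullback.fst V.hom f = vl → (D ξt).2.2 ≫ (D ξt).2.1.left = ξt := by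
    intro ξt h
    rw [hD ξt h]
    have e1 := congrArg (fun w => w.left) (hz ⟨_, hΞ ξt h⟩)
    have e2 : (z ⟨_, hΞ ξt h⟩).left ≫ (g ⟨_, hΞ ξt h⟩).left =
        (liftPt f η _ (hΞ ξt h) V v).left := e1
    refine e2.trans ?_
    apply pullback.hom_ext
    · rw [liftPt_left_fst, h, hvl]
    · rw [liftPt_left_snd]
  have hDb : ∀ ξt, ξt ≫ pullback.fst V.hom f = vl → F.obj.map (D ξt).2.1.op s = 0 := by
    intro ξt h
    rw [hD ξt h]
    exact hs _
  obtain ⟨V', vh, hvh, a, v', κ, hκ, pt, W, m, wp, h1, h2, h3, h4, h5, h6, h7, h8⟩ :=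
    FinKLGeom.exists_refinement f V vl (fun ξt => (D ξt).1) (fun ξt => (D ξt).2.1)
      (fun ξt => (D ξt).2.2) hDa
  have hv'η : v' ≫ vh = η := by
    have e1 : a.left ≫ V.hom = vh := MorphismProperty.Over.w a
    rw [← e1, ← Category.assoc, h1, hvη]
  obtain ⟨v'pt, hv'pt⟩ : ∃ v'pt : (Scheme.pointSmallEtale η).fiber.obj (Scheme.Etale.mk vh),
      v'pt.left = v' := ⟨Over.homMk v' hv'η, rfl⟩
  have hmapv : (Scheme.pointSmallEtale η).fiber.map a v'pt = v := by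
    apply Over.OverMorphism.ext
    show v'pt.left ≫ a.left = v.left
    rw [hv'pt, h1, hvl]
  have hzero : ((EtCoh.push f).obj F).obj.map a.op s = 0 := by
    show F.obj.map ((EtCoh.bc f).map a).op s = 0
    apply EtGlue.eq_of_locally_ab F
    intro p
    obtain ⟨k, hk⟩ := h5 ((pullbackSymmetry vh f).hom p)
    obtain ⟨q, hq⟩ := EtGlue.exists_pieceι_eq f vh (W k) p hk
    refine ⟨_, EtGlue.pieceι f vh (W k), q, hq, ?_⟩
    rw [map_zero, ← EtGlue.ab_map_comp, ← op_comp, ← h6 k, op_comp, EtGlue.ab_map_comp,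
      hDb (pt k) (h3 k), map_zero]
  rw [← hmapv, ← GrothendieckTopology.Point.toPresheafFiber_w_apply, hzero, map_zero]

set_option maxHeartbeats 1600000 in
theorem toStalk_surjective
    (y : ∀ ξ : {ξ : Spec (CommRingCat.of Ω) ⟶ X // ξ ≫ f = η},
      ToType ((Scheme.pointSmallEtale ξ.1).presheafFiber.obj F.obj)) :
    ∃ x : ToType ((Scheme.pointSmallEtale η).presheafFiber.obj ((EtCoh.push f).obj F).obj),
      ∀ ξ : {ξ : Spec (CommRingCat.of Ω) ⟶ X // ξ ≫ f = η}, toStalk f η ξ.1 ξ.2 F x = y ξ := by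
  classical
  have h0 : ∀ ξ : {ξ : Spec (CommRingCat.of Ω) ⟶ X // ξ ≫ f = η},
      ∃ (U : X.Etale) (u : (Scheme.pointSmallEtale ξ.1).fiber.obj U) (t : F.obj.obj (op U)),
        (Scheme.pointSmallEtale ξ.1).toPresheafFiber U u F.obj t = y ξ := fun ξ =>
    (Scheme.pointSmallEtale ξ.1).toPresheafFiber_jointly_surjective (y ξ)
  choose U u t ht using h0
  have hΞ : ∀ ξt : Spec (CommRingCat.of Ω) ⟶ ((EtCoh.bc f).obj (EtCoh.top Y)).left,
      ξt ≫ pullback.fst (EtCoh.top Y).hom f = η →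
        (ξt ≫ pullback.snd (EtCoh.top Y).hom f) ≫ f = η := by
    intro ξt h
    rw [Category.assoc, ← pullback.condition, ← Category.assoc, h]
    exact Category.comp_id η
  obtain ⟨D, hD⟩ : ∃ D : (Spec (CommRingCat.of Ω) ⟶
      ((EtCoh.bc f).obj (EtCoh.top Y)).left) →
      Σ Z : X.Etale, (Z ⟶ (EtCoh.bc f).obj (EtCoh.top Y)) ×
        (Spec (CommRingCat.of Ω) ⟶ Z.left) × (F.obj.obj (op Z) : Type (u + 1)),
      ∀ ξt (h : ξt ≫ pullback.fst (EtCoh.top Y).hom f = η),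
        D ξt = ⟨U ⟨_, hΞ ξt h⟩, gcan f (U ⟨_, hΞ ξt h⟩), (u ⟨_, hΞ ξt h⟩).left,
          t ⟨_, hΞ ξt h⟩⟩ :=
    ⟨fun ξt => if h : ξt ≫ pullback.fst (EtCoh.top Y).hom f = η then
        ⟨U ⟨_, hΞ ξt h⟩, gcan f (U ⟨_, hΞ ξt h⟩), (u ⟨_, hΞ ξt h⟩).left, t ⟨_, hΞ ξt h⟩⟩
      else ⟨(EtCoh.bc f).obj (EtCoh.top Y), 𝟙 _, ξt, 0⟩, fun ξt h => dif_pos h⟩
  have hDa : ∀ ξt, ξt ≫ pullback.fst (EtCoh.top Y).hom f = η →
      (D ξt).2.2.1 ≫ (D ξt).2.1.left = ξt := by
    intro ξt h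
    rw [hD ξt h]
    have e1 : (u ⟨_, hΞ ξt h⟩).left ≫ (U ⟨_, hΞ ξt h⟩).hom = ξt ≫ pullback.snd _ _ :=
      Over.w (u ⟨_, hΞ ξt h⟩)
    apply pullback.hom_ext
    · show ((u ⟨_, hΞ ξt h⟩).left ≫ (gcan f (U ⟨_, hΞ ξt h⟩)).left) ≫ _ = _
      rw [Category.assoc, gcan_left_fst, ← Category.assoc, e1, hΞ ξt h, h]
    · show ((u ⟨_, hΞ ξt h⟩).left ≫ (gcan f (U ⟨_, hΞ ξt h⟩)).left) ≫ _ = _
      rw [Category.assoc, gcan_left_snd, e1]
  obtain ⟨V', vh, hvh, a, v', κ, hκ, pt, W, m, wp, h1, h2, h3, h4, h5, h6, h7, h8⟩ :=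
    FinKLGeom.exists_refinement f (EtCoh.top Y) η (fun ξt => (D ξt).1) (fun ξt => (D ξt).2.1)
      (fun ξt => (D ξt).2.2.1) hDa
  have hv'η : v' ≫ vh = η := by
    have e1 : a.left ≫ (EtCoh.top Y).hom = vh := MorphismProperty.Over.w a
    rw [← e1, ← Category.assoc, h1]
    exact Category.comp_id η
  obtain ⟨v'pt, hv'pt⟩ : ∃ v'pt : (Scheme.pointSmallEtale η).fiber.obj (Scheme.Etale.mk vh),
      v'pt.left = v' := ⟨Over.homMk v' hv'η, rfl⟩
  have hcov' : ∀ p : ((EtCoh.bc f).obj (Scheme.Etale.mk vh)).left, ∃ k q,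
      (EtGlue.pieceι f vh (W k)).left q = p := fun p => by
    obtain ⟨k, hk⟩ := h5 ((pullbackSymmetry vh f).hom p)
    obtain ⟨q, hq⟩ := EtGlue.exists_pieceι_eq f vh (W k) p hk
    exact ⟨k, q, hq⟩
  obtain ⟨tt, htt, -⟩ := EtGlue.glueAb F (fun k => EtGlue.piece f vh (W k))
    (fun k => EtGlue.pieceι f vh (W k)) (fun k => inferInstance)
    (fun k l hkl p q => EtGlue.pieceι_ne f vh (h4 k l hkl) p q) hcov'
    (fun k => F.obj.map (m k).op (D (pt k)).2.2.2)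
  refine ⟨(Scheme.pointSmallEtale η).toPresheafFiber (Scheme.Etale.mk vh) v'pt
    ((EtCoh.push f).obj F).obj tt, ?_⟩
  intro ξ
  rw [toStalk_apply]
  -- the piece containing the point over `ξ`
  obtain ⟨ξt, hξt1, hξt2⟩ : ∃ ξt : Spec (CommRingCat.of Ω) ⟶
      ((EtCoh.bc f).obj (EtCoh.top Y)).left,
      ξt ≫ pullback.fst (EtCoh.top Y).hom f = η ∧
      ξt ≫ pullback.snd (EtCoh.top Y).hom f = ξ.1 :=
    ⟨pullback.lift η ξ.1 (by rw [ξ.2]; exact Category.comp_id η), pullback.lift_fst _ _ _,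
      pullback.lift_snd _ _ _⟩
  obtain ⟨k, hk⟩ := h2 ξt hξt1
  have hξeq : (⟨_, hΞ ξt hξt1⟩ : {ξ : Spec (CommRingCat.of Ω) ⟶ X // ξ ≫ f = η}) = ξ :=
    Subtype.ext hξt2
  have hDk : D (pt k) = ⟨U ξ, gcan f (U ξ), (u ξ).left, t ξ⟩ := by
    rw [hk, hD ξt hξt1]
    exact congrArg (fun ξ' : {ξ : Spec (CommRingCat.of Ω) ⟶ X // ξ ≫ f = η} =>
      (⟨U ξ', gcan f (U ξ'), (u ξ').left, t ξ'⟩ : Σ Z : X.Etale,
        (Z ⟶ (EtCoh.bc f).obj (EtCoh.top Y)) ×
        (Spec (CommRingCat.of Ω) ⟶ Z.left) × (F.obj.obj (op Z) : Type (u + 1)))) hξeq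
  have key : ∀ (d : Σ Z : X.Etale, (Z ⟶ (EtCoh.bc f).obj (EtCoh.top Y)) ×
      (Spec (CommRingCat.of Ω) ⟶ Z.left) × (F.obj.obj (op Z) : Type (u + 1))),
      d = ⟨U ξ, gcan f (U ξ), (u ξ).left, t ξ⟩ →
      ∀ (P : X.Etale) (mm : P ⟶ d.1) (wl : Spec (CommRingCat.of Ω) ⟶ P.left),
        wl ≫ mm.left = d.2.2.1 →
        ∃ w : (Scheme.pointSmallEtale ξ.1).fiber.obj P, w.left = wl ∧
          (Scheme.pointSmallEtale ξ.1).toPresheafFiber P w F.obj (F.obj.map mm.op d.2.2.2) =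
            y ξ := by
    rintro _ rfl P mm wl hwl
    have e1 : wl ≫ P.hom = ξ.1 := by
      have e2 : mm.left ≫ (U ξ).hom = P.hom := MorphismProperty.Over.w mm
      have e3 : (u ξ).left ≫ (U ξ).hom = ξ.1 := Over.w (u ξ)
      rw [← e2, ← Category.assoc, hwl, e3]
    refine ⟨Over.homMk wl e1, rfl, ?_⟩
    rw [GrothendieckTopology.Point.toPresheafFiber_w_apply]
    have e4 : (Scheme.pointSmallEtale ξ.1).fiber.map mm (Over.homMk wl e1) = u ξ := by
      apply Over.OverMorphism.ext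
      exact hwl
    rw [e4]
    exact ht ξ
  obtain ⟨w, hw1, hw2⟩ := key (D (pt k)) hDk (EtGlue.piece f vh (W k)) (m k) (wp k) (h7 k)
  have hwmap : (Scheme.pointSmallEtale ξ.1).fiber.map (EtGlue.pieceι f vh (W k)) w =
      liftPt f η ξ.1 ξ.2 (Scheme.Etale.mk vh) v'pt := by
    apply Over.OverMorphism.ext
    show w.left ≫ (EtGlue.pieceι f vh (W k)).left = _
    apply pullback.hom_ext
    · have h8' : wp k ≫ (EtGlue.pieceι f vh (W k)).left ≫
          pullback.fst (Scheme.Etale.mk vh).hom f = v' := h8 k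
      rw [liftPt_left_fst, hw1, Category.assoc, h8', hv'pt]
    · rw [liftPt_left_snd, Category.assoc]
      have e5 : (EtGlue.pieceι f vh (W k)).left ≫ pullback.snd (Scheme.Etale.mk vh).hom f =
          (EtGlue.piece f vh (W k)).hom := MorphismProperty.Over.w (EtGlue.pieceι f vh (W k))
      rw [e5]
      exact Over.w w
  rw [← hwmap, ← GrothendieckTopology.Point.toPresheafFiber_w_apply, htt k]
  exact hw2

theorem stalk_push_iso : Nonempty ((EtCoh.stalk η).obj ((EtCoh.push f).obj F) ≅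
    ∐ fun ξ : {ξ : Spec (CommRingCat.of Ω) ⟶ X // ξ ≫ f = η} => (EtCoh.stalk ξ.1).obj F) := by
  haveI := finite_lifts f η
  obtain ⟨N, hN⟩ : ∃ N : {ξ : Spec (CommRingCat.of Ω) ⟶ X // ξ ≫ f = η} →
      AddCommGrpCat.{u + 1}, N = fun ξ => (EtCoh.stalk ξ.1).obj F := ⟨_, rfl⟩
  subst hN
  obtain ⟨Ψ, hΨ⟩ : ∃ Ψ : (EtCoh.stalk η).obj ((EtCoh.push f).obj F) ⟶
      AddCommGrpCat.of (∀ ξ : {ξ : Spec (CommRingCat.of Ω) ⟶ X // ξ ≫ f = η},
        (EtCoh.stalk ξ.1).obj F),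
      ∀ x ξ, Ψ x ξ = toStalk f η ξ.1 ξ.2 F x :=
    ⟨AddCommGrpCat.ofHom
      { toFun := fun x ξ => toStalk f η ξ.1 ξ.2 F x
        map_zero' := by
          funext ξ
          exact map_zero _
        map_add' := fun a b => by
          funext ξ
          exact map_add _ a b }, fun x ξ => rfl⟩
  have hbij : Function.Bijective Ψ := by
    constructor
    · intro a b hab
      have h1 : a - b = 0 := by
        apply toStalk_injective f η F
        intro ξ hξ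
        have h2 := congrFun hab ⟨ξ, hξ⟩
        rw [hΨ, hΨ] at h2
        rw [map_sub, h2, sub_self]
      exact sub_eq_zero.1 h1
    · intro y
      obtain ⟨x, hx⟩ := toStalk_surjective f η F y
      refine ⟨x, ?_⟩
      funext ξ
      rw [hΨ]
      exact hx ξ
  haveI : IsIso Ψ := (ConcreteCategory.isIso_iff_bijective Ψ).2 hbij
  exact ⟨asIso Ψ ≪≫
    (IsLimit.conePointUniqueUpToIso (AddCommGrpCat.HasLimit.productLimitCone.{u, u + 1} _).isLimit
      (biproduct.isLimit _)) ≪≫ biproduct.isoCoproduct _⟩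

end main

end Groth.Agent.Lib.Helper15.FinitePushStalk
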