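import Mathlib
import Groth.Prelude.Def_EtBase
import Groth.Agent.Lib.Helper13.StalkPull
import Groth.Agent.Lib.Helper15.FinitePushStalk

/-!
# The stalk isomorphism `(f⁻¹ G)_ξ ≅ G_{f ξ}` on germs

* `Gen.toPresheafFiber_sheafFiberComapIso`: Mathlib's `sheafFiberComapIso` sends the germ of a
  section `s` to the germ of `unit s`.
* `toPresheafFiber_stalkPullIso_inv`: the same for helper13's `stalkPullIso` on the small étale
  site: `germ_{(V, v)} s ↦ germ_{(V ×_Y X, lift v)} (unit s)`.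
* `toPresheafFiber_stalkPullIso_inv_adj`: the stalk at `ξ` of the adjoint of
  `a : G ⟶ f_* H` sends `germ_{(V, v)} s` to `germ_{(V ×_Y X, lift v)} (a s)`.
* `pullGerm`: the isomorphism `G_ξ ≅ (f⁻¹ G)_{ξ'}` for `ξ' ≫ f = ξ`.
-/

set_option autoImplicit false
set_option backward.isDefEq.respectTransparency false
universe w v u

namespace Groth.Agent.Lib.Helper15.StalkPullGerm

open CategoryTheory Limits Opposite AlgebraicGeometry
open Groth.Agent.Lib.Helper13.StalkPull Groth.Agent.Lib.Helper15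

namespace Gen

variable {C : Type*} [Category* C] {J : GrothendieckTopology C}
  (Φ : GrothendieckTopology.Point.{w} J) {A : Type*} [Category.{v} A]
  [HasProducts.{w} A] [HasColimitsOfSize.{w, w} A]

lemma unit_app_π (G : Sheaf J A) (X : C) (x : Φ.fiber.obj X) :
    (Φ.skyscraperSheafAdjunction.unit.app G).hom.app (op X) ≫
      Pi.π (fun (_ : Φ.fiber.obj X) => Φ.sheafFiber.obj G) x =
    Φ.toPresheafFiber X x G.obj := by
  have h1 : Φ.skyscraperSheafAdjunction.unit.app G =
      Φ.skyscraperSheafAdjunction.homEquiv G _ (𝟙 _) := (Adjunction.homEquiv_id _ _).symm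
  have h2 := Φ.skyscraperSheafAdjunction_homEquiv_apply_hom (F := G) (𝟙 _)
  have h3 : (Φ.skyscraperSheafAdjunction.unit.app G).hom =
      Φ.skyscraperPresheafHomEquiv (𝟙 (Φ.presheafFiber.obj G.obj)) := by
    rw [h1]; exact h2
  calc _ = (Φ.skyscraperPresheafHomEquiv (𝟙 (Φ.presheafFiber.obj G.obj))).app (op X) ≫
        Pi.π _ x :=
      congrArg (fun t : G.obj ⟶ Φ.skyscraperPresheaf (Φ.presheafFiber.obj G.obj) =>
        t.app (op X) ≫ Pi.π _ x) h3
    _ = _ := (Φ.skyscraperPresheafHomEquiv_app_π (𝟙 _) X x).trans (Category.comp_id _)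

variable {D : Type*} [Category* D] {K : GrothendieckTopology D}
  (Ψ : GrothendieckTopology.Point.{w} K) (F : C ⥤ D) [RepresentablyFlat F]
  (hF : CoverPreserving J K F) [InitiallySmall (F ⋙ Ψ.fiber).Elements]
  [Functor.IsContinuous F J K] [(F.sheafPushforwardContinuous A J K).IsRightAdjoint]

/-- `sheafFiberComapIso` sends the germ of `s` at `x` to the germ of `unit s` at `x`. -/
lemma toPresheafFiber_sheafFiberComapIso (G : Sheaf J A) (X : C) (x : Ψ.fiber.obj (F.obj X)) :
    (Ψ.comap F hF).toPresheafFiber X x G.obj ≫ (Ψ.sheafFiberComapIso F hF A).hom.app G =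
    ((F.sheafAdjunctionContinuous A J K).unit.app G).hom.app (op X) ≫
      Ψ.toPresheafFiber (F.obj X) x ((F.sheafPullback A J K).obj G).obj := by
  have key := unit_conjugateEquiv_symm
    ((F.sheafAdjunctionContinuous A J K).comp Ψ.skyscraperSheafAdjunction)
    (Ψ.comap F hF).skyscraperSheafAdjunction
    (Ψ.skyscraperSheafFunctorCompSheafPushforwardContinuous F hF A).hom G
  have he : (Ψ.sheafFiberComapIso F hF A).hom = (conjugateEquiv
      ((F.sheafAdjunctionContinuous A J K).comp Ψ.skyscraperSheafAdjunction)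
      (Ψ.comap F hF).skyscraperSheafAdjunction).symm
      (Ψ.skyscraperSheafFunctorCompSheafPushforwardContinuous F hF A).hom := rfl
  rw [← he] at key
  have key2 := congrArg (fun t => t.hom.app (op X) ≫
    Pi.π (fun (_ : Ψ.fiber.obj (F.obj X)) => Ψ.sheafFiber.obj ((F.sheafPullback A J K).obj G)) x) key
  have hL : (((F.sheafAdjunctionContinuous A J K).comp Ψ.skyscraperSheafAdjunction).unit.app G ≫
      (Ψ.skyscraperSheafFunctorCompSheafPushforwardContinuous F hF A).hom.app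
        ((F.sheafPullback A J K ⋙ Ψ.sheafFiber).obj G)).hom.app (op X) ≫
      Pi.π (fun (_ : Ψ.fiber.obj (F.obj X)) =>
        Ψ.sheafFiber.obj ((F.sheafPullback A J K).obj G)) x =
      ((F.sheafAdjunctionContinuous A J K).unit.app G).hom.app (op X) ≫
        Ψ.toPresheafFiber (F.obj X) x ((F.sheafPullback A J K).obj G).obj := by
    have hb : ((F.sheafAdjunctionContinuous A J K).comp Ψ.skyscraperSheafAdjunction).unit.app G ≫
        (Ψ.skyscraperSheafFunctorCompSheafPushforwardContinuous F hF A).hom.app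
        ((F.sheafPullback A J K ⋙ Ψ.sheafFiber).obj G) =
        ((F.sheafAdjunctionContinuous A J K).comp Ψ.skyscraperSheafAdjunction).unit.app G :=
      Category.comp_id _
    rw [hb, Adjunction.comp_unit_app]
    show (((F.sheafAdjunctionContinuous A J K).unit.app G).hom.app (op X) ≫
      (Ψ.skyscraperSheafAdjunction.unit.app ((F.sheafPullback A J K).obj G)).hom.app
        (op (F.obj X))) ≫ _ = _
    rw [Category.assoc, unit_app_π]
  have hR : ((Ψ.comap F hF).skyscraperSheafAdjunction.unit.app G ≫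
      (Ψ.comap F hF).skyscraperSheafFunctor.map
        ((Ψ.sheafFiberComapIso F hF A).hom.app G)).hom.app (op X) ≫
      Pi.π (fun (_ : Ψ.fiber.obj (F.obj X)) =>
        Ψ.sheafFiber.obj ((F.sheafPullback A J K).obj G)) x =
      (Ψ.comap F hF).toPresheafFiber X x G.obj ≫ (Ψ.sheafFiberComapIso F hF A).hom.app G := by
    show (((Ψ.comap F hF).skyscraperSheafAdjunction.unit.app G).hom.app (op X) ≫
      Limits.Pi.map (fun (_ : Ψ.fiber.obj (F.obj X)) =>
        (Ψ.sheafFiberComapIso F hF A).hom.app G)) ≫ _ = _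
    have hp : Limits.Pi.map (fun (_ : Ψ.fiber.obj (F.obj X)) =>
        (Ψ.sheafFiberComapIso F hF A).hom.app G) ≫ Pi.π _ x =
        Pi.π _ x ≫ (Ψ.sheafFiberComapIso F hF A).hom.app G := Limits.Pi.map_π _ x
    exact (Category.assoc _ _ _).trans ((congrArg
      (((Ψ.comap F hF).skyscraperSheafAdjunction.unit.app G).hom.app (op X) ≫ ·) hp).trans
      ((Category.assoc _ _ _).symm.trans
        (congrArg (· ≫ (Ψ.sheafFiberComapIso F hF A).hom.app G)
          (unit_app_π (Ψ.comap F hF) G X x))))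
  rw [← hR, ← hL]
  exact key2.symm

end Gen

section

variable {X Y : Scheme.{u}} (f : X ⟶ Y) {Ω : Type u} [Field Ω] [IsSepClosed Ω]
  (ξ : Spec (CommRingCat.of Ω) ⟶ X)

lemma fiberIso_hom_left (V : Y.Etale)
    (w : (Scheme.pointSmallEtale ξ).fiber.obj ((EtCoh.bc f).obj V)) :
    ((fiberIso f ξ).hom.app V w).left = w.left ≫ pullback.fst V.hom f := by
  rfl

lemma fiberIso_inv_app (V : Y.Etale) (v : (Scheme.pointSmallEtale (ξ ≫ f)).fiber.obj V) :
    (fiberIso f ξ).inv.app V v = FinitePushStalk.liftPt f (ξ ≫ f) ξ rfl V v := by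
  have h1 : (fiberIso f ξ).hom.app V (FinitePushStalk.liftPt f (ξ ≫ f) ξ rfl V v) = v := by
    apply FinitePushStalk.fiber_ext
    rw [fiberIso_hom_left]
    exact FinitePushStalk.liftPt_left_fst f (ξ ≫ f) ξ rfl V v
  have h2 : (fiberIso f ξ).inv.app V ((fiberIso f ξ).hom.app V
      (FinitePushStalk.liftPt f (ξ ≫ f) ξ rfl V v)) =
      FinitePushStalk.liftPt f (ξ ≫ f) ξ rfl V v := by
    rw [← types_comp_apply ((fiberIso f ξ).hom.app V) ((fiberIso f ξ).inv.app V),
      ← NatTrans.comp_app, Iso.hom_inv_id]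
    rfl
  rw [← h2, h1]

instance hsmall : InitiallySmall.{u} (EtCoh.bc f ⋙ (Scheme.pointSmallEtale ξ).fiber).Elements :=
  initiallySmall_of_initial_of_initiallySmall (elementsEquivOfIso (fiberIso f ξ)).inverse

/-- helper13's `stalkPullIso f ξ` (inverse direction) sends the germ of `s ∈ G(V)` at `v` to the
germ of `unit s ∈ (f⁻¹ G)(V ×_Y X)` at the lifted point. -/
theorem toPresheafFiber_stalkPullIso_inv (G : EtCoh.Ab Y) (V : Y.Etale)
    (v : (Scheme.pointSmallEtale (ξ ≫ f)).fiber.obj V) :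
    (Scheme.pointSmallEtale (ξ ≫ f)).toPresheafFiber V v G.obj ≫ (stalkPullIso f ξ).inv.app G =
    ((EtCoh.pullPushAdj f).unit.app G).hom.app (op V) ≫
      (Scheme.pointSmallEtale ξ).toPresheafFiber ((EtCoh.bc f).obj V)
        (FinitePushStalk.liftPt f (ξ ≫ f) ξ rfl V v) ((EtCoh.pull f).obj G).obj := by
  have h0 : (stalkPullIso f ξ).inv.app G =
      (GrothendieckTopology.Point.Hom.presheafFiber
        (⟨(fiberIso f ξ).inv⟩ : (Scheme.pointSmallEtale ξ).comap (EtCoh.bc f)
          (EtCoh.coverPreserving_bc f) ⟶ Scheme.pointSmallEtale (ξ ≫ f))).app G.obj ≫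
      ((Scheme.pointSmallEtale ξ).sheafFiberComapIso (EtCoh.bc f)
        (EtCoh.coverPreserving_bc f) AddCommGrpCat.{u+1}).hom.app G := rfl
  rw [h0, ← Category.assoc]
  have h1 : (Scheme.pointSmallEtale (ξ ≫ f)).toPresheafFiber V v G.obj ≫
      (GrothendieckTopology.Point.Hom.presheafFiber
        (⟨(fiberIso f ξ).inv⟩ : (Scheme.pointSmallEtale ξ).comap (EtCoh.bc f)
          (EtCoh.coverPreserving_bc f) ⟶ Scheme.pointSmallEtale (ξ ≫ f))).app G.obj =
      ((Scheme.pointSmallEtale ξ).comap (EtCoh.bc f)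
          (EtCoh.coverPreserving_bc f)).toPresheafFiber V
        (FinitePushStalk.liftPt f (ξ ≫ f) ξ rfl V v) G.obj := by
    rw [← fiberIso_inv_app]
    exact GrothendieckTopology.Point.toPresheafFiber_presheafFiberDesc
      (A := AddCommGrpCat.{u+1}) _ _ _ V v
  rw [h1]
  exact Gen.toPresheafFiber_sheafFiberComapIso (Scheme.pointSmallEtale ξ) (EtCoh.bc f)
    (EtCoh.coverPreserving_bc f) G V (FinitePushStalk.liftPt f (ξ ≫ f) ξ rfl V v)

/-- The stalk at `ξ` of the adjoint `f⁻¹ G ⟶ H` of `a : G ⟶ f_* H`, precomposed with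
`G_{fξ} ≅ (f⁻¹ G)_ξ`, sends the germ of `s` at `v` to the germ of `a s` at the lifted point. -/
theorem toPresheafFiber_stalkPullIso_inv_adj (G : EtCoh.Ab Y) (H : EtCoh.Ab X)
    (a : G ⟶ (EtCoh.push f).obj H) (V : Y.Etale)
    (v : (Scheme.pointSmallEtale (ξ ≫ f)).fiber.obj V) :
    (Scheme.pointSmallEtale (ξ ≫ f)).toPresheafFiber V v G.obj ≫ (stalkPullIso f ξ).inv.app G ≫
      (EtCoh.stalk ξ).map (((EtCoh.pullPushAdj f).homEquiv G H).symm a) =
    a.hom.app (op V) ≫ (Scheme.pointSmallEtale ξ).toPresheafFiber ((EtCoh.bc f).obj V)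
        (FinitePushStalk.liftPt f (ξ ≫ f) ξ rfl V v) H.obj := by
  rw [reassoc_of% (toPresheafFiber_stalkPullIso_inv f ξ G V v)]
  have hnat := (Scheme.pointSmallEtale ξ).toPresheafFiber_naturality
    (((EtCoh.pullPushAdj f).homEquiv G H).symm a).hom ((EtCoh.bc f).obj V)
    (FinitePushStalk.liftPt f (ξ ≫ f) ξ rfl V v)
  have hstalk : (EtCoh.stalk ξ).map (((EtCoh.pullPushAdj f).homEquiv G H).symm a) =
      (Scheme.pointSmallEtale ξ).presheafFiber.map
        (((EtCoh.pullPushAdj f).homEquiv G H).symm a).hom := rfl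
  rw [hstalk, hnat, ← Category.assoc]
  have hu : a = (EtCoh.pullPushAdj f).unit.app G ≫
      (EtCoh.push f).map (((EtCoh.pullPushAdj f).homEquiv G H).symm a) := by
    exact (((EtCoh.pullPushAdj f).homEquiv G H).apply_symm_apply a).symm.trans
      ((EtCoh.pullPushAdj f).homEquiv_unit _ _ _)
  have hu2 : a.hom.app (op V) = ((EtCoh.pullPushAdj f).unit.app G).hom.app (op V) ≫
      (((EtCoh.pullPushAdj f).homEquiv G H).symm a).hom.app (op ((EtCoh.bc f).obj V)) :=
    congrArg (fun t => t.hom.app (op V)) hu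
  rw [← hu2]

end

section

variable {X X' : Scheme.{u}} (g' : X' ⟶ X) {Ω : Type u} [Field Ω] [IsSepClosed Ω]

/-- The isomorphism `F_ξ ≅ (g'⁻¹ F)_{ξ'}` for `ξ' ≫ g' = ξ`. -/
noncomputable def pullGerm {ξ' : Spec (CommRingCat.of Ω) ⟶ X'} {ξ : Spec (CommRingCat.of Ω) ⟶ X}
    (h1 : ξ' ≫ g' = ξ) (F : EtCoh.Ab X) :
    (EtCoh.stalk ξ).obj F ⟶ (EtCoh.stalk ξ').obj ((EtCoh.pull g').obj F) := by
  subst h1
  exact (stalkPullIso g' ξ').inv.app F

lemma pullGerm_rfl (ξ' : Spec (CommRingCat.of Ω) ⟶ X') (F : EtCoh.Ab X) :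
    pullGerm g' (rfl : ξ' ≫ g' = ξ' ≫ g') F = (stalkPullIso g' ξ').inv.app F := rfl

lemma pullGerm_bijective {ξ' : Spec (CommRingCat.of Ω) ⟶ X'} {ξ : Spec (CommRingCat.of Ω) ⟶ X}
    (h1 : ξ' ≫ g' = ξ) (F : EtCoh.Ab X) : Function.Bijective (pullGerm g' h1 F) := by
  subst h1
  rw [pullGerm_rfl]
  exact ConcreteCategory.bijective_of_isIso _

end

end Groth.Agent.Lib.Helper15.StalkPullGerm
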