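import Mathlib
import Groth.Prelude.Def_EtBase
import Groth.Prelude.Def_PBC
import Groth.Agent.Lib.Helper13.StalkPull
import Groth.Agent.Lib.Helper13.StalkConservative
import Groth.Agent.Lib.Helper15.FinitePushStalk
import Groth.Agent.Lib.Helper15.FinitePushExact
import Groth.Agent.Lib.Helper15.StalkPullGerm

/-!
# Base change for finite morphisms

For a cartesian square with `f` finite, the base change map `g⁻¹ f_* F ⟶ f'_* g'⁻¹ F` is an
isomorphism; consequently cohomology commutes with base change for finite morphisms.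
-/

set_option autoImplicit false
set_option backward.isDefEq.respectTransparency false
universe u

namespace Groth.Agent.Lib.Helper15.FinitePushBC

open CategoryTheory Limits Opposite AlgebraicGeometry
open Groth.Agent.Lib.Helper13.StalkPull Groth.Agent.Lib.Helper13 Groth.Agent.Lib.Helper15

section AlgPoints

/-- A geometric point with values in an algebraically closed field. -/
structure AGeomPt (X : Scheme.{u}) where
  Ω : Type u
  [field : Field Ω]
  [algClosed : IsAlgClosed Ω]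
  ξ : Spec (CommRingCat.of Ω) ⟶ X

attribute [instance] AGeomPt.field AGeomPt.algClosed

/-- The point of the small etale site attached to a geometric point. -/
noncomputable abbrev AGeomPt.pt {X : Scheme.{u}} (i : AGeomPt X) :
    GrothendieckTopology.Point.{u} X.smallEtaleTopology := Scheme.pointSmallEtale i.ξ

lemma detectsCovers_alg (X : Scheme.{u}) :
    StalkConservative.DetectsCovers (fun i : AGeomPt X => i.pt) := by
  intro U R hR
  obtain ⟨α, T, f, rfl⟩ := R.exists_eq_ofArrows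
  rw [Scheme.ofArrows_mem_smallEtaleTopology_iff]
  ext x
  simp only [Set.mem_iUnion, Set.mem_range, Set.mem_univ, iff_true]
  obtain ⟨i, hi⟩ : ∃ i : AGeomPt X, i.ξ default = U.hom x :=
    ⟨{ Ω := AlgebraicClosure (X.residueField (U.hom x))
       ξ := (Scheme.SpecToEquivOfField (AlgebraicClosure (X.residueField (U.hom x))) _).2
        ⟨U.hom x, CommRingCat.ofHom (algebraMap (X.residueField (U.hom x)) _)⟩ },
      by simp [Scheme.SpecToEquivOfField]⟩
  obtain ⟨x', hx'⟩ := Scheme.pointSmallEtaleFiberObjToPreimage_surjective i.ξ hi U ⟨x, by simp⟩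
  rw [Subtype.ext_iff] at hx'
  simp only [Functor.id_obj, Scheme.pointSmallEtaleFiberObjToPreimage_coe,
    Scheme.Etale.forget_obj_left] at hx'
  subst hx'
  obtain ⟨W, g, ⟨Z, p, _, ⟨a⟩, rfl⟩, y, rfl⟩ := hR i x'
  exact ⟨a, (Scheme.pointSmallEtaleFiberObjToPreimage i.ξ hi (y ≫ p.hom)).1, rfl⟩

/-- A morphism of abelian étale sheaves is an isomorphism if it is so on the stalks at all
geometric points with values in algebraically closed fields. -/
theorem isIso_of_stalks_alg {X : Scheme.{u}} {F G : EtCoh.Ab X} (a : F ⟶ G)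
    (h : ∀ (Ω : Type u) [Field Ω] [IsAlgClosed Ω] (ξ : Spec (CommRingCat.of Ω) ⟶ X),
      IsIso ((EtCoh.stalk ξ).map a)) : IsIso a := by
  have hJ : JointlyReflectIsomorphisms (fun i : AGeomPt X => EtCoh.stalk i.ξ) :=
    StalkConservative.jointlyReflectIsomorphisms (A := AddCommGrpCat.{u + 1})
      (detectsCovers_alg X)
  exact (hJ.isIso_iff a).2 (fun i => h i.Ω i.ξ)

end AlgPoints

section Square

variable {X Y X' Y' : Scheme.{u}} (f : X ⟶ Y) (g : Y' ⟶ Y) (f' : X' ⟶ Y') (g' : X' ⟶ X)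
  (w : g' ≫ f = f' ≫ g)

/-- The canonical comparison `(V ×_Y Y') ×_{Y'} X' ⟶ (V ×_Y X) ×_X X'`. -/
noncomputable def θ (V : Y.Etale) :
    (EtCoh.bc f').obj ((EtCoh.bc g).obj V) ⟶ (EtCoh.bc g').obj ((EtCoh.bc f).obj V) :=
  (MorphismProperty.Over.pullbackComp (P := EtCoh.etaleMP) (Q := ⊤) f' g).inv.app V ≫
    (MorphismProperty.Over.pullbackCongr (P := EtCoh.etaleMP) (Q := ⊤) w).inv.app V ≫
    (MorphismProperty.Over.pullbackComp (P := EtCoh.etaleMP) (Q := ⊤) g' f).hom.app V

/-- The map `γ : f_* F ⟶ g_* f'_* g'^* F` whose adjoint is the base change map. -/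
noncomputable def γ (F : EtCoh.Ab X) :
    (EtCoh.push f).obj F ⟶ (EtCoh.push g).obj ((EtCoh.push f').obj ((EtCoh.pull g').obj F)) :=
  (EtCoh.push f).map ((EtCoh.pullPushAdj g').unit.app F) ≫ (EtCoh.pushComp f g').hom.app _ ≫
      (EtCoh.pushCongr w).hom.app _ ≫ (EtCoh.pushComp g f').inv.app _

lemma γ_app (F : EtCoh.Ab X) (V : Y.Etale) :
    (γ f g f' g' w F).hom.app (op V) =
      ((EtCoh.pullPushAdj g').unit.app F).hom.app (op ((EtCoh.bc f).obj V)) ≫
        ((EtCoh.pull g').obj F).obj.map (θ f g f' g' w V).op := by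
  unfold γ θ
  rw [op_comp, op_comp, Functor.map_comp, Functor.map_comp]
  rfl

lemma baseChange0_eq (F : EtCoh.Ab X) :
    EtCoh.baseChange0 f g f' g' w F =
      ((EtCoh.pullPushAdj g).homEquiv _ _).symm (γ f g f' g' w F) := rfl

lemma congr_inv_left_fst {a b : X' ⟶ Y} (e : a = b) (V : Y.Etale) :
    ((MorphismProperty.Over.pullbackCongr (P := EtCoh.etaleMP) (Q := ⊤) e).inv.app V).left ≫
      pullback.fst V.hom a = pullback.fst V.hom b := by
  subst e
  simp [MorphismProperty.Over.pullbackCongr]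
  exact Category.id_comp _

lemma θ_left_fst_fst (V : Y.Etale) :
    (θ f g f' g' w V).left ≫ pullback.fst (pullback.snd V.hom f) g' ≫ pullback.fst V.hom f =
      pullback.fst (pullback.snd V.hom g) f' ≫ pullback.fst V.hom g := by
  have e0 : (θ f g f' g' w V).left =
      ((MorphismProperty.Over.pullbackComp (P := EtCoh.etaleMP) (Q := ⊤) f' g).inv.app V).left ≫
      ((MorphismProperty.Over.pullbackCongr (P := EtCoh.etaleMP) (Q := ⊤) w).inv.app V).left ≫
      ((MorphismProperty.Over.pullbackComp (P := EtCoh.etaleMP) (Q := ⊤) g' f).hom.app V).left :=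
    rfl
  have e1 := MorphismProperty.Over.pullbackComp_left_fst_fst (P := EtCoh.etaleMP) (Q := ⊤) g' f V
  have e2 := congr_inv_left_fst w V
  have e3 := MorphismProperty.Over.pullbackComp_left_fst_fst (P := EtCoh.etaleMP) (Q := ⊤) f' g V
  have e4 : ((MorphismProperty.Over.pullbackComp (P := EtCoh.etaleMP) (Q := ⊤) f' g).inv.app
      V).left ≫
      ((MorphismProperty.Over.pullbackComp (P := EtCoh.etaleMP) (Q := ⊤) f' g).hom.app V).left =
      𝟙 _ := by
    have := congrArg (fun t => t.left)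
      ((MorphismProperty.Over.pullbackComp (P := EtCoh.etaleMP) (Q := ⊤) f' g).inv_hom_id_app V)
    exact this
  rw [e0, Category.assoc, Category.assoc, e1, e2, ← e3, ← Category.assoc, e4]
  exact Category.id_comp _

lemma θ_left_snd (V : Y.Etale) :
    (θ f g f' g' w V).left ≫ pullback.snd (pullback.snd V.hom f) g' =
      pullback.snd (pullback.snd V.hom g) f' :=
  MorphismProperty.Over.w (θ f g f' g' w V)

end Square

section HomExt

variable {C : Type*} [Category C] [HasPullbacks C]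

lemma hom_ext3 {V Y X X' T : C} (vh : V ⟶ Y) (f : X ⟶ Y) (g' : X' ⟶ X)
    (a b : T ⟶ pullback (pullback.snd vh f) g')
    (h1 : a ≫ pullback.fst (pullback.snd vh f) g' ≫ pullback.fst vh f =
      b ≫ pullback.fst (pullback.snd vh f) g' ≫ pullback.fst vh f)
    (h2 : a ≫ pullback.snd (pullback.snd vh f) g' = b ≫ pullback.snd (pullback.snd vh f) g') :
    a = b := by
  apply pullback.hom_ext
  · apply pullback.hom_ext
    · simpa only [Category.assoc] using h1
    · rw [Category.assoc, Category.assoc, pullback.condition, ← Category.assoc, ← Category.assoc,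
        h2]
  · exact h2

end HomExt

section Main

variable {X Y X' Y' : Scheme.{u}} (f : X ⟶ Y) (g : Y' ⟶ Y) (f' : X' ⟶ Y') (g' : X' ⟶ X)
  (w : g' ≫ f = f' ≫ g)

lemma θ_liftPt {Ω : Type u} [Field Ω] [IsSepClosed Ω] (η' : Spec (CommRingCat.of Ω) ⟶ Y')
    (ξ' : Spec (CommRingCat.of Ω) ⟶ X') (hξ' : ξ' ≫ f' = η')
    (hξ : (ξ' ≫ g') ≫ f = η' ≫ g) (V : Y.Etale)
    (v : (Scheme.pointSmallEtale (η' ≫ g)).fiber.obj V) :
    (Scheme.pointSmallEtale ξ').fiber.map (θ f g f' g' w V)
      (FinitePushStalk.liftPt f' η' ξ' hξ' ((EtCoh.bc g).obj V)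
        (FinitePushStalk.liftPt g (η' ≫ g) η' rfl V v)) =
    FinitePushStalk.liftPt g' (ξ' ≫ g') ξ' rfl ((EtCoh.bc f).obj V)
      (FinitePushStalk.liftPt f (η' ≫ g) (ξ' ≫ g') hξ V v) := by
  apply FinitePushStalk.fiber_ext
  rw [FinitePushStalk.fiber_map_left]
  have p1 : (FinitePushStalk.liftPt f' η' ξ' hξ' ((EtCoh.bc g).obj V)
      (FinitePushStalk.liftPt g (η' ≫ g) η' rfl V v)).left ≫
      pullback.fst (pullback.snd V.hom g) f' =
      (FinitePushStalk.liftPt g (η' ≫ g) η' rfl V v).left :=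
    FinitePushStalk.liftPt_left_fst f' η' ξ' hξ' ((EtCoh.bc g).obj V) _
  have p2 : (FinitePushStalk.liftPt f' η' ξ' hξ' ((EtCoh.bc g).obj V)
      (FinitePushStalk.liftPt g (η' ≫ g) η' rfl V v)).left ≫
      pullback.snd (pullback.snd V.hom g) f' = ξ' :=
    FinitePushStalk.liftPt_left_snd f' η' ξ' hξ' ((EtCoh.bc g).obj V) _
  have p3 : (FinitePushStalk.liftPt g (η' ≫ g) η' rfl V v).left ≫ pullback.fst V.hom g = v.left :=
    FinitePushStalk.liftPt_left_fst g (η' ≫ g) η' rfl V v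
  have q1 : (FinitePushStalk.liftPt g' (ξ' ≫ g') ξ' rfl ((EtCoh.bc f).obj V)
      (FinitePushStalk.liftPt f (η' ≫ g) (ξ' ≫ g') hξ V v)).left ≫
      pullback.fst (pullback.snd V.hom f) g' =
      (FinitePushStalk.liftPt f (η' ≫ g) (ξ' ≫ g') hξ V v).left :=
    FinitePushStalk.liftPt_left_fst g' (ξ' ≫ g') ξ' rfl ((EtCoh.bc f).obj V) _
  have q2 : (FinitePushStalk.liftPt g' (ξ' ≫ g') ξ' rfl ((EtCoh.bc f).obj V)
      (FinitePushStalk.liftPt f (η' ≫ g) (ξ' ≫ g') hξ V v)).left ≫
      pullback.snd (pullback.snd V.hom f) g' = ξ' :=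
    FinitePushStalk.liftPt_left_snd g' (ξ' ≫ g') ξ' rfl ((EtCoh.bc f).obj V) _
  have q3 : (FinitePushStalk.liftPt f (η' ≫ g) (ξ' ≫ g') hξ V v).left ≫ pullback.fst V.hom f =
      v.left :=
    FinitePushStalk.liftPt_left_fst f (η' ≫ g) (ξ' ≫ g') hξ V v
  refine hom_ext3 V.hom f g' _ _ ?_ ?_
  · rw [Category.assoc, θ_left_fst_fst, ← Category.assoc, p1, p3, ← Category.assoc, q1, q3]
  · rw [Category.assoc, θ_left_snd, p2, q2]

/-- The commutative square relating the stalk of the base change map with the decompositions of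
the stalks of `f_*` and `f'_*`. -/
theorem square (F : EtCoh.Ab X) {Ω : Type u} [Field Ω] [IsSepClosed Ω]
    (η' : Spec (CommRingCat.of Ω) ⟶ Y') (ξ' : Spec (CommRingCat.of Ω) ⟶ X')
    (hξ' : ξ' ≫ f' = η') (hξ : (ξ' ≫ g') ≫ f = η' ≫ g) :
    (stalkPullIso g η').inv.app ((EtCoh.push f).obj F) ≫
      (EtCoh.stalk η').map (EtCoh.baseChange0 f g f' g' w F) ≫
      FinitePushStalk.toStalk f' η' ξ' hξ' ((EtCoh.pull g').obj F) =
    FinitePushStalk.toStalk f (η' ≫ g) (ξ' ≫ g') hξ F ≫ (stalkPullIso g' ξ').inv.app F := by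
  refine GrothendieckTopology.Point.presheafFiber_hom_ext _ (fun V v => ?_)
  rw [baseChange0_eq]
  have h1 := StalkPullGerm.toPresheafFiber_stalkPullIso_inv_adj g η' ((EtCoh.push f).obj F)
    ((EtCoh.push f').obj ((EtCoh.pull g').obj F)) (γ f g f' g' w F) V v
  have h2 := FinitePushStalk.toPresheafFiber_toStalk f' η' ξ' hξ' ((EtCoh.pull g').obj F)
    ((EtCoh.bc g).obj V) (FinitePushStalk.liftPt g (η' ≫ g) η' rfl V v)
  have h3 := (Scheme.pointSmallEtale ξ').toPresheafFiber_w (θ f g f' g' w V)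
    (FinitePushStalk.liftPt f' η' ξ' hξ' ((EtCoh.bc g).obj V)
      (FinitePushStalk.liftPt g (η' ≫ g) η' rfl V v)) ((EtCoh.pull g').obj F).obj
  rw [θ_liftPt f g f' g' w η' ξ' hξ' hξ V v] at h3
  have h4 := FinitePushStalk.toPresheafFiber_toStalk f (η' ≫ g) (ξ' ≫ g') hξ F V v
  have h5 := StalkPullGerm.toPresheafFiber_stalkPullIso_inv g' ξ' F ((EtCoh.bc f).obj V)
    (FinitePushStalk.liftPt f (η' ≫ g) (ξ' ≫ g') hξ V v)
  calc (Scheme.pointSmallEtale (η' ≫ g)).toPresheafFiber V v ((EtCoh.push f).obj F).obj ≫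
        (stalkPullIso g η').inv.app ((EtCoh.push f).obj F) ≫
        (EtCoh.stalk η').map (((EtCoh.pullPushAdj g).homEquiv _ _).symm (γ f g f' g' w F)) ≫
        FinitePushStalk.toStalk f' η' ξ' hξ' ((EtCoh.pull g').obj F)
      = ((γ f g f' g' w F).hom.app (op V) ≫
          (Scheme.pointSmallEtale η').toPresheafFiber ((EtCoh.bc g).obj V)
            (FinitePushStalk.liftPt g (η' ≫ g) η' rfl V v)
            ((EtCoh.push f').obj ((EtCoh.pull g').obj F)).obj) ≫
          FinitePushStalk.toStalk f' η' ξ' hξ' ((EtCoh.pull g').obj F) := by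
        rw [← h1, Category.assoc, Category.assoc]
    _ = (γ f g f' g' w F).hom.app (op V) ≫
          (Scheme.pointSmallEtale ξ').toPresheafFiber ((EtCoh.bc f').obj ((EtCoh.bc g).obj V))
            (FinitePushStalk.liftPt f' η' ξ' hξ' ((EtCoh.bc g).obj V)
              (FinitePushStalk.liftPt g (η' ≫ g) η' rfl V v))
            ((EtCoh.pull g').obj F).obj := by
        rw [Category.assoc, h2]
    _ = ((EtCoh.pullPushAdj g').unit.app F).hom.app (op ((EtCoh.bc f).obj V)) ≫
          (Scheme.pointSmallEtale ξ').toPresheafFiber ((EtCoh.bc g').obj ((EtCoh.bc f).obj V))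
            (FinitePushStalk.liftPt g' (ξ' ≫ g') ξ' rfl ((EtCoh.bc f).obj V)
              (FinitePushStalk.liftPt f (η' ≫ g) (ξ' ≫ g') hξ V v))
            ((EtCoh.pull g').obj F).obj := by
        rw [γ_app, Category.assoc, h3]
    _ = (Scheme.pointSmallEtale (η' ≫ g)).toPresheafFiber V v ((EtCoh.push f).obj F).obj ≫
          FinitePushStalk.toStalk f (η' ≫ g) (ξ' ≫ g') hξ F ≫
          (stalkPullIso g' ξ').inv.app F := by
        rw [reassoc_of% h4, h5]

/-- For finite `f`, the base change map is bijective on the stalks at geometric points with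
values in algebraically closed fields. -/
theorem stalk_baseChange0_bijective [IsFinite f] (h : IsPullback g' f' f g) (F : EtCoh.Ab X)
    {Ω : Type u} [Field Ω] [IsAlgClosed Ω] (η' : Spec (CommRingCat.of Ω) ⟶ Y') :
    Function.Bijective ((EtCoh.stalk η').map (EtCoh.baseChange0 f g f' g' h.w F)) := by
  haveI hf' : IsFinite f' := MorphismProperty.of_isPullback h inferInstance
  have hsq : ∀ (ξ' : Spec (CommRingCat.of Ω) ⟶ X') (hξ' : ξ' ≫ f' = η')
      (hξ : (ξ' ≫ g') ≫ f = η' ≫ g)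
      (x : ToType ((EtCoh.stalk (η' ≫ g)).obj ((EtCoh.push f).obj F))),
      FinitePushStalk.toStalk f' η' ξ' hξ' ((EtCoh.pull g').obj F)
        ((EtCoh.stalk η').map (EtCoh.baseChange0 f g f' g' h.w F)
          ((stalkPullIso g η').inv.app ((EtCoh.push f).obj F) x)) =
      (stalkPullIso g' ξ').inv.app F (FinitePushStalk.toStalk f (η' ≫ g) (ξ' ≫ g') hξ F x) := by
    intro ξ' hξ' hξ x
    exact ConcreteCategory.congr_hom (square f g f' g' h.w F η' ξ' hξ' hξ) x
  have hι₁ : Function.Bijective ((stalkPullIso g η').inv.app ((EtCoh.push f).obj F)) :=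
    ConcreteCategory.bijective_of_isIso _
  have hι₂ : ∀ ξ' : Spec (CommRingCat.of Ω) ⟶ X',
      Function.Bijective ((stalkPullIso g' ξ').inv.app F) :=
    fun ξ' => ConcreteCategory.bijective_of_isIso _
  have hcomm : ∀ ξ' : Spec (CommRingCat.of Ω) ⟶ X', ξ' ≫ f' = η' →
      (ξ' ≫ g') ≫ f = η' ≫ g := by
    intro ξ' hξ'
    rw [Category.assoc, h.w, ← Category.assoc, hξ']
  constructor
  · intro a b hab
    obtain ⟨x, hx⟩ := hι₁.2 (a - b)
    have hd : (EtCoh.stalk η').map (EtCoh.baseChange0 f g f' g' h.w F)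
        ((stalkPullIso g η').inv.app ((EtCoh.push f).obj F) x) = 0 := by
      rw [hx, map_sub, hab, sub_self]
    have hx0 : x = 0 := by
      apply FinitePushStalk.toStalk_injective f (η' ≫ g) F x
      intro ξ hξ
      obtain ⟨ξ', h1, h2⟩ : ∃ ξ' : Spec (CommRingCat.of Ω) ⟶ X', ξ' ≫ g' = ξ ∧ ξ' ≫ f' = η' :=
        ⟨h.lift ξ η' hξ, h.lift_fst _ _ _, h.lift_snd _ _ _⟩
      subst h1
      apply (hι₂ ξ').1
      rw [← hsq ξ' h2 hξ x, hd, map_zero, map_zero]
    rw [hx0, map_zero] at hx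
    exact sub_eq_zero.1 hx.symm
  · intro c
    have hy : ∀ ξ : {ξ : Spec (CommRingCat.of Ω) ⟶ X // ξ ≫ f = η' ≫ g},
        ∃ y : ToType ((Scheme.pointSmallEtale ξ.1).presheafFiber.obj F.obj),
          ∀ (ξ' : Spec (CommRingCat.of Ω) ⟶ X') (h1 : ξ' ≫ g' = ξ.1) (h2 : ξ' ≫ f' = η'),
            StalkPullGerm.pullGerm g' h1 F y =
              FinitePushStalk.toStalk f' η' ξ' h2 ((EtCoh.pull g').obj F) c := by
      rintro ⟨ξ, hξ⟩
      obtain ⟨y, hy⟩ := (StalkPullGerm.pullGerm_bijective g' (h.lift_fst ξ η' hξ) F).2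
        (FinitePushStalk.toStalk f' η' (h.lift ξ η' hξ) (h.lift_snd ξ η' hξ)
          ((EtCoh.pull g').obj F) c)
      refine ⟨y, fun ξ' h1 h2 => ?_⟩
      obtain rfl : ξ' = h.lift ξ η' hξ :=
        h.hom_ext (h1.trans (h.lift_fst _ _ _).symm) (h2.trans (h.lift_snd _ _ _).symm)
      exact hy
    choose y hy using hy
    obtain ⟨x, hx⟩ := FinitePushStalk.toStalk_surjective f (η' ≫ g) F y
    refine ⟨(stalkPullIso g η').inv.app ((EtCoh.push f).obj F) x, ?_⟩
    apply sub_eq_zero.1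
    apply FinitePushStalk.toStalk_injective f' η' ((EtCoh.pull g').obj F)
    intro ξ' hξ'
    have hx' : FinitePushStalk.toStalk f (η' ≫ g) (ξ' ≫ g') (hcomm ξ' hξ') F x =
        y ⟨ξ' ≫ g', hcomm ξ' hξ'⟩ := hx ⟨ξ' ≫ g', hcomm ξ' hξ'⟩
    have hy' : (stalkPullIso g' ξ').inv.app F (y ⟨ξ' ≫ g', hcomm ξ' hξ'⟩) =
        FinitePushStalk.toStalk f' η' ξ' hξ' ((EtCoh.pull g').obj F) c :=
      hy ⟨ξ' ≫ g', hcomm ξ' hξ'⟩ ξ' rfl hξ'
    rw [map_sub, hsq ξ' hξ' (hcomm ξ' hξ') x, hx', hy', sub_self]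

/-- **Base change for finite morphisms**: for a cartesian square with `f` finite, the base change
map `g⁻¹ f_* F ⟶ f'_* g'⁻¹ F` is an isomorphism. -/
theorem isIso_baseChange0 [IsFinite f] (h : IsPullback g' f' f g) (F : EtCoh.Ab X) :
    IsIso (EtCoh.baseChange0 f g f' g' h.w F) := by
  apply isIso_of_stalks_alg
  intro Ω _ _ η'
  exact (ConcreteCategory.isIso_iff_bijective _).2 (stalk_baseChange0_bijective f g f' g' h F η')

end Main

/-- Cohomology commutes with base change for finite morphisms. -/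
theorem cohCommutesWithBC {X Y : Scheme.{u}} (f : X ⟶ Y) [IsFinite f] :
    EtPBC.CohCommutesWithBC f := by
  intro X' Y' f' g' g _ _ _ h F _ q
  haveI hf' : IsFinite f' := MorphismProperty.of_isPullback h inferInstance
  rcases q with _ | q
  · haveI := isIso_baseChange0 f g f' g' h F
    exact ⟨(EtCoh.pull g).mapIso ((EtCoh.push f).rightDerivedZeroIsoSelf.app F) ≪≫
      asIso (EtCoh.baseChange0 f g f' g' h.w F) ≪≫
      ((EtCoh.push f').rightDerivedZeroIsoSelf.app ((EtCoh.pull g').obj F)).symm⟩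
  · have h1 : IsZero ((EtCoh.Rpush f (q + 1)).obj F) := FinitePushExact.isZero_Rpush f F q
    have h2 : IsZero ((EtCoh.Rpush f' (q + 1)).obj ((EtCoh.pull g').obj F)) :=
      FinitePushExact.isZero_Rpush f' ((EtCoh.pull g').obj F) q
    haveI := (EtCoh.pullPushAdj g).isLeftAdjoint
    exact ⟨((EtCoh.pull g).map_isZero h1).iso h2⟩

end Groth.Agent.Lib.Helper15.FinitePushBC
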