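import Mathlib
import Groth.Prelude.Def_EtBase
import Groth.Prelude.Def_EtCore
import Groth.Agent.Lib.Helper15.FinitePushBC

/-!
# Helper15: vertical composition of base change, site and sheaf level
-/

set_option autoImplicit false
set_option backward.isDefEq.respectTransparency false
universe u

open CategoryTheory CategoryTheory.Limits AlgebraicGeometry Opposite

namespace Groth.Agent.Lib.Helper15.BcVcomp

open Groth.Agent.Lib.Helper15.FinitePushBC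

section Site

variable {A B C : Scheme.{u}}

/-- The projection `U ×_B A ⟶ U`. -/
noncomputable def π (m : A ⟶ B) (U : B.Etale) : ((EtCoh.bc m).obj U).left ⟶ U.left :=
  pullback.fst U.hom m

@[reassoc]
lemma π_w (m : A ⟶ B) (U : B.Etale) : π m U ≫ U.hom = ((EtCoh.bc m).obj U).hom ≫ m :=
  pullback.condition

lemma hom_ext_bc (m : A ⟶ B) (U : B.Etale) {P : Scheme.{u}}
    (a b : P ⟶ ((EtCoh.bc m).obj U).left) (h1 : a ≫ π m U = b ≫ π m U)
    (h2 : a ≫ ((EtCoh.bc m).obj U).hom = b ≫ ((EtCoh.bc m).obj U).hom) : a = b :=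
  pullback.hom_ext h1 h2

@[reassoc]
lemma π_map (m : A ⟶ B) {U U' : B.Etale} (φ : U ⟶ U') :
    ((EtCoh.bc m).map φ).left ≫ π m U' = π m U ≫ φ.left := by
  dsimp [EtCoh.bc, π]
  exact pullback.lift_fst _ _ _

/-- `bc (a ≫ b) U ⟶ bc a (bc b U)`. -/
noncomputable def pcHom (a : A ⟶ B) (b : B ⟶ C) (U : C.Etale) :
    (EtCoh.bc (a ≫ b)).obj U ⟶ (EtCoh.bc a).obj ((EtCoh.bc b).obj U) :=
  (MorphismProperty.Over.pullbackComp (P := EtCoh.etaleMP) (Q := ⊤) a b).hom.app U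

/-- `bc a (bc b U) ⟶ bc (a ≫ b) U`. -/
noncomputable def pcInv (a : A ⟶ B) (b : B ⟶ C) (U : C.Etale) :
    (EtCoh.bc a).obj ((EtCoh.bc b).obj U) ⟶ (EtCoh.bc (a ≫ b)).obj U :=
  (MorphismProperty.Over.pullbackComp (P := EtCoh.etaleMP) (Q := ⊤) a b).inv.app U

@[reassoc]
lemma π_comp_hom (a : A ⟶ B) (b : B ⟶ C) (U : C.Etale) :
    (pcHom a b U).left ≫ π a ((EtCoh.bc b).obj U) ≫ π b U = π (a ≫ b) U :=
  MorphismProperty.Over.pullbackComp_left_fst_fst (P := EtCoh.etaleMP) (Q := ⊤) a b U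

@[reassoc]
lemma π_comp_inv (a : A ⟶ B) (b : B ⟶ C) (U : C.Etale) :
    (pcInv a b U).left ≫ π (a ≫ b) U = π a ((EtCoh.bc b).obj U) ≫ π b U := by
  have e4 : (pcInv a b U).left ≫ (pcHom a b U).left = 𝟙 _ :=
    congrArg (fun t => t.left)
      ((MorphismProperty.Over.pullbackComp (P := EtCoh.etaleMP) (Q := ⊤) a b).inv_hom_id_app U)
  rw [← π_comp_hom a b U, ← Category.assoc, e4]
  exact Category.id_comp _

end Site

section Theta

variable {X Y X' Y' : Scheme.{u}} (f : X ⟶ Y) (g : Y' ⟶ Y) (f' : X' ⟶ Y') (g' : X' ⟶ X)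
  (w : g' ≫ f = f' ≫ g)

@[reassoc]
lemma θ_π (V : Y.Etale) :
    (θ f g f' g' w V).left ≫ π g' ((EtCoh.bc f).obj V) ≫ π f V =
      π f' ((EtCoh.bc g).obj V) ≫ π g V :=
  θ_left_fst_fst f g f' g' w V

end Theta

section Ext3

variable {S T Y Z : Scheme.{u}} (g : T ⟶ S) (e : Y ⟶ T) (k : Z ⟶ Y)

lemma ext3 (U : S.Etale) {V : Z.Etale}
    (α β : V ⟶ (EtCoh.bc k).obj ((EtCoh.bc e).obj ((EtCoh.bc g).obj U)))
    (h : α.left ≫ π k ((EtCoh.bc e).obj ((EtCoh.bc g).obj U)) ≫ π e ((EtCoh.bc g).obj U) ≫ π g U =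
      β.left ≫ π k ((EtCoh.bc e).obj ((EtCoh.bc g).obj U)) ≫ π e ((EtCoh.bc g).obj U) ≫ π g U) :
    α = β := by
  have A1 : ∀ γ : V ⟶ (EtCoh.bc k).obj ((EtCoh.bc e).obj ((EtCoh.bc g).obj U)),
      γ.left ≫ π k ((EtCoh.bc e).obj ((EtCoh.bc g).obj U)) ≫
        ((EtCoh.bc e).obj ((EtCoh.bc g).obj U)).hom = V.hom ≫ k := by
    intro γ
    rw [π_w, ← Category.assoc, MorphismProperty.Over.w γ]
  have A2 : ∀ γ : V ⟶ (EtCoh.bc k).obj ((EtCoh.bc e).obj ((EtCoh.bc g).obj U)),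
      γ.left ≫ π k ((EtCoh.bc e).obj ((EtCoh.bc g).obj U)) ≫ π e ((EtCoh.bc g).obj U) ≫
        ((EtCoh.bc g).obj U).hom = V.hom ≫ k ≫ e := by
    intro γ
    calc γ.left ≫ π k ((EtCoh.bc e).obj ((EtCoh.bc g).obj U)) ≫ π e ((EtCoh.bc g).obj U) ≫
          ((EtCoh.bc g).obj U).hom
        = (γ.left ≫ π k ((EtCoh.bc e).obj ((EtCoh.bc g).obj U)) ≫
            ((EtCoh.bc e).obj ((EtCoh.bc g).obj U)).hom) ≫ e := by
          rw [π_w e]; simp only [Category.assoc]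
      _ = V.hom ≫ k ≫ e := by rw [A1 γ, Category.assoc]
  apply MorphismProperty.Over.Hom.ext
  apply hom_ext_bc k _ _ _ ?_
    ((MorphismProperty.Over.w α).trans (MorphismProperty.Over.w β).symm)
  apply hom_ext_bc e _ _ _ ?_ ?_
  · apply hom_ext_bc g _ _ _ ?_ ?_
    · simpa only [Category.assoc] using h
    · simp only [Category.assoc]
      rw [A2 α, A2 β]
  · simp only [Category.assoc]
    rw [A1 α, A1 β]

end Ext3

section Tower

variable {X S Y T W Z : Scheme.{u}} (f : X ⟶ S) (g : T ⟶ S) (h : Y ⟶ X) (e : Y ⟶ T)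
  (w₁ : e ≫ g = h ≫ f) (i : W ⟶ X) (j : Z ⟶ W) (k : Z ⟶ Y) (w₂ : k ≫ h = j ≫ i)
  (w₃ : (k ≫ e) ≫ g = j ≫ (i ≫ f))

lemma comp_left' {V V' V'' : Z.Etale} (a : V ⟶ V') (b : V' ⟶ V'') :
    (a ≫ b).left = a.left ≫ b.left := rfl

lemma θ_coh (U : S.Etale) :
    (EtCoh.bc j).map (pcInv i f U) ≫ θ g (i ≫ f) j (k ≫ e) w₃ U ≫
      pcHom k e ((EtCoh.bc g).obj U) =
    θ h i j k w₂ ((EtCoh.bc f).obj U) ≫ (EtCoh.bc k).map (θ g f h e w₁ U) := by
  apply ext3 g e k U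
  simp only [comp_left', Category.assoc]
  rw [π_comp_hom_assoc, θ_π, π_map_assoc, π_comp_inv]
  rw [π_map_assoc, θ_π, θ_π_assoc]

end Tower

section Sheaf

variable {X Y X' Y' : Scheme.{u}} (f : X ⟶ Y) (g : Y' ⟶ Y) (f' : X' ⟶ Y') (g' : X' ⟶ X)
  (w : g' ≫ f = f' ≫ g)

/-- The isomorphism `g'_* ⋙ f_* ≅ f'_* ⋙ g_*` attached to a commutative square. -/
noncomputable def ΘIso : EtCoh.push g' ⋙ EtCoh.push f ≅ EtCoh.push f' ⋙ EtCoh.push g :=
  EtCoh.pushComp f g' ≪≫ EtCoh.pushCongr w ≪≫ (EtCoh.pushComp g f').symm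

lemma ΘIso_app (F' : EtCoh.Ab X') (V : Y.Etale) :
    ((ΘIso f g f' g' w).hom.app F').hom.app (op V) = F'.obj.map (θ f g f' g' w V).op := by
  unfold ΘIso θ
  rw [op_comp, op_comp, Functor.map_comp, Functor.map_comp]
  rfl

lemma γ_eq (F : EtCoh.Ab X) :
    γ f g f' g' w F = (EtCoh.push f).map ((EtCoh.pullPushAdj g').unit.app F) ≫
      (ΘIso f g f' g' w).hom.app ((EtCoh.pull g').obj F) := rfl

end Sheaf

section SheafTower

variable {X S Y T W Z : Scheme.{u}} (f : X ⟶ S) (g : T ⟶ S) (h : Y ⟶ X) (e : Y ⟶ T)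
  (w₁ : e ≫ g = h ≫ f) (i : W ⟶ X) (j : Z ⟶ W) (k : Z ⟶ Y) (w₂ : k ≫ h = j ≫ i)
  (w₃ : (k ≫ e) ≫ g = j ≫ (i ≫ f))

lemma Θ_coh (G : EtCoh.Ab Z) :
    (EtCoh.push g).map ((EtCoh.pushComp e k).hom.app G) ≫
      (ΘIso g (i ≫ f) j (k ≫ e) w₃).hom.app G ≫
      (EtCoh.pushComp f i).inv.app ((EtCoh.push j).obj G) =
    (ΘIso g f h e w₁).hom.app ((EtCoh.push k).obj G) ≫
      (EtCoh.push f).map ((ΘIso h i j k w₂).hom.app G) := by
  apply Sheaf.hom_ext
  apply NatTrans.ext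
  funext U
  obtain ⟨U⟩ := U
  have key := congrArg (fun t => G.obj.map t.op) (θ_coh f g h e w₁ i j k w₂ w₃ U)
  simp only [op_comp, Functor.map_comp, Category.assoc] at key
  show G.obj.map (pcHom k e ((EtCoh.bc g).obj U)).op ≫
      ((ΘIso g (i ≫ f) j (k ≫ e) w₃).hom.app G).hom.app (op U) ≫
      G.obj.map ((EtCoh.bc j).map (pcInv i f U)).op =
    ((ΘIso g f h e w₁).hom.app ((EtCoh.push k).obj G)).hom.app (op U) ≫
      ((ΘIso h i j k w₂).hom.app G).hom.app (op ((EtCoh.bc f).obj U))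
  rw [ΘIso_app, ΘIso_app, ΘIso_app]
  exact key

lemma unit_comp (F : EtCoh.Ab T) :
    (EtCoh.pullPushAdj (k ≫ e)).unit.app F =
      (EtCoh.pullPushAdj e).unit.app F ≫
        (EtCoh.push e).map ((EtCoh.pullPushAdj k).unit.app ((EtCoh.pull e).obj F)) ≫
        (EtCoh.pushComp e k).hom.app ((EtCoh.pull k).obj ((EtCoh.pull e).obj F)) ≫
        (EtCoh.push (k ≫ e)).map ((EtCore.pullComp k e).inv.app F) := by
  have h1 := Adjunction.unit_leftAdjointUniq_hom_app (EtCoh.pullPushAdj (k ≫ e))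
    (((EtCoh.pullPushAdj e).comp (EtCoh.pullPushAdj k)).ofNatIsoRight (EtCoh.pushComp e k)) F
  have h2 : (((EtCoh.pullPushAdj e).comp (EtCoh.pullPushAdj k)).ofNatIsoRight
      (EtCoh.pushComp e k)).unit.app F =
      (EtCoh.pullPushAdj e).unit.app F ≫
        (EtCoh.push e).map ((EtCoh.pullPushAdj k).unit.app ((EtCoh.pull e).obj F)) ≫
        (EtCoh.pushComp e k).hom.app ((EtCoh.pull k).obj ((EtCoh.pull e).obj F)) := by
    rw [← Adjunction.homEquiv_id, Adjunction.homEquiv_ofNatIsoRight_apply, Adjunction.homEquiv_id,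
      Adjunction.comp_unit_app, Category.assoc]
    rfl
  have h3 : (EtCore.pullComp k e).hom.app F ≫ (EtCore.pullComp k e).inv.app F = 𝟙 _ :=
    Iso.hom_inv_id_app _ _
  calc (EtCoh.pullPushAdj (k ≫ e)).unit.app F
      = ((EtCoh.pullPushAdj (k ≫ e)).unit.app F ≫
          (EtCoh.push (k ≫ e)).map ((EtCore.pullComp k e).hom.app F)) ≫
          (EtCoh.push (k ≫ e)).map ((EtCore.pullComp k e).inv.app F) := by
        rw [Category.assoc, ← Functor.map_comp, h3, CategoryTheory.Functor.map_id]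
        exact (Category.comp_id _).symm
    _ = _ := by
        rw [show (EtCoh.pullPushAdj (k ≫ e)).unit.app F ≫
          (EtCoh.push (k ≫ e)).map ((EtCore.pullComp k e).hom.app F) = _ from h1, h2]
        simp only [Category.assoc]

lemma γ_vcomp (F : EtCoh.Ab T) :
    γ g (i ≫ f) j (k ≫ e) w₃ F ≫
      (EtCoh.pushComp f i).inv.app ((EtCoh.push j).obj ((EtCoh.pull (k ≫ e)).obj F)) =
    γ g f h e w₁ F ≫ (EtCoh.push f).map (γ h i j k w₂ ((EtCoh.pull e).obj F)) ≫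
      (EtCoh.push f).map ((EtCoh.push i).map ((EtCoh.push j).map
        ((EtCore.pullComp k e).inv.app F))) := by
  rw [γ_eq, γ_eq, γ_eq, unit_comp e k F]
  obtain ⟨t, ht⟩ : ∃ t, t = (EtCore.pullComp k e).inv.app F := ⟨_, rfl⟩
  rw [← ht]
  have n3 := (ΘIso g (i ≫ f) j (k ≫ e) w₃).hom.naturality t
  have n4 := (EtCoh.pushComp f i).inv.naturality ((EtCoh.push j).map t)
  have n1 := (ΘIso g f h e w₁).hom.naturality
    ((EtCoh.pullPushAdj k).unit.app ((EtCoh.pull e).obj F))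
  have co := Θ_coh f g h e w₁ i j k w₂ w₃ ((EtCoh.pull k).obj ((EtCoh.pull e).obj F))
  simp only [Functor.comp_map, Functor.comp_obj] at n1 n3 n4
  simp only [Functor.map_comp, Category.assoc, Functor.comp_obj]
  rw [reassoc_of% n3, n4, reassoc_of% co, reassoc_of% n1]

end SheafTower

end Groth.Agent.Lib.Helper15.BcVcomp
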