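import Groth.Agent.Lib.Helper15.BcQHtpy
import Groth.Agent.Lib.Helper15.BcVcompSite
import Groth.Agent.Lib.Helper15.BcVcompAbs
import Groth.Prelude.Def_EtBC2

/-!
# Helper15: composition of the degree-`q` base change maps `bcQ` in the base-change direction (S6669)
-/

set_option autoImplicit false
set_option backward.isDefEq.respectTransparency false

universe v₁ u₁ u

open CategoryTheory CategoryTheory.Limits HomologicalComplex

namespace Groth.Agent.Lib.Helper15.BcQ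

noncomputable section

section HH

variable {B C D : Type u₁} [Category.{v₁} B] [Category.{v₁} C] [Category.{v₁} D]
  [Abelian B] [Abelian C] [Abelian D] {ι' : Type*} {c : ComplexShape ι'} (q : ι')

/-- `H^q(P) ⟶ H^q(E M) ⟶ E (H^q M)` for `m : P ⟶ E M`. -/
def hh (E : B ⥤ C) [E.Additive] [PreservesFiniteLimits E] {P : HomologicalComplex C c}
    {M : HomologicalComplex B c} (m : P ⟶ (E.mapHomologicalComplex c).obj M) :
    P.homology q ⟶ E.obj (M.homology q) :=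
  homologyMap m q ≫ RDer.homologyComparison E M q

lemma hh_post (E : B ⥤ C) [E.Additive] [PreservesFiniteLimits E] {P : HomologicalComplex C c}
    {M M' : HomologicalComplex B c} (m : P ⟶ (E.mapHomologicalComplex c).obj M) (n : M ⟶ M') :
    hh q E (m ≫ (E.mapHomologicalComplex c).map n) = hh q E m ≫ E.map (homologyMap n q) := by
  unfold hh
  rw [homologyMap_comp, Category.assoc, homologyMap_homologyComparison, Category.assoc]

lemma hh_nat {E E' : B ⥤ C} [E.Additive] [PreservesFiniteLimits E] [E'.Additive]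
    [PreservesFiniteLimits E'] (γ : E ⟶ E') {P : HomologicalComplex C c}
    {M : HomologicalComplex B c} (m : P ⟶ (E.mapHomologicalComplex c).obj M) :
    hh q E' (m ≫ (NatTrans.mapHomologicalComplex γ c).app M) =
      hh q E m ≫ γ.app (M.homology q) := by
  unfold hh
  rw [homologyMap_comp, Category.assoc, homologyMap_app_homologyComparison, Category.assoc]

lemma hh_comp (E₁ : B ⥤ C) [E₁.Additive] [PreservesFiniteLimits E₁] (E₂ : C ⥤ D) [E₂.Additive]
    [PreservesFiniteLimits E₂] {P : HomologicalComplex D c} {M : HomologicalComplex C c}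
    {M'' : HomologicalComplex B c} (m : P ⟶ (E₂.mapHomologicalComplex c).obj M)
    (m' : M ⟶ (E₁.mapHomologicalComplex c).obj M'') :
    hh q (E₁ ⋙ E₂) (M := M'') (m ≫ (E₂.mapHomologicalComplex c).map m') =
      hh q E₂ m ≫ E₂.map (hh q E₁ m') := by
  unfold hh
  rw [homologyComparison_comp, E₂.map_comp, Category.assoc,
    ← homologyMap_homologyComparison_assoc]
  erw [homologyMap_comp, Category.assoc]

end HH

section Sq

variable {CT CY CS CX : Type u₁} [Category.{v₁} CT] [Category.{v₁} CY] [Category.{v₁} CS]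
  [Category.{v₁} CX] [Abelian CT] [Abelian CY] [Abelian CS] [Abelian CX]
  [HasInjectiveResolutions CT] [HasInjectiveResolutions CY]

lemma mapAug_f_zero (Φ : CY ⥤ CT) [Φ.Additive] {Y : CY} {I : CochainComplex CY ℕ}
    (ι : (CochainComplex.single₀ CY).obj Y ⟶ I) :
    (RDer.mapAug Φ ι).f 0 = Φ.map (ι.f 0) := by
  simp [RDer.mapAug, HomologicalComplex.singleMapHomologicalComplex_inv_app_self]

variable (Φ : CY ⥤ CT) [Φ.Additive] [Φ.PreservesInjectiveObjects]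
  (Ψ : CT ⥤ CS) [Ψ.Additive] (Ψ' : CY ⥤ CX) [Ψ'.Additive]
  (E : CX ⥤ CS) [E.Additive] [PreservesFiniteLimits E]
  (θ : Φ ⋙ Ψ ≅ Ψ' ⋙ E) (L : CT ⥤ CY) (u : 𝟭 CT ⟶ L ⋙ Φ) (q : ℕ)

/-- abstract form of `EtBC.bcQAdj` -/
def bcAdj (F : CT) : (Ψ.rightDerived q).obj F ⟶ E.obj ((Ψ'.rightDerived q).obj (L.obj F)) :=
  (Ψ.rightDerived q).map (u.app F) ≫ RDer.edgeIn Φ Ψ q (L.obj F) ≫
    (RDer.rightDerivedIso θ q).hom.app (L.obj F) ≫ RDer.edgeOut Ψ' E q (L.obj F)

/-- the component of a natural transformation `Φ ⋙ Ψ ⟶ Ψ' ⋙ E` on a complex, with the nested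
shape of source and target -/
def appC (θ : Φ ⋙ Ψ ⟶ Ψ' ⋙ E) (K : CochainComplex CY ℕ) :
    (Ψ.mapHomologicalComplex _).obj ((Φ.mapHomologicalComplex _).obj K) ⟶
      (E.mapHomologicalComplex _).obj ((Ψ'.mapHomologicalComplex _).obj K) :=
  (NatTrans.mapHomologicalComplex θ _).app K

lemma exists_lift (F : CT) :
    ∃ φ : (injectiveResolution F).cocomplex ⟶
        (Φ.mapHomologicalComplex _).obj (injectiveResolution (L.obj F)).cocomplex,
      (injectiveResolution F).ι.f 0 ≫ φ.f 0 =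
        u.app F ≫ Φ.map ((injectiveResolution (L.obj F)).ι.f 0) := by
  refine ⟨RDer.descToInjectives (u.app F) (injectiveResolution F).cocomplex
    (injectiveResolution F).ι _ (RDer.mapAug Φ (injectiveResolution (L.obj F)).ι), ?_⟩
  rw [RDer.ι_descToInjectives_f_zero, mapAug_f_zero]

theorem bcAdj_eq (F : CT)
    (φ : (injectiveResolution F).cocomplex ⟶
      (Φ.mapHomologicalComplex _).obj (injectiveResolution (L.obj F)).cocomplex)
    (hφ : (injectiveResolution F).ι.f 0 ≫ φ.f 0 =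
      u.app F ≫ Φ.map ((injectiveResolution (L.obj F)).ι.f 0)) :
    bcAdj Φ Ψ Ψ' E θ L u q F =
      ((injectiveResolution F).isoRightDerivedObj Ψ q).hom ≫
        hh q E ((Ψ.mapHomologicalComplex _).map φ ≫
          appC Φ Ψ Ψ' E θ.hom (injectiveResolution (L.obj F)).cocomplex) ≫
        E.map ((injectiveResolution (L.obj F)).isoRightDerivedObj Ψ' q).inv := by
  obtain ⟨ũ, hũ⟩ : ∃ ũ : (injectiveResolution F).cocomplex ⟶
      (injectiveResolution (Φ.obj (L.obj F))).cocomplex,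
      (injectiveResolution F).ι.f 0 ≫ ũ.f 0 =
        u.app F ≫ (injectiveResolution (Φ.obj (L.obj F))).ι.f 0 :=
    ⟨InjectiveResolution.desc (u.app F) _ _, InjectiveResolution.desc_commutes_zero _ _ _⟩
  have h1 : (Ψ.rightDerived q).map (u.app F) ≫
      ((injectiveResolution (Φ.obj (L.obj F))).isoRightDerivedObj Ψ q).hom =
      ((injectiveResolution F).isoRightDerivedObj Ψ q).hom ≫
        homologyMap ((Ψ.mapHomologicalComplex _).map ũ) q :=
    InjectiveResolution.isoRightDerivedObj_hom_naturality (u.app F) (injectiveResolution F)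
      (injectiveResolution (Φ.obj (L.obj F))) ũ hũ Ψ q
  have h2 : (RDer.rightDerivedIso θ q).hom.app (L.obj F) =
      ((injectiveResolution (L.obj F)).isoRightDerivedObj (Φ ⋙ Ψ) q).hom ≫
        homologyMap ((NatTrans.mapHomologicalComplex θ.hom _).app
          (injectiveResolution (L.obj F)).cocomplex) q ≫
        ((injectiveResolution (L.obj F)).isoRightDerivedObj (Ψ' ⋙ E) q).inv :=
    InjectiveResolution.rightDerived_app_eq θ.hom (injectiveResolution (L.obj F)) q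
  have hD0 := RDer.ι_descToInjectives_f_zero (𝟙 (Φ.obj (L.obj F)))
    (injectiveResolution (Φ.obj (L.obj F))).cocomplex (injectiveResolution (Φ.obj (L.obj F))).ι
    ((Φ.mapHomologicalComplex _).obj (injectiveResolution (L.obj F)).cocomplex)
    (RDer.mapAug Φ (injectiveResolution (L.obj F)).ι)
  have e1 : (RDer.mapAug Φ (injectiveResolution (L.obj F)).ι).f 0 =
      Φ.map ((injectiveResolution (L.obj F)).ι.f 0) := mapAug_f_zero _ _
  have h3 : homologyMap ((Ψ.mapHomologicalComplex _).map (ũ ≫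
      RDer.descToInjectives (𝟙 (Φ.obj (L.obj F)))
        (injectiveResolution (Φ.obj (L.obj F))).cocomplex
        (injectiveResolution (Φ.obj (L.obj F))).ι
        ((Φ.mapHomologicalComplex _).obj (injectiveResolution (L.obj F)).cocomplex)
        (RDer.mapAug Φ (injectiveResolution (L.obj F)).ι))) q =
      homologyMap ((Ψ.mapHomologicalComplex _).map φ) q :=
    homologyMap_map_eq Ψ (htpy _ _ _ _ (by
      rw [HomologicalComplex.comp_f, reassoc_of% hũ, hD0, Category.id_comp, e1]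
      exact hφ.symm)) q
  unfold bcAdj RDer.edgeIn RDer.edgeOut hh appC
  rw [h2]
  simp only [Category.assoc, Iso.inv_hom_id_assoc, homologyFunctor_map]
  rw [reassoc_of% h1, homologyMap_comp, ← h3, Functor.map_comp, homologyMap_comp]
  simp only [Category.assoc]

end Sq

section Comp

variable {CT CY CZ CS CX CW : Type u₁} [Category.{v₁} CT] [Category.{v₁} CY] [Category.{v₁} CZ]
  [Category.{v₁} CS] [Category.{v₁} CX] [Category.{v₁} CW]
  [Abelian CT] [Abelian CY] [Abelian CZ] [Abelian CS] [Abelian CX] [Abelian CW]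
  [HasInjectiveResolutions CT] [HasInjectiveResolutions CY] [HasInjectiveResolutions CZ]
  (Ψg : CT ⥤ CS) [Ψg.Additive] (Ψh : CY ⥤ CX) [Ψh.Additive] (Ψj : CZ ⥤ CW) [Ψj.Additive]
  (Ef : CX ⥤ CS) [Ef.Additive] [PreservesFiniteLimits Ef]
  (Ei : CW ⥤ CX) [Ei.Additive] [PreservesFiniteLimits Ei]
  (Eif : CW ⥤ CS) [Eif.Additive] [PreservesFiniteLimits Eif]
  (Φe : CY ⥤ CT) [Φe.Additive] [Φe.PreservesInjectiveObjects]
  (Φk : CZ ⥤ CY) [Φk.Additive] [Φk.PreservesInjectiveObjects]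
  (Φke : CZ ⥤ CT) [Φke.Additive] [Φke.PreservesInjectiveObjects]
  (Le : CT ⥤ CY) (Lk : CY ⥤ CZ) (Lke : CT ⥤ CZ)
  (ue : 𝟭 CT ⟶ Le ⋙ Φe) (uk : 𝟭 CY ⟶ Lk ⋙ Φk) (uke : 𝟭 CT ⟶ Lke ⋙ Φke)
  (θ₁ : Φe ⋙ Ψg ≅ Ψh ⋙ Ef) (θ₂ : Φk ⋙ Ψh ≅ Ψj ⋙ Ei) (θ₃ : Φke ⋙ Ψg ≅ Ψj ⋙ Eif)
  (D : Φk ⋙ Φe ≅ Φke) (Cc : Ei ⋙ Ef ≅ Eif) (τ : Le ⋙ Lk ⟶ Lke) (q : ℕ)

include D in
omit [HasInjectiveResolutions CT] [HasInjectiveResolutions CY] [HasInjectiveResolutions CZ]
  [Ψg.Additive] [Ψh.Additive] [Ψj.Additive] [Ef.Additive] [PreservesFiniteLimits Ef]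
  [Ei.Additive] [PreservesFiniteLimits Ei] [Eif.Additive] [PreservesFiniteLimits Eif]
  [Φe.Additive] [Φe.PreservesInjectiveObjects] [Φk.Additive] [Φk.PreservesInjectiveObjects]
  [Φke.Additive] [Φke.PreservesInjectiveObjects] in
lemma comp_f_eq
    (H1 : ∀ N : CZ, Ψg.map (D.hom.app N) ≫ θ₃.hom.app N ≫ Cc.inv.app (Ψj.obj N) =
      θ₁.hom.app (Φk.obj N) ≫ Ef.map (θ₂.hom.app N))
    {I₀ : CT} {J₀ : CY} {K₀ K₀' : CZ} (a : I₀ ⟶ Φe.obj J₀) (b : J₀ ⟶ Φk.obj K₀)
    (t₀ : K₀ ⟶ K₀') :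
    (Ψg.map (a ≫ Φe.map b ≫ D.hom.app K₀ ≫ Φke.map t₀) ≫ θ₃.hom.app K₀') ≫
        Cc.inv.app (Ψj.obj K₀') =
      ((Ψg.map a ≫ θ₁.hom.app J₀) ≫ Ef.map (Ψh.map b ≫ θ₂.hom.app K₀)) ≫
        Ef.map (Ei.map (Ψj.map t₀)) := by
  have nD := D.hom.naturality t₀
  have n1 := θ₁.hom.naturality b
  have n1' := θ₁.hom.naturality (Φk.map t₀)
  have n2 := θ₂.hom.naturality t₀
  simp only [Functor.comp_map, Functor.comp_obj] at nD n1 n1' n2
  have nD' := congrArg (fun x => Ψg.map x) nD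
  have n2' := congrArg (fun x => Ef.map x) n2
  simp only [Functor.map_comp] at nD' n2'
  simp only [Functor.map_comp, Category.assoc]
  rw [← reassoc_of% nD', H1 K₀', ← n2', ← reassoc_of% n1, ← reassoc_of% n1']

theorem bcAdj_comp
    (H1 : ∀ N : CZ, Ψg.map (D.hom.app N) ≫ θ₃.hom.app N ≫ Cc.inv.app (Ψj.obj N) =
      θ₁.hom.app (Φk.obj N) ≫ Ef.map (θ₂.hom.app N))
    (H2 : ∀ F : CT, uke.app F = ue.app F ≫ Φe.map (uk.app (Le.obj F)) ≫
      D.hom.app (Lk.obj (Le.obj F)) ≫ Φke.map (τ.app F)) (F : CT) :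
    bcAdj Φke Ψg Ψj Eif θ₃ Lke uke q F ≫ Cc.inv.app ((Ψj.rightDerived q).obj (Lke.obj F)) =
      bcAdj Φe Ψg Ψh Ef θ₁ Le ue q F ≫ Ef.map (bcAdj Φk Ψh Ψj Ei θ₂ Lk uk q (Le.obj F)) ≫
        Ef.map (Ei.map ((Ψj.rightDerived q).map (τ.app F))) := by
  obtain ⟨φ₁, hφ₁⟩ := exists_lift Φe Le ue F
  obtain ⟨φ₂, hφ₂⟩ := exists_lift Φk Lk uk (Le.obj F)
  obtain ⟨t, ht⟩ : ∃ t : (injectiveResolution (Lk.obj (Le.obj F))).cocomplex ⟶
      (injectiveResolution (Lke.obj F)).cocomplex,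
      (injectiveResolution (Lk.obj (Le.obj F))).ι.f 0 ≫ t.f 0 =
        τ.app F ≫ (injectiveResolution (Lke.obj F)).ι.f 0 :=
    ⟨InjectiveResolution.desc (τ.app F) _ _, InjectiveResolution.desc_commutes_zero _ _ _⟩
  -- the lift for the outer square
  obtain ⟨φ₃, hφ₃def⟩ : ∃ φ₃ : (injectiveResolution F).cocomplex ⟶
      (Φke.mapHomologicalComplex _).obj (injectiveResolution (Lke.obj F)).cocomplex,
      φ₃ = φ₁ ≫ (Φe.mapHomologicalComplex _).map φ₂ ≫
        (NatTrans.mapHomologicalComplex D.hom _).app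
          (injectiveResolution (Lk.obj (Le.obj F))).cocomplex ≫
        (Φke.mapHomologicalComplex _).map t := ⟨_, rfl⟩
  have hφ₃f : ∀ n, φ₃.f n = φ₁.f n ≫ Φe.map (φ₂.f n) ≫
      D.hom.app ((injectiveResolution (Lk.obj (Le.obj F))).cocomplex.X n) ≫ Φke.map (t.f n) := by
    intro n
    rw [hφ₃def]
    rfl
  have hφ₃ : (injectiveResolution F).ι.f 0 ≫ φ₃.f 0 =
      uke.app F ≫ Φke.map ((injectiveResolution (Lke.obj F)).ι.f 0) := by
    have nD : Φe.map (Φk.map ((injectiveResolution (Lk.obj (Le.obj F))).ι.f 0)) ≫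
        D.hom.app ((injectiveResolution (Lk.obj (Le.obj F))).cocomplex.X 0) =
        D.hom.app (Lk.obj (Le.obj F)) ≫
          Φke.map ((injectiveResolution (Lk.obj (Le.obj F))).ι.f 0) :=
      D.hom.naturality ((injectiveResolution (Lk.obj (Le.obj F))).ι.f 0)
    rw [hφ₃f, reassoc_of% hφ₁, ← Φe.map_comp_assoc, hφ₂, Φe.map_comp_assoc, reassoc_of% nD,
      ← Φke.map_comp, ht, Φke.map_comp, H2 F]
    simp only [Category.assoc]
  rw [bcAdj_eq Φke Ψg Ψj Eif θ₃ Lke uke q F φ₃ hφ₃, bcAdj_eq Φe Ψg Ψh Ef θ₁ Le ue q F φ₁ hφ₁,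
    bcAdj_eq Φk Ψh Ψj Ei θ₂ Lk uk q (Le.obj F) φ₂ hφ₂]
  -- the core identity
  have core : hh q Eif ((Ψg.mapHomologicalComplex _).map φ₃ ≫
        appC Φke Ψg Ψj Eif θ₃.hom (injectiveResolution (Lke.obj F)).cocomplex) ≫
      Cc.inv.app (((Ψj.mapHomologicalComplex _).obj
        (injectiveResolution (Lke.obj F)).cocomplex).homology q) =
      hh q Ef ((Ψg.mapHomologicalComplex _).map φ₁ ≫
          appC Φe Ψg Ψh Ef θ₁.hom (injectiveResolution (Le.obj F)).cocomplex) ≫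
        Ef.map (hh q Ei ((Ψh.mapHomologicalComplex _).map φ₂ ≫
          appC Φk Ψh Ψj Ei θ₂.hom (injectiveResolution (Lk.obj (Le.obj F))).cocomplex)) ≫
        Ef.map (Ei.map (homologyMap ((Ψj.mapHomologicalComplex _).map t) q)) := by
    rw [← hh_nat q Cc.inv, ← Category.assoc, ← hh_comp q Ei Ef]
    have := hh_post q (Ei ⋙ Ef)
      (M := (Ψj.mapHomologicalComplex _).obj (injectiveResolution (Lk.obj (Le.obj F))).cocomplex)
      (((Ψg.mapHomologicalComplex _).map φ₁ ≫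
          appC Φe Ψg Ψh Ef θ₁.hom (injectiveResolution (Le.obj F)).cocomplex) ≫
        (Ef.mapHomologicalComplex _).map ((Ψh.mapHomologicalComplex _).map φ₂ ≫
          appC Φk Ψh Ψj Ei θ₂.hom (injectiveResolution (Lk.obj (Le.obj F))).cocomplex))
      ((Ψj.mapHomologicalComplex _).map t)
    erw [← this]
    congr 1
    ext n
    rw [hφ₃def]
    exact comp_f_eq Ψg Ψh Ψj Ef Ei Eif Φe Φk Φke θ₁ θ₂ θ₃ D Cc H1 (φ₁.f n) (φ₂.f n) (t.f n)
  have hτ := InjectiveResolution.isoRightDerivedObj_inv_naturality (τ.app F)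
    (injectiveResolution (Lk.obj (Le.obj F))) (injectiveResolution (Lke.obj F)) t ht Ψj q
  have hτ' : ((injectiveResolution (Lk.obj (Le.obj F))).isoRightDerivedObj Ψj q).inv ≫
      (Ψj.rightDerived q).map (τ.app F) =
      homologyMap ((Ψj.mapHomologicalComplex _).map t) q ≫
        ((injectiveResolution (Lke.obj F)).isoRightDerivedObj Ψj q).inv := hτ
  have nC : Eif.map ((injectiveResolution (Lke.obj F)).isoRightDerivedObj Ψj q).inv ≫
      Cc.inv.app ((Ψj.rightDerived q).obj (Lke.obj F)) =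
      Cc.inv.app (((Ψj.mapHomologicalComplex _).obj
        (injectiveResolution (Lke.obj F)).cocomplex).homology q) ≫
      Ef.map (Ei.map ((injectiveResolution (Lke.obj F)).isoRightDerivedObj Ψj q).inv) :=
    Cc.inv.naturality ((injectiveResolution (Lke.obj F)).isoRightDerivedObj Ψj q).inv
  simp only [Category.assoc, Functor.map_comp]
  rw [nC, reassoc_of% core]
  simp only [← Functor.map_comp, Category.assoc, Iso.inv_hom_id_assoc, hτ']

end Comp

section Main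

open AlgebraicGeometry Groth.Agent.Lib.Helper15.BcVcomp

lemma bcQAdj_eq_bcAdj {X S X' S' : Scheme.{u}} (f : X ⟶ S) (g : S' ⟶ S) (f' : X' ⟶ S')
    (g' : X' ⟶ X) (w : g' ≫ f = f' ≫ g) (q : ℕ) [PreservesFiniteLimits (EtCoh.pull g')]
    (F : EtCoh.Ab X) :
    EtBC.bcQAdj f g f' g' w q F =
      bcAdj (EtCoh.push g') (EtCoh.push f) (EtCoh.push f') (EtCoh.push g) (ΘIso f g f' g' w)
        (EtCoh.pull g') (EtCoh.pullPushAdj g').unit q F := rfl

variable {X S Y T W Z : Scheme.{u}} (f : X ⟶ S) (g : T ⟶ S) (h : Y ⟶ X) (e : Y ⟶ T)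
  (w₁ : e ≫ g = h ≫ f) (i : W ⟶ X) (j : Z ⟶ W) (k : Z ⟶ Y) (w₂ : k ≫ h = j ≫ i)
  (w₃ : (k ≫ e) ≫ g = j ≫ (i ≫ f))

theorem main_S6669 [PreservesFiniteLimits (EtCoh.pull e)] [PreservesFiniteLimits (EtCoh.pull k)]
    [PreservesFiniteLimits (EtCoh.pull (k ≫ e))] (F : EtCoh.Ab T) (q : ℕ)
    (h1 : IsIso (EtBC.bcQ g f h e w₁ q F))
    (h2 : IsIso (EtBC.bcQ h i j k w₂ q ((EtCoh.pull e).obj F))) :
    IsIso (EtBC.bcQ g (i ≫ f) j (k ≫ e) w₃ q F) := by
  have hc := bcAdj_comp (EtCoh.push g) (EtCoh.push h) (EtCoh.push j) (EtCoh.push f)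
    (EtCoh.push i) (EtCoh.push (i ≫ f)) (EtCoh.push e) (EtCoh.push k) (EtCoh.push (k ≫ e))
    (EtCoh.pull e) (EtCoh.pull k) (EtCoh.pull (k ≫ e)) (EtCoh.pullPushAdj e).unit
    (EtCoh.pullPushAdj k).unit (EtCoh.pullPushAdj (k ≫ e)).unit (ΘIso g f h e w₁)
    (ΘIso h i j k w₂) (ΘIso g (i ≫ f) j (k ≫ e) w₃) (EtCoh.pushComp e k) (EtCoh.pushComp f i)
    (EtCore.pullComp k e).inv q (fun N => Θ_coh f g h e w₁ i j k w₂ w₃ N)
    (fun F => unit_comp e k F) F
  exact isIso_transpose_vcomp (EtCoh.pullPushAdj f) (EtCoh.pullPushAdj i)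
    (EtCoh.pullPushAdj (i ≫ f)) (EtCoh.pushComp f i).inv (EtBC.bcQAdj g f h e w₁ q F)
    (EtBC.bcQAdj h i j k w₂ q ((EtCoh.pull e).obj F)) (EtBC.bcQAdj g (i ≫ f) j (k ≫ e) w₃ q F)
    ((EtCoh.Rpush j q).mapIso ((EtCore.pullComp k e).symm.app F)) hc h1 h2

end Main

end

end Groth.Agent.Lib.Helper15.BcQ
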