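import Groth.Agent.Lib.Helper15.BcQComp

/-!
# Helper15: abstract "exact base change": the transpose of `bcAdj` is an isomorphism when the
base-change functors are exact, the top one preserves injectives, and the degree-zero base change
map is an isomorphism (towards S6668).

The lemmas `isIso_cyclesComparison`, `isIso_homologyComparison'` are adapted from helper13's
`EdgeOutIso` (copied to avoid its import chain).
-/

set_option autoImplicit false
set_option backward.isDefEq.respectTransparency false

universe v₁ u₁ u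

open CategoryTheory CategoryTheory.Limits HomologicalComplex

namespace Groth.Agent.Lib.Helper15.BcQ

noncomputable section

section Cmp

variable {B : Type*} [Category B] [Abelian B] {C : Type*} [Category C] [Abelian C]
  (Ψ : B ⥤ C) [Ψ.Additive] [PreservesFiniteLimits Ψ]
  {ι' : Type*} {c : ComplexShape ι'} (K : HomologicalComplex B c) (i : ι')

lemma isIso_cyclesComparison : IsIso (RDer.cyclesComparison Ψ K i) := by
  haveI : Mono (Ψ.map (K.iCycles i)) := inferInstance
  have hd : Ψ.map (K.iCycles i) ≫ ((Ψ.mapHomologicalComplex c).obj K).d i (c.next i) = 0 := by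
    rw [Functor.mapHomologicalComplex_obj_d, ← Ψ.map_comp, K.iCycles_d, Ψ.map_zero]
  refine ⟨⟨((Ψ.mapHomologicalComplex c).obj K).liftCycles (Ψ.map (K.iCycles i)) (c.next i) rfl hd,
    ?_, ?_⟩⟩
  · rw [← cancel_mono (((Ψ.mapHomologicalComplex c).obj K).iCycles i), Category.assoc,
      HomologicalComplex.liftCycles_i, RDer.cyclesComparison_i, Category.id_comp]
  · rw [← cancel_mono (Ψ.map (K.iCycles i)), Category.assoc, RDer.cyclesComparison_i,
      HomologicalComplex.liftCycles_i, Category.id_comp]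

theorem isIso_homologyComparison' (j : ι') (hj : c.prev i = j)
    (w : Ψ.map (K.toCycles j i) ≫ Ψ.map (K.homologyπ i) = 0)
    (hex : (ShortComplex.mk (Ψ.map (K.toCycles j i)) (Ψ.map (K.homologyπ i)) w).Exact)
    (hepi : Epi (Ψ.map (K.homologyπ i))) : IsIso (RDer.homologyComparison Ψ K i) := by
  subst hj
  haveI := isIso_cyclesComparison Ψ K i
  haveI := hepi
  have w' : ((Ψ.mapHomologicalComplex c).obj K).toCycles (c.prev i) i ≫
      (RDer.cyclesComparison Ψ K i ≫ Ψ.map (K.homologyπ i)) = 0 := by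
    rw [RDer.toCycles_cyclesComparison_assoc, w]
  have hT : (ShortComplex.mk _ _ w').Exact := by
    refine (ShortComplex.exact_iff_of_iso ?_).2 hex
    refine ShortComplex.isoMk (Iso.refl _) (asIso (RDer.cyclesComparison Ψ K i)) (Iso.refl _) ?_ ?_
    · exact (Category.id_comp _).trans (RDer.toCycles_cyclesComparison Ψ K i).symm
    · exact (Category.comp_id _).symm
  haveI : Epi (ShortComplex.mk _ _ w').g :=
    (inferInstance : Epi (RDer.cyclesComparison Ψ K i ≫ Ψ.map (K.homologyπ i)))
  let hK' := ((Ψ.mapHomologicalComplex c).obj K).homologyIsCokernel (c.prev i) i rfl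
  have he : RDer.homologyComparison Ψ K i =
      (IsColimit.coconePointUniqueUpToIso hK' hT.gIsCokernel).hom := by
    apply Cofork.IsColimit.hom_ext hK'
    exact (RDer.homologyπ_homologyComparison Ψ K i).trans
      (IsColimit.comp_coconePointUniqueUpToIso_hom hK' hT.gIsCokernel
        WalkingParallelPair.one).symm
  rw [he]
  infer_instance

/-- For an exact functor the comparison `H^i (Ψ K) ⟶ Ψ (H^i K)` is an isomorphism. -/
theorem isIso_homologyComparison_of_exact [PreservesFiniteColimits Ψ] :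
    IsIso (RDer.homologyComparison Ψ K i) := by
  have w : Ψ.map (K.toCycles (c.prev i) i) ≫ Ψ.map (K.homologyπ i) = 0 := by
    rw [← Ψ.map_comp, K.toCycles_comp_homologyπ, Ψ.map_zero]
  have hS : (ShortComplex.mk (K.toCycles (c.prev i) i) (K.homologyπ i)
      (K.toCycles_comp_homologyπ (c.prev i) i)).Exact :=
    ShortComplex.exact_of_g_is_cokernel _ (K.homologyIsCokernel (c.prev i) i rfl)
  haveI : Epi (Ψ.map (K.homologyπ i)) := inferInstance
  exact isIso_homologyComparison' Ψ K i (c.prev i) rfl w (hS.map Ψ) inferInstance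

end Cmp

section TL

variable {B C : Type u₁} [Category.{v₁} B] [Category.{v₁} C] [Abelian B] [Abelian C]
  {ι' : Type*} {c : ComplexShape ι'} (q : ι')

/-- naturality of the comparison against a transformation to the identity functor -/
lemma homologyMap_toId {T : B ⥤ B} [T.Additive] [PreservesFiniteLimits T] (γ : T ⟶ 𝟭 B)
    (K : HomologicalComplex B c) (γK : (T.mapHomologicalComplex c).obj K ⟶ K)
    (hγ : ∀ n, γK.f n = γ.app (K.X n)) :
    homologyMap γK q = RDer.homologyComparison T K q ≫ γ.app (K.homology q) := by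
  have n1 := γ.naturality (K.iCycles q)
  have n2 := γ.naturality (K.homologyπ q)
  simp only [Functor.id_map, Functor.id_obj] at n1 n2
  have hc : cyclesMap γK q = RDer.cyclesComparison T K q ≫ γ.app (K.cycles q) := by
    rw [← cancel_mono (K.iCycles q), cyclesMap_i, hγ, Category.assoc, ← n1,
      RDer.cyclesComparison_i_assoc]
  rw [← cancel_epi (((T.mapHomologicalComplex c).obj K).homologyπ q)]
  rw [homologyπ_naturality, RDer.homologyπ_homologyComparison_assoc, hc, Category.assoc, n2]

variable {Lg : C ⥤ B} {E : B ⥤ C} (adjE : Lg ⊣ E) [Lg.Additive] [E.Additive]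
  [PreservesFiniteLimits Lg] [PreservesFiniteLimits E]

/-- the counit on complexes -/
def counitC (M : HomologicalComplex B c) :
    (Lg.mapHomologicalComplex c).obj ((E.mapHomologicalComplex c).obj M) ⟶ M where
  f n := adjE.counit.app (M.X n)
  comm' i j _ := (adjE.counit.naturality (M.d i j)).symm

/-- transposition lemma: the transpose of `hh q E m` is `H^q` of the transpose of `m`. -/
lemma transpose_hh {P : HomologicalComplex C c} {M : HomologicalComplex B c}
    (m : P ⟶ (E.mapHomologicalComplex c).obj M) :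
    RDer.homologyComparison Lg P q ≫ (adjE.homEquiv _ _).symm (hh q E m) =
      homologyMap ((Lg.mapHomologicalComplex c).map m ≫ counitC adjE M) q := by
  rw [Adjunction.homEquiv_counit]
  unfold hh
  rw [Lg.map_comp, Category.assoc, ← homologyMap_homologyComparison_assoc, homologyMap_comp]
  congr 1
  have h1 := homologyComparison_comp E Lg M q
  have h2 := homologyMap_toId q adjE.counit M (counitC adjE M) (fun n => rfl)
  rw [h2, h1, Category.assoc]

end TL

section MapRes

variable {CT CY : Type u₁} [Category.{v₁} CT] [Category.{v₁} CY] [Abelian CT] [Abelian CY]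
  (L : CT ⥤ CY) [L.Additive] [PreservesFiniteLimits L] [PreservesFiniteColimits L]
  [L.PreservesInjectiveObjects]

/-- an exact functor preserving injectives maps injective resolutions to injective resolutions -/
def mapRes {F : CT} (I : InjectiveResolution F) : InjectiveResolution (L.obj F) where
  cocomplex := (L.mapHomologicalComplex _).obj I.cocomplex
  injective n := L.injective_obj (I.cocomplex.X n)
  ι := RDer.mapAug L I.ι
  quasiIso := by
    dsimp only [RDer.mapAug]
    infer_instance

end MapRes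

section Sq'

variable {CT CY CS CX : Type u₁} [Category.{v₁} CT] [Category.{v₁} CY] [Category.{v₁} CS]
  [Category.{v₁} CX] [Abelian CT] [Abelian CY] [Abelian CS] [Abelian CX]
  [HasInjectiveResolutions CT] [HasInjectiveResolutions CY]
  (Φ : CY ⥤ CT) [Φ.Additive] [Φ.PreservesInjectiveObjects]
  (Ψ : CT ⥤ CS) [Ψ.Additive] (Ψ' : CY ⥤ CX) [Ψ'.Additive]
  (E : CX ⥤ CS) [E.Additive] [PreservesFiniteLimits E]
  (θ : Φ ⋙ Ψ ≅ Ψ' ⋙ E) (L : CT ⥤ CY) (u : 𝟭 CT ⟶ L ⋙ Φ) (q : ℕ)

lemma appC_naturality (θ' : Φ ⋙ Ψ ⟶ Ψ' ⋙ E) {K K' : CochainComplex CY ℕ} (ψ : K ⟶ K') :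
    (Ψ.mapHomologicalComplex _).map ((Φ.mapHomologicalComplex _).map ψ) ≫ appC Φ Ψ Ψ' E θ' K' =
      appC Φ Ψ Ψ' E θ' K ≫
        (E.mapHomologicalComplex _).map ((Ψ'.mapHomologicalComplex _).map ψ) := by
  ext n
  exact θ'.naturality (ψ.f n)

/-- `bcAdj_eq` with an arbitrary injective resolution of `L F`. -/
theorem bcAdj_eq' (F : CT) (J' : InjectiveResolution (L.obj F))
    (φ : (injectiveResolution F).cocomplex ⟶ (Φ.mapHomologicalComplex _).obj J'.cocomplex)
    (hφ : (injectiveResolution F).ι.f 0 ≫ φ.f 0 = u.app F ≫ Φ.map (J'.ι.f 0)) :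
    bcAdj Φ Ψ Ψ' E θ L u q F =
      ((injectiveResolution F).isoRightDerivedObj Ψ q).hom ≫
        hh q E ((Ψ.mapHomologicalComplex _).map φ ≫ appC Φ Ψ Ψ' E θ.hom J'.cocomplex) ≫
        E.map (J'.isoRightDerivedObj Ψ' q).inv := by
  obtain ⟨ψ, hψ⟩ : ∃ ψ : J'.cocomplex ⟶ (injectiveResolution (L.obj F)).cocomplex,
      J'.ι.f 0 ≫ ψ.f 0 = 𝟙 (L.obj F) ≫ (injectiveResolution (L.obj F)).ι.f 0 :=
    ⟨InjectiveResolution.desc (𝟙 (L.obj F)) _ _, InjectiveResolution.desc_commutes_zero _ _ _⟩
  have h1 : (Ψ'.rightDerived q).map (𝟙 (L.obj F)) ≫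
      ((injectiveResolution (L.obj F)).isoRightDerivedObj Ψ' q).hom =
      (J'.isoRightDerivedObj Ψ' q).hom ≫ homologyMap ((Ψ'.mapHomologicalComplex _).map ψ) q :=
    InjectiveResolution.isoRightDerivedObj_hom_naturality (𝟙 (L.obj F)) J'
      (injectiveResolution (L.obj F)) ψ hψ Ψ' q
  rw [CategoryTheory.Functor.map_id, Category.id_comp] at h1
  have h1' : homologyMap ((Ψ'.mapHomologicalComplex _).map ψ) q =
      (J'.isoRightDerivedObj Ψ' q).inv ≫
        ((injectiveResolution (L.obj F)).isoRightDerivedObj Ψ' q).hom := by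
    rw [h1, Iso.inv_hom_id_assoc]
  have h2 : homologyMap ((Ψ'.mapHomologicalComplex _).map ψ) q ≫
      ((injectiveResolution (L.obj F)).isoRightDerivedObj Ψ' q).inv =
      (J'.isoRightDerivedObj Ψ' q).inv := by
    rw [h1', Category.assoc, Iso.hom_inv_id, Category.comp_id]
  have hφ₂ : (injectiveResolution F).ι.f 0 ≫ (φ ≫ (Φ.mapHomologicalComplex _).map ψ).f 0 =
      u.app F ≫ Φ.map ((injectiveResolution (L.obj F)).ι.f 0) := by
    rw [HomologicalComplex.comp_f, reassoc_of% hφ]
    show u.app F ≫ Φ.map (J'.ι.f 0) ≫ Φ.map (ψ.f 0) = _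
    rw [← Φ.map_comp, hψ, Category.id_comp]
  rw [bcAdj_eq Φ Ψ Ψ' E θ L u q F (φ ≫ (Φ.mapHomologicalComplex _).map ψ) hφ₂]
  have e1 : (Ψ.mapHomologicalComplex _).map (φ ≫ (Φ.mapHomologicalComplex _).map ψ) ≫
      appC Φ Ψ Ψ' E θ.hom (injectiveResolution (L.obj F)).cocomplex =
      ((Ψ.mapHomologicalComplex _).map φ ≫ appC Φ Ψ Ψ' E θ.hom J'.cocomplex) ≫
        (E.mapHomologicalComplex _).map ((Ψ'.mapHomologicalComplex _).map ψ) := by
    rw [Functor.map_comp, Category.assoc, appC_naturality, Category.assoc]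
  rw [e1, hh_post, Category.assoc, ← E.map_comp, h2]

end Sq'

section EB

variable {CT CY CS CX : Type u₁} [Category.{v₁} CT] [Category.{v₁} CY] [Category.{v₁} CS]
  [Category.{v₁} CX] [Abelian CT] [Abelian CY] [Abelian CS] [Abelian CX]
  [HasInjectiveResolutions CT] [HasInjectiveResolutions CY]
  (Φ : CY ⥤ CT) [Φ.Additive] [Φ.PreservesInjectiveObjects]
  (Ψ : CT ⥤ CS) [Ψ.Additive] (Ψ' : CY ⥤ CX) [Ψ'.Additive]
  (E : CX ⥤ CS) [E.Additive] [PreservesFiniteLimits E]
  (θ : Φ ⋙ Ψ ≅ Ψ' ⋙ E) (L : CT ⥤ CY) [L.Additive] [PreservesFiniteLimits L]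
  [PreservesFiniteColimits L] [L.PreservesInjectiveObjects] (adjL : L ⊣ Φ)
  {Lg : CS ⥤ CX} (adjE : Lg ⊣ E) [Lg.Additive] [PreservesFiniteLimits Lg]
  [PreservesFiniteColimits Lg] (q : ℕ)

/-- the unit on complexes -/
def unitC (K : CochainComplex CT ℕ) :
    K ⟶ (Φ.mapHomologicalComplex _).obj ((L.mapHomologicalComplex _).obj K) where
  f n := adjL.unit.app (K.X n)
  comm' i j _ := (adjL.unit.naturality (K.d i j)).symm

/-- exact base change, abstract form -/
theorem isIso_transpose_bcAdj
    (hbc0 : ∀ N : CT, IsIso ((adjE.homEquiv _ _).symm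
      (Ψ.map (adjL.unit.app N) ≫ θ.hom.app (L.obj N))))
    (F : CT) :
    IsIso ((adjE.homEquiv _ _).symm (bcAdj Φ Ψ Ψ' E θ L adjL.unit q F)) := by
  have hφ : (injectiveResolution F).ι.f 0 ≫
      (unitC Φ L adjL (injectiveResolution F).cocomplex).f 0 =
      adjL.unit.app F ≫ Φ.map ((mapRes L (injectiveResolution F)).ι.f 0) := by
    have e1 : (mapRes L (injectiveResolution F)).ι.f 0 =
        L.map ((injectiveResolution F).ι.f 0) := mapAug_f_zero L _
    rw [e1]
    exact adjL.unit.naturality ((injectiveResolution F).ι.f 0)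
  rw [bcAdj_eq' Φ Ψ Ψ' E θ L adjL.unit q F (mapRes L (injectiveResolution F))
    (unitC Φ L adjL (injectiveResolution F).cocomplex) hφ]
  rw [Adjunction.homEquiv_naturality_left_symm, Adjunction.homEquiv_naturality_right_symm]
  haveI : IsIso (RDer.homologyComparison Lg
      ((Ψ.mapHomologicalComplex _).obj (injectiveResolution F).cocomplex) q) :=
    isIso_homologyComparison_of_exact Lg _ q
  have key := transpose_hh q adjE ((Ψ.mapHomologicalComplex _).map
    (unitC Φ L adjL (injectiveResolution F).cocomplex) ≫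
      appC Φ Ψ Ψ' E θ.hom (mapRes L (injectiveResolution F)).cocomplex)
  haveI : ∀ n, IsIso (((Lg.mapHomologicalComplex _).map ((Ψ.mapHomologicalComplex _).map
      (unitC Φ L adjL (injectiveResolution F).cocomplex) ≫
        appC Φ Ψ Ψ' E θ.hom (mapRes L (injectiveResolution F)).cocomplex) ≫
      counitC adjE ((Ψ'.mapHomologicalComplex _).obj
        (mapRes L (injectiveResolution F)).cocomplex)).f n) := by
    intro n
    have := hbc0 ((injectiveResolution F).cocomplex.X n)
    rw [Adjunction.homEquiv_counit] at this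
    exact this
  haveI : IsIso ((Lg.mapHomologicalComplex _).map ((Ψ.mapHomologicalComplex _).map
      (unitC Φ L adjL (injectiveResolution F).cocomplex) ≫
        appC Φ Ψ Ψ' E θ.hom (mapRes L (injectiveResolution F)).cocomplex) ≫
      counitC adjE ((Ψ'.mapHomologicalComplex _).obj
        (mapRes L (injectiveResolution F)).cocomplex)) :=
    HomologicalComplex.Hom.isIso_of_components _
  haveI : IsIso (homologyMap ((Lg.mapHomologicalComplex _).map ((Ψ.mapHomologicalComplex _).map
      (unitC Φ L adjL (injectiveResolution F).cocomplex) ≫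
        appC Φ Ψ Ψ' E θ.hom (mapRes L (injectiveResolution F)).cocomplex) ≫
      counitC adjE ((Ψ'.mapHomologicalComplex _).obj
        (mapRes L (injectiveResolution F)).cocomplex)) q) :=
    (inferInstance : IsIso ((HomologicalComplex.homologyFunctor _ _ q).map _))
  rw [← key] at this
  have hmid := IsIso.of_isIso_comp_left (RDer.homologyComparison Lg
      ((Ψ.mapHomologicalComplex _).obj (injectiveResolution F).cocomplex) q)
    ((adjE.homEquiv _ _).symm (hh q E ((Ψ.mapHomologicalComplex _).map
      (unitC Φ L adjL (injectiveResolution F).cocomplex) ≫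
        appC Φ Ψ Ψ' E θ.hom (mapRes L (injectiveResolution F)).cocomplex)))
  exact IsIso.comp_isIso' inferInstance (IsIso.comp_isIso' hmid inferInstance)

end EB

end

end Groth.Agent.Lib.Helper15.BcQ
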