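import Groth.Agent.Lib.Helper13.EtaleRestr
import Groth.Agent.Lib.Helper15.FinitePushVanish
import Groth.Agent.Lib.Helper15.BcQEtaleAbs

/-!
# Helper15: etale base change for the degree-`q` base change map `EtBC.bcQ` (towards S6668)

For a cartesian square with etale base-change map `g`, `g⁻¹ R^q f_* F ⟶ R^q f'_* g'⁻¹ F` is an
isomorphism.
-/

set_option autoImplicit false
set_option backward.isDefEq.respectTransparency false
universe u

open CategoryTheory CategoryTheory.Limits AlgebraicGeometry Opposite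
open Groth.Agent.Lib.Helper13.EtaleRestr Groth.Agent.Lib.Helper13.ExtZeroExact
open Groth.Agent.Lib.Helper15.BcVcomp Groth.Agent.Lib.Helper15.FinitePushBC
open Groth.Agent.Lib.Helper15.FinitePushVanish

namespace Groth.Agent.Lib.Helper15.BcQEt

section Abs

variable {𝒜 ℬ 𝒜' ℬ' : Type*} [Category 𝒜] [Category ℬ] [Category 𝒜'] [Category ℬ']
  {Ψ : 𝒜 ⥤ ℬ} {Ψ' : 𝒜' ⥤ ℬ'} {Φ : 𝒜' ⥤ 𝒜} {E : ℬ' ⥤ ℬ} (θ : Φ ⋙ Ψ ⟶ Ψ' ⋙ E)
  {L₁ L₂ : 𝒜 ⥤ 𝒜'} (a₁ : L₁ ⊣ Φ) (a₂ : L₂ ⊣ Φ) {M₁ M₂ : ℬ ⥤ ℬ'} (b₁ : M₁ ⊣ E) (b₂ : M₂ ⊣ E)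

/-- whether the mate of `θ` is an isomorphism does not depend on the choice of left adjoints -/
lemma isIso_mate_of_isIso_mate (N : 𝒜)
    (h : IsIso ((b₂.homEquiv _ _).symm (Ψ.map (a₂.unit.app N) ≫ θ.app (L₂.obj N)))) :
    IsIso ((b₁.homEquiv _ _).symm (Ψ.map (a₁.unit.app N) ≫ θ.app (L₁.obj N))) := by
  have hu : a₁.unit.app N ≫ Φ.map ((a₁.leftAdjointUniq a₂).hom.app N) = a₂.unit.app N :=
    Adjunction.unit_leftAdjointUniq_hom_app a₁ a₂ N
  have hγ : Ψ.map (a₂.unit.app N) ≫ θ.app (L₂.obj N) =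
      (Ψ.map (a₁.unit.app N) ≫ θ.app (L₁.obj N)) ≫
        E.map (Ψ'.map ((a₁.leftAdjointUniq a₂).hom.app N)) := by
    have nθ := θ.naturality ((a₁.leftAdjointUniq a₂).hom.app N)
    simp only [Functor.comp_map] at nθ
    rw [← hu, Ψ.map_comp, Category.assoc, Category.assoc, nθ]
  rw [hγ, Adjunction.homEquiv_naturality_right_symm] at h
  have h' : IsIso ((b₂.homEquiv _ _).symm (Ψ.map (a₁.unit.app N) ≫ θ.app (L₁.obj N))) :=
    IsIso.of_isIso_comp_right _ (Ψ'.map ((a₁.leftAdjointUniq a₂).hom.app N))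
  have e : (b₁.homEquiv _ _).symm (Ψ.map (a₁.unit.app N) ≫ θ.app (L₁.obj N)) =
      (b₁.leftAdjointUniq b₂).hom.app _ ≫
        (b₂.homEquiv _ _).symm (Ψ.map (a₁.unit.app N) ≫ θ.app (L₁.obj N)) := by
    rw [Adjunction.homEquiv_counit, Adjunction.homEquiv_counit,
      ← Adjunction.leftAdjointUniq_hom_app_counit b₁ b₂, ← Category.assoc, ← Category.assoc,
      (b₁.leftAdjointUniq b₂).hom.naturality]
  rw [e]
  infer_instance

end Abs

section Conc

variable {X S X' S' : Scheme.{u}} (f : X ⟶ S) (g : S' ⟶ S) [Etale g] (f' : X' ⟶ S') (g' : X' ⟶ X)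
  [Etale g'] (h : IsPullback g' f' f g)

/-- the site-level mate -/
noncomputable def ψ (W : S'.Etale) :
    (EtShriek.compEtale g').obj ((EtCoh.bc f').obj W) ⟶
      (EtCoh.bc f).obj ((EtShriek.compEtale g).obj W) :=
  (EtShriek.compEtale g').map ((EtCoh.bc f').map ((adjSites g).unit.app W)) ≫
    (EtShriek.compEtale g').map (θ f g f' g' h.w ((EtShriek.compEtale g).obj W)) ≫
    (adjSites g').counit.app ((EtCoh.bc f).obj ((EtShriek.compEtale g).obj W))

lemma bc0Restr_app (N : EtCoh.Ab X) (W : S'.Etale) :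
    (((restrPushAdj g).homEquiv _ _).symm ((EtCoh.push f).map ((restrPushAdj g').unit.app N) ≫
      (ΘIso f g f' g' h.w).hom.app ((EtShriek.restrAlong g').obj N))).hom.app (op W) =
    N.obj.map (ψ f g f' g' h W).op := by
  rw [Adjunction.homEquiv_counit]
  have e2 := ΘIso_app f g f' g' h.w ((EtShriek.restrAlong g').obj N) ((EtShriek.compEtale g).obj W)
  show (N.obj.map ((adjSites g').counit.app ((EtCoh.bc f).obj ((EtShriek.compEtale g).obj W))).op ≫
    ((ΘIso f g f' g' h.w).hom.app ((EtShriek.restrAlong g').obj N)).hom.app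
      (op ((EtShriek.compEtale g).obj W))) ≫
    N.obj.map ((EtShriek.compEtale g').map ((EtCoh.bc f').map ((adjSites g).unit.app W))).op = _
  rw [e2]
  show (N.obj.map ((adjSites g').counit.app ((EtCoh.bc f).obj ((EtShriek.compEtale g).obj W))).op ≫
    N.obj.map ((EtShriek.compEtale g').map (θ f g f' g' h.w ((EtShriek.compEtale g).obj W))).op) ≫
    N.obj.map ((EtShriek.compEtale g').map ((EtCoh.bc f').map ((adjSites g).unit.app W))).op = _
  rw [← Functor.map_comp, ← Functor.map_comp, ← op_comp, ← op_comp]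
  rfl

lemma ψ_eq (W : S'.Etale) : ψ f g f' g' h W = (bcCompIso f g g' f' h).hom.app W := by
  apply MorphismProperty.Over.Hom.ext
  apply pullback.hom_ext
  · show (ψ f g f' g' h W).left ≫ π f ((EtShriek.compEtale g).obj W) = _
    have e1 : ((bcCompIso f g g' f' h).hom.app W).left ≫ pullback.fst (W.hom ≫ g) f =
        pullback.fst W.hom f' := IsPullback.isoPullback_hom_fst _
    refine Eq.trans ?_ e1.symm
    unfold ψ
    simp only [comp_left', Category.assoc]
    have e3 : ((adjSites g').counit.app ((EtCoh.bc f).obj ((EtShriek.compEtale g).obj W))).left =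
        π g' ((EtCoh.bc f).obj ((EtShriek.compEtale g).obj W)) := rfl
    have e4 : ((adjSites g).unit.app W).left ≫ π g ((EtShriek.compEtale g).obj W) = 𝟙 _ := by
      simp [adjSites, π]
    rw [e3]
    show ((EtCoh.bc f').map ((adjSites g).unit.app W)).left ≫
      (θ f g f' g' h.w ((EtShriek.compEtale g).obj W)).left ≫ _ = _
    rw [θ_π]
    exact ((Category.assoc _ _ _).symm.trans
      (congrArg (· ≫ π g ((EtShriek.compEtale g).obj W)) (π_map f' ((adjSites g).unit.app W)))).trans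
      ((Category.assoc _ _ _).trans ((congrArg (π f' W ≫ ·) e4).trans (Category.comp_id _)))
  · exact (MorphismProperty.Over.w (ψ f g f' g' h W)).trans
      (MorphismProperty.Over.w ((bcCompIso f g g' f' h).hom.app W)).symm

lemma isIso_bc0Restr (N : EtCoh.Ab X) :
    IsIso (((restrPushAdj g).homEquiv _ _).symm
      ((EtCoh.push f).map ((restrPushAdj g').unit.app N) ≫
        (ΘIso f g f' g' h.w).hom.app ((EtShriek.restrAlong g').obj N))) := by
  haveI : ∀ V, IsIso ((((restrPushAdj g).homEquiv _ _).symm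
      ((EtCoh.push f).map ((restrPushAdj g').unit.app N) ≫
        (ΘIso f g f' g' h.w).hom.app ((EtShriek.restrAlong g').obj N))).hom.app V) := by
    intro V
    have e := bc0Restr_app f g f' g' h N V.unop
    rw [ψ_eq] at e
    show IsIso ((((restrPushAdj g).homEquiv _ _).symm
      ((EtCoh.push f).map ((restrPushAdj g').unit.app N) ≫
        (ΘIso f g f' g' h.w).hom.app ((EtShriek.restrAlong g').obj N))).hom.app (op V.unop))
    rw [e]
    infer_instance
  obtain ⟨φ, hφ⟩ : ∃ φ, φ = ((restrPushAdj g).homEquiv _ _).symm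
      ((EtCoh.push f).map ((restrPushAdj g').unit.app N) ≫
        (ΘIso f g f' g' h.w).hom.app ((EtShriek.restrAlong g').obj N)) := ⟨_, rfl⟩
  rw [← hφ] at this ⊢
  haveI : IsIso φ.hom := NatIso.isIso_of_isIso_app _
  haveI : IsIso ((sheafToPresheaf S'.smallEtaleTopology AddCommGrpCat.{u + 1}).map φ) :=
    (inferInstance : IsIso φ.hom)
  exact isIso_of_reflects_iso φ (sheafToPresheaf _ _)

lemma isIso_bc0 (N : EtCoh.Ab X) :
    IsIso (((EtCoh.pullPushAdj g).homEquiv _ _).symm
      ((EtCoh.push f).map ((EtCoh.pullPushAdj g').unit.app N) ≫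
        (ΘIso f g f' g' h.w).hom.app ((EtCoh.pull g').obj N))) :=
  isIso_mate_of_isIso_mate (ΘIso f g f' g' h.w).hom (EtCoh.pullPushAdj g') (restrPushAdj g')
    (EtCoh.pullPushAdj g) (restrPushAdj g) N (isIso_bc0Restr f g f' g' h N)

end Conc

section Inst

variable {U X : Scheme.{u}} (j : U ⟶ X) [Etale j]

lemma pull_preservesFiniteLimits_of_etale : PreservesFiniteLimits (EtCoh.pull j) := by
  haveI : PreservesLimitsOfSize.{0, 0} (EtShriek.restrAlong j) :=
    (EtShriek.extZeroAdj j).rightAdjoint_preservesLimits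
  haveI : PreservesFiniteLimits (EtShriek.restrAlong j) :=
    PreservesLimitsOfSize.preservesFiniteLimits _
  exact preservesFiniteLimits_of_natIso (pullIsoRestr j).symm

lemma pull_preservesFiniteColimits (f : U ⟶ X) : PreservesFiniteColimits (EtCoh.pull f) := by
  haveI : PreservesColimitsOfSize.{0, 0} (EtCoh.pull f) :=
    (EtCoh.pullPushAdj f).leftAdjoint_preservesColimits
  exact PreservesColimitsOfSize.preservesFiniteColimits _

end Inst

section EB

variable {X S X' S' : Scheme.{u}} (f : X ⟶ S) (g : S' ⟶ S) [Etale g] (f' : X' ⟶ S') (g' : X' ⟶ X)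
  (h : IsPullback g' f' f g)

open Groth.Agent.Lib.Helper15.BcQ in
/-- **Etale base change**: for a cartesian square with `g` etale, the degree-`q` base change map
is an isomorphism. -/
theorem isIso_bcQ_of_etale [PreservesFiniteLimits (EtCoh.pull g')] (q : ℕ) (F : EtCoh.Ab X) :
    IsIso (EtBC.bcQ f g f' g' h.w q F) := by
  haveI : Etale g' := MorphismProperty.of_isPullback (P := @Etale) h.flip inferInstance
  haveI : PreservesFiniteLimits (EtCoh.pull g) := pull_preservesFiniteLimits_of_etale g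
  haveI : PreservesFiniteColimits (EtCoh.pull g) := pull_preservesFiniteColimits g
  haveI : PreservesFiniteColimits (EtCoh.pull g') := pull_preservesFiniteColimits g'
  haveI : (EtCoh.pull g).Additive := (EtCoh.pullPushAdj g).left_adjoint_additive
  haveI : (EtCoh.pull g').Additive := (EtCoh.pullPushAdj g').left_adjoint_additive
  unfold EtBC.bcQ
  rw [bcQAdj_eq_bcAdj]
  exact isIso_transpose_bcAdj (EtCoh.push g') (EtCoh.push f) (EtCoh.push f') (EtCoh.push g)
    (ΘIso f g f' g' h.w) (EtCoh.pull g') (EtCoh.pullPushAdj g') (EtCoh.pullPushAdj g) q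
    (fun N => isIso_bc0 f g f' g' h N) F

end EB

end Groth.Agent.Lib.Helper15.BcQEt
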