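import Mathlib
import Groth.Prelude.Def_RDer

/-!
# Helper15: homotopy uniqueness of lifts into complexes of injectives, and naturality of
`RDer.homologyComparison`
-/

set_option autoImplicit false
set_option backward.isDefEq.respectTransparency false

universe v₁ v₂ v₃ u₁ u₂ u₃

open CategoryTheory CategoryTheory.Limits HomologicalComplex

namespace Groth.Agent.Lib.Helper15.BcQ

noncomputable section

section Htpy

variable {A : Type u₁} [Category.{v₁} A] [Abelian A]
variable {Y : A} (I : InjectiveResolution Y) (L : CochainComplex A ℕ) [∀ n, Injective (L.X n)]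

/-- degree zero of the null-homotopy -/
def hZero (f : I.cocomplex ⟶ L) (comm : I.ι.f 0 ≫ f.f 0 = 0) : I.cocomplex.X 1 ⟶ L.X 0 :=
  I.exact₀.descToInjective (f.f 0) comm

@[reassoc (attr := simp)]
lemma comp_hZero (f : I.cocomplex ⟶ L) (comm : I.ι.f 0 ≫ f.f 0 = 0) :
    I.cocomplex.d 0 1 ≫ hZero I L f comm = f.f 0 :=
  I.exact₀.comp_descToInjective _ _

/-- degree one of the null-homotopy -/
def hOne (f : I.cocomplex ⟶ L) (comm : I.ι.f 0 ≫ f.f 0 = 0) : I.cocomplex.X 2 ⟶ L.X 1 :=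
  (I.exact_succ 0).descToInjective (f.f 1 - hZero I L f comm ≫ L.d 0 1) (by
    show I.cocomplex.d 0 1 ≫ (f.f 1 - hZero I L f comm ≫ L.d 0 1) = 0
    rw [Preadditive.comp_sub, comp_hZero_assoc, HomologicalComplex.Hom.comm, sub_self])

@[reassoc (attr := simp)]
lemma comp_hOne (f : I.cocomplex ⟶ L) (comm : I.ι.f 0 ≫ f.f 0 = 0) :
    I.cocomplex.d 1 2 ≫ hOne I L f comm = f.f 1 - hZero I L f comm ≫ L.d 0 1 :=
  (I.exact_succ 0).comp_descToInjective _ _

/-- successor step of the null-homotopy -/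
def hSucc (f : I.cocomplex ⟶ L) (n : ℕ) (g : I.cocomplex.X (n + 1) ⟶ L.X n)
    (g' : I.cocomplex.X (n + 2) ⟶ L.X (n + 1))
    (w : f.f (n + 1) = I.cocomplex.d (n + 1) (n + 2) ≫ g' + g ≫ L.d n (n + 1)) :
    I.cocomplex.X (n + 3) ⟶ L.X (n + 2) :=
  (I.exact_succ (n + 1)).descToInjective (f.f (n + 2) - g' ≫ L.d _ _) (by
    show I.cocomplex.d (n + 1) (n + 2) ≫ (f.f (n + 2) - g' ≫ L.d (n + 1) (n + 2)) = 0
    rw [Preadditive.comp_sub, ← HomologicalComplex.Hom.comm, w, Preadditive.add_comp,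
      Category.assoc, Category.assoc, HomologicalComplex.d_comp_d, comp_zero,
      add_zero, sub_self])

@[reassoc (attr := simp)]
lemma comp_hSucc (f : I.cocomplex ⟶ L) (n : ℕ) (g : I.cocomplex.X (n + 1) ⟶ L.X n)
    (g' : I.cocomplex.X (n + 2) ⟶ L.X (n + 1))
    (w : f.f (n + 1) = I.cocomplex.d (n + 1) (n + 2) ≫ g' + g ≫ L.d n (n + 1)) :
    I.cocomplex.d (n + 2) (n + 3) ≫ hSucc I L f n g g' w = f.f (n + 2) - g' ≫ L.d _ _ :=
  (I.exact_succ (n + 1)).comp_descToInjective _ _

/-- A cochain map from an injective resolution to a complex of injectives which kills the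
augmentation is null-homotopic. -/
def htpyZero (f : I.cocomplex ⟶ L) (comm : I.ι.f 0 ≫ f.f 0 = 0) : Homotopy f 0 :=
  Homotopy.mkCoinductive _ (hZero I L f comm) (by simp)
    (hOne I L f comm) (by simp) (fun n ⟨g, g', w⟩ =>
    ⟨hSucc I L f n g g' (by simp only [w, add_comm]), by simp⟩)

/-- Two cochain maps from an injective resolution to a complex of injectives which agree on the
augmentation are homotopic. -/
def htpy (f g : I.cocomplex ⟶ L) (h : I.ι.f 0 ≫ f.f 0 = I.ι.f 0 ≫ g.f 0) : Homotopy f g :=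
  Homotopy.equivSubZero.invFun (htpyZero I L (f - g) (by
    rw [HomologicalComplex.sub_f_apply, Preadditive.comp_sub, h, sub_self]))

end Htpy

section HMap

variable {A : Type u₁} [Category.{v₁} A] [Abelian A] {B : Type u₂} [Category.{v₂} B] [Abelian B]

lemma homologyMap_map_eq (Ψ : A ⥤ B) [Ψ.Additive] {K L : CochainComplex A ℕ} {f g : K ⟶ L}
    (h : Homotopy f g) (n : ℕ) :
    homologyMap ((Ψ.mapHomologicalComplex _).map f) n =
      homologyMap ((Ψ.mapHomologicalComplex _).map g) n :=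
  (Ψ.mapHomotopy h).homologyMap_eq n

end HMap

section Nat

variable {B : Type u₁} [Category.{v₁} B] [Abelian B] {C : Type u₂} [Category.{v₂} C] [Abelian C]
  {D : Type u₃} [Category.{v₃} D] [Abelian D]
  {ι' : Type*} {c : ComplexShape ι'}

section N1

variable (Ψ : B ⥤ C) [Ψ.Additive] [PreservesFiniteLimits Ψ]
  {K K' : HomologicalComplex B c} (m : K ⟶ K') (i : ι')

@[reassoc]
lemma cyclesMap_cyclesComparison :
    cyclesMap ((Ψ.mapHomologicalComplex c).map m) i ≫ RDer.cyclesComparison Ψ K' i =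
      RDer.cyclesComparison Ψ K i ≫ Ψ.map (cyclesMap m i) := by
  rw [← cancel_mono (Ψ.map (K'.iCycles i))]
  simp only [Category.assoc, RDer.cyclesComparison_i, ← Ψ.map_comp, cyclesMap_i]
  rw [Ψ.map_comp, RDer.cyclesComparison_i_assoc]
  rfl

@[reassoc]
lemma homologyMap_homologyComparison :
    homologyMap ((Ψ.mapHomologicalComplex c).map m) i ≫ RDer.homologyComparison Ψ K' i =
      RDer.homologyComparison Ψ K i ≫ Ψ.map (homologyMap m i) := by
  rw [← cancel_epi (((Ψ.mapHomologicalComplex c).obj K).homologyπ i)]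
  rw [homologyπ_naturality_assoc, RDer.homologyπ_homologyComparison,
    cyclesMap_cyclesComparison_assoc, RDer.homologyπ_homologyComparison_assoc,
    ← Ψ.map_comp, ← Ψ.map_comp, homologyπ_naturality]

end N1

section N2

variable {Ψ Ψ' : B ⥤ C} [Ψ.Additive] [PreservesFiniteLimits Ψ] [Ψ'.Additive]
  [PreservesFiniteLimits Ψ'] (γ : Ψ ⟶ Ψ') (K : HomologicalComplex B c) (i : ι')

@[reassoc]
lemma cyclesMap_app_cyclesComparison :
    cyclesMap ((NatTrans.mapHomologicalComplex γ c).app K) i ≫ RDer.cyclesComparison Ψ' K i =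
      RDer.cyclesComparison Ψ K i ≫ γ.app (K.cycles i) := by
  rw [← cancel_mono (Ψ'.map (K.iCycles i))]
  simp only [Category.assoc, RDer.cyclesComparison_i, cyclesMap_i]
  rw [← γ.naturality, RDer.cyclesComparison_i_assoc]
  rfl

@[reassoc]
lemma homologyMap_app_homologyComparison :
    homologyMap ((NatTrans.mapHomologicalComplex γ c).app K) i ≫
        RDer.homologyComparison Ψ' K i =
      RDer.homologyComparison Ψ K i ≫ γ.app (K.homology i) := by
  rw [← cancel_epi (((Ψ.mapHomologicalComplex c).obj K).homologyπ i)]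
  rw [homologyπ_naturality_assoc, RDer.homologyπ_homologyComparison,
    cyclesMap_app_cyclesComparison_assoc, RDer.homologyπ_homologyComparison_assoc,
    γ.naturality]

end N2

section N3

variable (Ψ₁ : B ⥤ C) [Ψ₁.Additive] [PreservesFiniteLimits Ψ₁] (Ψ₂ : C ⥤ D) [Ψ₂.Additive]
  [PreservesFiniteLimits Ψ₂] (K : HomologicalComplex B c) (i : ι')

lemma cyclesComparison_comp :
    RDer.cyclesComparison (Ψ₁ ⋙ Ψ₂) K i =
      RDer.cyclesComparison Ψ₂ ((Ψ₁.mapHomologicalComplex c).obj K) i ≫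
        Ψ₂.map (RDer.cyclesComparison Ψ₁ K i) := by
  rw [← cancel_mono ((Ψ₁ ⋙ Ψ₂).map (K.iCycles i)), RDer.cyclesComparison_i]
  show _ = (RDer.cyclesComparison Ψ₂ ((Ψ₁.mapHomologicalComplex c).obj K) i ≫
        Ψ₂.map (RDer.cyclesComparison Ψ₁ K i)) ≫ Ψ₂.map (Ψ₁.map (K.iCycles i))
  rw [Category.assoc, ← Ψ₂.map_comp, RDer.cyclesComparison_i, RDer.cyclesComparison_i]
  rfl

lemma homologyComparison_comp :
    RDer.homologyComparison (Ψ₁ ⋙ Ψ₂) K i =
      RDer.homologyComparison Ψ₂ ((Ψ₁.mapHomologicalComplex c).obj K) i ≫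
        Ψ₂.map (RDer.homologyComparison Ψ₁ K i) := by
  rw [← cancel_epi ((((Ψ₁ ⋙ Ψ₂).mapHomologicalComplex c).obj K).homologyπ i),
    RDer.homologyπ_homologyComparison, cyclesComparison_comp]
  show _ = ((Ψ₂.mapHomologicalComplex c).obj ((Ψ₁.mapHomologicalComplex c).obj K)).homologyπ i ≫
      RDer.homologyComparison Ψ₂ ((Ψ₁.mapHomologicalComplex c).obj K) i ≫
        Ψ₂.map (RDer.homologyComparison Ψ₁ K i)
  rw [RDer.homologyπ_homologyComparison_assoc, ← Ψ₂.map_comp,
    RDer.homologyπ_homologyComparison, Ψ₂.map_comp, Category.assoc]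
  rfl

end N3

end Nat

end

end Groth.Agent.Lib.Helper15.BcQ
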