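import Groth.Agent.Lib.Helper15.BcQEtale

/-!
# Helper15: the degree-`q` base change map `EtBC.bcQ` is an isomorphism if it is so etale-locally
(S6668)
-/

set_option autoImplicit false
set_option backward.isDefEq.respectTransparency false
universe u

open CategoryTheory CategoryTheory.Limits AlgebraicGeometry Opposite
open Groth.Agent.Lib.Helper13.EtaleRestr Groth.Agent.Lib.Helper13.ExtZeroExact
open Groth.Agent.Lib.Helper15.BcVcomp

namespace Groth.Agent.Lib.Helper15.BcQLoc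

section Univ

variable {C D E : Type*} [Category C] [Category D] [Category E]

lemma IsUniv.comp_natTrans {G G' : D ⥤ C} (c : G ⟶ G') [∀ M, IsIso (c.app M)] {A : C} {N : D}
    {x : A ⟶ G.obj N} (hx : IsUniv G x) : IsUniv G' (x ≫ c.app N) := by
  intro M
  have : (fun φ : N ⟶ M => (x ≫ c.app N) ≫ G'.map φ) =
      (fun z : A ⟶ G.obj M => z ≫ c.app M) ∘ (fun φ : N ⟶ M => x ≫ G.map φ) := by
    funext φ
    simp
  rw [this]
  refine Function.Bijective.comp ?_ (hx M)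
  exact ⟨fun a b hab => (cancel_mono (c.app M)).1 hab,
    fun z => ⟨z ≫ inv (c.app M), by simp⟩⟩

/-- two-out-of-three for the horizontal composition of transposed base change maps -/
theorem isIso_map_transpose_of_vcomp {F₁ : C ⥤ D} {G₁ : D ⥤ C} (adj₁ : F₁ ⊣ G₁) {F₂ : D ⥤ E}
    {G₂ : E ⥤ D} (adj₂ : F₂ ⊣ G₂) {F₃ : C ⥤ E} {G₃ : E ⥤ C} (adj₃ : F₃ ⊣ G₃)
    (c : G₃ ⟶ G₂ ⋙ G₁) [∀ M, IsIso (c.app M)] {A : C} {N₁ : D} {N₂ N₃ : E}
    (b₁ : A ⟶ G₁.obj N₁) (b₂ : N₁ ⟶ G₂.obj N₂) (b₃ : A ⟶ G₃.obj N₃) (t : N₂ ≅ N₃)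
    (hc : b₃ ≫ c.app N₃ = b₁ ≫ G₁.map b₂ ≫ G₁.map (G₂.map t.hom))
    (h3 : IsIso ((adj₃.homEquiv _ _).symm b₃)) (h2 : IsIso ((adj₂.homEquiv _ _).symm b₂)) :
    IsIso (F₂.map ((adj₁.homEquiv _ _).symm b₁)) := by
  rw [isIso_transpose_iff] at h3
  have u3 := IsUniv.comp_natTrans c h3
  rw [hc] at u3
  have u3' : IsUniv (G₂ ⋙ G₁) (N := N₃) (b₁ ≫ G₁.map (b₂ ≫ G₂.map t.hom)) := by
    rw [G₁.map_comp]
    exact u3
  rw [← isIso_transpose_iff (adj₁.comp adj₂)] at u3'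
  have key : ((adj₁.comp adj₂).homEquiv A N₃).symm (b₁ ≫ G₁.map (b₂ ≫ G₂.map t.hom)) =
      F₂.map ((adj₁.homEquiv _ _).symm b₁) ≫ (adj₂.homEquiv _ _).symm b₂ ≫ t.hom := by
    rw [Adjunction.comp_homEquiv]
    show (adj₂.homEquiv _ _).symm ((adj₁.homEquiv _ _).symm
      (b₁ ≫ G₁.map (b₂ ≫ G₂.map t.hom))) = _
    rw [Adjunction.homEquiv_naturality_right_symm, Adjunction.homEquiv_naturality_left_symm,
      Adjunction.homEquiv_naturality_right_symm]
  rw [key] at u3'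
  haveI := h2
  haveI := u3'
  exact IsIso.of_isIso_comp_right _ ((adj₂.homEquiv _ _).symm b₂ ≫ t.hom)

end Univ

section Loc

variable {X : Scheme.{u}} {ι : Type u} (U : ι → X.Etale)

set_option backward.isDefEq.respectTransparency.types false in
/-- restrictions to the members of an etale covering are jointly faithful -/
lemma restr_jointly_faithful (hU : EtCoh.Covers U) [∀ i, Etale (U i).hom] {A B : EtCoh.Ab X}
    (a b : A ⟶ B)
    (hab : ∀ i, (EtShriek.restrAlong (U i).hom).map a = (EtShriek.restrAlong (U i).hom).map b) :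
    a = b := by
  apply ObjectProperty.hom_ext
  ext V : 2
  induction V using Opposite.rec with
  | _ V =>
    have hc : Sieve.ofArrows
        (fun i : ι => (EtShriek.compEtale (U i).hom).obj ((EtCoh.bc (U i).hom).obj V))
        (fun i => (adjSites (U i).hom).counit.app V) ∈ X.smallEtaleTopology V := by
      rw [Scheme.ofArrows_mem_smallEtaleTopology_iff]
      ext x
      simp only [Set.mem_iUnion, Set.mem_range, Set.mem_univ, iff_true]
      obtain ⟨i, y, hy⟩ := hU (V.hom.base x)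
      obtain ⟨z, hz1, hz2⟩ := Scheme.Pullback.exists_preimage_pullback x y hy.symm
      exact ⟨i, z, hz1⟩
    refine B.property.hom_ext_ofArrows _ hc (fun i => ?_)
    rw [← a.hom.naturality, ← b.hom.naturality]
    congr 1
    exact congr_app (congrArg (fun m => m.hom) (hab i)) (op ((EtCoh.bc (U i).hom).obj V))

/-- a morphism of abelian etale sheaves is an isomorphism if it is so after pullback to the members
of an etale covering -/
theorem isIso_of_pull_cover (hU : EtCoh.Covers U) {A B : EtCoh.Ab X} (β : A ⟶ B)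
    (h : ∀ i, IsIso ((EtCoh.pull (U i).hom).map β)) : IsIso β := by
  haveI : ∀ i, Etale (U i).hom := fun i => (U i).prop
  have h' : ∀ i, IsIso ((EtShriek.restrAlong (U i).hom).map β) := fun i =>
    (NatIso.isIso_map_iff (pullIsoRestr (U i).hom) β).1 (h i)
  haveI : Mono β := ⟨fun {Z} a b hab => restr_jointly_faithful U hU a b (fun i => by
    haveI := h' i
    rw [← cancel_mono ((EtShriek.restrAlong (U i).hom).map β), ← Functor.map_comp,
      ← Functor.map_comp, hab])⟩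
  haveI : Epi β := ⟨fun {Z} a b hab => restr_jointly_faithful U hU a b (fun i => by
    haveI := h' i
    rw [← cancel_epi ((EtShriek.restrAlong (U i).hom).map β), ← Functor.map_comp,
      ← Functor.map_comp, hab])⟩
  exact isIso_of_mono_of_epi β

end Loc

section Main

open Groth.Agent.Lib.Helper15.BcQ Groth.Agent.Lib.Helper15.BcQEt

lemma isIso_bcQ_congr {X S X' S' : Scheme.{u}} (f : X ⟶ S) {g₁ g₂ : S' ⟶ S} (hg : g₁ = g₂)
    (f' : X' ⟶ S') {g'₁ g'₂ : X' ⟶ X} (hg' : g'₁ = g'₂) (w₁ : g'₁ ≫ f = f' ≫ g₁)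
    (w₂ : g'₂ ≫ f = f' ≫ g₂) [PreservesFiniteLimits (EtCoh.pull g'₁)]
    [PreservesFiniteLimits (EtCoh.pull g'₂)] (q : ℕ) (F : EtCoh.Ab X)
    (h : IsIso (EtBC.bcQ f g₁ f' g'₁ w₁ q F)) : IsIso (EtBC.bcQ f g₂ f' g'₂ w₂ q F) := by
  subst hg
  subst hg'
  exact h

lemma pull_comp_preservesFiniteLimits {A B C : Scheme.{u}} (k : A ⟶ B) (e : B ⟶ C)
    [PreservesFiniteLimits (EtCoh.pull k)] [PreservesFiniteLimits (EtCoh.pull e)] :
    PreservesFiniteLimits (EtCoh.pull (k ≫ e)) :=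
  preservesFiniteLimits_of_natIso (EtCore.pullComp k e).symm

/-- the 2-out-of-3 step: if the composite square and the left square have bijective base change
maps then the pullback of the base change map of the right square is bijective -/
theorem isIso_pull_bcQ_of_comp {X S Y T W Z : Scheme.{u}} (f : X ⟶ S) (g : T ⟶ S) (h : Y ⟶ X)
    (e : Y ⟶ T) (w₁ : e ≫ g = h ≫ f) (i : W ⟶ X) (j : Z ⟶ W) (k : Z ⟶ Y) (w₂ : k ≫ h = j ≫ i)
    (w₃ : (k ≫ e) ≫ g = j ≫ (i ≫ f))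
    [PreservesFiniteLimits (EtCoh.pull e)] [PreservesFiniteLimits (EtCoh.pull k)]
    [PreservesFiniteLimits (EtCoh.pull (k ≫ e))] (F : EtCoh.Ab T) (q : ℕ)
    (h3 : IsIso (EtBC.bcQ g (i ≫ f) j (k ≫ e) w₃ q F))
    (h2 : IsIso (EtBC.bcQ h i j k w₂ q ((EtCoh.pull e).obj F))) :
    IsIso ((EtCoh.pull i).map (EtBC.bcQ g f h e w₁ q F)) := by
  have hc := bcAdj_comp (EtCoh.push g) (EtCoh.push h) (EtCoh.push j) (EtCoh.push f)
    (EtCoh.push i) (EtCoh.push (i ≫ f)) (EtCoh.push e) (EtCoh.push k) (EtCoh.push (k ≫ e))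
    (EtCoh.pull e) (EtCoh.pull k) (EtCoh.pull (k ≫ e)) (EtCoh.pullPushAdj e).unit
    (EtCoh.pullPushAdj k).unit (EtCoh.pullPushAdj (k ≫ e)).unit (ΘIso g f h e w₁)
    (ΘIso h i j k w₂) (ΘIso g (i ≫ f) j (k ≫ e) w₃) (EtCoh.pushComp e k) (EtCoh.pushComp f i)
    (EtCore.pullComp k e).inv q (fun N => Θ_coh f g h e w₁ i j k w₂ w₃ N)
    (fun F => unit_comp e k F) F
  exact isIso_map_transpose_of_vcomp (EtCoh.pullPushAdj f) (EtCoh.pullPushAdj i)
    (EtCoh.pullPushAdj (i ≫ f)) (EtCoh.pushComp f i).inv (EtBC.bcQAdj g f h e w₁ q F)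
    (EtBC.bcQAdj h i j k w₂ q ((EtCoh.pull e).obj F)) (EtBC.bcQAdj g (i ≫ f) j (k ≫ e) w₃ q F)
    ((EtCoh.Rpush j q).mapIso ((EtCore.pullComp k e).symm.app F)) hc h3 h2

theorem main_S6668 {X S Y T : Scheme.{u}} (f : X ⟶ S) (g : T ⟶ S) (h : Y ⟶ X) (e : Y ⟶ T)
    (c : IsPullback e h g f) [PreservesFiniteLimits (EtCoh.pull e)] (F : EtCoh.Ab T) (q : ℕ)
    {ι : Type u} (U : ι → X.Etale) (hU : EtCoh.Covers U) (V : ι → S.Etale)
    (a : ∀ i, (U i).left ⟶ (V i).left) (ha : ∀ i, a i ≫ (V i).hom = (U i).hom ≫ f)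
    (Ti Yi : ι → Scheme.{u}) (gi : ∀ i, Ti i ⟶ (V i).left) (ti : ∀ i, Ti i ⟶ T)
    (cT : ∀ i, IsPullback (ti i) (gi i) g (V i).hom)
    (hi : ∀ i, Yi i ⟶ (U i).left) (ei : ∀ i, Yi i ⟶ Ti i)
    (cY : ∀ i, IsPullback (ei i) (hi i) (gi i) (a i))
    [∀ i, PreservesFiniteLimits (EtCoh.pull (ei i))]
    (hloc : ∀ i, IsIso (EtBC.bcQ (gi i) (a i) (hi i) (ei i) (cY i).w q
      ((EtCoh.pull (ti i)).obj F))) :
    IsIso (EtBC.bcQ g f h e c.w q F) := by
  refine isIso_of_pull_cover U hU _ (fun i => ?_)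
  haveI : Etale (U i).hom := (U i).prop
  haveI : Etale (V i).hom := (V i).prop
  haveI : Etale (ti i) := MorphismProperty.of_isPullback (P := @Etale) (cT i).flip inferInstance
  haveI : PreservesFiniteLimits (EtCoh.pull (ti i)) := pull_preservesFiniteLimits_of_etale _
  have hT : IsIso (EtBC.bcQ g (V i).hom (gi i) (ti i) (cT i).w q F) :=
    isIso_bcQ_of_etale g (V i).hom (gi i) (ti i) (cT i) q F
  haveI : PreservesFiniteLimits (EtCoh.pull (ei i ≫ ti i)) :=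
    pull_comp_preservesFiniteLimits _ _
  have w31 : (ei i ≫ ti i) ≫ g = hi i ≫ (a i ≫ (V i).hom) := by
    rw [Category.assoc, (cT i).w, ← Category.assoc, (cY i).w, Category.assoc]
  have hO1 : IsIso (EtBC.bcQ g (a i ≫ (V i).hom) (hi i) (ei i ≫ ti i) w31 q F) :=
    main_S6669 (V i).hom g (gi i) (ti i) (cT i).w (a i) (hi i) (ei i) (cY i).w w31 F q hT
      (hloc i)
  have wk : (ei i ≫ ti i) ≫ g = (hi i ≫ (U i).hom) ≫ f := by
    rw [w31, ha i, Category.assoc]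
  obtain ⟨k, hk1, hk2⟩ : ∃ k : Yi i ⟶ Y, k ≫ e = ei i ≫ ti i ∧ k ≫ h = hi i ≫ (U i).hom :=
    ⟨c.lift _ _ wk, c.lift_fst _ _ _, c.lift_snd _ _ _⟩
  have cO : IsPullback (ei i ≫ ti i) (hi i) g (a i ≫ (V i).hom) := (cY i).paste_horiz (cT i)
  have cO' : IsPullback (k ≫ e) (hi i) g ((U i).hom ≫ f) := by
    rw [hk1, ← ha i]
    exact cO
  have cL : IsPullback k (hi i) h (U i).hom := IsPullback.of_right cO' hk2 c
  haveI : Etale k := MorphismProperty.of_isPullback (P := @Etale) cL.flip inferInstance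
  haveI : PreservesFiniteLimits (EtCoh.pull k) := pull_preservesFiniteLimits_of_etale _
  haveI : PreservesFiniteLimits (EtCoh.pull (k ≫ e)) := pull_comp_preservesFiniteLimits _ _
  have hL : IsIso (EtBC.bcQ h (U i).hom (hi i) k cL.w q ((EtCoh.pull e).obj F)) :=
    isIso_bcQ_of_etale h (U i).hom (hi i) k cL q _
  have w32 : (k ≫ e) ≫ g = hi i ≫ ((U i).hom ≫ f) := cO'.w
  have hO2 : IsIso (EtBC.bcQ g ((U i).hom ≫ f) (hi i) (k ≫ e) w32 q F) :=
    isIso_bcQ_congr g (ha i) (hi i) hk1.symm w31 w32 q F hO1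
  exact isIso_pull_bcQ_of_comp f g h e c.w (U i).hom (hi i) k cL.w w32 F q hO2 hL

end Main

end Groth.Agent.Lib.Helper15.BcQLoc
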