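import Groth.Agent.Lib.Helper13.KInjCompute
import Groth.Agent.Lib.Helper2.KInj.Main
import Groth.Agent.Lib.Helper13.FlatPullback
import Groth.Prelude.Def_SixF1

/-!
# Helper15: composition of unbounded derived direct images on small étale sites
-/

set_option autoImplicit false
set_option backward.isDefEq.respectTransparency false
universe u

attribute [local instance] HasDerivedCategory.standard

open CategoryTheory CategoryTheory.Limits AlgebraicGeometry

namespace Groth.Agent.Lib.Helper15.RpushComp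

open Groth.Agent.Lib.Helper13.KInjCompute

lemma hasKInjInj (X : Scheme.{u}) : HasKInjInj (EtCoh.Ab X) := by
  intro K
  obtain ⟨I, f, h1, h2, -, h4⟩ := Groth.Agent.Lib.Helper2.KInj.exists_kInjective_resolution K
  exact ⟨I, f, h1, h2, h4⟩

variable {X Y Z : Scheme.{u}} (f : X ⟶ Y) (g : Y ⟶ Z)

lemma isKInjective_push (I : CochainComplex (EtCoh.Ab X) ℤ) (hI : I.IsKInjective) :
    CochainComplex.IsKInjective
      (((EtCoh.push f).mapHomologicalComplex (ComplexShape.up ℤ)).obj I) :=
  isKInjective_map (EtCoh.pullPushAdj f) I hI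

section

variable [DCoh.HasRpushEt X f] [DCoh.HasRpushEt Y g] [DCoh.HasRpushEt X (f ≫ g)]

lemma isIso_compUnit_app (I : CochainComplex (EtCoh.Ab X) ℤ) (hI : I.IsKInjective) :
    IsIso ((EtSix.compUnit f g).app
      ((HomotopyCategory.quotient (EtCoh.Ab X) (ComplexShape.up ℤ)).obj I)) := by
  haveI h1 : IsIso (u (EtCoh.push f) I) := isIso_u _ (hasKInjInj X).hasKInj I hI
  haveI h2 : IsIso (u (EtCoh.push g)
      (((EtCoh.push f).mapHomologicalComplex (ComplexShape.up ℤ)).obj I)) :=
    isIso_u _ (hasKInjInj Y).hasKInj _ (isKInjective_push f I hI)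
  haveI h3 : IsIso (NatTrans.mapHomotopyCategory (EtCoh.pushComp g f).inv (ComplexShape.up ℤ)) :=
    ⟨⟨NatTrans.mapHomotopyCategory (EtCoh.pushComp g f).hom (ComplexShape.up ℤ),
      by rw [← NatTrans.mapHomotopyCategory_comp, Iso.inv_hom_id,
        NatTrans.mapHomotopyCategory_id],
      by rw [← NatTrans.mapHomotopyCategory_comp, Iso.hom_inv_id,
        NatTrans.mapHomotopyCategory_id]⟩⟩
  haveI h1' : IsIso (((DCoh.pushEtKh X f).totalRightDerivedUnit DerivedCategory.Qh
      (HomotopyCategory.quasiIso (EtCoh.Ab X) (ComplexShape.up ℤ))).app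
      ((HomotopyCategory.quotient (EtCoh.Ab X) (ComplexShape.up ℤ)).obj I)) := h1
  haveI h2' : IsIso (((DCoh.pushEtKh Y g).totalRightDerivedUnit DerivedCategory.Qh
      (HomotopyCategory.quasiIso (EtCoh.Ab Y) (ComplexShape.up ℤ))).app
      (((EtCoh.push f).mapHomotopyCategory (ComplexShape.up ℤ)).obj
        ((HomotopyCategory.quotient (EtCoh.Ab X) (ComplexShape.up ℤ)).obj I))) := h2
  haveI h3' : IsIso ((NatTrans.mapHomotopyCategory (EtCoh.pushComp g f).inv
      (ComplexShape.up ℤ)).app
      ((HomotopyCategory.quotient (EtCoh.Ab X) (ComplexShape.up ℤ)).obj I)) := inferInstance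
  unfold EtSix.compUnit
  simp only [NatTrans.comp_app, Functor.whiskerRight_app, Functor.whiskerLeft_app,
    Functor.associator_hom_app, Functor.associator_inv_app, Category.id_comp, Category.comp_id]
  infer_instance

lemma isIso_compMap_app_Q (I : CochainComplex (EtCoh.Ab X) ℤ) (hI : I.IsKInjective) :
    IsIso ((EtSix.compMap f g).app (DerivedCategory.Q.obj I)) := by
  haveI h0 : IsIso (u (EtCoh.push (f ≫ g)) I) := isIso_u _ (hasKInjInj X).hasKInj I hI
  haveI h0' : IsIso (((DCoh.pushEtKh X (f ≫ g)).totalRightDerivedUnit DerivedCategory.Qh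
      (HomotopyCategory.quasiIso (EtCoh.Ab X) (ComplexShape.up ℤ))).app
      ((HomotopyCategory.quotient (EtCoh.Ab X) (ComplexShape.up ℤ)).obj I)) := h0
  haveI hc := isIso_compUnit_app f g I hI
  have hfac : ((DCoh.pushEtKh X (f ≫ g)).totalRightDerivedUnit DerivedCategory.Qh
      (HomotopyCategory.quasiIso (EtCoh.Ab X) (ComplexShape.up ℤ))).app
      ((HomotopyCategory.quotient (EtCoh.Ab X) (ComplexShape.up ℤ)).obj I) ≫
      (EtSix.compMap f g).app (DerivedCategory.Qh.obj
        ((HomotopyCategory.quotient (EtCoh.Ab X) (ComplexShape.up ℤ)).obj I)) =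
      (EtSix.compUnit f g).app
        ((HomotopyCategory.quotient (EtCoh.Ab X) (ComplexShape.up ℤ)).obj I) :=
    Functor.rightDerived_fac_app (DCoh.RpushEt X (f ≫ g))
      ((DCoh.pushEtKh X (f ≫ g)).totalRightDerivedUnit DerivedCategory.Qh
        (HomotopyCategory.quasiIso (EtCoh.Ab X) (ComplexShape.up ℤ)))
      (HomotopyCategory.quasiIso (EtCoh.Ab X) (ComplexShape.up ℤ))
      (DCoh.RpushEt X f ⋙ DCoh.RpushEt Y g) (EtSix.compUnit f g)
      ((HomotopyCategory.quotient (EtCoh.Ab X) (ComplexShape.up ℤ)).obj I)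
  exact IsIso.of_isIso_fac_left hfac

/-- S4329. -/
theorem isIso_compMap : IsIso (EtSix.compMap f g) := by
  haveI : ∀ E : DCoh.DEt X, IsIso ((EtSix.compMap f g).app E) := by
    intro E
    obtain ⟨I, hI, -, ⟨e⟩⟩ := exists_model (hasKInjInj X) E
    exact (NatTrans.isIso_app_iff_of_iso (EtSix.compMap f g) e).2 (isIso_compMap_app_Q f g I hI)
  exact NatIso.isIso_of_isIso_app _

end

end Groth.Agent.Lib.Helper15.RpushComp
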