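import Groth.Agent.Lib.Helper15.BcVcompSite
import Groth.Agent.Lib.Helper15.BcVcompAbs
import Groth.Agent.Lib.Helper15.RpushComp
import Groth.Prelude.Def_EtBCD
import Groth.Prelude.Def_SixF1

/-!
# Helper15: vertical composition of base change morphisms on derived categories (S6694)
-/

set_option autoImplicit false
set_option backward.isDefEq.respectTransparency false
universe u

attribute [local instance] HasDerivedCategory.standard

open CategoryTheory CategoryTheory.Limits AlgebraicGeometry Opposite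

namespace Groth.Agent.Lib.Helper15.BcVcomp

open Groth.Agent.Lib.Helper15.FinitePushBC

section General

lemma compIso_refl_inv_app {V W W' : Type*} [Category V] [Category W] [Category W']
    [Preadditive V] [Preadditive W] [Preadditive W'] (F : V ⥤ W) (G : W ⥤ W')
    [F.Additive] [G.Additive] {ι : Type*} (c : ComplexShape ι) (K₀ : HomotopyCategory V c) :
    (Functor.mapHomotopyCategoryCompIso (Iso.refl (F ⋙ G)) c).inv.app K₀ = 𝟙 _ := by
  obtain ⟨K₁⟩ := K₀
  have h : (Functor.mapHomologicalComplexCompIso (Iso.refl (F ⋙ G)) c).inv.app K₁ = 𝟙 _ := by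
    ext n
    simp
    rfl
  show (HomotopyCategory.quotient W' c).map
    ((Functor.mapHomologicalComplexCompIso (Iso.refl (F ⋙ G)) c).inv.app K₁) = 𝟙 _
  rw [h]
  exact CategoryTheory.Functor.map_id _ _

end General

section Square

variable {X S X' S' : Scheme.{u}} (f : X ⟶ S) (g : S' ⟶ S) (f' : X' ⟶ S') (g' : X' ⟶ X)
  (w : g' ≫ f = f' ≫ g)

lemma pushToPushPull_app (F : EtCoh.Ab X) :
    (EtBC.pushToPushPull f g f' g' w).app F = γ f g f' g' w F := by
  unfold EtBC.pushToPushPull γ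
  simp only [NatTrans.comp_app, Functor.leftUnitor_inv_app, Functor.whiskerRight_app,
    Functor.associator_hom_app, Functor.whiskerLeft_app, Category.id_comp]

lemma PH_app (K₀ : HomotopyCategory (EtCoh.Ab X) (ComplexShape.up ℤ)) :
    (EtBC.pushToPushPullH f g f' g' w).app K₀ =
      (HomotopyCategory.quotient (EtCoh.Ab S) (ComplexShape.up ℤ)).map
        ((NatTrans.mapHomologicalComplex (EtBC.pushToPushPull f g f' g' w)
          (ComplexShape.up ℤ)).app K₀.as) := by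
  unfold EtBC.pushToPushPullH
  simp only [NatTrans.comp_app, Functor.whiskerLeft_app, compIso_refl_inv_app,
    NatTrans.mapHomotopyCategory_app]
  exact Category.comp_id _

end Square

section TowerH

variable {X S Y T W Z : Scheme.{u}} (f : X ⟶ S) (g : T ⟶ S) (h : Y ⟶ X) (e : Y ⟶ T)
  (w₁ : e ≫ g = h ≫ f) (i : W ⟶ X) (j : Z ⟶ W) (k : Z ⟶ Y) (w₂ : k ≫ h = j ≫ i)
  (w₃ : (k ≫ e) ≫ g = j ≫ (i ≫ f))

/-- `e⁻¹ ⋙ k⁻¹ ≅ (k ≫ e)⁻¹` on homotopy categories. -/
noncomputable def τH :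
    (EtCoh.pull e).mapHomotopyCategory (ComplexShape.up ℤ) ⋙
      (EtCoh.pull k).mapHomotopyCategory (ComplexShape.up ℤ) ≅
      (EtCoh.pull (k ≫ e)).mapHomotopyCategory (ComplexShape.up ℤ) :=
  Functor.mapHomotopyCategoryCompIso (EtCore.pullComp k e).symm (ComplexShape.up ℤ)

lemma τH_app (K₀ : HomotopyCategory (EtCoh.Ab T) (ComplexShape.up ℤ)) :
    (τH e k).hom.app K₀ =
      (HomotopyCategory.quotient (EtCoh.Ab Z) (ComplexShape.up ℤ)).map
        ((NatTrans.mapHomologicalComplex (EtCore.pullComp k e).inv (ComplexShape.up ℤ)).app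
          K₀.as) := by
  obtain ⟨K₁⟩ := K₀
  rfl

/-- `(i ≫ f)_* ⟶ i_* ⋙ f_*` on homotopy categories. -/
noncomputable def CH :
    (EtCoh.push (i ≫ f)).mapHomotopyCategory (ComplexShape.up ℤ) ⟶
      (EtCoh.push i).mapHomotopyCategory (ComplexShape.up ℤ) ⋙
        (EtCoh.push f).mapHomotopyCategory (ComplexShape.up ℤ) :=
  NatTrans.mapHomotopyCategory (EtCoh.pushComp f i).inv (ComplexShape.up ℤ) ≫
    (Functor.mapHomotopyCategoryCompIso (Iso.refl (EtCoh.push i ⋙ EtCoh.push f))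
      (ComplexShape.up ℤ)).inv

lemma CH_app (M₀ : HomotopyCategory (EtCoh.Ab W) (ComplexShape.up ℤ)) :
    (CH f i).app M₀ =
      (HomotopyCategory.quotient (EtCoh.Ab S) (ComplexShape.up ℤ)).map
        ((NatTrans.mapHomologicalComplex (EtCoh.pushComp f i).inv (ComplexShape.up ℤ)).app
          M₀.as) := by
  unfold CH
  simp only [NatTrans.comp_app, compIso_refl_inv_app, NatTrans.mapHomotopyCategory_app]
  exact Category.comp_id _

lemma H_vcomp (K₀ : HomotopyCategory (EtCoh.Ab T) (ComplexShape.up ℤ)) :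
    (EtBC.pushToPushPullH g (i ≫ f) j (k ≫ e) w₃).app K₀ ≫
      (CH f i).app (((EtCoh.push j).mapHomotopyCategory (ComplexShape.up ℤ)).obj
        (((EtCoh.pull (k ≫ e)).mapHomotopyCategory (ComplexShape.up ℤ)).obj K₀)) =
    (EtBC.pushToPushPullH g f h e w₁).app K₀ ≫
      ((EtCoh.push f).mapHomotopyCategory (ComplexShape.up ℤ)).map
        ((EtBC.pushToPushPullH h i j k w₂).app
          (((EtCoh.pull e).mapHomotopyCategory (ComplexShape.up ℤ)).obj K₀)) ≫
      ((EtCoh.push f).mapHomotopyCategory (ComplexShape.up ℤ)).map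
        (((EtCoh.push i).mapHomotopyCategory (ComplexShape.up ℤ)).map
          (((EtCoh.push j).mapHomotopyCategory (ComplexShape.up ℤ)).map
            ((τH e k).hom.app K₀))) := by
  rw [PH_app, PH_app, PH_app, CH_app, τH_app]
  obtain ⟨K₁⟩ := K₀
  simp only [Functor.mapHomotopyCategory_map, ← Functor.map_comp]
  congr 1
  refine HomologicalComplex.hom_ext _ _ (fun n => ?_)
  simp only [HomologicalComplex.comp_f, NatTrans.mapHomologicalComplex_app_f,
    Functor.mapHomologicalComplex_map_f, pushToPushPull_app, Functor.map_comp, Category.assoc]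
  exact γ_vcomp f g h e w₁ i j k w₂ w₃ (K₁.X n)

end TowerH

section Derived

/-- The unit of `Rpush`. -/
noncomputable abbrev η {A B : Scheme.{u}} (a : A ⟶ B) [DCoh.HasRpushEt A a] :
    DCoh.pushEtKh A a ⟶ DerivedCategory.Qh ⋙ DCoh.RpushEt A a :=
  (DCoh.pushEtKh A a).totalRightDerivedUnit DerivedCategory.Qh
    (HomotopyCategory.quasiIso (EtCoh.Ab A) (ComplexShape.up ℤ))

section Sq

variable {X S X' S' : Scheme.{u}} (f : X ⟶ S) (g : S' ⟶ S) (f' : X' ⟶ S') (g' : X' ⟶ X)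
  (w : g' ≫ f = f' ≫ g)
  [PreservesFiniteLimits (EtCoh.pull g')] [DCoh.HasRpushEt X f] [DCoh.HasRpushEt X' f']
  [DCoh.HasRpushEt S' g]

lemma bcUnit_app (K₀ : HomotopyCategory (EtCoh.Ab X) (ComplexShape.up ℤ)) :
    (EtBC.bcUnit f g f' g' w).app K₀ =
      DerivedCategory.Qh.map ((EtBC.pushToPushPullH f g f' g' w).app K₀) ≫
        (η g).app (((EtCoh.push f').mapHomotopyCategory (ComplexShape.up ℤ)).obj
          (((EtCoh.pull g').mapHomotopyCategory (ComplexShape.up ℤ)).obj K₀)) ≫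
        (DCoh.RpushEt S' g).map
          ((η f').app (((EtCoh.pull g').mapHomotopyCategory (ComplexShape.up ℤ)).obj K₀)) ≫
        (DCoh.RpushEt S' g).map ((DCoh.RpushEt X' f').map
          ((EtCoh.pull g').mapDerivedCategoryFactorsh.inv.app K₀)) := by
  unfold EtBC.bcUnit
  simp only [NatTrans.comp_app, Functor.whiskerRight_app, Functor.whiskerLeft_app,
    Functor.associator_hom_app, Functor.associator_inv_app, Category.id_comp, Category.comp_id,
    Functor.comp_map, Category.assoc]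

lemma bcAdj_fac (K₀ : HomotopyCategory (EtCoh.Ab X) (ComplexShape.up ℤ)) :
    (η f).app K₀ ≫ (EtBC.bcAdj f g f' g' w).app (DerivedCategory.Qh.obj K₀) =
      DerivedCategory.Qh.map ((EtBC.pushToPushPullH f g f' g' w).app K₀) ≫
        (η g).app (((EtCoh.push f').mapHomotopyCategory (ComplexShape.up ℤ)).obj
          (((EtCoh.pull g').mapHomotopyCategory (ComplexShape.up ℤ)).obj K₀)) ≫
        (DCoh.RpushEt S' g).map
          ((η f').app (((EtCoh.pull g').mapHomotopyCategory (ComplexShape.up ℤ)).obj K₀)) ≫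
        (DCoh.RpushEt S' g).map ((DCoh.RpushEt X' f').map
          ((EtCoh.pull g').mapDerivedCategoryFactorsh.inv.app K₀)) := by
  rw [← bcUnit_app]
  exact Functor.rightDerived_fac_app (DCoh.RpushEt X f) (η f)
    (HomotopyCategory.quasiIso (EtCoh.Ab X) (ComplexShape.up ℤ))
    (EtBC.pullD g' ⋙ DCoh.RpushEt X' f' ⋙ DCoh.RpushEt S' g) (EtBC.bcUnit f g f' g' w) K₀

end Sq

section Comp

variable {X S W : Scheme.{u}} (f : X ⟶ S) (i : W ⟶ X)
  [DCoh.HasRpushEt X f] [DCoh.HasRpushEt W i] [DCoh.HasRpushEt W (i ≫ f)]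

lemma compUnit_app (M : HomotopyCategory (EtCoh.Ab W) (ComplexShape.up ℤ)) :
    (EtSix.compUnit i f).app M =
      DerivedCategory.Qh.map ((CH f i).app M) ≫
        (η f).app (((EtCoh.push i).mapHomotopyCategory (ComplexShape.up ℤ)).obj M) ≫
        (DCoh.RpushEt X f).map ((η i).app M) := by
  unfold EtSix.compUnit CH
  simp only [NatTrans.comp_app, Functor.whiskerRight_app, Functor.whiskerLeft_app,
    Functor.associator_hom_app, Functor.associator_inv_app, Category.id_comp, Category.comp_id]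

lemma compMap_fac (M : HomotopyCategory (EtCoh.Ab W) (ComplexShape.up ℤ)) :
    (η (i ≫ f)).app M ≫ (EtSix.compMap i f).app (DerivedCategory.Qh.obj M) =
      DerivedCategory.Qh.map ((CH f i).app M) ≫
        (η f).app (((EtCoh.push i).mapHomotopyCategory (ComplexShape.up ℤ)).obj M) ≫
        (DCoh.RpushEt X f).map ((η i).app M) := by
  rw [← compUnit_app]
  exact Functor.rightDerived_fac_app (DCoh.RpushEt W (i ≫ f)) (η (i ≫ f))
    (HomotopyCategory.quasiIso (EtCoh.Ab W) (ComplexShape.up ℤ))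
    (DCoh.RpushEt W i ⋙ DCoh.RpushEt X f) (EtSix.compUnit i f) M

end Comp

section Tau

variable {Y T Z : Scheme.{u}} (e : Y ⟶ T) (k : Z ⟶ Y)
  [PreservesFiniteLimits (EtCoh.pull e)] [PreservesFiniteLimits (EtCoh.pull k)]
  [PreservesFiniteLimits (EtCoh.pull (k ≫ e))]

noncomputable instance liftingComp :
    Localization.Lifting (DerivedCategory.Qh : _ ⥤ DCoh.DEt T)
      (HomotopyCategory.quasiIso (EtCoh.Ab T) (ComplexShape.up ℤ))
      (((EtCoh.pull e).mapHomotopyCategory (ComplexShape.up ℤ) ⋙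
        (EtCoh.pull k).mapHomotopyCategory (ComplexShape.up ℤ)) ⋙ DerivedCategory.Qh)
      (EtBC.pullD e ⋙ EtBC.pullD k) :=
  ⟨(Functor.associator _ _ _).symm ≪≫
    Functor.isoWhiskerRight (EtCoh.pull e).mapDerivedCategoryFactorsh (EtBC.pullD k) ≪≫
    Functor.associator _ _ _ ≪≫
    Functor.isoWhiskerLeft _ (EtCoh.pull k).mapDerivedCategoryFactorsh ≪≫
    (Functor.associator _ _ _).symm⟩

/-- `e⁻¹ ⋙ k⁻¹ ≅ (k ≫ e)⁻¹` on derived categories. -/
noncomputable def τD : EtBC.pullD e ⋙ EtBC.pullD k ≅ EtBC.pullD (k ≫ e) :=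
  Localization.liftNatIso DerivedCategory.Qh
    (HomotopyCategory.quasiIso (EtCoh.Ab T) (ComplexShape.up ℤ))
    (((EtCoh.pull e).mapHomotopyCategory (ComplexShape.up ℤ) ⋙
      (EtCoh.pull k).mapHomotopyCategory (ComplexShape.up ℤ)) ⋙ DerivedCategory.Qh)
    ((EtCoh.pull (k ≫ e)).mapHomotopyCategory (ComplexShape.up ℤ) ⋙ DerivedCategory.Qh) _ _
    (Functor.isoWhiskerRight (τH e k) DerivedCategory.Qh)

lemma τD_app (K₀ : HomotopyCategory (EtCoh.Ab T) (ComplexShape.up ℤ)) :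
    (τD e k).hom.app (DerivedCategory.Qh.obj K₀) =
      (EtBC.pullD k).map ((EtCoh.pull e).mapDerivedCategoryFactorsh.hom.app K₀) ≫
        (EtCoh.pull k).mapDerivedCategoryFactorsh.hom.app
          (((EtCoh.pull e).mapHomotopyCategory (ComplexShape.up ℤ)).obj K₀) ≫
        DerivedCategory.Qh.map ((τH e k).hom.app K₀) ≫
        (EtCoh.pull (k ≫ e)).mapDerivedCategoryFactorsh.inv.app K₀ := by
  unfold τD
  rw [Localization.liftNatIso_hom, Localization.liftNatTrans_app]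
  show (𝟙 _ ≫ (EtBC.pullD k).map ((EtCoh.pull e).mapDerivedCategoryFactorsh.hom.app K₀) ≫ 𝟙 _ ≫
      (EtCoh.pull k).mapDerivedCategoryFactorsh.hom.app
        (((EtCoh.pull e).mapHomotopyCategory (ComplexShape.up ℤ)).obj K₀) ≫ 𝟙 _) ≫
      DerivedCategory.Qh.map ((τH e k).hom.app K₀) ≫
      (EtCoh.pull (k ≫ e)).mapDerivedCategoryFactorsh.inv.app K₀ = _
  simp only [Category.id_comp, Category.comp_id, Category.assoc]

end Tau

section Main

variable {X S Y T W Z : Scheme.{u}} (f : X ⟶ S) (g : T ⟶ S) (h : Y ⟶ X) (e : Y ⟶ T)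
  (w₁ : e ≫ g = h ≫ f) (i : W ⟶ X) (j : Z ⟶ W) (k : Z ⟶ Y) (w₂ : k ≫ h = j ≫ i)
  (w₃ : (k ≫ e) ≫ g = j ≫ (i ≫ f))
  [PreservesFiniteLimits (EtCoh.pull e)] [PreservesFiniteLimits (EtCoh.pull k)]
  [PreservesFiniteLimits (EtCoh.pull (k ≫ e))]
  [DCoh.HasRpushEt T g] [DCoh.HasRpushEt Y h] [DCoh.HasRpushEt Z j] [DCoh.HasRpushEt X f]
  [DCoh.HasRpushEt W i] [DCoh.HasRpushEt W (i ≫ f)]

theorem bc_vcomp_eq (K : DCoh.DEt T) :
    (EtBC.bcAdj g (i ≫ f) j (k ≫ e) w₃).app K ≫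
      (EtSix.compMap i f).app ((DCoh.RpushEt Z j).obj ((EtBC.pullD (k ≫ e)).obj K)) =
    (EtBC.bcAdj g f h e w₁).app K ≫
      (DCoh.RpushEt X f).map ((EtBC.bcAdj h i j k w₂).app ((EtBC.pullD e).obj K)) ≫
      (DCoh.RpushEt X f).map ((DCoh.RpushEt W i).map ((DCoh.RpushEt Z j).map
        ((τD e k).hom.app K))) := by
  obtain ⟨γ₁, hγ₁⟩ : ∃ γ₁ : DCoh.RpushEt T g ⟶
      EtBC.pullD (k ≫ e) ⋙ DCoh.RpushEt Z j ⋙ DCoh.RpushEt W i ⋙ DCoh.RpushEt X f,
      γ₁ = EtBC.bcAdj g (i ≫ f) j (k ≫ e) w₃ ≫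
        Functor.whiskerLeft (EtBC.pullD (k ≫ e))
          (Functor.whiskerLeft (DCoh.RpushEt Z j) (EtSix.compMap i f)) := ⟨_, rfl⟩
  obtain ⟨γ₂, hγ₂⟩ : ∃ γ₂ : DCoh.RpushEt T g ⟶
      EtBC.pullD (k ≫ e) ⋙ DCoh.RpushEt Z j ⋙ DCoh.RpushEt W i ⋙ DCoh.RpushEt X f,
      γ₂ = EtBC.bcAdj g f h e w₁ ≫
        Functor.whiskerLeft (EtBC.pullD e)
          (Functor.whiskerRight (EtBC.bcAdj h i j k w₂) (DCoh.RpushEt X f)) ≫
        Functor.whiskerLeft (EtBC.pullD e)
          (Functor.associator (EtBC.pullD k) (DCoh.RpushEt Z j ⋙ DCoh.RpushEt W i)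
            (DCoh.RpushEt X f)).hom ≫
        (Functor.associator (EtBC.pullD e) (EtBC.pullD k)
          ((DCoh.RpushEt Z j ⋙ DCoh.RpushEt W i) ⋙ DCoh.RpushEt X f)).inv ≫
        Functor.whiskerRight (τD e k).hom
          ((DCoh.RpushEt Z j ⋙ DCoh.RpushEt W i) ⋙ DCoh.RpushEt X f) ≫
        Functor.whiskerLeft (EtBC.pullD (k ≫ e))
          (Functor.associator (DCoh.RpushEt Z j) (DCoh.RpushEt W i) (DCoh.RpushEt X f)).hom :=
    ⟨_, rfl⟩
  have key : γ₁ = γ₂ := by
    apply Functor.rightDerived_ext (DCoh.RpushEt T g) (η g)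
      (HomotopyCategory.quasiIso (EtCoh.Ab T) (ComplexShape.up ℤ))
    ext K₀
    rw [hγ₁, hγ₂]
    simp only [NatTrans.comp_app, Functor.whiskerLeft_app, Functor.whiskerRight_app,
      Functor.associator_hom_app, Functor.associator_inv_app, Category.id_comp, Category.comp_id,
      Functor.comp_map, Category.assoc]
    erw [Category.id_comp, Category.comp_id]
    exact abstract_vcomp (ηg := η g) (ηf := η f) (ηh := η h) (ηi := η i) (ηj := η j)
      (ηif := η (i ≫ f)) (φe := (EtCoh.pull e).mapDerivedCategoryFactorsh)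
      (φk := (EtCoh.pull k).mapDerivedCategoryFactorsh)
      (φke := (EtCoh.pull (k ≫ e)).mapDerivedCategoryFactorsh)
      (P₁ := EtBC.pushToPushPullH g f h e w₁) (P₂ := EtBC.pushToPushPullH h i j k w₂)
      (P₃ := EtBC.pushToPushPullH g (i ≫ f) j (k ≫ e) w₃) (Cc := CH f i) (τH := (τH e k).hom)
      (β₁ := EtBC.bcAdj g f h e w₁) (β₂ := EtBC.bcAdj h i j k w₂)
      (β₃ := EtBC.bcAdj g (i ≫ f) j (k ≫ e) w₃) (c := EtSix.compMap i f) (τ := (τD e k).hom)
      (H_vcomp f g h e w₁ i j k w₂ w₃) (bcAdj_fac g f h e w₁) (bcAdj_fac h i j k w₂)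
      (bcAdj_fac g (i ≫ f) j (k ≫ e) w₃) (compMap_fac f i) (τD_app e k) K₀
  have key' := congrArg (fun t => t.app K) key
  rw [hγ₁, hγ₂] at key'
  simp only [NatTrans.comp_app, Functor.whiskerLeft_app, Functor.whiskerRight_app,
    Functor.associator_hom_app, Functor.associator_inv_app, Category.id_comp, Category.comp_id,
    Functor.comp_map, Category.assoc] at key'
  erw [Category.id_comp, Category.comp_id] at key'
  exact key'

end Main

/-- S6694. -/
theorem main_S6694 {X S Y T W Z : Scheme.{u}} (f : X ⟶ S) (g : T ⟶ S) (h : Y ⟶ X) (e : Y ⟶ T)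
    (c : IsPullback e h g f) (i : W ⟶ X) (j : Z ⟶ W) (k : Z ⟶ Y) (c' : IsPullback k j h i)
    (c'' : IsPullback (k ≫ e) j g (i ≫ f))
    [PreservesFiniteLimits (EtCoh.pull f)] [PreservesFiniteLimits (EtCoh.pull i)]
    [PreservesFiniteLimits (EtCoh.pull (i ≫ f))] [PreservesFiniteLimits (EtCoh.pull e)]
    [PreservesFiniteLimits (EtCoh.pull k)] [PreservesFiniteLimits (EtCoh.pull (k ≫ e))]
    [DCoh.HasRpushEt T g] [DCoh.HasRpushEt Y h] [DCoh.HasRpushEt Z j] [DCoh.HasRpushEt X f]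
    [DCoh.HasRpushEt W i] [DCoh.HasRpushEt W (i ≫ f)]
    (adj₁ : EtBC.pullD f ⊣ DCoh.RpushEt X f) (adj₂ : EtBC.pullD i ⊣ DCoh.RpushEt W i)
    (adj₃ : EtBC.pullD (i ≫ f) ⊣ DCoh.RpushEt W (i ≫ f)) (K : DCoh.DEt T)
    (h1 : IsIso (EtBC.bcMap g f h e c.w adj₁ K))
    (h2 : IsIso (EtBC.bcMap h i j k c'.w adj₂ ((EtBC.pullD e).obj K))) :
    IsIso (EtBC.bcMap g (i ≫ f) j (k ≫ e) c''.w adj₃ K) := by
  have := RpushComp.isIso_compMap i f
  exact isIso_transpose_vcomp adj₁ adj₂ adj₃ (EtSix.compMap i f)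
    ((EtBC.bcAdj g f h e c.w).app K) ((EtBC.bcAdj h i j k c'.w).app ((EtBC.pullD e).obj K))
    ((EtBC.bcAdj g (i ≫ f) j (k ≫ e) c''.w).app K)
    ((DCoh.RpushEt Z j).mapIso ((τD e k).app K))
    (bc_vcomp_eq f g h e c.w i j k c'.w c''.w K) h1 h2

end Derived

end Groth.Agent.Lib.Helper15.BcVcomp
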