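import Groth.Agent.Lib.Helper13.BigSmallCoh

/-!
# Helper library (helper15): the unit `G ⟶ u_* u^* G` of small etale ⊂ big etale is an isomorphism
-/

set_option autoImplicit false
open CategoryTheory CategoryTheory.Limits AlgebraicGeometry Opposite

namespace Groth.Agent.Lib.Helper15.BigSmallUnit

universe u

variable (T : Scheme.{u})

/-- Abelian sheaves: the unit of `π_T⁻¹ ⊣ res` is an isomorphism (adjoint triple with fully faithful right adjoint). -/
theorem isIso_piEtAdj_unit : IsIso (BigSite.piEtAdj Scheme.etalePrecoverage T).unit := by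
  let t : Adjunction.Triple (BigSite.piEtPull Scheme.etalePrecoverage T)
      (BigSite.resEt Scheme.etalePrecoverage T) (BigSite.iEtPush Scheme.etalePrecoverage T) :=
    ⟨BigSite.piEtAdj _ T, BigSite.iEtAdj _ T⟩
  exact t.isIso_unit_iff_isIso_counit.2 inferInstance

set_option backward.isDefEq.respectTransparency false in
/-- Sheaves of sets: the counit of `res ⊣ i_*` is an isomorphism. -/
theorem isIso_set_counit_app (G : Sheaf T.smallEtaleTopology (Type (u + 1))) :
    IsIso (((EtFppf.a T).sheafAdjunctionCocontinuous (Type (u + 1)) T.smallEtaleTopology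
      (QuotSh.J Scheme.etalePrecoverage T)).counit.app G) := by
  have : (EtFppf.a T).Full := inferInstanceAs (Scheme.Etale.forget T).Full
  have : (EtFppf.a T).Faithful := inferInstanceAs (Scheme.Etale.forget T).Faithful
  have h4 : IsIso (((EtFppf.a T).op.ranAdjunction (Type (u + 1))).counit.app G.obj) :=
    inferInstance
  have h : IsIso ((sheafToPresheaf _ _).map
      (((EtFppf.a T).sheafAdjunctionCocontinuous (Type (u + 1)) T.smallEtaleTopology
      (QuotSh.J Scheme.etalePrecoverage T)).counit.app G)) := by
    change IsIso (((EtFppf.a T).sheafAdjunctionCocontinuous (Type (u + 1)) T.smallEtaleTopology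
      (QuotSh.J Scheme.etalePrecoverage T)).counit.app G).hom
    rw [Functor.sheafAdjunctionCocontinuous_counit_app_hom]
    exact h4
  exact isIso_of_reflects_iso _ (sheafToPresheaf _ _)

/-- Sheaves of sets: the unit of `u^* ⊣ u_*` is an isomorphism. -/
theorem isIso_set_unit :
    IsIso ((EtFppf.a T).sheafAdjunctionContinuous (Type (u + 1)) T.smallEtaleTopology
      (QuotSh.J Scheme.etalePrecoverage T)).unit := by
  let t : Adjunction.Triple
      ((EtFppf.a T).sheafPullback (Type (u + 1)) T.smallEtaleTopology
        (QuotSh.J Scheme.etalePrecoverage T))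
      ((EtFppf.a T).sheafPushforwardContinuous (Type (u + 1)) T.smallEtaleTopology
        (QuotSh.J Scheme.etalePrecoverage T))
      ((EtFppf.a T).sheafPushforwardCocontinuous (Type (u + 1)) T.smallEtaleTopology
        (QuotSh.J Scheme.etalePrecoverage T)) :=
    ⟨(EtFppf.a T).sheafAdjunctionContinuous (Type (u + 1)) T.smallEtaleTopology
      (QuotSh.J Scheme.etalePrecoverage T),
     (EtFppf.a T).sheafAdjunctionCocontinuous (Type (u + 1)) T.smallEtaleTopology
      (QuotSh.J Scheme.etalePrecoverage T)⟩
  have : IsIso t.adj₂.counit := by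
    haveI : ∀ G, IsIso (t.adj₂.counit.app G) := fun G => isIso_set_counit_app T G
    exact NatIso.isIso_of_isIso_app _
  exact t.isIso_unit_iff_isIso_counit.2 this

end Groth.Agent.Lib.Helper15.BigSmallUnit
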