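import Mathlib
import Groth.Prelude.Def_W4c2conddiscmodels

/-!
# Contraction of a connecting chain in a multigraph with multiplicity function (helper15)

Generic edge-sum lemmas for `LabGraph.mfMatrix`, used for S14800 / S14801 / S14802.
-/

set_option autoImplicit false
universe u

namespace Groth.Agent.Lib.Helper15.ChainCtr

open Finset

section generic

variable {V E : Type u} [Fintype V] [Fintype E] [DecidableEq V] [DecidableEq E]

/-- weighted degree: `Σ_{w ≠ v} g w * #edges(v,w)` -/
def W (ends : E → V × V) (g : V → ℤ) (v : V) : ℤ :=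
  ∑ w ∈ univ.erase v, g w * (LabGraph.edgeMult ends v w : ℤ)

/-- boundary weight of a vertex set `P` -/
def Bd (ends : E → V × V) (g : V → ℤ) (P : Finset V) : ℤ :=
  ∑ e : E, ((if (ends e).1 ∈ P ∧ (ends e).2 ∉ P then g (ends e).2 else 0) +
            (if (ends e).2 ∈ P ∧ (ends e).1 ∉ P then g (ends e).1 else 0))

theorem edgeMult_comm (ends : E → V × V) (v w : V) :
    LabGraph.edgeMult ends v w = LabGraph.edgeMult ends w v := by
  unfold LabGraph.edgeMult
  congr 1
  exact Finset.filter_congr (fun e _ => or_comm)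

theorem exists_of_edgeMult_ne_zero (ends : E → V × V) (v w : V)
    (h : LabGraph.edgeMult ends v w ≠ 0) : ∃ e, ends e = (v, w) ∨ ends e = (w, v) := by
  unfold LabGraph.edgeMult at h
  obtain ⟨e, he⟩ := Finset.card_ne_zero.1 h
  exact ⟨e, (Finset.mem_filter.1 he).2⟩

theorem edgeMult_pos_of (ends : E → V × V) (v w : V) (e : E)
    (h : ends e = (v, w) ∨ ends e = (w, v)) : 0 < LabGraph.edgeMult ends v w := by
  unfold LabGraph.edgeMult
  exact Finset.card_pos.2 ⟨e, Finset.mem_filter.2 ⟨Finset.mem_univ e, h⟩⟩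

theorem edgeMult_cast (ends : E → V × V) (v w : V) (hvw : w ≠ v) :
    (LabGraph.edgeMult ends v w : ℤ) =
      ∑ e : E, ((if (ends e).1 = v ∧ (ends e).2 = w then (1 : ℤ) else 0) +
                (if (ends e).2 = v ∧ (ends e).1 = w then (1 : ℤ) else 0)) := by
  unfold LabGraph.edgeMult
  rw [Finset.card_filter]
  push_cast
  refine Finset.sum_congr rfl fun e _ => ?_
  rcases h : ends e with ⟨a, b⟩
  simp only [Prod.mk.injEq]
  by_cases h1 : a = v ∧ b = w
  · have h2 : ¬ (b = v ∧ a = w) := by
      rintro ⟨_, h4⟩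
      exact hvw (by rw [← h4, h1.1])
    rw [if_pos (Or.inl h1), if_pos h1, if_neg h2, add_zero]
  · by_cases h2 : b = v ∧ a = w
    · rw [if_pos (Or.inr ⟨h2.2, h2.1⟩), if_neg h1, if_pos h2, zero_add]
    · rw [if_neg (by rintro (h3 | h3); exact h1 h3; exact h2 ⟨h3.2, h3.1⟩), if_neg h1, if_neg h2,
        add_zero]

theorem W_eq_Bd (ends : E → V × V) (g : V → ℤ) (v : V) : W ends g v = Bd ends g {v} := by
  unfold W Bd
  have h1 : ∀ w ∈ univ.erase v, g w * (LabGraph.edgeMult ends v w : ℤ) =
      ∑ e : E, ((if (ends e).1 = v ∧ (ends e).2 = w then g w else 0) +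
                (if (ends e).2 = v ∧ (ends e).1 = w then g w else 0)) := by
    intro w hw
    rw [edgeMult_cast ends v w (Finset.ne_of_mem_erase hw), Finset.mul_sum]
    refine Finset.sum_congr rfl fun e _ => ?_
    rw [mul_add, mul_ite, mul_ite, mul_one, mul_zero]
  rw [Finset.sum_congr rfl h1, Finset.sum_comm]
  refine Finset.sum_congr rfl fun e _ => ?_
  rw [Finset.sum_add_distrib]
  simp only [Finset.mem_singleton]
  congr 1
  · by_cases ha : (ends e).1 = v
    · by_cases hb : (ends e).2 = v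
      · rw [if_neg (by tauto)]
        apply Finset.sum_eq_zero
        intro w hw
        rw [if_neg]
        rintro ⟨_, h3⟩
        exact Finset.ne_of_mem_erase hw (by rw [← h3, hb])
      · rw [if_pos ⟨ha, hb⟩, Finset.sum_eq_single (ends e).2]
        · rw [if_pos ⟨ha, rfl⟩]
        · intro w _ hw
          rw [if_neg]
          rintro ⟨_, h3⟩
          exact hw h3.symm
        · intro h
          exact absurd (Finset.mem_erase.2 ⟨hb, Finset.mem_univ _⟩) h
    · rw [if_neg (by tauto)]
      apply Finset.sum_eq_zero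
      intro w _
      rw [if_neg (by tauto)]
  · by_cases ha : (ends e).2 = v
    · by_cases hb : (ends e).1 = v
      · rw [if_neg (by tauto)]
        apply Finset.sum_eq_zero
        intro w hw
        rw [if_neg]
        rintro ⟨_, h3⟩
        exact Finset.ne_of_mem_erase hw (by rw [← h3, hb])
      · rw [if_pos ⟨ha, hb⟩, Finset.sum_eq_single (ends e).1]
        · rw [if_pos ⟨ha, rfl⟩]
        · intro w _ hw
          rw [if_neg]
          rintro ⟨_, h3⟩
          exact hw h3.symm
        · intro h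
          exact absurd (Finset.mem_erase.2 ⟨hb, Finset.mem_univ _⟩) h
    · rw [if_neg (by tauto)]
      apply Finset.sum_eq_zero
      intro w _
      rw [if_neg (by tauto)]

theorem mulVec_apply (ends : E → V × V) (β y : V → ℤ) (v : V) :
    (Matrix.mulVecLin (LabGraph.mfMatrix ends β) y) v =
      LabGraph.mfMatrix ends β v v * y v + W ends y v := by
  simp only [Matrix.mulVecLin_apply, Matrix.mulVec, dotProduct]
  rw [← Finset.add_sum_erase univ _ (Finset.mem_univ v)]
  congr 1
  unfold W
  refine Finset.sum_congr rfl fun w hw => ?_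
  have hne : v ≠ w := (Finset.ne_of_mem_erase hw).symm
  unfold LabGraph.mfMatrix
  rw [if_neg hne, mul_comm]

theorem diag_eq (ends : E → V × V) (β : V → ℤ) (v : V) :
    LabGraph.mfMatrix ends β v v = -(W ends β v) / β v := by
  unfold LabGraph.mfMatrix W
  rw [if_pos rfl]

theorem diag_mul (ends : E → V × V) (β : V → ℤ) (hβ : LabGraph.IsMultFn ends β) (v : V) :
    LabGraph.mfMatrix ends β v v * β v = -(W ends β v) := by
  rw [diag_eq]
  exact Int.ediv_mul_cancel ((dvd_neg).2 (hβ v).2)

theorem beta_mulVec (ends : E → V × V) (β : V → ℤ) (hβ : LabGraph.IsMultFn ends β)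
    (y : V → ℤ) :
    ∑ v, β v * (Matrix.mulVecLin (LabGraph.mfMatrix ends β) y) v = 0 := by
  have hW : ∀ (g : V → ℤ) (v : V), W ends g v =
      ∑ w, g w * (if w = v then 0 else (LabGraph.edgeMult ends v w : ℤ)) := by
    intro g v
    unfold W
    rw [← Finset.sum_erase univ (a := v) (by rw [if_pos rfl, mul_zero])]
    refine Finset.sum_congr rfl fun w hw => ?_
    rw [if_neg (Finset.ne_of_mem_erase hw)]
  have h1 : ∀ v, β v * (Matrix.mulVecLin (LabGraph.mfMatrix ends β) y) v =
      β v * W ends y v - y v * W ends β v := by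
    intro v
    rw [mulVec_apply, mul_add, ← mul_assoc, mul_comm (β v) (LabGraph.mfMatrix ends β v v),
      diag_mul ends β hβ v]
    ring
  rw [Finset.sum_congr rfl (fun v _ => h1 v), Finset.sum_sub_distrib, sub_eq_zero]
  simp only [hW, Finset.mul_sum]
  conv_lhs => rw [Finset.sum_comm]
  refine Finset.sum_congr rfl fun v' _ => Finset.sum_congr rfl fun w' _ => ?_
  by_cases h : v' = w'
  · subst h
    rw [if_pos rfl]
    ring
  · rw [if_neg h, if_neg (Ne.symm h), edgeMult_comm ends v' w']
    ring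

theorem Bd_congr_fun (ends : E → V × V) (g g' : V → ℤ) (P : Finset V) (h : ∀ v, g v = g' v) :
    Bd ends g P = Bd ends g' P := by
  unfold Bd
  refine Finset.sum_congr rfl fun e _ => ?_
  rw [h, h]

/-- The contraction lemma: weighted degrees in the contracted graph as boundary weights. -/
theorem W_ctr (ends : E → V × V) (D : Finset E) (g' : DualGr.CtrVert ends D → ℤ)
    (c : DualGr.CtrVert ends D) :
    W (DualGr.ctrEnds ends D) g' c =
      Bd ends (fun v => g' (DualGr.ctrMk ends D v))
        (univ.filter fun v => DualGr.ctrMk ends D v = c) := by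
  rw [W_eq_Bd]
  unfold Bd
  obtain ⟨F, hF⟩ : ∃ F : E → ℤ, F = fun e =>
      ((if DualGr.ctrMk ends D (ends e).1 = c ∧ ¬ DualGr.ctrMk ends D (ends e).2 = c then
          g' (DualGr.ctrMk ends D (ends e).2) else 0) +
       (if DualGr.ctrMk ends D (ends e).2 = c ∧ ¬ DualGr.ctrMk ends D (ends e).1 = c then
          g' (DualGr.ctrMk ends D (ends e).1) else 0)) := ⟨_, rfl⟩
  have h1 : ∀ e' : DualGr.CtrEdge D,
      ((if (DualGr.ctrEnds ends D e').1 ∈ ({c} : Finset _) ∧
            (DualGr.ctrEnds ends D e').2 ∉ ({c} : Finset _) then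
          g' (DualGr.ctrEnds ends D e').2 else 0) +
       (if (DualGr.ctrEnds ends D e').2 ∈ ({c} : Finset _) ∧
            (DualGr.ctrEnds ends D e').1 ∉ ({c} : Finset _) then
          g' (DualGr.ctrEnds ends D e').1 else 0)) = F e'.1 := by
    intro e'
    rw [hF]
    simp only [DualGr.ctrEnds, Finset.mem_singleton]
  have h2 : ∀ e : E,
      ((if (ends e).1 ∈ (univ.filter fun v => DualGr.ctrMk ends D v = c) ∧
            (ends e).2 ∉ (univ.filter fun v => DualGr.ctrMk ends D v = c) then
          g' (DualGr.ctrMk ends D (ends e).2) else 0) +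
       (if (ends e).2 ∈ (univ.filter fun v => DualGr.ctrMk ends D v = c) ∧
            (ends e).1 ∉ (univ.filter fun v => DualGr.ctrMk ends D v = c) then
          g' (DualGr.ctrMk ends D (ends e).1) else 0)) = F e := by
    intro e
    rw [hF]
    simp only [Finset.mem_filter, Finset.mem_univ, true_and]
  rw [Finset.sum_congr rfl (fun e' _ => h1 e'), Finset.sum_congr rfl (fun e _ => h2 e)]
  rw [← Finset.sum_subtype (univ.filter (fun e : E => e ∉ D)) (by intro x; simp) F]
  apply Finset.sum_subset (Finset.filter_subset _ _)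
  intro e _ he
  have heD : e ∈ D := by
    by_contra h
    exact he (Finset.mem_filter.2 ⟨Finset.mem_univ e, h⟩)
  have h3 := DualGr.ctrMk_fst_eq_ctrMk_snd ends D heD
  rw [hF]
  simp [h3]

/-- Sum of boundary weights of singletons vs boundary weight of the set. -/
theorem sum_Bd_singleton (ends : E → V × V) (g : V → ℤ) (P : Finset V) :
    ∑ v ∈ P, Bd ends g {v} = Bd ends g P +
      ∑ e : E, ((if (ends e).1 ∈ P ∧ (ends e).2 ∈ P ∧ (ends e).1 ≠ (ends e).2 then
          g (ends e).2 else 0) +
        (if (ends e).1 ∈ P ∧ (ends e).2 ∈ P ∧ (ends e).1 ≠ (ends e).2 then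
          g (ends e).1 else 0)) := by
  unfold Bd
  rw [Finset.sum_comm, ← Finset.sum_add_distrib]
  refine Finset.sum_congr rfl fun e _ => ?_
  rw [Finset.sum_add_distrib]
  simp only [Finset.mem_singleton]
  have key : ∀ a b : V, ∑ v ∈ P, (if a = v ∧ ¬ b = v then g b else 0) =
      (if a ∈ P ∧ b ∉ P then g b else 0) + (if a ∈ P ∧ b ∈ P ∧ a ≠ b then g b else 0) := by
    intro a b
    by_cases ha : a ∈ P
    · rw [Finset.sum_eq_single a]
      · by_cases hab : a = b
        · subst hab
          rw [if_neg (by tauto), if_neg (by tauto), if_neg (by tauto), add_zero]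
        · by_cases hb : b ∈ P
          · rw [if_pos ⟨rfl, fun h => hab h.symm⟩, if_neg (by tauto), if_pos ⟨ha, hb, hab⟩,
              zero_add]
          · rw [if_pos ⟨rfl, fun h => hab h.symm⟩, if_pos ⟨ha, hb⟩, if_neg (by tauto),
              add_zero]
      · intro v _ hv
        rw [if_neg]
        rintro ⟨h1, _⟩
        exact hv h1.symm
      · intro h; exact absurd ha h
    · rw [if_neg (by tauto), if_neg (by tauto), add_zero]
      apply Finset.sum_eq_zero
      intro v hv
      rw [if_neg]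
      rintro ⟨h1, _⟩
      exact ha (h1 ▸ hv)
  have k1 := key (ends e).1 (ends e).2
  have k2 := key (ends e).2 (ends e).1
  rw [k1, k2]
  have e1 : (if (ends e).2 ∈ P ∧ (ends e).1 ∈ P ∧ (ends e).2 ≠ (ends e).1 then g (ends e).1
      else 0) = (if (ends e).1 ∈ P ∧ (ends e).2 ∈ P ∧ (ends e).1 ≠ (ends e).2 then g (ends e).1
      else 0) := by
    apply if_congr _ rfl rfl
    constructor
    · rintro ⟨h1, h2, h3⟩; exact ⟨h2, h1, h3.symm⟩
    · rintro ⟨h1, h2, h3⟩; exact ⟨h2, h1, h3.symm⟩
  rw [e1]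
  ring

end generic

section chain

variable {V E : Type u} [Fintype V] [Fintype E] [DecidableEq V] [DecidableEq E]
variable (ends : E → V × V) {m : ℕ} (f : Fin (m + 1) → V) (e : Fin m → E)

theorem mk_chain (hC : LabGraph.IsChain ends f e) (i : Fin (m + 1)) :
    DualGr.ctrMk ends (univ.image e) (f i) = DualGr.ctrMk ends (univ.image e) (f 0) := by
  induction i using Fin.induction with
  | zero => rfl
  | succ i ih =>
    rw [← ih]
    have hmem : e i ∈ univ.image e := Finset.mem_image_of_mem e (Finset.mem_univ i)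
    have h := DualGr.ctrMk_fst_eq_ctrMk_snd ends (univ.image e) hmem
    rcases hC.2.2 i with h1 | h1
    · rw [h1] at h; exact h.symm
    · rw [h1] at h; exact h

theorem mk_eq_iff (hC : LabGraph.IsChain ends f e) (u v : V) :
    DualGr.ctrMk ends (univ.image e) u = DualGr.ctrMk ends (univ.image e) v ↔
      u = v ∨ (u ∈ univ.image f ∧ v ∈ univ.image f) := by
  constructor
  · intro h
    have h' : Relation.EqvGen (DualGr.CtrRel ends (univ.image e)) u v :=
      Quotient.exact (s := DualGr.ctrSetoid ends (univ.image e)) h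
    clear h
    induction h' with
    | rel x y hxy =>
      obtain ⟨e', he', hends⟩ := hxy
      obtain ⟨i, _, rfl⟩ := Finset.mem_image.1 he'
      right
      rcases hC.2.2 i with h1 | h1
      · rw [h1] at hends
        obtain ⟨hx, hy⟩ := Prod.mk.inj hends
        exact ⟨Finset.mem_image.2 ⟨_, Finset.mem_univ _, hx⟩,
          Finset.mem_image.2 ⟨_, Finset.mem_univ _, hy⟩⟩
      · rw [h1] at hends
        obtain ⟨hx, hy⟩ := Prod.mk.inj hends
        exact ⟨Finset.mem_image.2 ⟨_, Finset.mem_univ _, hx⟩,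
          Finset.mem_image.2 ⟨_, Finset.mem_univ _, hy⟩⟩
    | refl x => exact Or.inl rfl
    | symm x y _ ih =>
      rcases ih with h1 | ⟨h1, h2⟩
      · exact Or.inl h1.symm
      · exact Or.inr ⟨h2, h1⟩
    | trans x y z _ _ ih1 ih2 =>
      rcases ih1 with h1 | ⟨h1, h2⟩
      · rw [h1]; exact ih2
      · rcases ih2 with h3 | ⟨h3, h4⟩
        · rw [← h3]; exact Or.inr ⟨h1, h2⟩
        · exact Or.inr ⟨h1, h4⟩
  · rintro (rfl | ⟨hu, hv⟩)
    · rfl
    · obtain ⟨i, _, rfl⟩ := Finset.mem_image.1 hu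
      obtain ⟨j, _, rfl⟩ := Finset.mem_image.1 hv
      rw [mk_chain ends f e hC i, mk_chain ends f e hC j]

theorem side_aux (hC : LabGraph.IsChain ends f e) (i : Fin m) (S : Finset V)
    (hS : ∀ e' : E, ((ends e').1 ∈ S ↔ (ends e').2 ∉ S) ↔ e' = e i) :
    (f i.castSucc ∈ S ↔ f i.succ ∉ S) ∧
    (∀ j : Fin m, j ≠ i → (f j.castSucc ∈ S ↔ f j.succ ∈ S)) := by
  constructor
  · have h := (hS (e i)).2 rfl
    rcases hC.2.2 i with h1 | h1
    · rw [h1] at h; exact h
    · rw [h1] at h
      dsimp only at h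
      tauto
  · intro j hj
    have hne : e j ≠ e i := fun h => hj (hC.2.1 h)
    have h := (not_congr (hS (e j))).2 hne
    rcases hC.2.2 j with h1 | h1
    · rw [h1] at h
      dsimp only at h
      tauto
    · rw [h1] at h
      dsimp only at h
      tauto

theorem side_mono (hC : LabGraph.IsChain ends f e) (i : Fin m) (S : Finset V)
    (hS : ∀ e' : E, ((ends e').1 ∈ S ↔ (ends e').2 ∉ S) ↔ e' = e i)
    (a b : ℕ) (hab : a ≤ b) (ha : a < m + 1) (hb : b < m + 1)
    (hne : ∀ j, a ≤ j → j < b → j ≠ (i : ℕ)) :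
    (f ⟨a, ha⟩ ∈ S ↔ f ⟨b, hb⟩ ∈ S) := by
  induction b, hab using Nat.le_induction with
  | base => exact Iff.rfl
  | succ b hab ih =>
    have hb' : b < m + 1 := by omega
    have hbm : b < m := by omega
    have h1 := ih hb' (fun j h1 h2 => hne j h1 (by omega))
    have h2 := (side_aux ends f e hC i S hS).2 ⟨b, hbm⟩
      (fun h => hne b hab (by omega) (congrArg Fin.val h))
    exact h1.trans h2

theorem chain_edge (hC : LabGraph.IsChain ends f e)
    (hconn : ∀ i, LabGraph.IsConnecting ends (e i)) (e' : E) (a b : Fin (m + 1))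
    (hab : a < b) (h : ends e' = (f a, f b) ∨ ends e' = (f b, f a)) :
    ∃ i : Fin m, e' = e i ∧ i.castSucc = a ∧ i.succ = b := by
  have hab' : (a : ℕ) < (b : ℕ) := hab
  have ham : (a : ℕ) < m := by have := b.2; omega
  obtain ⟨S, hS⟩ := hconn ⟨a, ham⟩
  obtain ⟨h1, -⟩ := side_aux ends f e hC ⟨a, ham⟩ S hS
  have hcs : (⟨a, ham⟩ : Fin m).castSucc = a := Fin.ext rfl
  have h3 : f (⟨a, ham⟩ : Fin m).succ ∈ S ↔ f b ∈ S :=
    side_mono ends f e hC ⟨a, ham⟩ S hS ((a : ℕ) + 1) b (by omega) (by omega) b.2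
      (fun j hj1 _ => by simp only; omega)
  rw [hcs] at h1
  have hcross : (ends e').1 ∈ S ↔ (ends e').2 ∉ S := by
    rcases h with h | h
    · rw [h]; dsimp only; tauto
    · rw [h]; dsimp only; tauto
  have he' : e' = e ⟨a, ham⟩ := (hS e').1 hcross
  refine ⟨⟨a, ham⟩, he', hcs, ?_⟩
  have hinj := hC.1
  have hne : (⟨a, ham⟩ : Fin m).succ ≠ a := by
    intro h4
    have := congrArg Fin.val h4
    simp at this
  rw [he'] at h
  rcases hC.2.2 ⟨a, ham⟩ with h5 | h5
  · rw [h5, hcs] at h
    rcases h with h | h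
    · exact hinj (Prod.mk.inj h).2
    · exact absurd (hinj (Prod.mk.inj h).1) (by intro h6; rw [h6] at hab; exact lt_irrefl _ hab)
  · rw [h5, hcs] at h
    rcases h with h | h
    · exact absurd (hinj (Prod.mk.inj h).1) hne
    · exact hinj (Prod.mk.inj h).1

end chain

section ctr

variable {V E : Type u} [Fintype V] [Fintype E] [DecidableEq V] [DecidableEq E]
variable (ends : E → V × V) {m : ℕ} (f : Fin (m + 1) → V) (e : Fin m → E)

theorem chain_ne (hC : LabGraph.IsChain ends f e) (i j : ℕ) (hi : i < m + 1) (hj : j < m + 1)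
    (hij : i ≠ j) : f ⟨i, hi⟩ ≠ f ⟨j, hj⟩ :=
  fun h => hij (congrArg Fin.val (hC.1 h))

theorem not_mem_ne (v : V) (hv : v ∉ univ.image f) (i : Fin (m + 1)) : v ≠ f i :=
  fun h => hv (h ▸ Finset.mem_image_of_mem f (Finset.mem_univ i))

theorem beta_const (hC : LabGraph.IsChain ends f e) (β : V → ℤ)
    (hconst : ∀ i j, β (f i) = β (f j)) (u v : V)
    (h : DualGr.ctrMk ends (univ.image e) u = DualGr.ctrMk ends (univ.image e) v) :
    β u = β v := by
  rcases (mk_eq_iff ends f e hC u v).1 h with rfl | ⟨hu, hv⟩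
  · rfl
  · obtain ⟨i, _, rfl⟩ := Finset.mem_image.1 hu
    obtain ⟨j, _, rfl⟩ := Finset.mem_image.1 hv
    exact hconst i j

theorem mk_out (D : Finset E) (c : DualGr.CtrVert ends D) :
    DualGr.ctrMk ends D (Quotient.out (s := DualGr.ctrSetoid ends D) c) = c :=
  Quotient.out_eq c

theorem ctrFn_mk (hC : LabGraph.IsChain ends f e) (β : V → ℤ)
    (hconst : ∀ i j, β (f i) = β (f j)) (v : V) :
    LabGraph.ctrFn ends (univ.image e) β (DualGr.ctrMk ends (univ.image e) v) = β v := by
  unfold LabGraph.ctrFn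
  exact beta_const ends f e hC β hconst _ _ (mk_out ends (univ.image e) _)

theorem fiber_off (hC : LabGraph.IsChain ends f e) (v : V) (hv : v ∉ univ.image f) :
    (univ.filter fun w => DualGr.ctrMk ends (univ.image e) w =
      DualGr.ctrMk ends (univ.image e) v) = {v} := by
  ext w
  rw [Finset.mem_filter, Finset.mem_singleton, mk_eq_iff ends f e hC]
  constructor
  · rintro ⟨-, h | ⟨_, h⟩⟩
    · exact h
    · exact absurd h hv
  · intro h; exact ⟨Finset.mem_univ _, Or.inl h⟩

theorem fiber_on (hC : LabGraph.IsChain ends f e) (v : V) (hv : v ∈ univ.image f) :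
    (univ.filter fun w => DualGr.ctrMk ends (univ.image e) w =
      DualGr.ctrMk ends (univ.image e) v) = univ.image f := by
  ext w
  rw [Finset.mem_filter, mk_eq_iff ends f e hC]
  constructor
  · rintro ⟨-, h | ⟨h, _⟩⟩
    · rw [h]; exact hv
    · exact h
  · intro h; exact ⟨Finset.mem_univ _, Or.inr ⟨h, hv⟩⟩

/-- S14800: the contraction of a chain with constant multiplicity is again a multigraph with a
multiplicity function. -/
theorem isMultFn_ctr (β : V → ℤ) (hβ : LabGraph.IsMultFn ends β)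
    (hC : LabGraph.IsChain ends f e) (hconst : ∀ i j, β (f i) = β (f j)) :
    LabGraph.IsMultFn (DualGr.ctrEnds ends (univ.image e))
      (LabGraph.ctrFn ends (univ.image e) β) := by
  intro c
  obtain ⟨v, rfl⟩ := DualGr.ctrMk_surjective ends (univ.image e) c
  rw [ctrFn_mk ends f e hC β hconst v]
  refine ⟨(hβ v).1, ?_⟩
  show β v ∣ W (DualGr.ctrEnds ends (univ.image e)) (LabGraph.ctrFn ends (univ.image e) β)
    (DualGr.ctrMk ends (univ.image e) v)
  rw [W_ctr, Bd_congr_fun ends _ β _ (fun w => ctrFn_mk ends f e hC β hconst w)]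
  by_cases hv : v ∈ univ.image f
  · rw [fiber_on ends f e hC v hv]
    have hb : ∀ w ∈ univ.image f, β w = β v := by
      intro w hw
      obtain ⟨i, _, rfl⟩ := Finset.mem_image.1 hw
      obtain ⟨j, _, rfl⟩ := Finset.mem_image.1 hv
      exact hconst i j
    have h1 : β v ∣ ∑ w ∈ univ.image f, Bd ends β {w} := by
      apply Finset.dvd_sum
      intro w hw
      rw [← W_eq_Bd, ← hb w hw]
      exact (hβ w).2
    rw [sum_Bd_singleton ends β (univ.image f)] at h1
    refine (dvd_add_left ?_).1 h1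
    apply Finset.dvd_sum
    intro e' _
    apply dvd_add
    · split_ifs with h
      · rw [hb _ h.2.1]
      · exact dvd_zero _
    · split_ifs with h
      · rw [hb _ h.1]
      · exact dvd_zero _
  · rw [fiber_off ends f e hC v hv, ← W_eq_Bd]
    exact (hβ v).2

theorem W_split (g : V → ℤ) (v a b : V) (hav : a ≠ v) (hbv : b ≠ v) (hab : a ≠ b) :
    W ends g v = g a * (LabGraph.edgeMult ends v a : ℤ) +
      (g b * (LabGraph.edgeMult ends v b : ℤ) +
        ∑ w ∈ ((univ.erase v).erase a).erase b, g w * (LabGraph.edgeMult ends v w : ℤ)) := by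
  unfold W
  rw [← Finset.add_sum_erase (univ.erase v) _ (Finset.mem_erase.2 ⟨hav, Finset.mem_univ a⟩),
    ← Finset.add_sum_erase ((univ.erase v).erase a) _
      (Finset.mem_erase.2 ⟨hab.symm, Finset.mem_erase.2 ⟨hbv, Finset.mem_univ b⟩⟩)]

theorem interior (β : V → ℤ) (hβ : LabGraph.IsMultFn ends β) (hC : LabGraph.IsChain ends f e)
    (hβm : ∀ i, β (f i) = m) (hW2 : ∀ i, W ends β (f i) = 2 * m)
    (p : ℕ) (hp : p + 2 < m + 1) :
    (∀ w, w ≠ f ⟨p + 1, by omega⟩ → w ≠ f ⟨p, by omega⟩ → w ≠ f ⟨p + 2, hp⟩ →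
        LabGraph.edgeMult ends (f ⟨p + 1, by omega⟩) w = 0) ∧
    LabGraph.edgeMult ends (f ⟨p + 1, by omega⟩) (f ⟨p, by omega⟩) = 1 ∧
    LabGraph.edgeMult ends (f ⟨p + 1, by omega⟩) (f ⟨p + 2, hp⟩) = 1 := by
  have hav : f ⟨p, by omega⟩ ≠ f ⟨p + 1, by omega⟩ := chain_ne ends f e hC _ _ _ _ (by omega)
  have hbv : f ⟨p + 2, hp⟩ ≠ f ⟨p + 1, by omega⟩ := chain_ne ends f e hC _ _ _ _ (by omega)
  have hab : f ⟨p, by omega⟩ ≠ f ⟨p + 2, hp⟩ := chain_ne ends f e hC _ _ _ _ (by omega)
  have hna : 0 < LabGraph.edgeMult ends (f ⟨p + 1, by omega⟩) (f ⟨p, by omega⟩) := by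
    have h := hC.2.2 ⟨p, by omega⟩
    exact edgeMult_pos_of ends _ _ (e ⟨p, by omega⟩) h.symm
  have hnb : 0 < LabGraph.edgeMult ends (f ⟨p + 1, by omega⟩) (f ⟨p + 2, hp⟩) := by
    have h := hC.2.2 ⟨p + 1, by omega⟩
    exact edgeMult_pos_of ends _ _ (e ⟨p + 1, by omega⟩) h
  have hsplit := W_split ends β _ _ _ hav hbv hab
  rw [hW2, hβm, hβm] at hsplit
  have hmpos : (0 : ℤ) < m := by
    have := (hβ (f 0)).1
    rw [hβm] at this
    exact this
  have hR : 0 ≤ ∑ w ∈ ((univ.erase (f ⟨p + 1, by omega⟩)).erase (f ⟨p, by omega⟩)).erase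
      (f ⟨p + 2, hp⟩), β w * (LabGraph.edgeMult ends (f ⟨p + 1, by omega⟩) w : ℤ) :=
    Finset.sum_nonneg (fun w _ => mul_nonneg (hβ w).1.le (Int.natCast_nonneg _))
  have hna' : (1 : ℤ) ≤ (LabGraph.edgeMult ends (f ⟨p + 1, by omega⟩) (f ⟨p, by omega⟩) : ℤ) := by
    exact_mod_cast hna
  have hnb' : (1 : ℤ) ≤ (LabGraph.edgeMult ends (f ⟨p + 1, by omega⟩) (f ⟨p + 2, hp⟩) : ℤ) := by
    exact_mod_cast hnb
  have h1 := mul_nonneg hmpos.le (sub_nonneg.2 hna')
  have h2 := mul_nonneg hmpos.le (sub_nonneg.2 hnb')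
  have hA0 : (m : ℤ) * ((LabGraph.edgeMult ends (f ⟨p + 1, by omega⟩) (f ⟨p, by omega⟩) : ℤ) - 1)
      = 0 := by nlinarith
  have hB0 : (m : ℤ) * ((LabGraph.edgeMult ends (f ⟨p + 1, by omega⟩) (f ⟨p + 2, hp⟩) : ℤ) - 1)
      = 0 := by nlinarith
  have hR0 : ∑ w ∈ ((univ.erase (f ⟨p + 1, by omega⟩)).erase (f ⟨p, by omega⟩)).erase
      (f ⟨p + 2, hp⟩), β w * (LabGraph.edgeMult ends (f ⟨p + 1, by omega⟩) w : ℤ) = 0 := by
    nlinarith
  have hna1 := (mul_eq_zero.1 hA0).resolve_left hmpos.ne'
  have hnb1 := (mul_eq_zero.1 hB0).resolve_left hmpos.ne'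
  refine ⟨?_, ?_, ?_⟩
  · intro w hwv hwa hwb
    have hwmem : w ∈ ((univ.erase (f ⟨p + 1, by omega⟩)).erase (f ⟨p, by omega⟩)).erase
        (f ⟨p + 2, hp⟩) :=
      Finset.mem_erase.2 ⟨hwb, Finset.mem_erase.2 ⟨hwa, Finset.mem_erase.2
        ⟨hwv, Finset.mem_univ w⟩⟩⟩
    have h3 := (Finset.sum_eq_zero_iff_of_nonneg
      (fun w _ => mul_nonneg (hβ w).1.le (Int.natCast_nonneg _))).1 hR0 w hwmem
    rcases mul_eq_zero.1 h3 with h | h
    · exact absurd h (hβ w).1.ne'
    · exact_mod_cast h
  · have : (LabGraph.edgeMult ends (f ⟨p + 1, by omega⟩) (f ⟨p, by omega⟩) : ℤ) = 1 := by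
      linarith
    exact_mod_cast this
  · have : (LabGraph.edgeMult ends (f ⟨p + 1, by omega⟩) (f ⟨p + 2, hp⟩) : ℤ) = 1 := by
      linarith
    exact_mod_cast this

theorem W_interior (β : V → ℤ) (hβ : LabGraph.IsMultFn ends β) (hC : LabGraph.IsChain ends f e)
    (hβm : ∀ i, β (f i) = m) (hW2 : ∀ i, W ends β (f i) = 2 * m) (g : V → ℤ)
    (p : ℕ) (hp : p + 2 < m + 1) :
    W ends g (f ⟨p + 1, by omega⟩) = g (f ⟨p, by omega⟩) + g (f ⟨p + 2, hp⟩) := by
  obtain ⟨h0, h1, h2⟩ := interior ends f e β hβ hC hβm hW2 p hp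
  have hav : f ⟨p, by omega⟩ ≠ f ⟨p + 1, by omega⟩ := chain_ne ends f e hC _ _ _ _ (by omega)
  have hbv : f ⟨p + 2, hp⟩ ≠ f ⟨p + 1, by omega⟩ := chain_ne ends f e hC _ _ _ _ (by omega)
  have hab : f ⟨p, by omega⟩ ≠ f ⟨p + 2, hp⟩ := chain_ne ends f e hC _ _ _ _ (by omega)
  rw [W_split ends g _ _ _ hav hbv hab, h1, h2, Finset.sum_eq_zero, Nat.cast_one, mul_one,
    mul_one, add_zero]
  intro w hw
  have hwb := (Finset.mem_erase.1 hw).1
  have hw2 := (Finset.mem_erase.1 hw).2
  have hwa := (Finset.mem_erase.1 hw2).1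
  have hwv := (Finset.mem_erase.1 (Finset.mem_erase.1 hw2).2).1
  rw [h0 w hwv hwa hwb, Nat.cast_zero, mul_zero]

theorem exists_side (hC : LabGraph.IsChain ends f e)
    (hconn : ∀ i, LabGraph.IsConnecting ends (e i)) (hm1 : 1 ≤ m) :
    ∃ T : Finset V, f (Fin.last m) ∈ T ∧ (∀ j : Fin (m + 1), (j : ℕ) < m → f j ∉ T) ∧
      ∀ e' : E, e' ≠ e ⟨m - 1, by omega⟩ → ((ends e').1 ∈ T ↔ (ends e').2 ∈ T) := by
  have key : ∀ T : Finset V,
      (∀ e' : E, ((ends e').1 ∈ T ↔ (ends e').2 ∉ T) ↔ e' = e ⟨m - 1, by omega⟩) →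
      f (Fin.last m) ∈ T →
      (∀ j : Fin (m + 1), (j : ℕ) < m → f j ∉ T) ∧
      ∀ e' : E, e' ≠ e ⟨m - 1, by omega⟩ → ((ends e').1 ∈ T ↔ (ends e').2 ∈ T) := by
    intro T hT hlast
    constructor
    · intro j hj
      obtain ⟨h1, -⟩ := side_aux ends f e hC ⟨m - 1, by omega⟩ T hT
      have hs : (⟨m - 1, by omega⟩ : Fin m).succ = Fin.last m := Fin.ext (by simp; omega)
      rw [hs] at h1
      have h3 := side_mono ends f e hC ⟨m - 1, by omega⟩ T hT (j : ℕ) (m - 1) (by omega) j.2
        (by omega) (fun i _ hi2 => by simp only; omega)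
      intro hjT
      have h4 : f (⟨m - 1, by omega⟩ : Fin m).castSucc ∈ T := h3.1 hjT
      exact (h1.1 h4) hlast
    · intro e' he'
      have h := (not_congr (hT e')).2 he'
      tauto
  obtain ⟨S, hS⟩ := hconn ⟨m - 1, by omega⟩
  by_cases hlast : f (Fin.last m) ∈ S
  · exact ⟨S, hlast, key S hS hlast⟩
  · have hS' : ∀ e' : E, ((ends e').1 ∈ Sᶜ ↔ (ends e').2 ∉ Sᶜ) ↔ e' = e ⟨m - 1, by omega⟩ := by
      intro e'
      rw [← hS e']
      simp only [Finset.mem_compl]
      tauto
    exact ⟨Sᶜ, Finset.mem_compl.2 hlast, key Sᶜ hS' (Finset.mem_compl.2 hlast)⟩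

end ctr

section inj

variable {V E : Type u} [Fintype V] [Fintype E] [DecidableEq V] [DecidableEq E]
variable (ends : E → V × V) {m : ℕ} (f : Fin (m + 1) → V) (e : Fin m → E)

/-- S14802: injectivity of the map of component groups induced by contracting a `(-2)`-chain of
length `m` and multiplicity `m`. -/
theorem inj_main (β : V → ℤ) (hβ : LabGraph.IsMultFn ends β)
    (hC : LabGraph.IsChain ends f e)
    (hconn : ∀ i, LabGraph.IsConnecting ends (e i)) (hβm : ∀ i, β (f i) = m)
    (hα : ∀ i, LabGraph.mfMatrix ends β (f i) (f i) = -2)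
    (x : DualGr.CtrVert ends (univ.image e) → ℤ)
    (hx : x ∈ LinearMap.ker (LabGraph.betaHom (LabGraph.ctrFn ends (univ.image e) β)))
    (hfx : LabGraph.liftAt ends (univ.image e) (f 0) x ∈
      LinearMap.range (Matrix.mulVecLin (LabGraph.mfMatrix ends β))) :
    x ∈ LinearMap.range (Matrix.mulVecLin
      (LabGraph.mfMatrix (DualGr.ctrEnds ends (univ.image e))
        (LabGraph.ctrFn ends (univ.image e) β))) := by
  classical
  obtain ⟨y, hy⟩ := hfx
  have hconst : ∀ i j, β (f i) = β (f j) := fun i j => by rw [hβm, hβm]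
  have hmpos : (0 : ℤ) < m := by
    have := (hβ (f 0)).1
    rw [hβm] at this
    exact this
  have hm1 : 1 ≤ m := by exact_mod_cast hmpos
  have hinj := hC.1
  have hW2 : ∀ i, W ends β (f i) = 2 * m := by
    intro i
    have := diag_mul ends β hβ (f i)
    rw [hα, hβm] at this
    linarith
  obtain ⟨T, hT1, hT2, hT3⟩ := exists_side ends f e hC hconn hm1
  obtain ⟨δ, hδ⟩ : ∃ δ : ℤ, δ = y (f ⟨1, by omega⟩) - y (f 0) := ⟨_, rfl⟩
  have hlift0 : ∀ (n : ℕ) (hn : n < m + 1), 0 < n →
      LabGraph.liftAt ends (univ.image e) (f 0) x (f ⟨n, hn⟩) = 0 := by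
    intro n hn h0
    unfold LabGraph.liftAt
    rw [if_pos]
    refine ⟨mk_chain ends f e hC _, ?_⟩
    intro h
    have := congrArg Fin.val (hinj h)
    simp at this
    omega
  have hint : ∀ (p : ℕ) (hp : p + 2 < m + 1),
      y (f ⟨p, by omega⟩) + y (f ⟨p + 2, hp⟩) = 2 * y (f ⟨p + 1, by omega⟩) := by
    intro p hp
    have h := congrFun hy (f ⟨p + 1, by omega⟩)
    rw [mulVec_apply, hα, W_interior ends f e β hβ hC hβm hW2 y p hp,
      hlift0 (p + 1) (by omega) (by omega)] at h
    linarith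
  have hAP2 : ∀ n, (∀ hn : n < m + 1, y (f ⟨n, hn⟩) = y (f 0) + (n : ℤ) * δ) ∧
      (∀ hn : n + 1 < m + 1, y (f ⟨n + 1, hn⟩) = y (f 0) + ((n + 1 : ℕ) : ℤ) * δ) := by
    intro n
    induction n with
    | zero =>
      refine ⟨fun hn => ?_, fun hn => ?_⟩
      · simp
      · show y (f ⟨1, hn⟩) = y (f 0) + ((1 : ℕ) : ℤ) * δ
        rw [hδ]
        push_cast
        ring
    | succ n ih =>
      refine ⟨fun hn => ih.2 hn, fun hn => ?_⟩
      have h1 := ih.1 (by omega)
      have h2 := ih.2 (by omega)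
      have h3 : y (f ⟨n, by omega⟩) + y (f ⟨n + 1 + 1, hn⟩) = 2 * y (f ⟨n + 1, by omega⟩) :=
        hint n hn
      push_cast at h2 ⊢
      linarith
  have hAP : ∀ n (hn : n < m + 1), y (f ⟨n, hn⟩) = y (f 0) + (n : ℤ) * δ :=
    fun n hn => (hAP2 n).1 hn
  obtain ⟨z, hz⟩ : ∃ z : V → ℤ, z = fun w =>
      if w ∈ univ.image f then y (f 0) else y w - δ * (if w ∈ T then β w else 0) := ⟨_, rfl⟩
  have hzcl : ∀ u v, DualGr.ctrMk ends (univ.image e) u = DualGr.ctrMk ends (univ.image e) v →
      z u = z v := by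
    intro u v h
    rcases (mk_eq_iff ends f e hC u v).1 h with rfl | ⟨hu, hv⟩
    · rfl
    · rw [hz]
      simp only [if_pos hu, if_pos hv]
  obtain ⟨y', hy'⟩ : ∃ y' : DualGr.CtrVert ends (univ.image e) → ℤ, y' = fun c =>
      z (Quotient.out (s := DualGr.ctrSetoid ends (univ.image e)) c) := ⟨_, rfl⟩
  have hy'mk : ∀ w, y' (DualGr.ctrMk ends (univ.image e) w) = z w := by
    intro w
    rw [hy']
    exact hzcl _ _ (mk_out ends (univ.image e) _)
  have hoff : ∀ v, v ∉ univ.image f →
      (Matrix.mulVecLin (LabGraph.mfMatrix (DualGr.ctrEnds ends (univ.image e))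
        (LabGraph.ctrFn ends (univ.image e) β)) y') (DualGr.ctrMk ends (univ.image e) v) =
      x (DualGr.ctrMk ends (univ.image e) v) := by
    intro v hv
    have hfib := fiber_off ends f e hC v hv
    have hdiag : LabGraph.mfMatrix (DualGr.ctrEnds ends (univ.image e))
        (LabGraph.ctrFn ends (univ.image e) β) (DualGr.ctrMk ends (univ.image e) v)
        (DualGr.ctrMk ends (univ.image e) v) = LabGraph.mfMatrix ends β v v := by
      rw [diag_eq, diag_eq, W_ctr, hfib,
        Bd_congr_fun ends _ β _ (fun w => ctrFn_mk ends f e hC β hconst w), ← W_eq_Bd,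
        ctrFn_mk ends f e hC β hconst v]
    have hWz : W (DualGr.ctrEnds ends (univ.image e)) y' (DualGr.ctrMk ends (univ.image e) v) =
        W ends z v := by
      rw [W_ctr, hfib, Bd_congr_fun ends _ z _ hy'mk, ← W_eq_Bd]
    rw [mulVec_apply, hdiag, hWz, hy'mk]
    have hyv : LabGraph.mfMatrix ends β v v * y v + W ends y v =
        x (DualGr.ctrMk ends (univ.image e) v) := by
      have h := congrFun hy v
      rw [mulVec_apply] at h
      rw [h]
      unfold LabGraph.liftAt
      rw [if_neg]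
      rintro ⟨h1, -⟩
      rcases (mk_eq_iff ends f e hC v (f 0)).1 h1 with h2 | ⟨h2, -⟩
      · exact hv (h2 ▸ Finset.mem_image_of_mem f (Finset.mem_univ 0))
      · exact hv h2
    rw [← hyv]
    have hzv : z v = y v - δ * (if v ∈ T then β v else 0) := by
      rw [hz]
      simp only [if_neg hv]
    have hWzy : W ends z v = W ends y v - δ * (if v ∈ T then W ends β v else 0) := by
      have hterm : ∀ w ∈ univ.erase v, z w * (LabGraph.edgeMult ends v w : ℤ) =
          y w * (LabGraph.edgeMult ends v w : ℤ) -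
            δ * (if v ∈ T then β w * (LabGraph.edgeMult ends v w : ℤ) else 0) := by
        intro w _
        by_cases hn : LabGraph.edgeMult ends v w = 0
        · rw [hn]
          simp
        · obtain ⟨e', he'⟩ := exists_of_edgeMult_ne_zero ends v w hn
          have he'ne : e' ≠ e ⟨m - 1, by omega⟩ := by
            intro h
            apply hv
            rcases hC.2.2 ⟨m - 1, by omega⟩ with h1 | h1
            · rw [← h] at h1
              rcases he' with h2 | h2
              · rw [h2] at h1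
                exact Finset.mem_image.2 ⟨_, Finset.mem_univ _, (Prod.mk.inj h1).1.symm⟩
              · rw [h2] at h1
                exact Finset.mem_image.2 ⟨_, Finset.mem_univ _, (Prod.mk.inj h1).2.symm⟩
            · rw [← h] at h1
              rcases he' with h2 | h2
              · rw [h2] at h1
                exact Finset.mem_image.2 ⟨_, Finset.mem_univ _, (Prod.mk.inj h1).1.symm⟩
              · rw [h2] at h1
                exact Finset.mem_image.2 ⟨_, Finset.mem_univ _, (Prod.mk.inj h1).2.symm⟩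
          have hside : v ∈ T ↔ w ∈ T := by
            have h3 := hT3 e' he'ne
            rcases he' with h2 | h2
            · rw [h2] at h3
              exact h3
            · rw [h2] at h3
              exact h3.symm
          by_cases hw' : w ∈ univ.image f
          · obtain ⟨j, _, rfl⟩ := Finset.mem_image.1 hw'
            have hj : (j : ℕ) = 0 ∨ (j : ℕ) = m := by
              by_contra hcon
              push_neg at hcon
              have hjm : (j : ℕ) < m + 1 := j.2
              have hcen : (⟨(j : ℕ) - 1 + 1, by omega⟩ : Fin (m + 1)) = j :=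
                Fin.ext (by simp only; omega)
              have h4 := (interior ends f e β hβ hC hβm hW2 ((j : ℕ) - 1) (by omega)).1 v
                (not_mem_ne f v hv _) (not_mem_ne f v hv _) (not_mem_ne f v hv _)
              rw [hcen, edgeMult_comm] at h4
              exact hn h4
            have hzj : z (f j) = y (f 0) := by
              rw [hz]
              simp only [if_pos hw']
            rw [hzj]
            rcases hj with hj | hj
            · have hj0 : j = 0 := Fin.ext hj
              subst hj0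
              have h00 : ((0 : Fin (m + 1)) : ℕ) = 0 := rfl
              have h0T : f 0 ∉ T := hT2 0 (by omega)
              have hvT : v ∉ T := fun h => h0T (hside.1 h)
              rw [if_neg hvT]
              ring
            · have hjl : j = Fin.last m := Fin.ext hj
              subst hjl
              have hvT : v ∈ T := hside.2 hT1
              rw [if_pos hvT, hβm]
              have h3 : y (f (Fin.last m)) = y (f 0) + (m : ℤ) * δ := hAP m (by omega)
              rw [h3]
              ring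
          · have hzw : z w = y w - δ * (if w ∈ T then β w else 0) := by
              rw [hz]
              simp only [if_neg hw']
            rw [hzw]
            by_cases hvT : v ∈ T
            · rw [if_pos hvT, if_pos (hside.1 hvT)]
              ring
            · rw [if_neg hvT, if_neg (fun h => hvT (hside.2 h))]
              ring
      unfold W
      rw [Finset.sum_congr rfl hterm, Finset.sum_sub_distrib, ← Finset.mul_sum]
      congr 2
      by_cases hvT : v ∈ T
      · simp only [if_pos hvT]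
      · simp only [if_neg hvT, Finset.sum_const_zero]
    rw [hzv, hWzy]
    have hd := diag_mul ends β hβ v
    by_cases hvT : v ∈ T
    · rw [if_pos hvT, if_pos hvT]
      linear_combination (-δ) * hd
    · rw [if_neg hvT, if_neg hvT]
      ring
  refine ⟨y', ?_⟩
  funext c
  obtain ⟨v, rfl⟩ := DualGr.ctrMk_surjective ends (univ.image e) c
  by_cases hv : v ∈ univ.image f
  · have hc0 : DualGr.ctrMk ends (univ.image e) v = DualGr.ctrMk ends (univ.image e) (f 0) := by
      obtain ⟨i, _, rfl⟩ := Finset.mem_image.1 hv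
      exact mk_chain ends f e hC i
    rw [hc0]
    have hmult := isMultFn_ctr ends f e β hβ hC hconst
    have hsum1 := beta_mulVec (DualGr.ctrEnds ends (univ.image e))
      (LabGraph.ctrFn ends (univ.image e) β) hmult y'
    have hsum2 : ∑ c, LabGraph.ctrFn ends (univ.image e) β c * x c = 0 := by
      have h := LinearMap.mem_ker.1 hx
      rw [LabGraph.betaHom, Fintype.linearCombination_apply] at h
      rw [← h]
      refine Finset.sum_congr rfl fun c _ => ?_
      rw [smul_eq_mul, mul_comm]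
    have hdiff : ∑ c, LabGraph.ctrFn ends (univ.image e) β c *
        ((Matrix.mulVecLin (LabGraph.mfMatrix (DualGr.ctrEnds ends (univ.image e))
          (LabGraph.ctrFn ends (univ.image e) β)) y') c - x c) = 0 := by
      simp only [mul_sub, Finset.sum_sub_distrib, hsum1, hsum2, sub_zero]
    rw [Finset.sum_eq_single (DualGr.ctrMk ends (univ.image e) (f 0))] at hdiff
    · have hpos : LabGraph.ctrFn ends (univ.image e) β (DualGr.ctrMk ends (univ.image e) (f 0)) ≠ 0 := by
        rw [ctrFn_mk ends f e hC β hconst]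
        exact (hβ _).1.ne'
      have h5 := (mul_eq_zero.1 hdiff).resolve_left hpos
      exact sub_eq_zero.1 h5
    · intro c _ hc
      obtain ⟨w, rfl⟩ := DualGr.ctrMk_surjective ends (univ.image e) c
      have hw : w ∉ univ.image f := by
        intro hw
        apply hc
        obtain ⟨i, _, rfl⟩ := Finset.mem_image.1 hw
        exact mk_chain ends f e hC i
      rw [hoff w hw, sub_self, mul_zero]
    · intro h
      exact absurd (Finset.mem_univ _) h
  · exact hoff v hv

end inj

end Groth.Agent.Lib.Helper15.ChainCtr
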