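import Mathlib

/-!
# Lifting étale algebras along a surjection, with a point

`exists_lift_etale_open` (variant of `ClosedNbhdRing.exists_lift_etale` which also records that
`Spec (B ⊗[A] D) ⟶ Spec C` is an open immersion): for `A → B` surjective, `C` étale over `B` and a ring map `ω : C → Ω` to a
field, there is an étale `A`-algebra `D`, a `B`-algebra map `τ : C → B ⊗[A] D` and compatible points
`δ : D → Ω`, `ε : B ⊗[A] D → Ω`.
-/

set_option autoImplicit false
universe u v

namespace Groth.Agent.Lib.Helper15.ClosedNbhdOpenRing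

open Polynomial TensorProduct CategoryTheory AlgebraicGeometry

theorem exists_lift_etale_open {A B C : Type u} [CommRing A] [CommRing B] [CommRing C] [Algebra A B]
    [Algebra B C] (hAB : Function.Surjective (algebraMap A B)) [Algebra.Etale B C]
    {Ω : Type v} [Field Ω] (ω : C →+* Ω) :
    ∃ (D : Type u) (_ : CommRing D) (_ : Algebra A D) (_ : Algebra.Etale A D)
      (τ : C →ₐ[B] B ⊗[A] D) (δ : D →+* Ω) (ε : B ⊗[A] D →+* Ω),
      (∀ a, δ (algebraMap A D a) = ω (algebraMap B C (algebraMap A B a))) ∧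
      (∀ d, ε (1 ⊗ₜ d) = δ d) ∧ (∀ b, ε (b ⊗ₜ 1) = ω (algebraMap B C b)) ∧
      (∀ c, ε (τ c) = ω c) ∧
      IsOpenImmersion (Spec.map (CommRingCat.ofHom τ.toRingHom)) := by
  classical
  haveI hprime : (RingHom.ker ω).IsPrime := RingHom.ker_isPrime ω
  obtain ⟨g, hg, hstd⟩ := Algebra.IsEtaleAt.exists_isStandardEtale (R := B) (RingHom.ker ω)
  obtain ⟨P⟩ := hstd.nonempty_standardEtalePresentation
  have hgne : ω g ≠ 0 := fun h0 => hg ((RingHom.mem_ker).2 h0)
  letI : Algebra B Ω := (ω.comp (algebraMap B C)).toAlgebra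
  letI : Algebra A Ω := ((ω.comp (algebraMap B C)).comp (algebraMap A B)).toAlgebra
  haveI : IsScalarTower A B Ω := IsScalarTower.of_algebraMap_eq (fun _ => rfl)
  obtain ⟨ωB, hωB⟩ : ∃ ωB : C →ₐ[B] Ω, ∀ c, ωB c = ω c :=
    ⟨{ ω with commutes' := fun b => rfl }, fun c => rfl⟩
  have hunit : ∀ y : Submonoid.powers g, IsUnit (ωB y) := by
    rintro ⟨_, n, rfl⟩
    rw [map_pow, hωB]
    exact (IsUnit.mk0 _ hgne).pow n
  obtain ⟨ω', hω'⟩ : ∃ ω' : Localization.Away g →ₐ[B] Ω,
      ∀ c, ω' (algebraMap C (Localization.Away g) c) = ω c :=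
    ⟨IsLocalization.liftAlgHom (M := Submonoid.powers g) hunit,
      fun c => (IsLocalization.lift_eq hunit c).trans (hωB c)⟩
  haveI : Nontrivial C := ω.domain_nontrivial
  haveI : Nontrivial B := (algebraMap B C).domain_nontrivial
  obtain ⟨fA, hfA, -, hfAm⟩ := Polynomial.lifts_and_degree_eq_and_monic
    (Polynomial.mem_lifts_of_surjective hAB P.f) P.monic_f
  obtain ⟨gA, hgA⟩ := Polynomial.map_surjective (algebraMap A B) hAB P.g
  obtain ⟨PA, hPAf, hPAg⟩ : ∃ PA : StandardEtalePair A, PA.f = fA ∧ PA.g = gA * derivative fA :=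
    ⟨⟨fA, hfAm, gA * derivative fA, ⟨gA, 0, 1, by ring⟩⟩, rfl, rfl⟩
  refine ⟨PA.Ring, inferInstance, inferInstance, inferInstance, ?_⟩
  -- the element `1 ⊗ X`
  obtain ⟨x', hx'⟩ : ∃ x' : B ⊗[A] PA.Ring, x' = 1 ⊗ₜ PA.X := ⟨_, rfl⟩
  have haev : ∀ r : A[X], aeval (R := B) x' (r.map (algebraMap A B)) =
      (Algebra.TensorProduct.includeRight : PA.Ring →ₐ[A] B ⊗[A] PA.Ring) (aeval PA.X r) := by
    intro r
    rw [Polynomial.aeval_map_algebraMap, ← Polynomial.aeval_algHom_apply, hx']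
    rfl
  have hgX : IsUnit (aeval PA.X gA) := by
    have h2 := PA.hasMap_X.2
    rw [hPAg, map_mul] at h2
    exact isUnit_of_mul_isUnit_left h2
  have hmapτ : P.P.HasMap x' := by
    constructor
    · rw [← hfA, haev, ← hPAf, PA.hasMap_X.1, map_zero]
    · rw [← hgA, haev]
      exact hgX.map _
  -- the point of `PA.Ring`
  have key : ∀ r : A[X], aeval (R := A) (ω' P.x) r =
      ω' (aeval (R := B) P.x (r.map (algebraMap A B))) := by
    intro r
    rw [← Polynomial.aeval_algHom_apply, Polynomial.aeval_map_algebraMap]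
  have hmapΩ : PA.HasMap (ω' P.x) := by
    constructor
    · rw [hPAf, key, hfA, P.hasMap.1, map_zero]
    · rw [hPAg, map_mul, key, key, hgA, ← Polynomial.derivative_map, hfA]
      exact (P.hasMap.2.map ω').mul (P.hasMap.isUnit_derivative_f.map ω')
  obtain ⟨δ, hδ⟩ : ∃ δ : PA.Ring →ₐ[A] Ω, δ PA.X = ω' P.x :=
    ⟨PA.lift _ hmapΩ, PA.lift_X _ hmapΩ⟩
  obtain ⟨ε, hε⟩ : ∃ ε : B ⊗[A] PA.Ring →ₐ[B] Ω,
      ∀ (b : B) (d : PA.Ring), ε (b ⊗ₜ d) = algebraMap B Ω b * δ d :=
    ⟨Algebra.TensorProduct.lift (Algebra.ofId B Ω) δ (fun _ _ => Commute.all _ _),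
      fun b d => Algebra.TensorProduct.lift_tmul _ _ _ b d⟩
  obtain ⟨τ₁, hτ₁⟩ : ∃ τ₁ : Localization.Away g →ₐ[B] B ⊗[A] PA.Ring, τ₁ P.x = x' :=
    ⟨(P.P.lift x' hmapτ).comp P.equivRing.toAlgHom, by
      show P.P.lift x' hmapτ (P.equivRing P.x) = x'
      rw [P.equivRing_x, P.P.lift_X]⟩
  have hcomp : ε.comp τ₁ = ω' := by
    apply P.hom_ext
    show ε (τ₁ P.x) = ω' P.x
    rw [hτ₁, hx', hε, map_one, one_mul, hδ]
  -- `τ₁` is bijective
  letI algAL : Algebra A (Localization.Away g) :=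
    ((algebraMap B (Localization.Away g)).comp (algebraMap A B)).toAlgebra
  haveI : IsScalarTower A B (Localization.Away g) := IsScalarTower.of_algebraMap_eq (fun _ => rfl)
  have keyL : ∀ r : A[X], aeval (R := A) P.x r =
      aeval (R := B) P.x (r.map (algebraMap A B)) := by
    intro r
    rw [Polynomial.aeval_map_algebraMap]
  have hmapL : PA.HasMap P.x := by
    constructor
    · rw [hPAf, keyL, hfA]
      exact P.hasMap.1
    · rw [hPAg, map_mul, keyL, keyL, hgA, ← Polynomial.derivative_map, hfA]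
      exact P.hasMap.2.mul P.hasMap.isUnit_derivative_f
  obtain ⟨L, hL⟩ : ∃ L : PA.Ring →ₐ[A] Localization.Away g, L PA.X = P.x :=
    ⟨PA.lift _ hmapL, PA.lift_X _ hmapL⟩
  obtain ⟨σ, hσ⟩ : ∃ σ : B ⊗[A] PA.Ring →ₐ[B] Localization.Away g,
      ∀ (b : B) (d : PA.Ring), σ (b ⊗ₜ d) = algebraMap B (Localization.Away g) b * L d :=
    ⟨Algebra.TensorProduct.lift (Algebra.ofId B (Localization.Away g)) L
      (fun _ _ => Commute.all _ _), fun b d => Algebra.TensorProduct.lift_tmul _ _ _ b d⟩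
  have hστ : σ.comp τ₁ = AlgHom.id B (Localization.Away g) := by
    apply P.hom_ext
    show σ (τ₁ P.x) = P.x
    rw [hτ₁, hx', hσ, map_one, one_mul, hL]
  have hτL : (τ₁.restrictScalars A).comp L =
      (Algebra.TensorProduct.includeRight : PA.Ring →ₐ[A] B ⊗[A] PA.Ring) := by
    apply PA.hom_ext
    show τ₁ (L PA.X) = 1 ⊗ₜ PA.X
    rw [hL, hτ₁, hx']
  have hτσ : ∀ z, τ₁ (σ z) = z := by
    intro z
    induction z using TensorProduct.induction_on with
    | zero => rw [map_zero, map_zero]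
    | tmul b d =>
      have h5 : τ₁ (L d) = 1 ⊗ₜ d := DFunLike.congr_fun hτL d
      rw [hσ, map_mul, AlgHom.commutes, h5, Algebra.TensorProduct.algebraMap_apply,
        Algebra.TensorProduct.tmul_mul_tmul, mul_one, one_mul]
      rfl
    | add x y hx hy => rw [map_add, map_add, hx, hy]
  have hbij : Function.Bijective τ₁ :=
    Function.bijective_iff_has_inverse.2 ⟨σ, fun c => DFunLike.congr_fun hστ c, hτσ⟩
  have hopen : IsOpenImmersion (Spec.map (CommRingCat.ofHom
      (τ₁.comp (IsScalarTower.toAlgHom B C (Localization.Away g))).toRingHom)) := by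
    have e : CommRingCat.ofHom
        (τ₁.comp (IsScalarTower.toAlgHom B C (Localization.Away g))).toRingHom =
        CommRingCat.ofHom (algebraMap C (Localization.Away g)) ≫
          CommRingCat.ofHom τ₁.toRingHom := rfl
    rw [e, Spec.map_comp]
    haveI : IsIso (CommRingCat.ofHom τ₁.toRingHom) :=
      (ConcreteCategory.isIso_iff_bijective _).2 hbij
    haveI : IsOpenImmersion (Spec.map (CommRingCat.ofHom (algebraMap C (Localization.Away g)))) :=
      IsOpenImmersion.of_isLocalization g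
    infer_instance
  refine ⟨τ₁.comp (IsScalarTower.toAlgHom B C (Localization.Away g)), δ.toRingHom, ε.toRingHom,
    ?_, ?_, ?_, ?_, hopen⟩
  · intro a
    exact δ.commutes a
  · intro d
    show ε (1 ⊗ₜ d) = δ d
    rw [hε, map_one, one_mul]
  · intro b
    show ε (b ⊗ₜ 1) = ω (algebraMap B C b)
    rw [hε, map_one, mul_one]
    rfl
  · intro c
    show ε (τ₁ (algebraMap C (Localization.Away g) c)) = ω c
    rw [← hω' c, ← hcomp]
    rfl

end Groth.Agent.Lib.Helper15.ClosedNbhdOpenRing
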