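import Mathlib
import Groth.Prelude.Def_SGA4b
import Groth.Prelude.Def_EtShriek2
import Groth.Agent.S0660
import Groth.Agent.Lib.Helper15.ClosedNbhd
import Groth.Agent.Lib.Helper15.EtGlue
import Groth.Agent.Lib.Helper13.EtaleRestr
import Groth.Agent.Lib.Helper13.NonAbTorsor

/-!
# Helper15: sheaves of sets and closed immersions

For a closed immersion `i : Z ⟶ X` the base change functor `bc i : X.Etale ⥤ Z.Etale` is a dense
subsite (cover dense, locally full, locally faithful).  Consequences for sheaves of sets: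
* `pushSh i` is fully faithful;
* a sheaf of sets `F` on `X` whose sections over etale `X`-schemes lying over the open complement
  are singletons lies in the essential image of `pushSh i`.
Also: for an open immersion `j`, `pullSh j` is restriction along `compEtale j`; terminal sheaves of
sets are those with singleton sections.
-/

set_option autoImplicit false
universe u
open CategoryTheory CategoryTheory.Limits AlgebraicGeometry Opposite
open Groth.Agent.Lib.Helper13

namespace Groth.Agent.Lib.Helper15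
namespace ClosedSh

/-- The equalizer of two morphisms into an etale `X`-scheme is an open subscheme. -/
lemma exists_equalizer_open {U V X : Scheme.{u}} (w : V ⟶ X) [Etale w] (f₁ f₂ : U ⟶ V)
    (hc : f₁ ≫ w = f₂ ≫ w) :
    ∃ (E : Scheme.{u}) (e : E ⟶ U), IsOpenImmersion e ∧ e ≫ f₁ = e ≫ f₂ ∧
      ∀ {T : Scheme.{u}} (t : T ⟶ U), t ≫ f₁ = t ≫ f₂ → ∃ l : T ⟶ E, l ≫ e = t := by
  refine ⟨pullback (pullback.lift f₁ f₂ hc) (pullback.diagonal w), pullback.fst _ _,
    inferInstance, ?_, ?_⟩
  · have hcond := pullback.condition (f := pullback.lift f₁ f₂ hc) (g := pullback.diagonal w)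
    have h1 : pullback.fst (pullback.lift f₁ f₂ hc) (pullback.diagonal w) ≫ f₁ =
        pullback.snd (pullback.lift f₁ f₂ hc) (pullback.diagonal w) := by
      calc pullback.fst (pullback.lift f₁ f₂ hc) (pullback.diagonal w) ≫ f₁
          = pullback.fst (pullback.lift f₁ f₂ hc) (pullback.diagonal w) ≫
              (pullback.lift f₁ f₂ hc ≫ pullback.fst w w) := by rw [pullback.lift_fst]
        _ = (pullback.snd (pullback.lift f₁ f₂ hc) (pullback.diagonal w) ≫
              pullback.diagonal w) ≫ pullback.fst w w := by rw [← Category.assoc, hcond]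
        _ = pullback.snd (pullback.lift f₁ f₂ hc) (pullback.diagonal w) := by
            rw [Category.assoc, pullback.diagonal_fst, Category.comp_id]
    have h2 : pullback.fst (pullback.lift f₁ f₂ hc) (pullback.diagonal w) ≫ f₂ =
        pullback.snd (pullback.lift f₁ f₂ hc) (pullback.diagonal w) := by
      calc pullback.fst (pullback.lift f₁ f₂ hc) (pullback.diagonal w) ≫ f₂
          = pullback.fst (pullback.lift f₁ f₂ hc) (pullback.diagonal w) ≫
              (pullback.lift f₁ f₂ hc ≫ pullback.snd w w) := by rw [pullback.lift_snd]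
        _ = (pullback.snd (pullback.lift f₁ f₂ hc) (pullback.diagonal w) ≫
              pullback.diagonal w) ≫ pullback.snd w w := by rw [← Category.assoc, hcond]
        _ = pullback.snd (pullback.lift f₁ f₂ hc) (pullback.diagonal w) := by
            rw [Category.assoc, pullback.diagonal_snd, Category.comp_id]
    rw [h1, h2]
  · intro T t ht
    refine ⟨pullback.lift t (t ≫ f₁) ?_, pullback.lift_fst _ _ _⟩
    apply pullback.hom_ext
    · rw [Category.assoc, pullback.lift_fst, Category.assoc, pullback.diagonal_fst,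
        Category.comp_id]
    · rw [Category.assoc, pullback.lift_snd, Category.assoc, pullback.diagonal_snd,
        Category.comp_id, ht]

/-- A section of a base change map. -/
lemma section_aux {E U X Z : Scheme.{u}} (e : E ⟶ U) (uh : U ⟶ X) (i : Z ⟶ X)
    (l : pullback uh i ⟶ E) (hl : l ≫ e = pullback.fst uh i)
    (m : pullback (e ≫ uh) i ⟶ pullback uh i)
    (hm1 : m ≫ pullback.fst uh i = pullback.fst (e ≫ uh) i ≫ e)
    (hm2 : m ≫ pullback.snd uh i = pullback.snd (e ≫ uh) i)
    (hσ : l ≫ (e ≫ uh) = pullback.snd uh i ≫ i) :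
    pullback.lift l (pullback.snd uh i) hσ ≫ m = 𝟙 _ := by
  apply pullback.hom_ext
  · rw [Category.assoc, hm1, pullback.lift_fst_assoc, hl, Category.id_comp]
  · rw [Category.assoc, hm2, pullback.lift_snd, Category.id_comp]

set_option backward.isDefEq.respectTransparency.types false

section closed

variable {Z X : Scheme.{u}} (i : Z ⟶ X) [IsClosedImmersion i]

lemma isCoverDense : (EtCoh.bc i).IsCoverDense Z.smallEtaleTopology := by
  constructor
  intro V
  rw [EtGlue.mem_iff]
  intro x
  haveI : Etale V.hom := V.prop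
  obtain ⟨U, p, hp, u, h1, t, ht1, ht2⟩ := ClosedNbhd.exists_lift_nbhd i V.hom
    (Ω := V.left.residueField x)
    (V.left.fromSpecResidueField x :
      Spec (CommRingCat.of (V.left.residueField x)) ⟶ V.left)
  haveI := hp
  refine ⟨(EtCoh.bc i).obj (Scheme.Etale.mk p), MorphismProperty.Over.homMk t ht1 trivial,
    (pullback.lift u _ h1) default, Presieve.in_coverByImage _ _, ?_⟩
  show t ((pullback.lift u _ h1) default) = x
  rw [← Scheme.Hom.comp_apply, ht2]
  exact Scheme.fromSpecResidueField_apply _ _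

lemma isLocallyFull : (EtCoh.bc i).IsLocallyFull Z.smallEtaleTopology := by
  constructor
  intro U V f
  obtain ⟨W, a, b, ha, hab⟩ := Groth.Agent.S0660.result i U V f
  haveI := ha
  have htop : (Functor.imageSieve (EtCoh.bc i) f).functorPushforward (EtCoh.bc i) = ⊤ := by
    rw [← Sieve.id_mem_iff_eq_top]
    exact ⟨W, a, inv ((EtCoh.bc i).map a), ⟨b, hab.symm⟩, (IsIso.inv_hom_id _).symm⟩
  rw [htop]
  exact Z.smallEtaleTopology.top_mem _

lemma bc_map_snd {U V : X.Etale} (a : U ⟶ V) :
    ((EtCoh.bc i).map a).left ≫ pullback.snd V.hom i = pullback.snd U.hom i := by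
  dsimp [EtCoh.bc]
  exact pullback.lift_snd _ _ _

lemma isLocallyFaithful : (EtCoh.bc i).IsLocallyFaithful Z.smallEtaleTopology := by
  constructor
  intro U V f₁ f₂ h
  haveI : Etale V.hom := V.prop
  haveI : Etale U.hom := U.prop
  have hc : f₁.left ≫ V.hom = f₂.left ≫ V.hom := by
    rw [MorphismProperty.Over.w f₁, MorphismProperty.Over.w f₂]
  obtain ⟨E, e, he, heq, hl⟩ := exists_equalizer_open V.hom f₁.left f₂.left hc
  haveI := he
  have ha : Sieve.equalizer f₁ f₂
      (MorphismProperty.Over.homMk e rfl trivial : Scheme.Etale.mk (e ≫ U.hom) ⟶ U) := by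
    show _ ≫ f₁ = _ ≫ f₂
    exact MorphismProperty.Over.Hom.ext heq
  have ht : pullback.fst U.hom i ≫ f₁.left = pullback.fst U.hom i ≫ f₂.left := by
    have h1 := (EtCoh.isPullback_bc_map i f₁).w
    have h2 := (EtCoh.isPullback_bc_map i f₂).w
    have h3 : ((EtCoh.bc i).map f₁).left ≫ pullback.fst V.hom i =
        ((EtCoh.bc i).map f₂).left ≫ pullback.fst V.hom i := by rw [h]
    exact h1.symm.trans (h3.trans h2)
  obtain ⟨l, hl'⟩ := hl (pullback.fst U.hom i) ht
  have hσ : l ≫ (e ≫ U.hom) = pullback.snd U.hom i ≫ i := by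
    rw [← Category.assoc, hl', pullback.condition]
  have hsec : pullback.lift l (pullback.snd U.hom i) hσ ≫
      ((EtCoh.bc i).map (MorphismProperty.Over.homMk e rfl trivial :
        Scheme.Etale.mk (e ≫ U.hom) ⟶ U)).left = 𝟙 _ :=
    section_aux e U.hom i l hl' _ (EtCoh.isPullback_bc_map i _).w (bc_map_snd i _) hσ
  rw [EtGlue.mem_iff]
  intro z
  refine ⟨(EtCoh.bc i).obj (Scheme.Etale.mk (e ≫ U.hom)),
    (EtCoh.bc i).map (MorphismProperty.Over.homMk e rfl trivial),
    (pullback.lift l (pullback.snd U.hom i) hσ) z,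
    Sieve.image_mem_functorPushforward _ _ ha, ?_⟩
  exact congrArg (fun m : pullback U.hom i ⟶ pullback U.hom i => m.base z) hsec

lemma pushSh_full : (EtDesc.pushSh i).Full := by
  haveI := isCoverDense i
  haveI := isLocallyFull i
  refine ⟨?_⟩
  intro G G' ψ
  refine ⟨⟨Functor.IsCoverDense.restrictHomEquivHom (G := EtCoh.bc i) ψ.hom⟩, ?_⟩
  apply Sheaf.hom_ext
  exact (Functor.IsCoverDense.restrictHomEquivHom (G := EtCoh.bc i)).left_inv ψ.hom

lemma pushSh_faithful : (EtDesc.pushSh i).Faithful := by
  haveI := isCoverDense i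
  haveI := isLocallyFull i
  refine ⟨?_⟩
  intro G G' φ φ' h
  apply Sheaf.hom_ext
  apply (Functor.IsCoverDense.restrictHomEquivHom (G := EtCoh.bc i) (ℱ := G.obj)
    (ℱ' := G')).symm.injective
  exact congrArg (fun m => m.hom) h

end closed

/-- Base change to `Z` of an etale `X`-scheme missing `Z` is empty. -/
lemma isEmpty_bc {Z X : Scheme.{u}} (i : Z ⟶ X) (W : X.Etale)
    (hW : ∀ w : W.left, W.hom.base w ∉ Set.range i.base) :
    IsEmpty ((EtCoh.bc i).obj W).left := by
  constructor
  intro w
  have hc : (pullback.fst W.hom i ≫ W.hom).base w = (pullback.snd W.hom i ≫ i).base w := by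
    rw [pullback.condition]
  exact hW ((pullback.fst W.hom i).base w) ⟨(pullback.snd W.hom i).base w, hc.symm⟩

/-- Sections of a sheaf of sets over an empty scheme form a singleton. -/
lemma unique_of_isEmpty {Y : Scheme.{u}} (G : EtDesc.Sh Y) (E : Y.Etale) (h : IsEmpty E.left) :
    Nonempty (Unique (G.obj.obj (op E))) := by
  have hsh := NonAbTorsor.isSheaf_type G ⊥ (EtGlue.bot_mem_of_isEmpty E h)
  obtain ⟨t, -, -⟩ := hsh (fun V f hf => ((Sieve.bot_apply f).1 hf).elim)
    (by
      intro Y₁ Y₂ Z g₁ g₂ f₁ f₂ h₁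
      exact ((Sieve.bot_apply f₁).1 h₁).elim)
  haveI := EtGlue.subsingleton_of_isEmpty G E h
  exact ⟨⟨⟨t⟩, fun _ => Subsingleton.elim _ _⟩⟩

/-- A sheaf of sets is terminal iff all its sets of sections are singletons. -/
lemma isIso_terminal_from_iff {X : Scheme.{u}} (P : EtDesc.Sh X) :
    IsIso (terminal.from P) ↔ ∀ V : X.Etale, Nonempty (Unique (P.obj.obj (op V))) := by
  have key : ∀ (T : EtDesc.Sh X), IsTerminal T →
      ∀ V : X.Etale, Nonempty (Unique (T.obj.obj (op V))) := by
    intro T hT V
    have h1 : IsTerminal ((sheafToPresheaf X.smallEtaleTopology (Type (u + 1)) ⋙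
        (evaluation X.Etaleᵒᵖ (Type (u + 1))).obj (op V)).obj T) :=
      IsTerminal.isTerminalObj _ T hT
    exact ⟨(Types.isTerminalEquivUnique _) h1⟩
  constructor
  · intro h V
    exact key P (IsTerminal.ofIso terminalIsTerminal (asIso (terminal.from P)).symm) V
  · intro h
    rw [← isIso_iff_of_reflects_iso _ (sheafToPresheaf X.smallEtaleTopology (Type (u + 1))),
      NatTrans.isIso_iff_isIso_app]
    rintro ⟨V⟩
    rw [isIso_iff_bijective]
    obtain ⟨u1⟩ := h V
    obtain ⟨u2⟩ := key _ terminalIsTerminal V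
    exact ⟨fun a b _ => (u1.uniq a).trans (u1.uniq b).symm,
      fun b => ⟨u1.default, (u2.uniq _).trans (u2.uniq _).symm⟩⟩

section openpart

variable {U X : Scheme.{u}} (j : U ⟶ X) [IsOpenImmersion j]

/-- Restriction of sheaves of sets to an open subscheme. -/
noncomputable abbrev restrSh : EtDesc.Sh X ⥤ EtDesc.Sh U :=
  (EtShriek.compEtale j).sheafPushforwardContinuous (Type (u + 1)) U.smallEtaleTopology
    X.smallEtaleTopology

noncomputable def restrPushAdjSh : restrSh j ⊣ EtDesc.pushSh j :=
  (EtaleRestr.adjSites j).sheafPushforwardContinuous (E := Type (u + 1)) U.smallEtaleTopology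
    X.smallEtaleTopology

noncomputable def pullIsoRestrSh : EtDesc.pullSh j ≅ restrSh j :=
  (EtDesc.adjSh j).leftAdjointUniq (restrPushAdjSh j)

lemma unique_sections_of_range {F : EtDesc.Sh X}
    (h : IsIso (terminal.from ((EtDesc.pullSh j).obj F))) (W : X.Etale)
    (hW : Set.range W.hom.base ⊆ Set.range j.base) : Nonempty (Unique (F.obj.obj (op W))) := by
  haveI : Etale W.hom := W.prop
  have hfac : IsOpenImmersion.lift j W.hom hW ≫ j = W.hom := IsOpenImmersion.lift_fac _ _ _
  haveI : Etale (IsOpenImmersion.lift j W.hom hW ≫ j) := by rw [hfac]; infer_instance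
  haveI : Etale (IsOpenImmersion.lift j W.hom hW) := Etale.of_comp _ j
  have e : (EtShriek.compEtale j).obj (Scheme.Etale.mk (IsOpenImmersion.lift j W.hom hW)) ≅ W :=
    MorphismProperty.Over.isoMk (Iso.refl _) ((Category.id_comp W.hom).trans hfac.symm)
  obtain ⟨uu⟩ := (isIso_terminal_from_iff _).1 h (Scheme.Etale.mk (IsOpenImmersion.lift j W.hom hW))
  have ε := ((sheafToPresheaf _ _).mapIso ((pullIsoRestrSh j).app F)).app
    (op (Scheme.Etale.mk (IsOpenImmersion.lift j W.hom hW)))
  have ε2 := F.obj.mapIso e.op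
  exact ⟨@Equiv.unique _ _ uu (ε2.toEquiv.trans ε.toEquiv.symm)⟩

/-- The sieve of arrows whose source lies over the open subscheme. -/
def sieveU (V : X.Etale) : Sieve V where
  arrows := fun T => {_f | Set.range T.hom.base ⊆ Set.range j.base}
  downward_closed := by
    intro T T' f hf g
    show Set.range T'.hom.base ⊆ Set.range j.base
    rintro _ ⟨t, rfl⟩
    have e : g.left ≫ T.hom = T'.hom := MorphismProperty.Over.w g
    have e' : (g.left ≫ T.hom).base t = T'.hom.base t := by rw [e]
    rw [← e']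
    exact hf ⟨g.left.base t, rfl⟩

end openpart

section main

variable {Z X U : Scheme.{u}} (i : Z ⟶ X) [IsClosedImmersion i] (j : U ⟶ X) [IsOpenImmersion j]
  (hU : Set.range j.base = (Set.range i.base)ᶜ)

include hU in
lemma sup_mem (V : X.Etale) (S : Sieve V)
    (hS : S.functorPushforward (EtCoh.bc i) ∈ Z.smallEtaleTopology ((EtCoh.bc i).obj V)) :
    S ⊔ sieveU j V ∈ X.smallEtaleTopology V := by
  rw [EtGlue.mem_iff] at hS ⊢
  intro x
  haveI : Etale V.hom := V.prop
  by_cases hx : V.hom.base x ∈ Set.range i.base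
  · obtain ⟨y, hy⟩ := hx
    obtain ⟨z, hz1, hz2⟩ := Scheme.Pullback.exists_preimage_pullback (f := V.hom) (g := i) x y
      hy.symm
    obtain ⟨Z', g, z', ⟨T, g', h, hg', hg⟩, hz'⟩ := hS z
    refine ⟨T, g', (pullback.fst T.hom i) (h.left z'), (Sieve.union_apply _).2 (Or.inl hg'), ?_⟩
    have h2 : ((EtCoh.bc i).map g').left (h.left z') = z := by
      rw [← hz', hg]
      rfl
    have h3 := congrArg (fun m => m.base (h.left z')) (EtCoh.isPullback_bc_map i g').w
    have h4 : (pullback.fst V.hom i).base (((EtCoh.bc i).map g').left.base (h.left z')) = x :=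
      (congrArg (fun p => (pullback.fst V.hom i).base p) h2).trans hz1
    exact h3.symm.trans h4
  · have hx' : V.hom.base x ∈ Set.range j.base := by rw [hU]; exact hx
    obtain ⟨u', hu'⟩ := hx'
    obtain ⟨z, hz1, hz2⟩ := Scheme.Pullback.exists_preimage_pullback (f := V.hom) (g := j) x u'
      hu'.symm
    refine ⟨Scheme.Etale.mk (pullback.fst V.hom j ≫ V.hom),
      MorphismProperty.Over.homMk (pullback.fst V.hom j) rfl trivial, z,
      (Sieve.union_apply _).2 (Or.inr ?_), hz1⟩
    show Set.range (pullback.fst V.hom j ≫ V.hom).base ⊆ Set.range j.base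
    rintro _ ⟨t, rfl⟩
    rw [pullback.condition]
    exact ⟨(pullback.snd V.hom j).base t, rfl⟩

include hU in
lemma isSheaf_restricted (F : EtDesc.Sh X)
    (hF : ∀ W : X.Etale, Set.range W.hom.base ⊆ Set.range j.base →
      Nonempty (Unique (F.obj.obj (op W)))) :
    Presheaf.IsSheaf ((EtCoh.bc i).restrictedTopology Z.smallEtaleTopology) F.obj := by
  haveI := isCoverDense i
  haveI := isLocallyFull i
  haveI := isLocallyFaithful i
  rw [isSheaf_iff_isSheaf_of_type]
  intro V S hS
  rw [Functor.mem_restrictedTopology_iff] at hS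
  have hR := sup_mem i j hU V S hS
  refine Presieve.isSheafFor_trans F.obj (S ⊔ sieveU j V) S
    (NonAbTorsor.isSheaf_type F _ hR) ?_ ?_
  · intro T f _
    exact (NonAbTorsor.isSheaf_type F _
      (X.smallEtaleTopology.pullback_stable f hR)).isSeparatedFor
  · intro T f hf
    rcases (Sieve.union_apply _).1 hf with hf | hf
    · rw [Sieve.pullback_eq_top_of_mem S hf]
      exact Presieve.isSheafFor_top_sieve F.obj
    · have hT : ∀ (T' : X.Etale) (g : T' ⟶ T), Nonempty (Unique (F.obj.obj (op T'))) :=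
        fun T' g => hF T' ((sieveU j V).downward_closed hf g)
      intro x _
      obtain ⟨uT⟩ := hT T (𝟙 T)
      refine ⟨uT.default, ?_, fun t _ => uT.uniq t⟩
      intro T' g hg
      obtain ⟨uT'⟩ := hT T' g
      exact (uT'.uniq _).trans (uT'.uniq _).symm

include hU in
lemma essImage_of_unique (F : EtDesc.Sh X)
    (hF : ∀ W : X.Etale, Set.range W.hom.base ⊆ Set.range j.base →
      Nonempty (Unique (F.obj.obj (op W)))) :
    (EtDesc.pushSh i).essImage F := by
  haveI := isCoverDense i
  haveI := isLocallyFull i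
  haveI := isLocallyFaithful i
  let F' : Sheaf ((EtCoh.bc i).restrictedTopology Z.smallEtaleTopology) (Type (u + 1)) :=
    ⟨F.obj, isSheaf_restricted i j hU F hF⟩
  let Φ := (EtCoh.bc i).sheafPushforwardContinuous (Type (u + 1))
    ((EtCoh.bc i).restrictedTopology Z.smallEtaleTopology) Z.smallEtaleTopology
  haveI : Φ.IsEquivalence := inferInstance
  let e : Φ.obj (Φ.objPreimage F') ≅ F' := Φ.objObjPreimageIso F'
  exact ⟨Φ.objPreimage F', ⟨(fullyFaithfulSheafToPresheaf _ _).preimageIso
    ((sheafToPresheaf ((EtCoh.bc i).restrictedTopology Z.smallEtaleTopology) _).mapIso e)⟩⟩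

include hU in
lemma isIso_terminal_of_iso (G : EtDesc.Sh Z) (F : EtDesc.Sh X)
    (e : (EtDesc.pushSh i).obj G ≅ F) :
    IsIso (terminal.from ((EtDesc.pullSh j).obj F)) := by
  rw [isIso_terminal_from_iff]
  intro V
  have ε : (EtDesc.pullSh j).obj F ≅ (restrSh j).obj ((EtDesc.pushSh i).obj G) :=
    (pullIsoRestrSh j).app F ≪≫ (restrSh j).mapIso e.symm
  have hempty : IsEmpty ((EtCoh.bc i).obj ((EtShriek.compEtale j).obj V)).left := by
    apply isEmpty_bc i
    intro w hw
    have h1 : ((EtShriek.compEtale j).obj V).hom.base w ∈ Set.range j.base :=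
      ⟨V.hom.base w, rfl⟩
    rw [hU] at h1
    exact h1 hw
  obtain ⟨uu⟩ := unique_of_isEmpty G _ hempty
  exact ⟨@Equiv.unique _ _ uu (((sheafToPresheaf _ _).mapIso ε).app (op V)).toEquiv⟩

end main

end ClosedSh
end Groth.Agent.Lib.Helper15
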