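import Mathlib
import Groth.Agent.Lib.Helper15.EtGlue

/-!
# Helper15: extension by zero of sections along an open and closed immersion (small étale site)
-/

set_option autoImplicit false
set_option backward.isDefEq.respectTransparency false
universe u
open CategoryTheory CategoryTheory.Limits AlgebraicGeometry Opposite

namespace Groth.Agent.Lib.Helper15.ExtBy

open Groth.Agent.Lib.Helper15.EtGlue

variable {S : Scheme.{u}}

/-- The open piece of an étale `S`-scheme, as an étale `S`-scheme. -/
noncomputable def opPiece (T : S.Etale) (O : T.left.Opens) : S.Etale :=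
  MorphismProperty.Over.mk ⊤ (O.ι ≫ T.hom)
    (EtCoh.etaleMP.comp_mem _ _ (inferInstanceAs (AlgebraicGeometry.Etale O.ι)) T.prop)

/-- The inclusion of an open piece. -/
noncomputable def opι (T : S.Etale) (O : T.left.Opens) : opPiece T O ⟶ T :=
  MorphismProperty.Over.homMk O.ι rfl trivial

lemma opι_left (T : S.Etale) (O : T.left.Opens) : (opι T O).left = O.ι := rfl

lemma opι_mem (T : S.Etale) (O : T.left.Opens) (z : (opPiece T O).left) :
    (opι T O).left z ∈ O := by
  have h : O.ι z ∈ Set.range O.ι := ⟨z, rfl⟩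
  rw [Scheme.Opens.range_ι] at h
  exact h

lemma exists_opι_eq (T : S.Etale) (O : T.left.Opens) (x : T.left) (hx : x ∈ O) :
    ∃ z : (opPiece T O).left, (opι T O).left z = x := by
  have h : x ∈ Set.range O.ι := by rw [Scheme.Opens.range_ι]; exact hx
  exact h

/-- A morphism whose image lies in `O` factors through the open piece. -/
lemma exists_factor (T : S.Etale) (O : T.left.Opens) {Z : S.Etale} (g : Z ⟶ T)
    (h : ∀ z : Z.left, g.left z ∈ O) : ∃ g' : Z ⟶ opPiece T O, g' ≫ opι T O = g := by
  have hr : Set.range g.left ⊆ Set.range O.ι := by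
    rintro _ ⟨z, rfl⟩
    rw [Scheme.Opens.range_ι]; exact h z
  refine ⟨MorphismProperty.Over.homMk (IsOpenImmersion.lift O.ι g.left hr) ?_ trivial, ?_⟩
  · show IsOpenImmersion.lift O.ι g.left hr ≫ O.ι ≫ T.hom = Z.hom
    rw [← Category.assoc, IsOpenImmersion.lift_fac]; exact MorphismProperty.Over.w g
  · apply MorphismProperty.Over.Hom.ext
    show IsOpenImmersion.lift O.ι g.left hr ≫ O.ι = g.left
    exact IsOpenImmersion.lift_fac _ _ _

/-- Open immersions with closed range. -/
structure IsClopenImm {V T : S.Etale} (γ : V ⟶ T) : Prop where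
  isOpenImmersion : IsOpenImmersion γ.left
  isClosed_range : IsClosed (Set.range γ.left)

/-- The open complement of the range. -/
def compl {V T : S.Etale} (γ : V ⟶ T) (h : IsClopenImm γ) : T.left.Opens :=
  ⟨(Set.range γ.left)ᶜ, h.isClosed_range.isOpen_compl⟩

lemma mem_compl {V T : S.Etale} (γ : V ⟶ T) (h : IsClopenImm γ) (x : T.left) :
    x ∈ compl γ h ↔ x ∉ Set.range γ.left := Iff.rfl

lemma IsClopenImm.comp_iso {V T T' : S.Etale} {γ : V ⟶ T} (h : IsClopenImm γ) (e : T ≅ T') :
    IsClopenImm (γ ≫ e.hom) := by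
  haveI := h.isOpenImmersion
  have e1 : e.hom.left ≫ e.inv.left = 𝟙 _ := by
    have := congrArg (fun k => k.left) e.hom_inv_id
    exact this
  have e2 : e.inv.left ≫ e.hom.left = 𝟙 _ := by
    have := congrArg (fun k => k.left) e.inv_hom_id
    exact this
  haveI : IsIso e.hom.left := ⟨e.inv.left, e1, e2⟩
  refine ⟨?_, ?_⟩
  · show IsOpenImmersion (γ.left ≫ e.hom.left)
    infer_instance
  · have hs : Set.range (γ ≫ e.hom).left = e.inv.left ⁻¹' (Set.range γ.left) := by
      ext y
      constructor
      · rintro ⟨p, rfl⟩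
        refine ⟨p, ?_⟩
        show γ.left p = e.inv.left ((γ.left ≫ e.hom.left) p)
        rw [Scheme.Hom.comp_apply, ← Scheme.Hom.comp_apply, e1]
        rfl
      · rintro ⟨p, hp⟩
        refine ⟨p, ?_⟩
        show (γ.left ≫ e.hom.left) p = y
        rw [Scheme.Hom.comp_apply, hp, ← Scheme.Hom.comp_apply, e2]
        rfl
    rw [hs]
    exact h.isClosed_range.preimage e.inv.left.continuous

variable (F : EtCoh.Ab S)

theorem exists_ext {V T : S.Etale} (γ : V ⟶ T) (h : IsClopenImm γ) (s : F.obj.obj (op V)) :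
    ∃ t : F.obj.obj (op T), F.obj.map γ.op t = s ∧
      ∀ (Z : S.Etale) (g : Z ⟶ T), (∀ z : Z.left, g.left z ∉ Set.range γ.left) →
        F.obj.map g.op t = 0 := by
  haveI := h.isOpenImmersion
  obtain ⟨t, ht, -⟩ := glueAb F (T := T)
    (fun b : Bool => bif b then V else opPiece T (compl γ h))
    (fun b => match b with
      | true => γ
      | false => opι T (compl γ h))
    (fun b => match b with
      | true => (inferInstance : Mono γ.left)
      | false => (inferInstance : Mono (compl γ h).ι))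
    (by
      intro a b hab p q
      cases a <;> cases b
      · exact (hab rfl).elim
      · intro e
        have h1 := opι_mem T (compl γ h) p
        rw [mem_compl] at h1
        exact h1 ⟨q, e.symm⟩
      · intro e
        have h1 := opι_mem T (compl γ h) q
        rw [mem_compl] at h1
        exact h1 ⟨p, e⟩
      · exact (hab rfl).elim)
    (by
      intro x
      by_cases hx : x ∈ Set.range γ.left
      · obtain ⟨p, hp⟩ := hx
        exact ⟨true, p, hp⟩
      · obtain ⟨p, hp⟩ := exists_opι_eq T (compl γ h) x hx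
        exact ⟨false, p, hp⟩)
    (fun b => match b with
      | true => s
      | false => 0)
  refine ⟨t, ht true, ?_⟩
  intro Z g hg
  obtain ⟨g', rfl⟩ := exists_factor T (compl γ h) g hg
  rw [op_comp, ab_map_comp]
  have h0 : F.obj.map (opι T (compl γ h)).op t = 0 := ht false
  rw [h0, map_zero]

theorem ext_unique {V T : S.Etale} (γ : V ⟶ T) (h : IsClopenImm γ) (t t' : F.obj.obj (op T))
    (h1 : F.obj.map γ.op t = F.obj.map γ.op t')
    (h2 : ∀ (Z : S.Etale) (g : Z ⟶ T), (∀ z : Z.left, g.left z ∉ Set.range γ.left) →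
      F.obj.map g.op t = F.obj.map g.op t') : t = t' := by
  refine eq_of_locally_ab F t t' ?_
  intro x
  by_cases hx : x ∈ Set.range γ.left
  · obtain ⟨p, hp⟩ := hx
    exact ⟨V, γ, p, hp, h1⟩
  · obtain ⟨p, hp⟩ := exists_opι_eq T (compl γ h) x hx
    exact ⟨_, opι T (compl γ h), p, hp, h2 _ _ (fun z => opι_mem T (compl γ h) z)⟩

/-- Extension by zero along an open and closed immersion. -/
noncomputable def extBy {V T : S.Etale} (γ : V ⟶ T) (h : IsClopenImm γ) :
    F.obj.obj (op V) →+ F.obj.obj (op T) where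
  toFun s := Classical.choose (exists_ext F γ h s)
  map_zero' := by
    obtain ⟨h1, h2⟩ := Classical.choose_spec (exists_ext F γ h 0)
    refine ext_unique F γ h _ _ ?_ ?_
    · rw [h1, map_zero]
    · intro Z g hg
      rw [h2 Z g hg, map_zero]
  map_add' s s' := by
    obtain ⟨h1, h2⟩ := Classical.choose_spec (exists_ext F γ h (s + s'))
    obtain ⟨h1', h2'⟩ := Classical.choose_spec (exists_ext F γ h s)
    obtain ⟨h1'', h2''⟩ := Classical.choose_spec (exists_ext F γ h s')
    refine ext_unique F γ h _ _ ?_ ?_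
    · rw [h1, map_add, h1', h1'']
    · intro Z g hg
      rw [h2 Z g hg, map_add, h2' Z g hg, h2'' Z g hg, add_zero]

lemma extBy_restrict {V T : S.Etale} (γ : V ⟶ T) (h : IsClopenImm γ) (s : F.obj.obj (op V)) :
    F.obj.map γ.op (extBy F γ h s) = s :=
  (Classical.choose_spec (exists_ext F γ h s)).1

lemma extBy_off {V T : S.Etale} (γ : V ⟶ T) (h : IsClopenImm γ) (s : F.obj.obj (op V))
    {Z : S.Etale} (g : Z ⟶ T) (hg : ∀ z : Z.left, g.left z ∉ Set.range γ.left) :
    F.obj.map g.op (extBy F γ h s) = 0 :=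
  (Classical.choose_spec (exists_ext F γ h s)).2 Z g hg

lemma eq_extBy {V T : S.Etale} (γ : V ⟶ T) (h : IsClopenImm γ) (s : F.obj.obj (op V))
    (t : F.obj.obj (op T)) (h1 : F.obj.map γ.op t = s)
    (h2 : ∀ (Z : S.Etale) (g : Z ⟶ T), (∀ z : Z.left, g.left z ∉ Set.range γ.left) →
      F.obj.map g.op t = 0) : t = extBy F γ h s := by
  refine ext_unique F γ h _ _ ?_ ?_
  · rw [h1, extBy_restrict]
  · intro Z g hg
    rw [h2 Z g hg, extBy_off F γ h s g hg]

/-- Base change of the extension by zero along a square which is cartesian on points. -/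
lemma extBy_comp {V T V' T' : S.Etale} (γ : V ⟶ T) (h : IsClopenImm γ) (γ' : V' ⟶ T')
    (h' : IsClopenImm γ') (b : T' ⟶ T) (m : V' ⟶ V) (hw : γ' ≫ b = m ≫ γ)
    (hcart : ∀ q : T'.left, b.left q ∈ Set.range γ.left → q ∈ Set.range γ'.left)
    (s : F.obj.obj (op V)) :
    F.obj.map b.op (extBy F γ h s) = extBy F γ' h' (F.obj.map m.op s) := by
  refine eq_extBy F γ' h' _ _ ?_ ?_
  · rw [← ab_map_comp, ← op_comp, hw, op_comp, ab_map_comp, extBy_restrict]
  · intro Z g hg
    rw [← ab_map_comp, ← op_comp]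
    refine extBy_off F γ h s (g ≫ b) ?_
    intro z hz
    refine hg z (hcart _ ?_)
    have : (g ≫ b).left z = b.left (g.left z) := Scheme.Hom.comp_apply _ _ _
    rw [← this]
    exact hz

/-- Naturality in the sheaf. -/
lemma extBy_natural {F G : EtCoh.Ab S} (α : F ⟶ G) {V T : S.Etale} (γ : V ⟶ T)
    (h : IsClopenImm γ) (s : F.obj.obj (op V)) :
    α.hom.app (op T) (extBy F γ h s) = extBy G γ h (α.hom.app (op V) s) := by
  refine eq_extBy G γ h _ _ ?_ ?_
  · rw [← ab_hom_nat, extBy_restrict]
  · intro Z g hg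
    rw [← ab_hom_nat, extBy_off F γ h s g hg, map_zero]

end Groth.Agent.Lib.Helper15.ExtBy
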