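import Mathlib
import Groth.Prelude.Def_EtShriek2
import Groth.Agent.Lib.Helper15.ExtBy
import Groth.Agent.Lib.Helper13.ExtZeroExact

/-!
# Helper15: graphs `V ⟶ W ×_X U` for a separated étale `j : U ⟶ X`
-/

set_option autoImplicit false
set_option backward.isDefEq.respectTransparency false
universe u
open CategoryTheory CategoryTheory.Limits AlgebraicGeometry Opposite

namespace Groth.Agent.Lib.Helper15.ExtGraph

open Groth.Agent.Lib.Helper15.ExtBy Groth.Agent.Lib.Helper13.ExtZeroExact

variable {U X : Scheme.{u}} (j : U ⟶ X) [AlgebraicGeometry.Etale j]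

/-- The morphism `V ⟶ W ×_X U` attached to `(V → U → X) ⟶ W`. -/
noncomputable def Gam {V : U.Etale} {W : X.Etale} (a : (EtShriek.compEtale j).obj V ⟶ W) :
    V ⟶ (EtCoh.bc j).obj W :=
  MorphismProperty.Over.homMk (pullback.lift a.left V.hom (MorphismProperty.Over.w a))
    (pullback.lift_snd _ _ _) trivial

@[reassoc]
lemma Gam_left_fst {V : U.Etale} {W : X.Etale} (a : (EtShriek.compEtale j).obj V ⟶ W) :
    (Gam j a).left ≫ pullback.fst W.hom j = a.left := pullback.lift_fst _ _ _

@[reassoc]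
lemma Gam_left_snd {V : U.Etale} {W : X.Etale} (a : (EtShriek.compEtale j).obj V ⟶ W) :
    (Gam j a).left ≫ pullback.snd W.hom j = V.hom := pullback.lift_snd _ _ _

@[reassoc]
lemma bc_map_fst {W W' : X.Etale} (b : W ⟶ W') :
    ((EtCoh.bc j).map b).left ≫ pullback.fst W'.hom j = pullback.fst W.hom j ≫ b.left := by
  dsimp [EtCoh.bc]
  exact pullback.lift_fst _ _ _

@[reassoc]
lemma bc_map_snd {W W' : X.Etale} (b : W ⟶ W') :
    ((EtCoh.bc j).map b).left ≫ pullback.snd W'.hom j = pullback.snd W.hom j := by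
  dsimp [EtCoh.bc]
  exact pullback.lift_snd _ _ _

lemma Gam_comp {V : U.Etale} {W W' : X.Etale} (a : (EtShriek.compEtale j).obj V ⟶ W)
    (b : W ⟶ W') : Gam j a ≫ (EtCoh.bc j).map b = Gam j (a ≫ b) := by
  apply MorphismProperty.Over.Hom.ext
  show (Gam j a).left ≫ ((EtCoh.bc j).map b).left = (Gam j (a ≫ b)).left
  apply pullback.hom_ext
  · rw [Category.assoc, bc_map_fst, Gam_left_fst_assoc, Gam_left_fst]; rfl
  · rw [Category.assoc, bc_map_snd, Gam_left_snd, Gam_left_snd]

lemma comp_Gam {V' V : U.Etale} {W : X.Etale} (m : V' ⟶ V)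
    (a : (EtShriek.compEtale j).obj V ⟶ W) :
    m ≫ Gam j a = Gam j ((EtShriek.compEtale j).map m ≫ a) := by
  apply MorphismProperty.Over.Hom.ext
  show m.left ≫ (Gam j a).left = (Gam j ((EtShriek.compEtale j).map m ≫ a)).left
  apply pullback.hom_ext
  · rw [Category.assoc, Gam_left_fst, Gam_left_fst]; rfl
  · rw [Category.assoc, Gam_left_snd, Gam_left_snd]; exact MorphismProperty.Over.w m

lemma Gam_id_isPullback (V : U.Etale) :
    IsPullback V.hom (Gam j (𝟙 ((EtShriek.compEtale j).obj V))).left (pullback.diagonal j)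
      (pullback.map (V.hom ≫ j) j j j V.hom (𝟙 U) (𝟙 X) (by simp) (by simp)) :=
  pullback_lift_diagonal_isPullback V.hom j

variable [IsSeparated j]

lemma Gam_id_clopen (V : U.Etale) :
    IsClopenImm (Gam j (𝟙 ((EtShriek.compEtale j).obj V))) := by
  have sq := Gam_id_isPullback j V
  refine ⟨?_, ?_⟩
  · exact MorphismProperty.of_isPullback (P := @IsOpenImmersion) sq inferInstance
  · have : IsClosedImmersion (Gam j (𝟙 ((EtShriek.compEtale j).obj V))).left :=
      MorphismProperty.of_isPullback (P := @IsClosedImmersion) sq inferInstance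
    exact (Gam j (𝟙 ((EtShriek.compEtale j).obj V))).left.isClosedEmbedding.isClosed_range

lemma Gam_iso_clopen {V : U.Etale} {W : X.Etale} (a : (EtShriek.compEtale j).obj V ⟶ W)
    [IsIso a] : IsClopenImm (Gam j a) := by
  have h := (Gam_id_clopen j V).comp_iso ((EtCoh.bc j).mapIso (asIso a))
  have e : Gam j (𝟙 _) ≫ ((EtCoh.bc j).mapIso (asIso a)).hom = Gam j a := by
    rw [Functor.mapIso_hom, asIso_hom, Gam_comp, Category.id_comp]
  rwa [e] at h

omit [IsSeparated j] in
lemma Gam_id_square {V' V : U.Etale} (m : V' ⟶ V) :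
    m ≫ Gam j (𝟙 ((EtShriek.compEtale j).obj V)) =
      Gam j (𝟙 ((EtShriek.compEtale j).obj V')) ≫
        (EtCoh.bc j).map ((EtShriek.compEtale j).map m) := by
  rw [comp_Gam, Gam_comp, Category.comp_id, Category.id_comp]

omit [IsSeparated j] in
/-- The naturality square of the graphs is cartesian on points. -/
lemma Gam_id_cart {V' V : U.Etale} (m : V' ⟶ V)
    (q : ((EtCoh.bc j).obj ((EtShriek.compEtale j).obj V')).left)
    (hq : ((EtCoh.bc j).map ((EtShriek.compEtale j).map m)).left q ∈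
      Set.range (Gam j (𝟙 ((EtShriek.compEtale j).obj V))).left) :
    q ∈ Set.range (Gam j (𝟙 ((EtShriek.compEtale j).obj V'))).left := by
  have e1 : m.left ≫ V.hom = V'.hom := MorphismProperty.Over.w m
  have e2 : ((EtCoh.bc j).map ((EtShriek.compEtale j).map m)).left ≫
      pullback.map (V.hom ≫ j) j j j V.hom (𝟙 U) (𝟙 X) (by simp) (by simp) =
      pullback.map (V'.hom ≫ j) j j j V'.hom (𝟙 U) (𝟙 X) (by simp) (by simp) := by
    apply pullback.hom_ext
    · rw [Category.assoc, pullback.lift_fst, pullback.lift_fst]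
      have := bc_map_fst_assoc j ((EtShriek.compEtale j).map m) V.hom
      refine this.trans ?_
      show pullback.fst _ _ ≫ m.left ≫ V.hom = _
      rw [e1]
      rfl
    · rw [Category.assoc, pullback.lift_snd, pullback.lift_snd]
      exact bc_map_snd_assoc j ((EtShriek.compEtale j).map m) (𝟙 U)
  have sq : IsPullback m.left (Gam j (𝟙 ((EtShriek.compEtale j).obj V'))).left
      (Gam j (𝟙 ((EtShriek.compEtale j).obj V))).left
      ((EtCoh.bc j).map ((EtShriek.compEtale j).map m)).left := by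
    refine IsPullback.of_right (h₁₂ := V.hom) (v₁₃ := pullback.diagonal j)
      (h₂₂ := pullback.map (V.hom ≫ j) j j j V.hom (𝟙 U) (𝟙 X) (by simp) (by simp)) ?_ ?_
      (Gam_id_isPullback j V)
    · rw [e1, e2]
      exact Gam_id_isPullback j V'
    · exact congrArg (fun k => k.left) (Gam_id_square j m)
  obtain ⟨p, hp⟩ := hq
  obtain ⟨z, -, hz2⟩ := Scheme.Pullback.exists_preimage_pullback
    (f := (Gam j (𝟙 ((EtShriek.compEtale j).obj V))).left)
    (g := ((EtCoh.bc j).map ((EtShriek.compEtale j).map m)).left) p q hp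
  refine ⟨sq.isoPullback.inv z, ?_⟩
  rw [← hz2, ← Scheme.Hom.comp_apply, IsPullback.isoPullback_inv_snd]

/-! ### Lifts of an étale `X`-scheme to `U` -/

omit [IsSeparated j] in
/-- The `X`-morphisms `W → U`. -/
abbrev Lift (W : X.Etale) : Type u := {φ : W.left ⟶ U // φ ≫ j = W.hom}

/-- `W`, seen as an étale `U`-scheme through `φ`. -/
noncomputable abbrev LV {W : X.Etale} (φ : Lift j W) : U.Etale := (localData j W).V φ

/-- `(W →φ U → X) ≅ W`. -/
noncomputable abbrev Le {W : X.Etale} (φ : Lift j W) :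
    (EtShriek.compEtale j).obj (LV j φ) ≅ W := (localData j W).e φ

omit [IsSeparated j] in
lemma Le_hom_left {W : X.Etale} (φ : Lift j W) : (Le j φ).hom.left = 𝟙 _ := rfl

omit [IsSeparated j] in
lemma Le_inv_left {W : X.Etale} (φ : Lift j W) : (Le j φ).inv.left = 𝟙 _ := rfl

omit [IsSeparated j] in
lemma LV_hom {W : X.Etale} (φ : Lift j W) : (LV j φ).hom = φ.1 := rfl

/-- The graph of `φ`. -/
noncomputable abbrev G {W : X.Etale} (φ : Lift j W) : LV j φ ⟶ (EtCoh.bc j).obj W :=
  Gam j (Le j φ).hom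

lemma G_clopen {W : X.Etale} (φ : Lift j W) : IsClopenImm (G j φ) := Gam_iso_clopen j _

omit [IsSeparated j] in
/-- Restriction of a lift. -/
def pullLift {N W : X.Etale} (n : N ⟶ W) (φ : Lift j W) : Lift j N :=
  ⟨n.left ≫ φ.1, by rw [Category.assoc, φ.2]; exact MorphismProperty.Over.w n⟩

/-- The morphism of étale `U`-schemes underlying `n`. -/
noncomputable def pullHom {N W : X.Etale} (n : N ⟶ W) (φ : Lift j W) :
    LV j (pullLift j n φ) ⟶ LV j φ :=
  MorphismProperty.Over.homMk n.left rfl trivial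

omit [IsSeparated j] in
lemma Le_pull {N W : X.Etale} (n : N ⟶ W) (φ : Lift j W) :
    (Le j (pullLift j n φ)).hom ≫ n =
      (EtShriek.compEtale j).map (pullHom j n φ) ≫ (Le j φ).hom := by
  apply MorphismProperty.Over.Hom.ext
  show 𝟙 _ ≫ n.left = n.left ≫ 𝟙 _
  exact (Category.id_comp _).trans (Category.comp_id _).symm

omit [IsSeparated j] in
lemma Le_pull_inv {N W : X.Etale} (n : N ⟶ W) (φ : Lift j W) :
    n ≫ (Le j φ).inv =
      (Le j (pullLift j n φ)).inv ≫ (EtShriek.compEtale j).map (pullHom j n φ) := by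
  apply MorphismProperty.Over.Hom.ext
  show n.left ≫ 𝟙 _ = 𝟙 _ ≫ n.left
  exact (Category.comp_id _).trans (Category.id_comp _).symm

omit [IsSeparated j] in
lemma G_pull {N W : X.Etale} (n : N ⟶ W) (φ : Lift j W) :
    G j (pullLift j n φ) ≫ (EtCoh.bc j).map n = pullHom j n φ ≫ G j φ := by
  rw [Gam_comp, Le_pull, ← comp_Gam]

/-- The locus where two lifts agree. -/
def EqSet {W : X.Etale} (φ' φ : Lift j W) : Set W.left :=
  {p | (G j φ').left p ∈ Set.range (G j φ).left}

lemma isOpen_EqSet {W : X.Etale} (φ' φ : Lift j W) : IsOpen (EqSet j φ' φ) := by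
  haveI := (G_clopen j φ).isOpenImmersion
  exact ((G j φ).left.isOpenEmbedding.isOpen_range).preimage (G j φ').left.continuous

lemma isClosed_EqSet {W : X.Etale} (φ' φ : Lift j W) : IsClosed (EqSet j φ' φ) :=
  (G_clopen j φ).isClosed_range.preimage (G j φ').left.continuous

lemma pull_eq_of_mem {N W : X.Etale} (n : N ⟶ W) (φ' φ : Lift j W)
    (h : ∀ z : N.left, n.left z ∈ EqSet j φ' φ) : pullLift j n φ' = pullLift j n φ := by
  haveI := (G_clopen j φ).isOpenImmersion
  have hr : Set.range (n.left ≫ (G j φ').left) ⊆ Set.range (G j φ).left := by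
    rintro _ ⟨z, rfl⟩
    rw [Scheme.Hom.comp_apply]; exact h z
  have hk : IsOpenImmersion.lift (G j φ).left (n.left ≫ (G j φ').left) hr ≫ (G j φ).left =
      n.left ≫ (G j φ').left := IsOpenImmersion.lift_fac _ _ _
  have h1 : IsOpenImmersion.lift (G j φ).left (n.left ≫ (G j φ').left) hr = n.left := by
    have := congrArg (· ≫ pullback.fst W.hom j) hk
    simp only [Category.assoc, Gam_left_fst, Le_hom_left, Category.comp_id] at this
    exact this
  have h2 : IsOpenImmersion.lift (G j φ).left (n.left ≫ (G j φ').left) hr ≫ φ.1 =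
      n.left ≫ φ'.1 := by
    have := congrArg (· ≫ pullback.snd W.hom j) hk
    simp only [Category.assoc, Gam_left_snd] at this
    exact this
  apply Subtype.ext
  show n.left ≫ φ'.1 = n.left ≫ φ.1
  rw [← h2, h1]

omit [IsSeparated j] in
lemma disjoint_of_not_mem {N W : X.Etale} (n : N ⟶ W) (φ' φ : Lift j W)
    (h : ∀ z : N.left, n.left z ∉ EqSet j φ' φ)
    (z : (LV j (pullLift j n φ')).left) :
    (G j (pullLift j n φ')).left z ∉ Set.range (G j (pullLift j n φ)).left := by
  rintro ⟨z', hz'⟩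
  apply h z
  have e1 : (G j (pullLift j n φ')).left ≫ ((EtCoh.bc j).map n).left = n.left ≫ (G j φ').left :=
    congrArg (fun k => k.left) (G_pull j n φ')
  have e2 : (G j (pullLift j n φ)).left ≫ ((EtCoh.bc j).map n).left = n.left ≫ (G j φ).left :=
    congrArg (fun k => k.left) (G_pull j n φ)
  refine ⟨n.left z', ?_⟩
  show (G j φ).left (n.left z') = (G j φ').left (n.left z)
  have a1 : (n.left ≫ (G j φ').left) z =
      ((G j (pullLift j n φ')).left ≫ ((EtCoh.bc j).map n).left) z := by rw [e1]; rfl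
  have a2 : (n.left ≫ (G j φ).left) z' =
      ((G j (pullLift j n φ)).left ≫ ((EtCoh.bc j).map n).left) z' := by rw [e2]; rfl
  have b1 := (Scheme.Hom.comp_apply n.left (G j φ').left z).symm.trans
    (a1.trans (Scheme.Hom.comp_apply (G j (pullLift j n φ')).left ((EtCoh.bc j).map n).left z))
  have b2 := (Scheme.Hom.comp_apply n.left (G j φ).left z').symm.trans
    (a2.trans (Scheme.Hom.comp_apply (G j (pullLift j n φ)).left ((EtCoh.bc j).map n).left z'))
  exact b2.trans ((congrArg _ hz').trans b1.symm)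

end Groth.Agent.Lib.Helper15.ExtGraph
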