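import Mathlib
import Groth.Prelude.Def_EtShriek2
import Groth.Agent.Lib.Helper15.ExtGraph

/-!
# Helper15: the natural monomorphism `j_! ⟶ j_*` for a separated étale `j : U ⟶ X`
-/

set_option autoImplicit false
set_option backward.isDefEq.respectTransparency false
universe u
open CategoryTheory CategoryTheory.Limits AlgebraicGeometry Opposite

namespace Groth.Agent.Lib.Helper15.ExtZeroPush

open Groth.Agent.Lib.Helper15.ExtBy Groth.Agent.Lib.Helper15.ExtGraph
  Groth.Agent.Lib.Helper15.EtGlue Groth.Agent.Lib.Helper13.ExtZeroExact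

variable {U X : Scheme.{u}} (j : U ⟶ X) [AlgebraicGeometry.Etale j] [IsSeparated j]
  [EtShriek.JCont j]

lemma pm_comp {C : Type*} [Category C] (P : C ⥤ AddCommGrpCat.{u + 1}) {A B D : C} (a : A ⟶ B)
    (b : B ⟶ D) (x : P.obj A) : P.map (a ≫ b) x = P.map b (P.map a x) := by
  rw [Functor.map_comp]; rfl

/-- The component of `σ : F ⟶ j⁻¹ j_* F`: extension by zero along the graph. -/
noncomputable def sigmaHom (F : EtCoh.Ab U) (V : U.Etale) :
    F.obj.obj (op V) →+ F.obj.obj (op ((EtCoh.bc j).obj ((EtShriek.compEtale j).obj V))) :=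
  extBy F (Gam j (𝟙 _)) (Gam_id_clopen j V)

lemma sigmaHom_nat (F : EtCoh.Ab U) {V' V : U.Etale} (m : V' ⟶ V) (s : F.obj.obj (op V)) :
    F.obj.map ((EtCoh.bc j).map ((EtShriek.compEtale j).map m)).op (sigmaHom j F V s) =
      sigmaHom j F V' (F.obj.map m.op s) :=
  extBy_comp F _ (Gam_id_clopen j V) _ (Gam_id_clopen j V') _ m (Gam_id_square j m).symm
    (Gam_id_cart j m) s

/-- `σ : F ⟶ j⁻¹ j_* F` on presheaves. -/
noncomputable def sigma (F : EtCoh.Ab U) :
    F.obj ⟶ (EtShriek.compEtale j).op ⋙ ((EtCoh.push j).obj F).obj where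
  app V := AddCommGrpCat.ofHom (sigmaHom j F V.unop)
  naturality V V' m := by
    ext s
    exact (sigmaHom_nat j F m.unop s).symm

lemma sigma_nat {F G : EtCoh.Ab U} (α : F ⟶ G) :
    α.hom ≫ sigma j G =
      sigma j F ≫ Functor.whiskerLeft (EtShriek.compEtale j).op ((EtCoh.push j).map α).hom := by
  ext V s
  exact (extBy_natural α (Gam j (𝟙 _)) (Gam_id_clopen j V.unop) s).symm

/-- The presheaf-level comparison `Lan F ⟶ j_* F`. -/
noncomputable def theta (F : EtCoh.Ab U) :
    (EtShriek.compEtale j).op.lan.obj F.obj ⟶ ((EtCoh.push j).obj F).obj :=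
  (((EtShriek.compEtale j).op.lanAdjunction AddCommGrpCat.{u + 1}).homEquiv _ _).symm (sigma j F)

lemma theta_nat {F G : EtCoh.Ab U} (α : F ⟶ G) :
    (EtShriek.compEtale j).op.lan.map α.hom ≫ theta j G =
      theta j F ≫ ((EtCoh.push j).map α).hom := by
  unfold theta
  rw [← Adjunction.homEquiv_naturality_left_symm, ← Adjunction.homEquiv_naturality_right_symm]
  congr 1
  exact sigma_nat j α

lemma unit_theta (F : EtCoh.Ab U) :
    (EtShriek.compEtale j).op.lanUnit.app F.obj ≫
      Functor.whiskerLeft (EtShriek.compEtale j).op (theta j F) = sigma j F := by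
  have h1 := (((EtShriek.compEtale j).op.lanAdjunction AddCommGrpCat.{u + 1}).homEquiv F.obj
    ((EtCoh.push j).obj F).obj).apply_symm_apply (sigma j F)
  rw [Adjunction.homEquiv_unit, Functor.lanAdjunction_unit] at h1
  exact h1

lemma theta_unit (F : EtCoh.Ab U) (V : U.Etale) (s : F.obj.obj (op V)) :
    (theta j F).app (op ((EtShriek.compEtale j).obj V))
      (((EtShriek.compEtale j).op.lanUnit.app F.obj).app (op V) s) = sigmaHom j F V s :=
  ConcreteCategory.congr_hom (congr_app (unit_theta j F) (op V)) s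

/-- The generators of `Lan F (W)`. -/
noncomputable def T (F : EtCoh.Ab U) {W : X.Etale} (φ : Lift j W) :
    F.obj.obj (op (LV j φ)) →+ ((EtShriek.compEtale j).op.lan.obj F.obj).obj (op W) :=
  ((((EtShriek.compEtale j).op.lanUnit.app F.obj).app (op (LV j φ))) ≫
    ((EtShriek.compEtale j).op.lan.obj F.obj).map (Le j φ).inv.op).hom

lemma T_apply (F : EtCoh.Ab U) {W : X.Etale} (φ : Lift j W) (s : F.obj.obj (op (LV j φ))) :
    T j F φ s = ((EtShriek.compEtale j).op.lan.obj F.obj).map (Le j φ).inv.op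
      (((EtShriek.compEtale j).op.lanUnit.app F.obj).app (op (LV j φ)) s) := rfl

lemma theta_T (F : EtCoh.Ab U) {W : X.Etale} (φ : Lift j W) (s : F.obj.obj (op (LV j φ))) :
    (theta j F).app (op W) (T j F φ s) = extBy F (G j φ) (G_clopen j φ) s := by
  have h1 := ConcreteCategory.congr_hom ((theta j F).naturality (Le j φ).inv.op)
    (((EtShriek.compEtale j).op.lanUnit.app F.obj).app (op (LV j φ)) s)
  rw [T_apply]
  refine h1.trans ?_
  show ((EtCoh.push j).obj F).obj.map (Le j φ).inv.op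
    ((theta j F).app (op ((EtShriek.compEtale j).obj (LV j φ)))
      (((EtShriek.compEtale j).op.lanUnit.app F.obj).app (op (LV j φ)) s)) = _
  rw [theta_unit]
  have hw : G j φ ≫ (EtCoh.bc j).map (Le j φ).inv = 𝟙 _ ≫ Gam j (𝟙 _) := by
    rw [Gam_comp, Iso.hom_inv_id, Category.id_comp]
  have e3 : G j φ = Gam j (𝟙 _) ≫ (EtCoh.bc j).map (Le j φ).hom := by
    rw [Gam_comp, Category.id_comp]
  have e4 : (EtCoh.bc j).map (Le j φ).inv ≫ (EtCoh.bc j).map (Le j φ).hom = 𝟙 _ := by
    rw [← Functor.map_comp, Iso.inv_hom_id, CategoryTheory.Functor.map_id]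
  have hcart : ∀ q : ((EtCoh.bc j).obj W).left,
      ((EtCoh.bc j).map (Le j φ).inv).left q ∈ Set.range (Gam j (𝟙 _)).left →
        q ∈ Set.range (G j φ).left := by
    rintro q ⟨p, hp⟩
    refine ⟨p, ?_⟩
    have s1 : (G j φ).left p = ((EtCoh.bc j).map (Le j φ).hom).left ((Gam j (𝟙 _)).left p) :=
      (congrArg (fun k => k.left p) e3).trans (Scheme.Hom.comp_apply _ _ _)
    have s2 : ((EtCoh.bc j).map (Le j φ).hom).left (((EtCoh.bc j).map (Le j φ).inv).left q) = q :=
      (Scheme.Hom.comp_apply _ _ _).symm.trans (congrArg (fun k => k.left q) e4)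
    rw [s1, hp, s2]
  have h2 := extBy_comp F (Gam j (𝟙 _)) (Gam_id_clopen j (LV j φ)) (G j φ) (G_clopen j φ)
    ((EtCoh.bc j).map (Le j φ).inv) (𝟙 _) hw hcart s
  refine h2.trans ?_
  congr 1
  show F.obj.map (𝟙 (op (LV j φ))) s = s
  rw [CategoryTheory.Functor.map_id]; rfl

lemma T_pull (F : EtCoh.Ab U) {N W : X.Etale} (n : N ⟶ W) (φ : Lift j W)
    (s : F.obj.obj (op (LV j φ))) :
    ((EtShriek.compEtale j).op.lan.obj F.obj).map n.op (T j F φ s) =
      T j F (pullLift j n φ) (F.obj.map (pullHom j n φ).op s) := by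
  have hη := ConcreteCategory.congr_hom
    (((EtShriek.compEtale j).op.lanUnit.app F.obj).naturality (pullHom j n φ).op) s
  rw [T_apply, T_apply, ← pm_comp, ← op_comp, Le_pull_inv, op_comp, pm_comp]
  congr 1
  exact hη.symm

lemma neg_sum_T (F : EtCoh.Ab U) {W : X.Etale}
    (l : List (Σ φ : Lift j W, F.obj.obj (op (LV j φ)))) :
    -(l.map (fun p => T j F p.1 p.2)).sum =
      ((l.map (fun p => (⟨p.1, -p.2⟩ : Σ φ : Lift j W, F.obj.obj (op (LV j φ))))).map
        (fun p => T j F p.1 p.2)).sum := by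
  induction l with
  | nil => simp
  | cons p l ih => simp only [List.map_cons, List.sum_cons, neg_add, map_neg, ih]

/-- Every section of `Lan F` over `W` is a finite sum of generators. -/
lemma exists_list (F : EtCoh.Ab U) (W : X.Etale)
    (x : ((EtShriek.compEtale j).op.lan.obj F.obj).obj (op W)) :
    ∃ l : List (Σ φ : Lift j W, F.obj.obj (op (LV j φ))),
      x = (l.map (fun p => T j F p.1 p.2)).sum := by
  obtain ⟨S, hS⟩ : ∃ S : Set (((EtShriek.compEtale j).op.lan.obj F.obj).obj (op W)),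
      S = {y | ∃ (φ : Lift j W) (s : F.obj.obj (op (LV j φ))), y = T j F φ s} := ⟨_, rfl⟩
  have hcl : ∀ y ∈ AddSubgroup.closure S,
      ∃ l : List (Σ φ : Lift j W, F.obj.obj (op (LV j φ))),
        y = (l.map (fun p => T j F p.1 p.2)).sum := by
    intro y hy
    induction hy using AddSubgroup.closure_induction with
    | mem y hy =>
      rw [hS] at hy
      obtain ⟨φ, s, rfl⟩ := hy
      exact ⟨[⟨φ, s⟩], by simp⟩
    | zero => exact ⟨[], by simp⟩
    | add a b _ _ ha hb =>
      obtain ⟨la, rfl⟩ := ha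
      obtain ⟨lb, rfl⟩ := hb
      exact ⟨la ++ lb, by simp⟩
    | neg a _ ha =>
      obtain ⟨la, rfl⟩ := ha
      exact ⟨_, neg_sum_T j F la⟩
  apply hcl
  have hc := Functor.isPointwiseLeftKanExtensionLeftKanExtensionUnit (EtShriek.compEtale j).op
    F.obj (op W)
  have hπ : AddCommGrpCat.ofHom (QuotientAddGroup.mk' (AddSubgroup.closure S)) = 0 := by
    apply hc.hom_ext
    intro k
    ext s
    obtain ⟨(φ : Lift j W), m, hm⟩ := (localData j W).exists_lift k.hom.unop
    have hk : k.hom = ((EtShriek.compEtale j).map m).op ≫ (Le j φ).inv.op := by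
      rw [← op_comp, ← hm]; rfl
    have hη := ConcreteCategory.congr_hom
      (((EtShriek.compEtale j).op.lanUnit.app F.obj).naturality m.op) s
    have hmem : ((EtShriek.compEtale j).op.lan.obj F.obj).map k.hom
        (((EtShriek.compEtale j).op.lanUnit.app F.obj).app k.left s) ∈ AddSubgroup.closure S := by
      apply AddSubgroup.subset_closure
      rw [hS]
      refine ⟨φ, F.obj.map m.op s, ?_⟩
      rw [hk, pm_comp, T_apply]
      congr 1
      exact hη.symm
    have h0 := (QuotientAddGroup.eq_zero_iff _).mpr hmem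
    exact h0
  have h1 := ConcreteCategory.congr_hom hπ x
  exact (QuotientAddGroup.eq_zero_iff x).mp h1

/-- The comparison `Lan F ⟶ j_* F` is locally injective. -/
theorem locally_zero (F : EtCoh.Ab U) (W : X.Etale)
    (x : ((EtShriek.compEtale j).op.lan.obj F.obj).obj (op W))
    (hx : (theta j F).app (op W) x = 0) (w : W.left) :
    ∃ (N : X.Etale) (n : N ⟶ W) (z : N.left), n.left z = w ∧
      ((EtShriek.compEtale j).op.lan.obj F.obj).map n.op x = 0 := by
  classical
  obtain ⟨l, rfl⟩ := exists_list j F W x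
  obtain ⟨Φ, hΦ⟩ : ∃ Φ : Finset (Lift j W), Φ = (l.map Sigma.fst).toFinset := ⟨_, rfl⟩
  obtain ⟨O, hOdef⟩ : ∃ O : Lift j W × Lift j W → Set W.left,
      O = fun p => if w ∈ EqSet j p.1 p.2 then EqSet j p.1 p.2 else (EqSet j p.1 p.2)ᶜ :=
    ⟨_, rfl⟩
  have hO : ∀ p, IsOpen (O p) := by
    intro p
    rw [hOdef]
    dsimp only
    split_ifs
    · exact isOpen_EqSet j p.1 p.2
    · exact (isClosed_EqSet j p.1 p.2).isOpen_compl
  have hwO : ∀ p, w ∈ O p := by
    intro p
    rw [hOdef]
    dsimp only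
    split_ifs with h
    · exact h
    · exact h
  obtain ⟨No, hNo⟩ : ∃ No : W.left.Opens, (No : Set W.left) = ⋂ p ∈ Φ ×ˢ Φ, O p :=
    ⟨⟨⋂ p ∈ Φ ×ˢ Φ, O p, isOpen_biInter_finset (fun p _ => hO p)⟩, rfl⟩
  have hwN : w ∈ No := by
    show w ∈ (No : Set W.left)
    rw [hNo]
    exact Set.mem_iInter₂.mpr (fun p _ => hwO p)
  obtain ⟨z, hz⟩ := exists_opι_eq W No w hwN
  refine ⟨opPiece W No, opι W No, z, hz, ?_⟩
  obtain ⟨n, hn⟩ : ∃ n : opPiece W No ⟶ W, n = opι W No := ⟨_, rfl⟩
  rw [← hn]
  have hsub : ∀ φ' ∈ Φ, ∀ φ ∈ Φ, ∀ z : (opPiece W No).left, n.left z ∈ O (φ', φ) := by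
    intro φ' hφ' φ hφ z
    have h1 : n.left z ∈ (No : Set W.left) := by rw [hn]; exact opι_mem W No z
    rw [hNo] at h1
    exact Set.mem_iInter₂.mp h1 (φ', φ) (Finset.mem_product.mpr ⟨hφ', hφ⟩)
  have hdich : ∀ φ' ∈ Φ, ∀ φ ∈ Φ, pullLift j n φ' ≠ pullLift j n φ →
      ∀ z, (G j (pullLift j n φ')).left z ∉ Set.range (G j (pullLift j n φ)).left := by
    intro φ' hφ' φ hφ hne
    by_cases hw : w ∈ EqSet j φ' φ
    · exfalso
      apply hne
      apply pull_eq_of_mem
      intro z
      have := hsub φ' hφ' φ hφ z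
      rw [hOdef] at this
      simp only [if_pos hw] at this
      exact this
    · apply disjoint_of_not_mem
      intro z
      have := hsub φ' hφ' φ hφ z
      rw [hOdef] at this
      simp only [if_neg hw] at this
      exact this
  -- projections
  obtain ⟨Pi, hPi⟩ : ∃ Pi : ∀ ψ : Lift j (opPiece W No),
      ((EtShriek.compEtale j).op.lan.obj F.obj).obj (op (opPiece W No)) →+
        F.obj.obj (op (LV j ψ)),
      ∀ ψ y, Pi ψ y = F.obj.map (G j ψ).op ((theta j F).app (op (opPiece W No)) y) :=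
    ⟨fun ψ => ((theta j F).app (op (opPiece W No)) ≫ F.obj.map (G j ψ).op).hom, fun _ _ => rfl⟩
  have key_self : ∀ ψ t, Pi ψ (T j F ψ t) = t := by
    intro ψ t
    rw [hPi, theta_T, extBy_restrict]
  have key_off : ∀ ψ' ψ t, (∀ z, (G j ψ').left z ∉ Set.range (G j ψ).left) →
      Pi ψ' (T j F ψ t) = 0 := by
    intro ψ' ψ t h
    rw [hPi, theta_T, extBy_off F (G j ψ) (G_clopen j ψ) t (G j ψ') h]
  obtain ⟨Λ, hΛdef⟩ : ∃ Λ : ((EtShriek.compEtale j).op.lan.obj F.obj).obj (op (opPiece W No)) →+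
      ((EtShriek.compEtale j).op.lan.obj F.obj).obj (op (opPiece W No)),
      ∀ y, Λ y = ∑ ψ ∈ Φ.image (pullLift j n), T j F ψ (Pi ψ y) :=
    ⟨∑ ψ ∈ Φ.image (pullLift j n), (T j F ψ).comp (Pi ψ), fun y => by
      rw [AddMonoidHom.finset_sum_apply]; rfl⟩
  have hΛ : ∀ φ ∈ Φ, ∀ t, Λ (T j F (pullLift j n φ) t) = T j F (pullLift j n φ) t := by
    intro φ hφ t
    rw [hΛdef, Finset.sum_eq_single (pullLift j n φ)]
    · rw [key_self]
    · intro ψ hψ hne
      obtain ⟨φ', hφ', rfl⟩ := Finset.mem_image.mp hψ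
      rw [key_off _ _ _ (hdich φ' hφ' φ hφ hne), map_zero]
    · intro h
      exact (h (Finset.mem_image_of_mem _ hφ)).elim
  -- the restricted element
  have hx' : ((EtShriek.compEtale j).op.lan.obj F.obj).map n.op
      ((l.map (fun p => T j F p.1 p.2)).sum) =
      (l.map (fun p => T j F (pullLift j n p.1) (F.obj.map (pullHom j n p.1).op p.2))).sum := by
    show (((EtShriek.compEtale j).op.lan.obj F.obj).map n.op).hom _ = _
    rw [map_list_sum, List.map_map]
    congr 1
    apply List.map_congr_left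
    intro p _
    exact T_pull j F n p.1 p.2
  have hfix : Λ ((l.map (fun p => T j F (pullLift j n p.1)
      (F.obj.map (pullHom j n p.1).op p.2))).sum) =
      (l.map (fun p => T j F (pullLift j n p.1) (F.obj.map (pullHom j n p.1).op p.2))).sum := by
    rw [map_list_sum, List.map_map]
    congr 1
    apply List.map_congr_left
    intro p hp
    refine hΛ p.1 ?_ _
    rw [hΦ]
    exact List.mem_toFinset.mpr (List.mem_map_of_mem hp)
  have hθ0 : (theta j F).app (op (opPiece W No))
      (((EtShriek.compEtale j).op.lan.obj F.obj).map n.op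
        ((l.map (fun p => T j F p.1 p.2)).sum)) = 0 := by
    have h1 := ConcreteCategory.congr_hom ((theta j F).naturality n.op)
      ((l.map (fun p => T j F p.1 p.2)).sum)
    refine h1.trans ?_
    show ((EtCoh.push j).obj F).obj.map n.op ((theta j F).app (op W) _) = 0
    rw [hx, map_zero]
  rw [hx'] at hθ0 ⊢
  rw [← hfix, hΛdef]
  apply Finset.sum_eq_zero
  intro ψ _
  rw [hPi, hθ0, map_zero, map_zero]

instance theta_locInj (F : EtCoh.Ab U) :
    Presheaf.IsLocallyInjective X.smallEtaleTopology (theta j F) where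
  equalizerSieve_mem {W} x y h := by
    have hx : (theta j F).app W (x - y) = 0 := by rw [map_sub, h, sub_self]
    rw [EtGlue.mem_iff]
    intro w
    obtain ⟨N, n, z, hz, h0⟩ := locally_zero j F W.unop (x - y) hx w
    refine ⟨N, n, z, ?_, hz⟩
    show ((EtShriek.compEtale j).op.lan.obj F.obj).map n.op x =
      ((EtShriek.compEtale j).op.lan.obj F.obj).map n.op y
    rw [map_sub, sub_eq_zero] at h0
    exact h0

/-- The natural transformation `j_! ⟶ j_*`. -/
noncomputable def tau : EtShriek.extZero j ⟶ EtCoh.push j where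
  app F := (Functor.sheafPullbackConstruction.sheafPullbackIso (EtShriek.compEtale j)
      AddCommGrpCat.{u + 1} U.smallEtaleTopology X.smallEtaleTopology).hom.app F ≫
    (presheafToSheaf X.smallEtaleTopology AddCommGrpCat.{u + 1}).map (theta j F) ≫
    (sheafificationAdjunction X.smallEtaleTopology AddCommGrpCat.{u + 1}).counit.app
      ((EtCoh.push j).obj F)
  naturality F G α := by
    have n1 := (Functor.sheafPullbackConstruction.sheafPullbackIso (EtShriek.compEtale j)
      AddCommGrpCat.{u + 1} U.smallEtaleTopology X.smallEtaleTopology).hom.naturality α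
    have n2 : (presheafToSheaf X.smallEtaleTopology AddCommGrpCat.{u + 1}).map
        ((EtShriek.compEtale j).op.lan.map α.hom) ≫
        (presheafToSheaf X.smallEtaleTopology AddCommGrpCat.{u + 1}).map (theta j G) =
        (presheafToSheaf X.smallEtaleTopology AddCommGrpCat.{u + 1}).map (theta j F) ≫
        (presheafToSheaf X.smallEtaleTopology AddCommGrpCat.{u + 1}).map
          ((EtCoh.push j).map α).hom := by
      rw [← Functor.map_comp, ← Functor.map_comp, theta_nat]
    have n3 := (sheafificationAdjunction X.smallEtaleTopology AddCommGrpCat.{u + 1}).counit.naturality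
      ((EtCoh.push j).map α)
    calc (EtShriek.extZero j).map α ≫ _ ≫ _ ≫ _
        = ((EtShriek.extZero j).map α ≫ _) ≫ _ ≫ _ := (Category.assoc _ _ _).symm
      _ = _ := by
        rw [n1, Category.assoc]
        erw [reassoc_of% n2]
        erw [n3]
        simp only [Category.assoc]
        rfl

theorem tau_mono (F : EtCoh.Ab U) : Mono ((tau j).app F) := by
  haveI : Sheaf.IsLocallyInjective
      ((presheafToSheaf X.smallEtaleTopology AddCommGrpCat.{u + 1}).map (theta j F)) :=
    (Presheaf.isLocallyInjective_presheafToSheaf_map_iff _ _).mpr (theta_locInj j F)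
  haveI : Mono ((presheafToSheaf X.smallEtaleTopology AddCommGrpCat.{u + 1}).map (theta j F)) :=
    Sheaf.mono_of_isLocallyInjective _
  show Mono (_ ≫ _ ≫ _)
  infer_instance

theorem main : ∃ τ : EtShriek.extZero j ⟶ EtCoh.push j, ∀ F : EtCoh.Ab U, Mono (τ.app F) :=
  ⟨tau j, tau_mono j⟩

end Groth.Agent.Lib.Helper15.ExtZeroPush
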