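import Groth.Agent.Lib.Helper2.EtMV.Etale

/-!
# Helper15: transfer, Ext bookkeeping

For an etale morphism `j : U ⟶ X`: the adjunction `j_! ⊣ j⁻¹`, the augmentation `j_! ℤ_U ⟶ ℤ_X`,
and the reformulation of `Hpull j α = 0` as `α ∘ aug = 0` in `Ext(j_! ℤ, F)`.  If the augmentation
admits a map `c : ℤ_X ⟶ j_! ℤ_U` with `c ≫ aug = d`, every class killed by `Hpull j` is killed
by `d`.
-/

set_option autoImplicit false
universe u
open CategoryTheory CategoryTheory.Limits AlgebraicGeometry Opposite EtCore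

namespace Groth.Agent.Lib.Helper15.TransferExt

open Groth.Agent.Lib.Helper13.EtaleRestr Groth.Agent.Lib.Helper13.ExtZeroExact
  Groth.Agent.Lib.Helper13.ExtAdj Groth.Agent.Lib.Helper2.EtMV

variable {U X : Scheme.{u}} (j : U ⟶ X) [Etale j]

/-- `j_! ⊣ j⁻¹` for an etale morphism. -/
noncomputable def adjE : EtShriek.extZero j ⊣ EtCoh.pull j :=
  (EtShriek.extZeroAdj j).ofNatIsoRight (pullIsoRestr j).symm

lemma pull_preservesFiniteLimits : PreservesFiniteLimits (EtCoh.pull j) := by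
  have h1 : PreservesLimitsOfSize.{0, 0} (EtShriek.restrAlong j) :=
    (EtShriek.extZeroAdj j).rightAdjoint_preservesLimits
  have h2 : PreservesFiniteLimits (EtShriek.restrAlong j) :=
    PreservesLimitsOfSize.preservesFiniteLimits _
  exact preservesFiniteLimits_of_natIso (pullIsoRestr j).symm

lemma pull_injective (I : EtCoh.Ab X) (hI : Injective I) : Injective ((EtCoh.pull j).obj I) :=
  (EtCoh.pull j).injective_obj_of_injective hI

/-- the canonical map `j_! ℤ_U ⟶ ℤ_X`. -/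
noncomputable def aMapE : (EtShriek.extZero j).obj (EtCoh.const U ℤ) ⟶ EtCoh.const X ℤ :=
  ((adjE j).homEquiv _ _).symm (pullConst j ℤ).inv

lemma homEquiv_aMapE : (adjE j).homEquiv _ _ (aMapE j) = (pullConst j ℤ).inv :=
  Equiv.apply_symm_apply _ _

variable [PreservesFiniteLimits (EtCoh.pull j)]

/-- `Ext^n(j_! ℤ, F) ≃ H^n(U, j⁻¹ F)`. -/
noncomputable def ΘE (F : EtCoh.Ab X) (n : ℕ) :
    Abelian.Ext.{u + 1} ((EtShriek.extZero j).obj (EtCoh.const U ℤ)) F n ≃+
      EtCoh.H U ((EtCoh.pull j).obj F) n :=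
  extAdjEquiv (adjE j) (fun I hI => pull_injective j I hI) (EtCoh.const U ℤ) F n

lemma Hpull_eq (F : EtCoh.Ab X) (n : ℕ) (e : EtCoh.H X F n) :
    Hpull j F n e = ΘE j F n ((Abelian.Ext.mk₀ (aMapE j)).comp e (zero_add n)) := by
  change _ = extAdjMap (adjE j) _ F n _
  rw [extAdjMap_precomp, homEquiv_aMapE]
  rfl

lemma comp_eq_zero_of_Hpull_eq_zero (F : EtCoh.Ab X) (n : ℕ) (e : EtCoh.H X F n)
    (h : Hpull j F n e = 0) : (Abelian.Ext.mk₀ (aMapE j)).comp e (zero_add n) = 0 := by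
  rw [Hpull_eq] at h
  exact (ΘE j F n).map_eq_zero_iff.1 h

lemma mk₀_nsmul_id_comp {C : Type*} [Category C] [Abelian C] [HasExt C] {A B : C} (d : ℕ) (n : ℕ)
    (e : Abelian.Ext A B n) :
    (Abelian.Ext.mk₀ (d • 𝟙 A)).comp e (zero_add n) = d • e := by
  induction d with
  | zero => rw [zero_smul, zero_smul, Abelian.Ext.mk₀_zero, Abelian.Ext.zero_comp]
  | succ d ih =>
    rw [succ_nsmul, succ_nsmul, Abelian.Ext.mk₀_add, Abelian.Ext.add_comp, ih,
      Abelian.Ext.mk₀_id_comp]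

/-- Transfer: if the augmentation `j_! ℤ ⟶ ℤ` has a "section up to `d`", then classes killed by
`Hpull j` are killed by `d`. -/
theorem nsmul_eq_zero_of_Hpull_eq_zero (d : ℕ)
    (c : EtCoh.const X ℤ ⟶ (EtShriek.extZero j).obj (EtCoh.const U ℤ))
    (hc : c ≫ aMapE j = d • 𝟙 _) (F : EtCoh.Ab X) (n : ℕ) (e : EtCoh.H X F n)
    (h : Hpull j F n e = 0) : d • e = 0 := by
  have h1 := comp_eq_zero_of_Hpull_eq_zero j F n e h
  have h2 : (Abelian.Ext.mk₀ (c ≫ aMapE j)).comp e (zero_add n) = 0 := by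
    rw [← Abelian.Ext.mk₀_comp_mk₀, Abelian.Ext.comp_assoc_of_second_deg_zero, h1,
      Abelian.Ext.comp_zero]
  rw [hc] at h2
  have h3 := mk₀_nsmul_id_comp (C := EtCoh.Ab X) d n e
  exact h3.symm.trans h2

end Groth.Agent.Lib.Helper15.TransferExt
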