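import Groth.Agent.Lib.Helper15.TransferSplit
import Groth.Agent.Lib.Helper15.TransferExt
import Groth.Agent.Lib.Helper15.EtGlue

/-!
# Helper15: the "sum over the sheets" section for a finite etale morphism
-/

set_option autoImplicit false
set_option backward.isDefEq.respectTransparency false
universe u
open CategoryTheory CategoryTheory.Limits AlgebraicGeometry Opposite

namespace Groth.Agent.Lib.Helper15.TransferTrace

open Groth.Agent.Lib.Helper8.FibIntGP Groth.Agent.Lib.Helper15.TransferSplit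

variable {X' X : Scheme.{u}} (π : X' ⟶ X) [Etale π]

/-- `X'` as an object of the small etale site of `X`. -/
noncomputable abbrev P₀ : X.Etale := (EtShriek.compEtale π).obj (EtCoh.top X')

lemma P₀_hom : (P₀ π).hom = π := Category.id_comp π

/-- A family of `X`-morphisms `W ⟶ X'` which, on geometric points, enumerates the fibre of `π`
bijectively. -/
def IsSplitting (W : X.Etale) {I : Type u} (σ : I → (W ⟶ P₀ π)) : Prop :=
  ∀ (Ω : Type u) [Field Ω] [IsAlgClosed Ω] (w : Spec (.of Ω) ⟶ W.left),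
    (∀ i j, w ≫ (σ i).left = w ≫ (σ j).left → i = j) ∧
    (∀ ξ : Spec (.of Ω) ⟶ (P₀ π).left, ξ ≫ (P₀ π).hom = w ≫ W.hom → ∃ i, w ≫ (σ i).left = ξ)

variable {π}

lemma IsSplitting.comp {W Z : X.Etale} {I : Type u} {σ : I → (W ⟶ P₀ π)}
    (h : IsSplitting π W σ) (g : Z ⟶ W) : IsSplitting π Z (fun i => g ≫ σ i) := by
  intro Ω _ _ w
  obtain ⟨h1, h2⟩ := h Ω (w ≫ g.left)
  refine ⟨fun i j hij => h1 i j ?_, fun ξ hξ => ?_⟩
  · rw [Category.assoc, Category.assoc]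
    exact hij
  · obtain ⟨i, hi⟩ := h2 ξ (by rw [hξ, Category.assoc, MorphismProperty.Over.w g])
    exact ⟨i, by rw [← hi, Category.assoc]; rfl⟩

variable (π)

theorem exists_splitting [IsFinite π] (x : X) :
    ∃ (W : X.Etale) (w : W.left) (I : Type u) (_ : Finite I) (σ : I → (W ⟶ P₀ π)),
      W.hom w = x ∧ IsSplitting π W σ := by
  obtain ⟨W, hW, hWe, w₀, I, hI, t, hx, ht, hsp⟩ := exists_splitting_data π x
  haveI := hWe
  refine ⟨Scheme.Etale.mk hW, w₀, I, hI,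
    fun i => MorphismProperty.Over.homMk (t i) (by rw [P₀_hom]; exact ht i) trivial, hx, ?_⟩
  intro Ω _ _ w
  obtain ⟨h1, h2⟩ := hsp Ω w
  exact ⟨fun i j hij => h1 i j hij, fun ξ hξ => h2 ξ (by rw [← P₀_hom π]; exact hξ)⟩

variable {π}

theorem exists_nbhd_perm {W : X.Etale} {I J : Type u} [Finite I] {σ : I → (W ⟶ P₀ π)}
    {τ : J → (W ⟶ P₀ π)} (hσ : IsSplitting π W σ) (hτ : IsSplitting π W τ) (w₀ : W.left) :
    ∃ (Z : X.Etale) (g : Z ⟶ W) (z : Z.left) (β : I ≃ J), g.left z = w₀ ∧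
      ∀ i, g ≫ σ i = g ≫ τ (β i) := by
  classical
  obtain ⟨Ω, _, _, w, hw⟩ := exists_geomPoint_at w₀
  obtain ⟨hσ1, hσ2⟩ := hσ Ω w
  obtain ⟨hτ1, hτ2⟩ := hτ Ω w
  have hσw : ∀ i, (w ≫ (σ i).left) ≫ (P₀ π).hom = w ≫ W.hom := fun i => by
    rw [Category.assoc, MorphismProperty.Over.w]
  have hτw : ∀ j, (w ≫ (τ j).left) ≫ (P₀ π).hom = w ≫ W.hom := fun j => by
    rw [Category.assoc, MorphismProperty.Over.w]
  choose β hβ using fun i => hτ2 (w ≫ (σ i).left) (hσw i)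
  have hβinj : Function.Injective β := fun i i' h => hσ1 i i' (by rw [← hβ i, ← hβ i', h])
  have hβsurj : Function.Surjective β := fun j => by
    obtain ⟨i, hi⟩ := hσ2 (w ≫ (τ j).left) (hτw j)
    exact ⟨i, hτ1 _ _ (by rw [hβ i, hi])⟩
  haveI : IsOpenImmersion (pullback.diagonal π) := inferInstance
  have hE := fun i => exists_eqLocus π (σ i).left (τ (β i)).left (by
    have h1 : (σ i).left ≫ (P₀ π).hom = W.hom := MorphismProperty.Over.w (σ i)
    have h2 : (τ (β i)).left ≫ (P₀ π).hom = W.hom := MorphismProperty.Over.w (τ (β i))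
    rw [P₀_hom] at h1 h2
    exact h1.trans h2.symm)
  choose O hO1 hO2 _ using hE
  have hmem : ∀ i, gpt w ∈ O i := fun i => hO2 i Ω w (hβ i).symm
  obtain ⟨O', hO'1, hO'2⟩ : ∃ O' : W.left.Opens, (∀ i, O' ≤ O i) ∧ gpt w ∈ O' :=
    ⟨⟨⋂ i, (O i : Set W.left), isOpen_iInter_of_finite fun i => (O i).2⟩,
      fun i y hy => Set.mem_iInter.1 hy i, Set.mem_iInter.2 hmem⟩
  obtain ⟨p₀, hp₀⟩ : ∃ p₀ : (O' : Scheme.{u}), O'.ι p₀ = gpt w := by
    have h : gpt w ∈ Set.range O'.ι := by rw [Scheme.Opens.range_ι]; exact hO'2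
    exact h
  haveI : Etale W.hom := W.prop
  refine ⟨Scheme.Etale.mk (O'.ι ≫ W.hom), MorphismProperty.Over.homMk O'.ι rfl trivial, p₀,
    Equiv.ofBijective β ⟨hβinj, hβsurj⟩, hp₀.trans hw, ?_⟩
  intro i
  apply MorphismProperty.Over.Hom.ext
  show O'.ι ≫ (σ i).left = O'.ι ≫ (τ (β i)).left
  rw [← Scheme.homOfLE_ι _ (hO'1 i), Category.assoc, Category.assoc, hO1 i]

theorem sum_eq_of_splittings (G : EtCoh.Ab X) (s : G.obj.obj (op (P₀ π))) {W : X.Etale}
    {I J : Type u} [Fintype I] [Fintype J] {σ : I → (W ⟶ P₀ π)} {τ : J → (W ⟶ P₀ π)}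
    (hσ : IsSplitting π W σ) (hτ : IsSplitting π W τ) :
    ∑ i, G.obj.map (σ i).op s = ∑ j, G.obj.map (τ j).op s := by
  refine EtGlue.eq_of_locally_ab G _ _ ?_
  intro w₀
  obtain ⟨Z, g, z, β, hz, hβ⟩ := exists_nbhd_perm hσ hτ w₀
  refine ⟨Z, g, z, hz, ?_⟩
  have key : ∀ (K : Type u) [Fintype K] (ρ : K → (W ⟶ P₀ π)),
      G.obj.map g.op (∑ k, G.obj.map (ρ k).op s) = ∑ k, G.obj.map (g ≫ ρ k).op s := by
    intro K _ ρ
    show (G.obj.map g.op).hom (∑ k, G.obj.map (ρ k).op s) = _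
    rw [map_sum]
    refine Finset.sum_congr rfl fun k _ => ?_
    rw [op_comp]
    exact (EtGlue.ab_map_comp G (ρ k).op g.op s).symm
  rw [key, key]
  rw [← Equiv.sum_comp β (fun j => G.obj.map (g ≫ τ j).op s)]
  refine Finset.sum_congr rfl fun i _ => ?_
  rw [hβ i]


lemma map_sum_op (G : EtCoh.Ab X) (s : G.obj.obj (op (P₀ π))) {W Z : X.Etale} (g : Z ⟶ W)
    {K : Type u} [Fintype K] (ρ : K → (W ⟶ P₀ π)) :
    G.obj.map g.op (∑ k, G.obj.map (ρ k).op s) = ∑ k, G.obj.map (g ≫ ρ k).op s := by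
  show (G.obj.map g.op).hom (∑ k, G.obj.map (ρ k).op s) = _
  rw [map_sum]
  refine Finset.sum_congr rfl fun k _ => ?_
  rw [op_comp]
  exact (EtGlue.ab_map_comp G (ρ k).op g.op s).symm

variable (π)

/-- The sieve of objects over which `π` splits. -/
def splitSieve : Sieve (EtCoh.top X) where
  arrows := fun W _ => ∃ (I : Type u) (_ : Finite I) (σ : I → (W ⟶ P₀ π)), IsSplitting π W σ
  downward_closed := by
    rintro W Z g ⟨I, hI, σ, hσ⟩ h
    exact ⟨I, hI, fun i => h ≫ σ i, hσ.comp h⟩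

lemma splitSieve_mem [IsFinite π] : splitSieve π ∈ X.smallEtaleTopology (EtCoh.top X) := by
  rw [EtGlue.mem_iff]
  intro x
  obtain ⟨W, w, I, hI, σ, hx, hσ⟩ := exists_splitting π x
  exact ⟨W, MorphismProperty.Over.homMk W.hom (Category.comp_id _) trivial, w,
    ⟨I, hI, σ, hσ⟩, hx⟩

variable {π}

/-- The local "sum over the sheets". -/
noncomputable def trLoc (G : EtCoh.Ab X) (s : G.obj.obj (op (P₀ π))) (W : X.Etale)
    (h : ∃ (I : Type u) (_ : Finite I) (σ : I → (W ⟶ P₀ π)), IsSplitting π W σ) :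
    G.obj.obj (op W) :=
  ∑ᶠ i : h.choose, G.obj.map (h.choose_spec.choose_spec.choose i).op s

lemma trLoc_eq (G : EtCoh.Ab X) (s : G.obj.obj (op (P₀ π))) (W : X.Etale)
    (h : ∃ (I : Type u) (_ : Finite I) (σ : I → (W ⟶ P₀ π)), IsSplitting π W σ)
    {I : Type u} [Fintype I] {σ : I → (W ⟶ P₀ π)} (hσ : IsSplitting π W σ) :
    trLoc G s W h = ∑ i, G.obj.map (σ i).op s := by
  haveI : Finite h.choose := h.choose_spec.choose
  haveI := Fintype.ofFinite h.choose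
  unfold trLoc
  rw [finsum_eq_sum_of_fintype]
  exact sum_eq_of_splittings G s h.choose_spec.choose_spec.choose_spec hσ

variable (π)

theorem exists_trace [IsFinite π] (G : EtCoh.Ab X) (s : G.obj.obj (op (P₀ π))) :
    ∃ T : G.obj.obj (op (EtCoh.top X)), ∀ (W : X.Etale) (g : W ⟶ EtCoh.top X) (I : Type u)
      [Fintype I] (σ : I → (W ⟶ P₀ π)), IsSplitting π W σ →
      G.obj.map g.op T = ∑ i, G.obj.map (σ i).op s := by
  have hsh : Presieve.IsSheafFor (EtGlue.toSh G).obj (splitSieve π).arrows :=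
    Groth.Agent.Lib.Helper13.NonAbTorsor.isSheaf_type (EtGlue.toSh G) _ (splitSieve_mem π)
  obtain ⟨x, hx⟩ : ∃ x : Presieve.FamilyOfElements (EtGlue.toSh G).obj (splitSieve π).arrows,
      ∀ (W : X.Etale) (g : W ⟶ EtCoh.top X) (hg : (splitSieve π).arrows g),
        x g hg = trLoc G s W hg :=
    ⟨fun W g hg => trLoc G s W hg, fun _ _ _ => rfl⟩
  have hcomp : x.Compatible := by
    intro Y₁ Y₂ Z g₁ g₂ f₁ f₂ h₁ h₂ _
    rw [hx, hx]
    have h₁' := h₁
    have h₂' := h₂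
    obtain ⟨I₁, hI₁, σ₁, hσ₁⟩ := h₁'
    obtain ⟨I₂, hI₂, σ₂, hσ₂⟩ := h₂'
    haveI := Fintype.ofFinite I₁
    haveI := Fintype.ofFinite I₂
    rw [trLoc_eq G s Y₁ h₁ hσ₁, trLoc_eq G s Y₂ h₂ hσ₂]
    show G.obj.map g₁.op (∑ i, G.obj.map (σ₁ i).op s) = G.obj.map g₂.op (∑ i, G.obj.map (σ₂ i).op s)
    rw [map_sum_op, map_sum_op]
    exact sum_eq_of_splittings G s (hσ₁.comp g₁) (hσ₂.comp g₂)
  obtain ⟨T, hT, -⟩ := hsh x hcomp
  refine ⟨T, fun W g I _ σ hσ => ?_⟩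
  have h1 := hT g ⟨I, inferInstance, σ, hσ⟩
  rw [hx, trLoc_eq G s W _ hσ] at h1
  exact h1

/-- The "sum over the sheets" of a section over `X'`. -/
noncomputable def tr [IsFinite π] (G : EtCoh.Ab X) (s : G.obj.obj (op (P₀ π))) :
    G.obj.obj (op (EtCoh.top X)) := (exists_trace π G s).choose

lemma tr_spec [IsFinite π] (G : EtCoh.Ab X) (s : G.obj.obj (op (P₀ π))) (W : X.Etale)
    (g : W ⟶ EtCoh.top X) (I : Type u) [Fintype I] (σ : I → (W ⟶ P₀ π))
    (hσ : IsSplitting π W σ) : G.obj.map g.op (tr π G s) = ∑ i, G.obj.map (σ i).op s :=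
  (exists_trace π G s).choose_spec W g I σ hσ

lemma eq_of_splittings [IsFinite π] (G : EtCoh.Ab X) (T T' : G.obj.obj (op (EtCoh.top X)))
    (h : ∀ (W : X.Etale) (g : W ⟶ EtCoh.top X) (I : Type u) [Fintype I] (σ : I → (W ⟶ P₀ π)),
      IsSplitting π W σ → Nonempty W.left → G.obj.map g.op T = G.obj.map g.op T') : T = T' := by
  refine EtGlue.eq_of_locally_ab G T T' ?_
  intro x
  obtain ⟨W, w, I, hI, σ, hx, hσ⟩ := exists_splitting π x
  haveI := Fintype.ofFinite I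
  exact ⟨W, MorphismProperty.Over.homMk W.hom (Category.comp_id _) trivial, w, hx,
    h W _ I σ hσ ⟨w⟩⟩

lemma tr_naturality [IsFinite π] {G G' : EtCoh.Ab X} (φ : G ⟶ G') (s : G.obj.obj (op (P₀ π))) :
    φ.hom.app (op (EtCoh.top X)) (tr π G s) = tr π G' (φ.hom.app (op (P₀ π)) s) := by
  refine eq_of_splittings π G' _ _ ?_
  intro W g I _ σ hσ _
  rw [tr_spec π G' _ W g I σ hσ, ← EtGlue.ab_hom_nat φ g.op (tr π G s), tr_spec π G s W g I σ hσ]
  show (φ.hom.app (op W)).hom (∑ i, G.obj.map (σ i).op s) = _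
  rw [map_sum]
  refine Finset.sum_congr rfl fun i _ => ?_
  exact EtGlue.ab_hom_nat φ (σ i).op s

lemma tr_restrict [IsFinite π] (d : ℕ)
    (hdeg : ∀ (W : X.Etale) (I : Type u) [Fintype I] (σ : I → (W ⟶ P₀ π)),
      IsSplitting π W σ → Nonempty W.left → Fintype.card I = d)
    (G : EtCoh.Ab X) (s₀ : G.obj.obj (op (EtCoh.top X))) (p : P₀ π ⟶ EtCoh.top X) :
    tr π G (G.obj.map p.op s₀) = d • s₀ := by
  refine eq_of_splittings π G _ _ ?_
  intro W g I _ σ hσ hne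
  rw [tr_spec π G _ W g I σ hσ]
  have h1 : ∀ i, G.obj.map (σ i).op (G.obj.map p.op s₀) = G.obj.map g.op s₀ := by
    intro i
    rw [← EtGlue.ab_map_comp, ← op_comp]
    have h2 : σ i ≫ p = g := (EtCore.topIsTerminal X).hom_ext _ _
    rw [h2]
  rw [Finset.sum_congr rfl (fun i _ => h1 i), Finset.sum_const, Finset.card_univ,
    hdeg W I σ hσ hne]
  show _ = (G.obj.map g.op).hom (d • s₀)
  rw [map_nsmul]

lemma card_eq_of_geom (d : ℕ)
    (hgeom : ∀ (Ω : Type u) [Field Ω] [IsAlgClosed Ω] (ξ : Spec (.of Ω) ⟶ X),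
      Nat.card {ξ' : Spec (.of Ω) ⟶ X' // ξ' ≫ π = ξ} = d)
    (W : X.Etale) (I : Type u) [Fintype I] (σ : I → (W ⟶ P₀ π)) (hσ : IsSplitting π W σ)
    (hne : Nonempty W.left) : Fintype.card I = d := by
  obtain ⟨w₀⟩ := hne
  obtain ⟨Ω, _, _, w, hw⟩ := exists_geomPoint_at w₀
  obtain ⟨h1, h2⟩ := hσ Ω w
  have hσw : ∀ i, (w ≫ (σ i).left) ≫ π = w ≫ W.hom := fun i => by
    have h := MorphismProperty.Over.w (σ i)
    rw [P₀_hom] at h
    rw [Category.assoc, h]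
  rw [← hgeom Ω (w ≫ W.hom), ← Nat.card_eq_fintype_card]
  refine Nat.card_congr (Equiv.ofBijective (fun i => ⟨w ≫ (σ i).left, hσw i⟩) ⟨?_, ?_⟩)
  · intro i j hij
    exact h1 i j (congrArg Subtype.val hij)
  · rintro ⟨ξ', hξ'⟩
    obtain ⟨i, hi⟩ := h2 ξ' (by rw [P₀_hom]; exact hξ')
    exact ⟨i, Subtype.ext hi⟩


section Cotrace

open EtCore Groth.Agent.Lib.Helper15.TransferExt Groth.Agent.Lib.Helper13.ExtZeroExact
  Groth.Agent.Lib.Helper13.EtaleRestr

/-- Morphisms from the constant sheaf `ℤ` are global sections. -/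
noncomputable def ev (B : EtCoh.Ab X) :
    (EtCoh.const X ℤ ⟶ B) ≃+ B.obj.obj (op (EtCoh.top X)) :=
  ((constAdj X).homAddEquiv _ B).trans (AddCommGrpCat.uliftZMultiplesAddEquiv _)

lemma ev_naturality {B B' : EtCoh.Ab X} (φ : EtCoh.const X ℤ ⟶ B) (ψ : B ⟶ B') :
    ev B' (φ ≫ ψ) = ψ.hom.app (op (EtCoh.top X)) (ev B φ) := by
  unfold ev
  simp only [AddEquiv.trans_apply, Adjunction.homAddEquiv_apply,
    Adjunction.homEquiv_naturality_right]
  rfl

theorem exists_cotrace [IsFinite π] (d : ℕ)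
    (hdeg : ∀ (W : X.Etale) (I : Type u) [Fintype I] (σ : I → (W ⟶ P₀ π)),
      IsSplitting π W σ → Nonempty W.left → Fintype.card I = d) :
    ∃ c : EtCoh.const X ℤ ⟶ (EtShriek.extZero π).obj (EtCoh.const X' ℤ),
      c ≫ aMapE π = d • 𝟙 _ := by
  obtain ⟨θ, hθ⟩ : ∃ θ : EtCoh.const X' ℤ ⟶ (EtShriek.restrAlong π).obj (EtCoh.const X ℤ),
      θ = (EtShriek.extZeroAdj π).homEquiv _ _ (aMapE π) := ⟨_, rfl⟩
  haveI hθiso : IsIso θ := by
    have h := homEquiv_aMapE π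
    unfold adjE at h
    rw [Adjunction.homEquiv_ofNatIsoRight_apply, ← hθ] at h
    have h1 : IsIso (θ ≫ (pullIsoRestr π).symm.hom.app (EtCoh.const X ℤ)) := by
      rw [h]; infer_instance
    exact IsIso.of_isIso_comp_right _ ((pullIsoRestr π).symm.hom.app (EtCoh.const X ℤ))
  have hiso : IsIso ((sheafToPresheaf X'.smallEtaleTopology AddCommGrpCat.{u + 1} ⋙
      (evaluation _ _).obj (op (EtCoh.top X'))).map θ) := inferInstance
  have hsurj : Function.Surjective (θ.hom.app (op (EtCoh.top X'))) :=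
    ((ConcreteCategory.isIso_iff_bijective _).1 hiso).2
  obtain ⟨one, hone⟩ : ∃ one : (EtCoh.const X ℤ).obj.obj (op (EtCoh.top X)),
      one = ev (EtCoh.const X ℤ) (𝟙 _) := ⟨_, rfl⟩
  obtain ⟨p, -⟩ : ∃ p : P₀ π ⟶ EtCoh.top X, True := ⟨(EtCore.topIsTerminal X).from _, trivial⟩
  obtain ⟨a₀, ha₀⟩ := hsurj ((EtCoh.const X ℤ).obj.map p.op one)
  obtain ⟨u', hu'⟩ : ∃ u' : ((EtShriek.extZero π).obj (EtCoh.const X' ℤ)).obj.obj (op (P₀ π)),
      u' = ((EtShriek.extZeroAdj π).unit.app (EtCoh.const X' ℤ)).hom.app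
        (op (EtCoh.top X')) a₀ := ⟨_, rfl⟩
  have hau' : (aMapE π).hom.app (op (P₀ π)) u' = (EtCoh.const X ℤ).obj.map p.op one := by
    rw [hu', ← ha₀, hθ, Adjunction.homEquiv_unit]
    rfl
  refine ⟨(ev _).symm (tr π _ u'), ?_⟩
  apply (ev _).injective
  rw [ev_naturality, AddEquiv.apply_symm_apply, tr_naturality, hau', tr_restrict π d hdeg,
    map_nsmul, hone]

/-- **Transfer.** For a finite etale morphism `π : X' ⟶ X` all of whose geometric fibres have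
`d` points, a cohomology class on `X` that dies on `X'` is killed by `d`. -/
theorem nsmul_eq_zero_of_Hpull_eq_zero [IsFinite π] (d : ℕ)
    (hgeom : ∀ (Ω : Type u) [Field Ω] [IsAlgClosed Ω] (ξ : Spec (.of Ω) ⟶ X),
      Nat.card {ξ' : Spec (.of Ω) ⟶ X' // ξ' ≫ π = ξ} = d)
    [PreservesFiniteLimits (EtCoh.pull π)] (F : EtCoh.Ab X) (n : ℕ) (e : EtCoh.H X F n)
    (h : Hpull π F n e = 0) : d • e = 0 := by
  obtain ⟨c, hc⟩ := exists_cotrace π d (card_eq_of_geom π d hgeom)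
  exact TransferExt.nsmul_eq_zero_of_Hpull_eq_zero π d c hc F n e h

end Cotrace

end Groth.Agent.Lib.Helper15.TransferTrace
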