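import Mathlib
import Groth.Agent.Lib.Helper15.TransferTrace
import Groth.Agent.Lib.Helper15.ExtFlc
import Groth.Agent.Lib.Helper15.FinitePushVanish

/-!
# Helper15: the direct image of a finite locally constant sheaf along a finite etale morphism
-/

set_option autoImplicit false
set_option backward.isDefEq.respectTransparency false
universe u
open CategoryTheory CategoryTheory.Limits AlgebraicGeometry Opposite

namespace Helper15.FinEtPush

open Groth.Agent.Lib.Helper8.FibIntGP Groth.Agent.Lib.Helper15.TransferSplit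
  Groth.Agent.Lib.Helper15.TransferTrace Groth.Agent.Lib.Helper15 Helper15.LcStruct

variable {X Y : Scheme.{u}} (f : X ⟶ Y) [Etale f]

section Graph

/-- The scheme morphism `V.left ⟶ X` underlying `a`. -/
noncomputable def aL {V : Y.Etale} (a : V ⟶ P₀ f) : V.left ⟶ X := a.left

lemma aL_comp {V : Y.Etale} (a : V ⟶ P₀ f) : aL f a ≫ f = V.hom := by
  have h := MorphismProperty.Over.w a
  rw [P₀_hom] at h
  exact h

instance aL_etale {V : Y.Etale} (a : V ⟶ P₀ f) : Etale (aL f a) := by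
  have : Etale V.hom := V.prop
  have h : Etale (aL f a ≫ f) := by rw [aL_comp]; infer_instance
  exact MorphismProperty.of_postcomp (W := @Etale) (W' := @Etale) (aL f a) f inferInstance h

noncomputable def objσ {V : Y.Etale} (a : V ⟶ P₀ f) : X.Etale := Scheme.Etale.mk (aL f a)

noncomputable def objMap {V' V : Y.Etale} (k : V' ⟶ V) (a : V ⟶ P₀ f) :
    objσ f (k ≫ a) ⟶ objσ f a :=
  MorphismProperty.Over.homMk k.left rfl trivial

noncomputable def τl {V : Y.Etale} (a : V ⟶ P₀ f) : V.left ⟶ pullback V.hom f :=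
  pullback.lift (𝟙 V.left) (aL f a) (by rw [Category.id_comp, aL_comp])

@[reassoc]
lemma τl_fst {V : Y.Etale} (a : V ⟶ P₀ f) : τl f a ≫ pullback.fst V.hom f = 𝟙 V.left :=
  pullback.lift_fst _ _ _

@[reassoc]
lemma τl_snd {V : Y.Etale} (a : V ⟶ P₀ f) : τl f a ≫ pullback.snd V.hom f = aL f a :=
  pullback.lift_snd _ _ _

noncomputable def τ {V : Y.Etale} (a : V ⟶ P₀ f) : objσ f a ⟶ (EtCoh.bc f).obj V :=
  MorphismProperty.Over.homMk (τl f a) (τl_snd f a) trivial

lemma τ_nat {V' V : Y.Etale} (k : V' ⟶ V) (a : V ⟶ P₀ f) :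
    τ f (k ≫ a) ≫ (EtCoh.bc f).map k = objMap f k a ≫ τ f a := by
  apply MorphismProperty.Over.Hom.ext
  show τl f (k ≫ a) ≫ ((EtCoh.bc f).map k).left = k.left ≫ τl f a
  apply pullback.hom_ext
  · rw [Category.assoc, FinitePushVanish.bc_map_fst, τl_fst_assoc, Category.assoc, τl_fst,
      Category.comp_id]
  · rw [Category.assoc, FinitePushVanish.bc_map_snd, τl_snd, Category.assoc, τl_snd]
    rfl

lemma τl_mono {V : Y.Etale} (a : V ⟶ P₀ f) : Mono (τl f a) := mono_of_mono_fac (τl_fst f a)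

lemma τl_isOpenImmersion {V : Y.Etale} (a : V ⟶ P₀ f) : IsOpenImmersion (τl f a) :=
  isOpenImmersion_of_section (pullback.fst V.hom f) (τl f a) (τl_fst f a)

lemma τl_cover {V : Y.Etale} {I : Type u} {σ : I → (V ⟶ P₀ f)} (hσ : IsSplitting f V σ)
    (x : ↥(pullback V.hom f)) : ∃ (i : I) (p : V.left), τl f (σ i) p = x := by
  obtain ⟨Ω, _, _, ξ, hξ⟩ := exists_geomPoint_at x
  obtain ⟨-, h2⟩ := hσ Ω (ξ ≫ pullback.fst V.hom f)
  obtain ⟨i, hi⟩ := h2 (ξ ≫ pullback.snd V.hom f) (by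
    rw [P₀_hom, Category.assoc, Category.assoc, pullback.condition])
  refine ⟨i, gpt (ξ ≫ pullback.fst V.hom f), ?_⟩
  have e : (ξ ≫ pullback.fst V.hom f) ≫ τl f (σ i) = ξ := by
    apply pullback.hom_ext
    · exact (Category.assoc _ _ _).trans ((congrArg (fun t => (ξ ≫ pullback.fst V.hom f) ≫ t)
        (τl_fst f (σ i))).trans (Category.comp_id _))
    · exact (Category.assoc _ _ _).trans ((congrArg (fun t => (ξ ≫ pullback.fst V.hom f) ≫ t)
        (τl_snd f (σ i))).trans hi)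
  exact (congrArg gpt e).trans hξ

lemma τl_disj {V : Y.Etale} {I : Type u} {σ : I → (V ⟶ P₀ f)} (hσ : IsSplitting f V σ)
    (i j : I) (hij : i ≠ j) (p q : V.left) : τl f (σ i) p ≠ τl f (σ j) q := by
  intro e
  have := τl_isOpenImmersion f (σ i)
  have := τl_isOpenImmersion f (σ j)
  obtain ⟨Ω, _, _, ξ, hξ⟩ := exists_geomPoint_at (τl f (σ i) p)
  have hri : Set.range ξ ⊆ Set.range (τl f (σ i)) := range_geom_subset ξ _ ⟨p, hξ.symm⟩
  have hrj : Set.range ξ ⊆ Set.range (τl f (σ j)) :=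
    range_geom_subset ξ _ ⟨q, (hξ.trans e).symm⟩
  have li := IsOpenImmersion.lift_fac (τl f (σ i)) ξ hri
  have lj := IsOpenImmersion.lift_fac (τl f (σ j)) ξ hrj
  have ai : IsOpenImmersion.lift (τl f (σ i)) ξ hri = ξ ≫ pullback.fst V.hom f := by
    have h := congrArg (fun t => t ≫ pullback.fst V.hom f) li
    simp only [Category.assoc, τl_fst, Category.comp_id] at h
    exact h
  have aj : IsOpenImmersion.lift (τl f (σ j)) ξ hrj = ξ ≫ pullback.fst V.hom f := by
    have h := congrArg (fun t => t ≫ pullback.fst V.hom f) lj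
    simp only [Category.assoc, τl_fst, Category.comp_id] at h
    exact h
  rw [ai] at li
  rw [aj] at lj
  have h1 : (ξ ≫ pullback.fst V.hom f) ≫ (σ i).left =
      (ξ ≫ pullback.fst V.hom f) ≫ (σ j).left := by
    have hi' := congrArg (fun t => t ≫ pullback.snd V.hom f) li
    have hj' := congrArg (fun t => t ≫ pullback.snd V.hom f) lj
    simp only [Category.assoc, τl_snd] at hi' hj'
    rw [Category.assoc, Category.assoc]
    exact hi'.trans hj'.symm
  exact hij ((hσ Ω (ξ ≫ pullback.fst V.hom f)).1 i j h1)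

theorem glue_split (F : EtCoh.Ab X) {V : Y.Etale} {I : Type u} (σ : I → (V ⟶ P₀ f))
    (hσ : IsSplitting f V σ) (s : ∀ i, F.obj.obj (op (objσ f (σ i)))) :
    ∃! t : F.obj.obj (op ((EtCoh.bc f).obj V)), ∀ i, F.obj.map (τ f (σ i)).op t = s i :=
  EtGlue.glueAb F (fun i => objσ f (σ i)) (fun i => τ f (σ i)) (fun i => τl_mono f (σ i))
    (fun i j hij p q => τl_disj f hσ i j hij p q) (fun x => τl_cover f hσ x) s

theorem glue_ext (F : EtCoh.Ab X) {V : Y.Etale} {I : Type u} (σ : I → (V ⟶ P₀ f))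
    (hσ : IsSplitting f V σ) (t t' : F.obj.obj (op ((EtCoh.bc f).obj V)))
    (h : ∀ i, F.obj.map (τ f (σ i)).op t = F.obj.map (τ f (σ i)).op t') : t = t' :=
  (glue_split f F σ hσ (fun i => F.obj.map (τ f (σ i)).op t')).unique h (fun _ => rfl)

end Graph

section Transport

/-- Pull a sieve on `objσ f a` back to a sieve on `V`. -/
noncomputable def pullSieve {V : Y.Etale} (a : V ⟶ P₀ f) (R : Sieve (objσ f a)) : Sieve V where
  arrows V' k := R.arrows (objMap f k a)
  downward_closed := by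
    intro V' V'' k hk k'
    have e : objMap f (k' ≫ k) a =
        (MorphismProperty.Over.homMk k'.left
          (by
            show k'.left ≫ (k.left ≫ aL f a) = (k'.left ≫ k.left) ≫ aL f a
            rw [Category.assoc]) trivial :
          objσ f ((k' ≫ k) ≫ a) ⟶ objσ f (k ≫ a)) ≫ objMap f k a := by
      apply MorphismProperty.Over.Hom.ext
      rfl
    show R.arrows (objMap f (k' ≫ k) a)
    rw [e]
    exact R.downward_closed hk _

theorem transport_mem {V : Y.Etale} (a : V ⟶ P₀ f) (R : Sieve (objσ f a))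
    (hR : R ∈ X.smallEtaleTopology (objσ f a)) :
    pullSieve f a R ∈ Y.smallEtaleTopology V := by
  rw [EtGlue.mem_iff]
  intro p
  obtain ⟨Z, q, z, hq, hz⟩ := (EtGlue.mem_iff _ _).1 hR p
  have hV : Etale V.hom := V.prop
  obtain ⟨ql, hql⟩ : ∃ ql : Z.left ⟶ V.left, ql = q.left := ⟨q.left, rfl⟩
  have hqe : Etale ql := by rw [hql]; infer_instance
  have hZ : Z.hom = ql ≫ aL f a := by
    rw [hql]
    exact (MorphismProperty.Over.w q).symm
  obtain ⟨k, hk⟩ : ∃ k : (Scheme.Etale.mk (ql ≫ V.hom) : Y.Etale) ⟶ V, k.left = ql :=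
    ⟨MorphismProperty.Over.homMk ql rfl trivial, rfl⟩
  refine ⟨Scheme.Etale.mk (ql ≫ V.hom), k, z, ?_, ?_⟩
  · have e : objMap f k a =
        (MorphismProperty.Over.homMk (𝟙 Z.left)
          (by
            show 𝟙 Z.left ≫ Z.hom = k.left ≫ aL f a
            rw [Category.id_comp, hk, hZ]) trivial :
          objσ f (k ≫ a) ⟶ Z) ≫ q := by
      apply MorphismProperty.Over.Hom.ext
      show k.left = 𝟙 Z.left ≫ q.left
      rw [Category.id_comp, hk]
      exact hql
    show R.arrows (objMap f k a)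
    rw [e]
    exact R.downward_closed hq _
  · rw [hk]
    exact (congrArg (fun t : Z.left ⟶ V.left => t z) hql).trans hz

theorem bot_transfer {V : Y.Etale} (a : V ⟶ P₀ f)
    (hb : (⊥ : Sieve (objσ f a)) ∈ X.smallEtaleTopology (objσ f a)) :
    (⊥ : Sieve V) ∈ Y.smallEtaleTopology V := by
  apply EtGlue.bot_mem_of_isEmpty
  refine ⟨fun x => ?_⟩
  obtain ⟨Z, g, z, hg, -⟩ := (EtGlue.mem_iff _ _).1 hb x
  exact (Sieve.bot_apply g).1 hg

/-- The sieve of arrows whose source maps to some member of the family `U`. -/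
def coverSieve {ι : Type u} (U : ι → X.Etale) (T : X.Etale) : Sieve T where
  arrows Z _ := ∃ k, Nonempty (Z ⟶ U k)
  downward_closed := by
    rintro Z Z' q ⟨k, ⟨r⟩⟩ q'
    exact ⟨k, ⟨q' ≫ r⟩⟩

theorem coverSieve_mem {ι : Type u} {U : ι → X.Etale} (hU : EtCoh.Covers U) (T : X.Etale) :
    coverSieve U T ∈ X.smallEtaleTopology T := by
  rw [EtGlue.mem_iff]
  intro p
  obtain ⟨k, u, hu⟩ := hU (T.hom p)
  obtain ⟨w, hw1, hw2⟩ := prod_point T (U k) p u hu.symm
  exact ⟨prodObj T (U k), prodFst T (U k), w, ⟨k, ⟨prodSnd T (U k)⟩⟩, hw1⟩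

end Transport

section Main

theorem push_constVia [EtCoh.BCCont f] (F : EtCoh.Ab X) {W : Y.Etale} {I : Type u} [Finite I]
    (σ : I → (W ⟶ P₀ f)) (hσ : IsSplitting f W σ) (M : I → AddCommGrpCat.{u+1})
    (c : ∀ i, M i →+ F.obj.obj (op (objσ f (σ i))))
    (hc : ∀ i, IsConstVia F (objσ f (σ i)) (M i) (c i)) :
    ∃ cc : (∀ i, M i) →+ ((EtCoh.push f).obj F).obj.obj (op W),
      IsConstVia ((EtCoh.push f).obj F) W (∀ i, M i) cc := by
  classical
  have ex : ∀ m : (∀ i, M i), ∃ t : F.obj.obj (op ((EtCoh.bc f).obj W)),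
      ∀ i, F.obj.map (τ f (σ i)).op t = c i (m i) := fun m => (glue_split f F σ hσ _).exists
  choose g hg using ex
  have hadd : ∀ m m', g (m + m') = g m + g m' := by
    intro m m'
    refine glue_ext f F σ hσ _ _ (fun i => ?_)
    rw [map_add, hg, hg, hg]
    exact map_add (c i) _ _
  refine ⟨AddMonoidHom.mk' g hadd, ?_, ?_⟩
  · intro V h (s : F.obj.obj (op ((EtCoh.bc f).obj V)))
    have hR : ∀ i, pullSieve f (h ≫ σ i) (cSieve F (c i) (objMap f h (σ i))
        (F.obj.map (τ f (h ≫ σ i)).op s)) ∈ Y.smallEtaleTopology V :=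
      fun i => transport_mem f _ _ ((hc i).surj _ _)
    refine Y.smallEtaleTopology.superset_covering ?_ (iInf_mem _ _ hR)
    intro V' k hk
    simp only [iInf, Sieve.sInf_apply, Set.mem_range, forall_exists_index,
      forall_apply_eq_imp_iff] at hk
    have hk' : ∀ i, ∃ mi : M i,
        F.obj.map (objMap f k (h ≫ σ i)).op (F.obj.map (τ f (h ≫ σ i)).op s) =
          F.obj.map (objMap f k (h ≫ σ i) ≫ objMap f h (σ i)).op (c i mi) := fun i => hk i
    choose m hm using hk'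
    refine ⟨m, ?_⟩
    show F.obj.map ((EtCoh.bc f).map k).op s = F.obj.map ((EtCoh.bc f).map (k ≫ h)).op (g m)
    refine glue_ext f F (fun i => k ≫ h ≫ σ i) ((hσ.comp h).comp k) _ _ (fun i => ?_)
    show F.obj.map (τ f (k ≫ h ≫ σ i)).op (F.obj.map ((EtCoh.bc f).map k).op s) =
      F.obj.map (τ f (k ≫ h ≫ σ i)).op (F.obj.map ((EtCoh.bc f).map (k ≫ h)).op (g m))
    have e1 : τ f (k ≫ h ≫ σ i) ≫ (EtCoh.bc f).map k =
        objMap f k (h ≫ σ i) ≫ τ f (h ≫ σ i) := τ_nat f k (h ≫ σ i)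
    have e2 : τ f (k ≫ h ≫ σ i) ≫ (EtCoh.bc f).map (k ≫ h) =
        (objMap f k (h ≫ σ i) ≫ objMap f h (σ i)) ≫ τ f (σ i) :=
      calc τ f (k ≫ h ≫ σ i) ≫ (EtCoh.bc f).map (k ≫ h)
          = τ f (k ≫ h ≫ σ i) ≫ ((EtCoh.bc f).map k ≫ (EtCoh.bc f).map h) := by
            rw [Functor.map_comp]
        _ = (τ f (k ≫ h ≫ σ i) ≫ (EtCoh.bc f).map k) ≫ (EtCoh.bc f).map h :=
            (Category.assoc _ _ _).symm
        _ = (objMap f k (h ≫ σ i) ≫ τ f (h ≫ σ i)) ≫ (EtCoh.bc f).map h := by rw [e1]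
        _ = objMap f k (h ≫ σ i) ≫ (τ f (h ≫ σ i) ≫ (EtCoh.bc f).map h) := Category.assoc _ _ _
        _ = objMap f k (h ≫ σ i) ≫ (objMap f h (σ i) ≫ τ f (σ i)) := by rw [τ_nat f h (σ i)]
        _ = (objMap f k (h ≫ σ i) ≫ objMap f h (σ i)) ≫ τ f (σ i) := (Category.assoc _ _ _).symm
    rw [← map_comp_app F, ← map_comp_app F, e1, e2, map_comp_app F, map_comp_app F, hg]
    exact hm i
  · intro V h m hV hm
    funext i
    refine (hc i).inj (objMap f h (σ i)) (m i) (fun hb => hV (bot_transfer f _ hb)) ?_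
    have hm' : F.obj.map ((EtCoh.bc f).map h).op (g m) = 0 := hm
    rw [← hg m i, ← map_comp_app F, ← τ_nat f h (σ i), map_comp_app F, hm', map_zero]

theorem S0106 {X Y : Scheme.{u}} (f : X ⟶ Y) [IsFinite f] [AlgebraicGeometry.Etale f]
    [EtCoh.BCCont f] (F : EtCoh.Ab X) (h : EtCoh.IsFiniteLocallyConstant F) :
    EtCoh.IsFiniteLocallyConstant ((EtCoh.push f).obj F) := by
  obtain ⟨ι, U, hU, hc⟩ := h
  choose M₀ iM fM α using hc
  have loc : ∀ y : Y, ∃ (W : Y.Etale) (w : W.left), W.hom w = y ∧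
      ∃ (M : Type) (_ : AddCommGroup M) (_ : Finite M),
        Nonempty (((EtCoh.push f).obj F).over W ≅
          (constantSheaf (Y.smallEtaleTopology.over W) AddCommGrpCat.{u+1}).obj
            (AddCommGrpCat.of (ULift.{u+1} M))) := by
    intro y
    obtain ⟨W₀, w₀, I, hI, σ, hw₀, hσ⟩ := exists_splitting f y
    have := hI
    have hS : (⨅ i, pullSieve f (σ i) (coverSieve U (objσ f (σ i)))) ∈
        Y.smallEtaleTopology W₀ :=
      iInf_mem _ _ (fun i => transport_mem f _ _ (coverSieve_mem hU _))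
    obtain ⟨W, g, w, hg, hw⟩ := (EtGlue.mem_iff _ _).1 hS w₀
    simp only [iInf, Sieve.sInf_apply, Set.mem_range, forall_exists_index,
      forall_apply_eq_imp_iff] at hg
    have hg' : ∀ i, ∃ k, Nonempty (objσ f (g ≫ σ i) ⟶ U k) := fun i => hg i
    choose k r using hg'
    have hfin : ∀ j, Finite (AddCommGrpCat.of (ULift.{u+1} (M₀ j))) := by
      intro j
      have := fM j
      show Finite (ULift.{u+1} (M₀ j))
      infer_instance
    have α' : ∀ j, F.over (U j) ≅
        (cst X (AddCommGrpCat.of (ULift.{u+1} (M₀ j)))).over (U j) :=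
      fun j => (α j).some ≪≫ ((kappa (U j)).app _).symm
    obtain ⟨cc, hcc⟩ := push_constVia f F (fun i => g ≫ σ i) (hσ.comp g)
      (fun i => AddCommGrpCat.of (ULift.{u+1} (M₀ (k i))))
      (fun i => (F.obj.map (r i).some.op).hom.comp (csOf _ (α' (k i))))
      (fun i => (isConstVia_of_iso _ (α' (k i))).restrict (r i).some)
    obtain ⟨e⟩ := constIso_of_isConstVia hcc
    have hfin' : ∀ i, Finite (AddCommGrpCat.of (ULift.{u+1} (M₀ (k i)))) := fun i => hfin (k i)
    have hfinPi : Finite (AddCommGrpCat.of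
        (∀ i, (AddCommGrpCat.of (ULift.{u+1} (M₀ (k i))) : AddCommGrpCat.{u+1}))) := by
      show Finite (∀ i, (AddCommGrpCat.of (ULift.{u+1} (M₀ (k i))) : AddCommGrpCat.{u+1}))
      infer_instance
    obtain ⟨M, iM', fM', ⟨em⟩⟩ := exists_small_finite (AddCommGrpCat.of
        (∀ i, (AddCommGrpCat.of (ULift.{u+1} (M₀ (k i))) : AddCommGrpCat.{u+1})))
    refine ⟨W, w, ?_, M, iM', fM', ⟨e ≪≫ (constantSheaf _ _).mapIso em⟩⟩
    have e1 : g.left ≫ W₀.hom = W.hom := MorphismProperty.Over.w g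
    rw [← e1, Scheme.Hom.comp_apply]
    exact (congrArg (fun t => W₀.hom t) hw).trans hw₀
  choose W w hw M iM' fM' e using loc
  exact ⟨Y, W, fun y => ⟨y, w y, hw y⟩, fun y => ⟨M y, iM' y, fM' y, e y⟩⟩

end Main

end Helper15.FinEtPush
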