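import Mathlib
import Groth.Agent.Lib.Helper15.ExtZeroPush
import Groth.Agent.Lib.Helper15.FinEtPush
import Groth.Agent.Lib.Helper15.SubConst
import Groth.Agent.Lib.Helper15.Constr3
import Groth.Agent.Lib.Helper15.LcStruct
import Groth.Agent.S0169
import Groth.Agent.S0649

/-!
# Helper15: `j_! = j_*` for finite etale `j`, and constructibility of `j_!` of a finite locally
constant sheaf
-/

set_option autoImplicit false
set_option backward.isDefEq.respectTransparency false
universe u
open CategoryTheory CategoryTheory.Limits AlgebraicGeometry Opposite Topology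

namespace Helper15.FinEtShriek

open Groth.Agent.Lib.Helper15.ExtBy Groth.Agent.Lib.Helper15.ExtGraph
  Groth.Agent.Lib.Helper15.EtGlue Groth.Agent.Lib.Helper15.ExtZeroPush
  Groth.Agent.Lib.Helper15.TransferTrace Helper15.FinEtPush Helper15.LcStruct Helper15.Constr

section Iso

variable {U X : Scheme.{u}} (j : U ⟶ X) [Etale j]

/-- The lift attached to a morphism to `P₀ j`. -/
noncomputable def liftOf {W : X.Etale} (a : W ⟶ P₀ j) : Lift j W := ⟨aL j a, aL_comp j a⟩

lemma G_left {W : X.Etale} (a : W ⟶ P₀ j) : (G j (liftOf j a)).left = τl j a := rfl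

/-- The canonical morphism to the terminal object. -/
noncomputable def toTop (W : X.Etale) : W ⟶ EtCoh.top X :=
  MorphismProperty.Over.homMk W.hom (Category.comp_id _) trivial

variable [IsSeparated j]

theorem decomp (F : EtCoh.Ab U) {N : X.Etale} {I : Type u} [Fintype I] (σ : I → (N ⟶ P₀ j))
    (hσ : IsSplitting j N σ) (s : F.obj.obj (op ((EtCoh.bc j).obj N))) :
    s = ∑ i, extBy F (G j (liftOf j (σ i))) (G_clopen j (liftOf j (σ i)))
      (F.obj.map (G j (liftOf j (σ i))).op s) := by
  classical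
  refine eq_of_locally_ab F _ _ ?_
  intro x
  obtain ⟨k, p, hp⟩ := τl_cover j hσ x
  refine ⟨LV j (liftOf j (σ k)), G j (liftOf j (σ k)), p, hp, ?_⟩
  rw [map_sum, Finset.sum_eq_single k]
  · rw [extBy_restrict]
  · intro i _ hik
    refine extBy_off F _ _ _ _ ?_
    rintro z ⟨q, hq⟩
    exact τl_disj j hσ i k hik q z hq
  · intro h
    exact (h (Finset.mem_univ k)).elim

variable [IsFinite j] [EtShriek.JCont j]

instance theta_locSurj (F : EtCoh.Ab U) :
    Presheaf.IsLocallySurjective X.smallEtaleTopology (theta j F) where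
  imageSieve_mem {W} s := by
    rw [Groth.Agent.Lib.Helper15.EtGlue.mem_iff]
    intro w
    obtain ⟨W₁, w₁, I, hI, σ, hw₁, hσ⟩ := exists_splitting j (W.hom w)
    obtain ⟨z, hz1, -⟩ := fib_point (toTop W) (toTop W₁) w w₁ hw₁.symm
    haveI := Fintype.ofFinite I
    have hσ' := hσ.comp (fibSnd (toTop W) (toTop W₁))
    refine ⟨fibObj (toTop W) (toTop W₁), fibFst _ _, z, ?_, hz1⟩
    refine ⟨∑ i, T j F (liftOf j (fibSnd (toTop W) (toTop W₁) ≫ σ i))
      (F.obj.map (G j (liftOf j (fibSnd (toTop W) (toTop W₁) ≫ σ i))).op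
        (((EtCoh.push j).obj F).obj.map (fibFst (toTop W) (toTop W₁)).op s)), ?_⟩
    rw [map_sum]
    refine (Finset.sum_congr rfl (fun i _ => theta_T j F _ _)).trans ?_
    exact (decomp j F _ hσ' _).symm

theorem tau_epi (F : EtCoh.Ab U) : Epi ((tau j).app F) := by
  haveI : Sheaf.IsLocallySurjective
      ((presheafToSheaf X.smallEtaleTopology AddCommGrpCat.{u + 1}).map (theta j F)) :=
    (Presheaf.isLocallySurjective_presheafToSheaf_map_iff _ _).mpr (theta_locSurj j F)
  haveI : Epi ((presheafToSheaf X.smallEtaleTopology AddCommGrpCat.{u + 1}).map (theta j F)) :=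
    Sheaf.epi_of_isLocallySurjective _
  show Epi (_ ≫ _ ≫ _)
  infer_instance

theorem tau_isIso (F : EtCoh.Ab U) : IsIso ((tau j).app F) := by
  haveI := tau_mono j F
  haveI := tau_epi j F
  exact isIso_of_mono_of_epi _

end Iso

theorem S13505 {U X : Scheme.{u}} [CompactSpace X] [QuasiSeparatedSpace X] [CompactSpace U]
    [QuasiSeparatedSpace U] (f : U ⟶ X) [Etale f] [EtShriek.JCont f] (F : EtCoh.Ab U)
    (hF : EtCoh.IsFiniteLocallyConstant F) :
    EtPBC.IsConstructible ((EtShriek.extZero f).obj F) := by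
  obtain ⟨n, T, g, himm, hcon, hdisj, hcov, hfin⟩ := Groth.Agent.S0169.result f
  refine (S0128 X _).mpr (adapted_of_adapted' ⟨Fin n, inferInstance, T, g, himm,
    fun i => cin_univ' (hcon i), hdisj, hcov, fun i => ?_⟩)
  haveI := hfin i
  obtain ⟨e⟩ := Groth.Agent.S0649.result f (g i) (pullback.snd f (g i)) (pullback.fst f (g i))
    (IsPullback.of_hasPullback f (g i)).flip
  have h1 := Helper15.BcOver.flc_pull (pullback.fst f (g i)) F hF
  have h2 := Helper15.FinEtPush.S0106 (pullback.snd f (g i)) _ h1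
  haveI := tau_isIso (pullback.snd f (g i)) ((EtCoh.pull (pullback.fst f (g i))).obj F)
  exact flc_of_iso ((asIso ((tau (pullback.snd f (g i))).app _)).symm ≪≫ e.app F) h2

section Translate

theorem flc_const (X : Scheme.{u}) (M : Type) [AddCommGroup M] [Finite M] :
    EtCoh.IsFiniteLocallyConstant (EtCoh.const X M) :=
  ⟨PUnit.{u+1}, fun _ => EtCoh.top X, fun x => ⟨PUnit.unit, x, rfl⟩,
    fun _ => ⟨M, inferInstance, inferInstance, ⟨(kappa (EtCoh.top X)).app _⟩⟩⟩

variable {X : Scheme.{u}} (U : X.Etale)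

/-- `(U.left → U.left → X) ≅ U`. -/
noncomputable def e₀ : (EtShriek.compEtale U.hom).obj (EtCoh.top U.left) ≅ U :=
  MorphismProperty.Over.isoMk (Iso.refl _) (by
    show 𝟙 _ ≫ U.hom = 𝟙 _ ≫ U.hom
    rfl)

/-- The two descriptions of `j_! M` agree. -/
noncomputable def transIso :
    constantSheaf (X.smallEtaleTopology.over U) AddCommGrpCat.{u+1} ⋙ EtPBC.extZero U ≅
    constantSheaf U.left.smallEtaleTopology AddCommGrpCat.{u+1} ⋙ EtShriek.extZero U.hom :=
  Adjunction.leftAdjointUniq
    ((constantSheafAdj (X.smallEtaleTopology.over U) AddCommGrpCat.{u+1} Over.mkIdTerminal).comp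
      (EtPBC.extZeroAdj U))
    (((constantSheafAdj U.left.smallEtaleTopology AddCommGrpCat.{u+1}
      (EtCore.topIsTerminal U.left)).comp (EtShriek.extZeroAdj U.hom)).ofNatIsoRight
      (NatIso.ofComponents (fun G => G.obj.mapIso (e₀ U).symm.op) (by
        intro G G' φ
        exact (φ.hom.naturality (e₀ U).symm.op.hom).symm)))

theorem S0133 (X : Scheme.{u}) [CompactSpace X] [QuasiSeparatedSpace X]
    (U : X.Etale) [CompactSpace U.left] [QuasiSeparatedSpace U.left]
    (M : Type) [AddCommGroup M] [Finite M] :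
    EtPBC.IsConstructible (EtPBC.extZeroConst U M) :=
  constructible_of_iso ((transIso U).app (AddCommGrpCat.of (ULift.{u + 1} M))).symm
    (S13505 (U := U.left) (X := X) U.hom (EtCoh.const U.left M) (flc_const U.left M))

end Translate

end Helper15.FinEtShriek
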