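import Mathlib
import Groth.Agent.Lib.Helper15.FinEtShriek
import Groth.Agent.Lib.Helper15.Constr4
import Groth.Agent.Lib.Helper15.ExtFlc2

/-!
# Helper15: generators `j_! ℤ/n` of sheaves of `ℤ/n`-modules on the small etale site (part A)
-/

set_option autoImplicit false
set_option backward.isDefEq.respectTransparency false
universe u
open CategoryTheory CategoryTheory.Limits AlgebraicGeometry Opposite Topology

namespace Helper15.ConstrGen

open Helper15.Constr

variable {X : Scheme.{u}}

section KilledBy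

theorem ev_nsmul (n : ℕ) (G : EtCoh.Ab X) (V : X.Etale) (s : G.obj.obj (op V)) :
    ((n • 𝟙 G : G ⟶ G).hom.app (op V)).hom s = n • s := by
  obtain ⟨ev, hev⟩ : ∃ ev : (G ⟶ G) →+ (G.obj.obj (op V) →+ G.obj.obj (op V)),
      ∀ α : G ⟶ G, ev α = (α.hom.app (op V)).hom :=
    ⟨AddMonoidHom.mk' (fun α => (α.hom.app (op V)).hom) (fun a b => rfl), fun _ => rfl⟩
  have h1 : ev (n • 𝟙 G) = n • ev (𝟙 G) := map_nsmul ev n (𝟙 G)
  rw [hev, hev] at h1
  have h2 := DFunLike.congr_fun h1 s
  refine h2.trans ?_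
  rfl

theorem killedBy_of_nsmul_id (n : ℕ) (G : EtCoh.Ab X) (h : n • 𝟙 G = 0) : EtCoh.KilledBy n G := by
  intro V s
  have h1 := ev_nsmul n G V s
  rw [h] at h1
  exact h1.symm.trans rfl

theorem nsmul_id_of_killedBy (n : ℕ) (G : EtCoh.Ab X) (h : EtCoh.KilledBy n G) : n • 𝟙 G = 0 := by
  apply Sheaf.hom_ext
  ext V s
  exact (ev_nsmul n G V.unop s).trans (h V.unop s)

theorem killedBy_of_iso (n : ℕ) {G G' : EtCoh.Ab X} (e : G ≅ G') (h : EtCoh.KilledBy n G) :
    EtCoh.KilledBy n G' := by
  apply killedBy_of_nsmul_id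
  have h0 := nsmul_id_of_killedBy n G h
  calc n • 𝟙 G' = e.inv ≫ (n • 𝟙 G) ≫ e.hom := by
        rw [Preadditive.nsmul_comp, Preadditive.comp_nsmul, Category.id_comp, e.inv_hom_id]
    _ = 0 := by rw [h0, zero_comp, comp_zero]

theorem killedBy_biproduct (n : ℕ) {J : Type*} (f : J → EtCoh.Ab X) [HasBiproduct f]
    (h : ∀ j, EtCoh.KilledBy n (f j)) : EtCoh.KilledBy n (⨁ f) := by
  apply killedBy_of_nsmul_id
  apply biproduct.hom_ext'
  intro j
  rw [Preadditive.comp_nsmul, Category.comp_id, comp_zero]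
  have h0 := nsmul_id_of_killedBy n (f j) (h j)
  calc n • biproduct.ι f j = (n • 𝟙 (f j)) ≫ biproduct.ι f j := by
        rw [Preadditive.nsmul_comp, Category.id_comp]
    _ = 0 := by rw [h0, zero_comp]

instance overPullback_additive (U : X.Etale) :
    (X.smallEtaleTopology.overPullback AddCommGrpCat.{u+1} U).Additive where

instance extZero_additive (U : X.Etale) : (EtPBC.extZero U).Additive :=
  (EtPBC.extZeroAdj U).left_adjoint_additive

theorem killedBy_extZeroConst (U : X.Etale) (n : ℕ) :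
    EtCoh.KilledBy n (EtPBC.extZeroConst U (ZMod n)) := by
  apply killedBy_of_nsmul_id
  have h0 : n • 𝟙 (AddCommGrpCat.of (ULift.{u+1} (ZMod n))) = 0 := by
    apply AddCommGrpCat.hom_ext
    apply AddMonoidHom.ext
    intro x
    have h : (AddCommGrpCat.Hom.hom (n • 𝟙 (AddCommGrpCat.of (ULift.{u+1} (ZMod n))))) x =
        n • x := by
      simp
    rw [h]
    apply ULift.ext
    show n • x.down = 0
    rw [nsmul_eq_mul, ZMod.natCast_self, zero_mul]
  show n • 𝟙 ((constantSheaf (X.smallEtaleTopology.over U) AddCommGrpCat.{u+1} ⋙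
    EtPBC.extZero U).obj (AddCommGrpCat.of (ULift.{u+1} (ZMod n)))) = 0
  rw [← CategoryTheory.Functor.map_id, ← Functor.map_nsmul, h0, Functor.map_zero]

end KilledBy

section Constr

theorem flc_of_isZero (G : EtCoh.Ab X) (h : IsZero G) : EtCoh.IsFiniteLocallyConstant G := by
  have h0 : IsZero (EtCoh.const X PUnit) := by
    have hz : IsZero (AddCommGrpCat.of (ULift.{u+1} PUnit)) := by
      haveI : Subsingleton (ULift.{u+1} PUnit) := inferInstance
      exact AddCommGrpCat.isZero_of_subsingleton _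
    exact (constantSheaf X.smallEtaleTopology AddCommGrpCat.{u+1}).map_isZero hz
  exact flc_of_iso (h0.iso h) (Helper15.FinEtShriek.flc_const X PUnit)

theorem constructible_of_flc (G : EtCoh.Ab X) (h : EtCoh.IsFiniteLocallyConstant G) :
    EtPBC.IsConstructible G := by
  intro U hU
  refine adapted_of_adapted' ⟨Unit, inferInstance, fun _ => U.toScheme, fun _ => U.ι,
    fun _ => inferInstance, fun _ => ?_, fun i j hij => (hij (Subsingleton.elim i j)).elim,
    ?_, fun _ => Helper15.BcOver.flc_pull U.ι G h⟩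
  · unfold CIn
    rw [Scheme.Opens.range_ι]
    have : (Subtype.val : ↥(U : Set X) → X) ⁻¹' (U : Set X) = Set.univ := by
      ext x; simp
    rw [this]
    exact IsConstructible.univ
  · rw [Set.iUnion_const, Scheme.Opens.range_ι]

theorem constructible_of_isZero (G : EtCoh.Ab X) (h : IsZero G) : EtPBC.IsConstructible G :=
  constructible_of_flc G (flc_of_isZero G h)

/-- The splitting of a finite biproduct into its first summand and the rest. -/
theorem constructible_biproduct_fin (n : ℕ) (hn : 0 < n) :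
    ∀ (b : ℕ) (f : Fin b → EtCoh.Ab X), (∀ i, EtPBC.IsConstructible (f i)) →
      (∀ i, EtCoh.KilledBy n (f i)) → EtPBC.IsConstructible (⨁ f) := by
  intro b
  induction b with
  | zero =>
    intro f _ _
    apply constructible_of_isZero
    rw [IsZero.iff_id_eq_zero]
    apply biproduct.hom_ext'
    intro j
    exact j.elim0
  | succ b ih =>
    intro f hc hk
    obtain ⟨q, hq⟩ : ∃ q : (⨁ f) ⟶ ⨁ (fun k : Fin b => f k.succ),
        ∀ i, biproduct.ι f i ≫ q = Fin.cases (motive := fun i => f i ⟶ ⨁ (fun k : Fin b => f k.succ))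
          0 (fun k => biproduct.ι (fun k : Fin b => f k.succ) k) i :=
      ⟨biproduct.desc (fun i => Fin.cases (motive := fun i => f i ⟶ ⨁ (fun k : Fin b => f k.succ))
          0 (fun k => biproduct.ι (fun k : Fin b => f k.succ) k) i),
        fun i => biproduct.ι_desc _ _⟩
    have hq0 : biproduct.ι f 0 ≫ q = 0 := hq 0
    have hqs : ∀ k : Fin b, biproduct.ι f k.succ ≫ q = biproduct.ι (fun k : Fin b => f k.succ) k :=
      fun k => hq k.succ
    obtain ⟨S, hS⟩ : ∃ S : ShortComplex (EtCoh.Ab X),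
        S = ShortComplex.mk (biproduct.ι f 0) q hq0 := ⟨_, rfl⟩
    have spl : S.Splitting := by
      rw [hS]
      refine ⟨biproduct.π f 0, biproduct.desc (fun k : Fin b => biproduct.ι f k.succ), ?_, ?_, ?_⟩
      · exact biproduct.ι_π_self f 0
      · apply biproduct.hom_ext'
        intro k
        show biproduct.ι (fun k : Fin b => f k.succ) k ≫
            biproduct.desc (fun k : Fin b => biproduct.ι f k.succ) ≫ q =
          biproduct.ι (fun k : Fin b => f k.succ) k ≫ 𝟙 _
        rw [biproduct.ι_desc_assoc, hqs, Category.comp_id]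
      · apply biproduct.hom_ext'
        intro i
        show biproduct.ι f i ≫ (biproduct.π f 0 ≫ biproduct.ι f 0 +
          q ≫ biproduct.desc (fun k : Fin b => biproduct.ι f k.succ)) = biproduct.ι f i ≫ 𝟙 _
        rw [Preadditive.comp_add, Category.comp_id]
        refine Fin.cases ?_ (fun k => ?_) i
        · rw [biproduct.ι_π_self_assoc, reassoc_of% hq0, zero_comp, add_zero]
        · rw [biproduct.ι_π_ne_assoc f (Fin.succ_ne_zero k), zero_comp, zero_add,
            reassoc_of% (hqs k), biproduct.ι_desc]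
    have hS2 : EtCoh.KilledBy n S.X₂ := by
      rw [hS]; exact killedBy_biproduct n f hk
    have h1 : EtPBC.IsConstructible S.X₁ := by rw [hS]; exact hc 0
    have h3 : EtPBC.IsConstructible S.X₃ := by
      rw [hS]; exact ih (fun k => f k.succ) (fun k => hc k.succ) (fun k => hk k.succ)
    have := S0132 S spl.shortExact n hn hS2 h1 h3
    rw [hS] at this
    exact this

theorem constructible_biproduct (n : ℕ) (hn : 0 < n) {J : Type} [Finite J] (f : J → EtCoh.Ab X)
    (hc : ∀ j, EtPBC.IsConstructible (f j)) (hk : ∀ j, EtCoh.KilledBy n (f j)) :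
    EtPBC.IsConstructible (⨁ f) := by
  obtain ⟨b, ⟨e⟩⟩ := Finite.exists_equiv_fin J
  have h1 := constructible_biproduct_fin n hn b (f ∘ e.symm) (fun i => hc _) (fun i => hk _)
  exact constructible_of_iso (biproduct.reindex e.symm f) h1

end Constr

section Phi

variable (U : X.Etale)

/-- The composite adjunction `M ↦ j_! M` versus `G ↦ G(U)`. -/
noncomputable def adjU :
    constantSheaf (X.smallEtaleTopology.over U) AddCommGrpCat.{u+1} ⋙ EtPBC.extZero U ⊣
    X.smallEtaleTopology.overPullback AddCommGrpCat.{u+1} U ⋙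
      (sheafSections (X.smallEtaleTopology.over U) AddCommGrpCat.{u+1}).obj
        (op (Over.mk (𝟙 U))) :=
  (constantSheafAdj (X.smallEtaleTopology.over U) AddCommGrpCat.{u+1} Over.mkIdTerminal).comp
    (EtPBC.extZeroAdj U)

/-- The homomorphism `ℤ/n → F(U)` attached to an `n`-torsion section. -/
noncomputable def secHom (n : ℕ) (F : EtCoh.Ab X) (s : F.obj.obj (op U)) (hs : n • s = 0) :
    AddCommGrpCat.of (ULift.{u+1} (ZMod n)) ⟶ AddCommGrpCat.of (F.obj.obj (op U)) :=
  AddCommGrpCat.ofHom ((ZMod.lift n ⟨zmultiplesHom _ s, by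
    show (n : ℤ) • s = 0
    rw [natCast_zsmul]; exact hs⟩).comp AddEquiv.ulift.toAddMonoidHom)

lemma secHom_one (n : ℕ) (F : EtCoh.Ab X) (s : F.obj.obj (op U)) (hs : n • s = 0) :
    (secHom U n F s hs) (ULift.up 1) = s := by
  simp only [secHom, AddCommGrpCat.hom_ofHom, AddMonoidHom.coe_comp, Function.comp_apply]
  show (ZMod.lift n _) (1 : ZMod n) = s
  have h1 : ((1 : ℤ) : ZMod n) = 1 := Int.cast_one
  rw [← h1, ZMod.lift_coe]
  show (1 : ℤ) • s = s
  exact one_zsmul s

/-- The morphism `j_! ℤ/n ⟶ F` attached to an `n`-torsion section of `F` over `U`. -/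
noncomputable def phi (n : ℕ) (F : EtCoh.Ab X) (s : F.obj.obj (op U)) (hs : n • s = 0) :
    EtPBC.extZeroConst U (ZMod n) ⟶ F :=
  ((adjU U).homEquiv (AddCommGrpCat.of (ULift.{u+1} (ZMod n))) F).symm (secHom U n F s hs)

theorem phi_spec (n : ℕ) (F : EtCoh.Ab X) (s : F.obj.obj (op U)) (hs : n • s = 0) :
    ∃ e : (EtPBC.extZeroConst U (ZMod n)).obj.obj (op U),
      (phi U n F s hs).hom.app (op U) e = s := by
  refine ⟨((adjU U).unit.app (AddCommGrpCat.of (ULift.{u+1} (ZMod n)))) (ULift.up 1), ?_⟩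
  have h1 : (adjU U).homEquiv _ F (phi U n F s hs) = secHom U n F s hs :=
    Equiv.apply_symm_apply _ _
  rw [Adjunction.homEquiv_unit] at h1
  have h2 := ConcreteCategory.congr_hom h1 (ULift.up 1)
  exact h2.trans (secHom_one U n F s hs)

end Phi

end Helper15.ConstrGen
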