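import Mathlib
import Groth.Agent.Lib.Helper15.SpecArrow

/-!
# Helper15: specialization arrows without quasi-separatedness
-/

set_option autoImplicit false
set_option backward.isDefEq.respectTransparency false

universe u

open CategoryTheory CategoryTheory.Limits AlgebraicGeometry Opposite Topology

namespace Helper15.SpecArrow

open Helper15.LcStruct

section

variable {X : Scheme.{u}} {Ω Ω' : Type u} [Field Ω] [IsSepClosed Ω] [Field Ω'] [IsSepClosed Ω']
  (ξ : Spec (CommRingCat.of Ω) ⟶ X) (ε : Spec (CommRingCat.of Ω') ⟶ X)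
  (W : X.Etale) (w : (Scheme.pointSmallEtale ξ).fiber.obj W)
  (e : (Scheme.pointSmallEtale ε).fiber.obj W)

theorem finite_fiber_affine (U : X.Etale) [IsAffine U.left] (X₀ : X.Opens)
    (hX₀ : IsAffineOpen X₀) (hU : Set.range U.hom.base ⊆ (X₀ : Set X)) :
    Finite ((Scheme.pointSmallEtale ε).fiber.obj U) := by
  by_cases hne : Nonempty ((Scheme.pointSmallEtale ε).fiber.obj U)
  · obtain ⟨v₀⟩ := hne
    haveI : Etale U.hom := U.prop
    haveI : IsAffine X₀.toScheme := hX₀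
    obtain ⟨j, hj⟩ : ∃ j : U.left ⟶ X₀.toScheme, j ≫ X₀.ι = U.hom :=
      ⟨IsOpenImmersion.lift X₀.ι U.hom (by rw [Scheme.Opens.range_ι]; exact hU),
        IsOpenImmersion.lift_fac _ _ _⟩
    haveI : Etale j := MorphismProperty.of_postcomp (W := @Etale) (W' := @Etale) j X₀.ι
      inferInstance (by rw [hj]; infer_instance)
    obtain ⟨vl₀, hvl₀⟩ : ∃ vl₀ : Spec (CommRingCat.of Ω') ⟶ U.left, vl₀ = v₀.left := ⟨_, rfl⟩
    have hv₀ : vl₀ ≫ U.hom = ε := hvl₀ ▸ Over.w v₀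
    haveI : CompactSpace (Scheme.Etale.mk j).left := (inferInstance : CompactSpace U.left)
    haveI := finite_fiber_of_compact (vl₀ ≫ j) (Scheme.Etale.mk j)
    obtain ⟨Φ, hΦ⟩ : ∃ Φ : (Scheme.pointSmallEtale ε).fiber.obj U →
        (Scheme.pointSmallEtale (vl₀ ≫ j)).fiber.obj (Scheme.Etale.mk j),
        ∀ v, (Φ v).left = v.left := by
      refine ⟨fun v => Over.homMk v.left ?_, fun v => rfl⟩
      obtain ⟨vl, hvl⟩ : ∃ vl : Spec (CommRingCat.of Ω') ⟶ U.left, vl = v.left := ⟨_, rfl⟩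
      have hv : vl ≫ U.hom = ε := hvl ▸ Over.w v
      show v.left ≫ j = vl₀ ≫ j
      rw [← hvl, ← cancel_mono X₀.ι, Category.assoc, Category.assoc, hj, hv, hv₀]
    refine Finite.of_injective Φ ?_
    intro v v' h
    apply Over.OverMorphism.ext
    rw [← hΦ v, ← hΦ v', h]
  · haveI : IsEmpty ((Scheme.pointSmallEtale ε).fiber.obj U) := not_nonempty_iff.1 hne
    infer_instance

theorem cand_finite' (p : (Scheme.pointSmallEtale ξ).fiber.Elements) :
    (cand ξ ε W w e p).Finite := by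
  obtain ⟨U, u⟩ := p
  obtain ⟨X₀, hX₀, hxX₀, -⟩ :=
    exists_isAffineOpen_mem_and_subset (x := U.hom.base (pt ξ u)) (U := ⊤) trivial
  have hmem : pt ξ u ∈ (U.hom ⁻¹ᵁ X₀ : U.left.Opens) := hxX₀
  obtain ⟨A, hA, hxA, hAsub⟩ :=
    exists_isAffineOpen_mem_and_subset (x := pt ξ u) (U := U.hom ⁻¹ᵁ X₀) hmem
  haveI : Etale U.hom := U.prop
  haveI : IsAffine (Scheme.Etale.mk (A.ι ≫ U.hom)).left := hA
  haveI := finite_fiber_affine ε (Scheme.Etale.mk (A.ι ≫ U.hom)) X₀ hX₀ (by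
    rintro _ ⟨a, rfl⟩
    exact hAsub a.2)
  refine (Set.finite_range ((Scheme.pointSmallEtale ε).fiber.map
    (MorphismProperty.Over.homMk A.ι rfl trivial : Scheme.Etale.mk (A.ι ≫ U.hom) ⟶ U))).subset ?_
  rintro v ⟨Y, y, y', a, b, h1, h2, h3, h4, h5⟩
  have hvA : pt ε v ∈ (A : Set U.left) := by
    have h6 : pt ε v ⤳ pt ξ u := by
      have h2' : (Scheme.pointSmallEtale ξ).fiber.map a y = u := h2
      rw [← h4, ← h2']
      exact h1.map a.left.continuous
    exact h6.mem_open A.isOpen hxA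
  obtain ⟨vl, hvl⟩ : ∃ vl : Spec (CommRingCat.of Ω') ⟶ U.left, vl = v.left := ⟨v.left, rfl⟩
  have hvU : vl ≫ U.hom = ε := hvl ▸ Over.w v
  have hsubA : Set.range vl.base ⊆ Set.range A.ι.base := by
    rintro _ ⟨t, rfl⟩
    rw [Subsingleton.elim t default, Scheme.Opens.range_ι, ← pt_eq ε v vl hvl]
    exact hvA
  obtain ⟨l, hl⟩ : ∃ l : Spec (CommRingCat.of Ω') ⟶ A.toScheme, l ≫ A.ι = vl :=
    ⟨IsOpenImmersion.lift A.ι vl hsubA, IsOpenImmersion.lift_fac _ _ _⟩
  refine ⟨Over.homMk l (by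
    show l ≫ (A.ι ≫ U.hom) = ε
    rw [← Category.assoc, hl, hvU]), ?_⟩
  apply Over.OverMorphism.ext
  show l ≫ A.ι = v.left
  rw [hl, hvl]

theorem exists_point_hom' (h : pt ε e ⤳ pt ξ w) :
    ∃ φ : Scheme.pointSmallEtale ε ⟶ Scheme.pointSmallEtale ξ,
      φ.hom.app W w = e ∧ ∀ (U : X.Etale) (u : (Scheme.pointSmallEtale ξ).fiber.obj U),
        pt ε (φ.hom.app U u) ⤳ pt ξ u := by
  haveI : ∀ p, Finite ((candSub ξ ε W w e).toFunctor.obj p) :=
    fun p => (cand_finite' ξ ε W w e p).to_subtype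
  haveI : ∀ p, Nonempty ((candSub ξ ε W w e).toFunctor.obj p) :=
    fun p => (cand_nonempty ξ ε W w e h p).to_subtype
  obtain ⟨s, hs⟩ := nonempty_sections_of_finite_cofiltered_system (candSub ξ ε W w e).toFunctor
  have hnat : ∀ {U U' : X.Etale} (g : U ⟶ U') (u : (Scheme.pointSmallEtale ξ).fiber.obj U),
      (Scheme.pointSmallEtale ε).fiber.map g (s ⟨U, u⟩).1 =
        (s ⟨U', (Scheme.pointSmallEtale ξ).fiber.map g u⟩).1 := by
    intro U U' g u
    have := hs (CategoryOfElements.homMk ((Scheme.pointSmallEtale ξ).fiber.elementsMk U u)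
      ((Scheme.pointSmallEtale ξ).fiber.elementsMk U' ((Scheme.pointSmallEtale ξ).fiber.map g u))
      g rfl)
    exact congrArg Subtype.val this
  refine ⟨GrothendieckTopology.Point.Hom.mk
    { app := fun U => ↾(fun u => (s ⟨U, u⟩).1)
      naturality := ?_ }, ?_, ?_⟩
  · intro U U' g
    apply ConcreteCategory.hom_ext
    intro u
    exact (hnat g u).symm
  · obtain ⟨Y, y, y', a, b, h1, h2, h3, h4, h5⟩ := (s ⟨W, w⟩).2
    have h2' : (Scheme.pointSmallEtale ξ).fiber.map a y = w := h2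
    have := map_eq_of_specializes ξ ε a b y y' h1 (h2'.trans h3.symm)
    show (s ⟨W, w⟩).1 = e
    rw [← h4, this, h5]
  · intro U u
    obtain ⟨Y, y, y', a, b, h1, h2, h3, h4, h5⟩ := (s ⟨U, u⟩).2
    have h2' : (Scheme.pointSmallEtale ξ).fiber.map a y = u := h2
    show pt ε (s ⟨U, u⟩).1 ⤳ pt ξ u
    rw [← h4, ← h2']
    exact h1.map a.left.continuous

end

end Helper15.SpecArrow
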