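import Mathlib
import Groth.Agent.Lib.Helper15.SpecArrow

/-!
# Helper15: injective specialization maps imply constructibility (S3115)
-/

set_option autoImplicit false
set_option backward.isDefEq.respectTransparency false

universe u

open CategoryTheory CategoryTheory.Limits AlgebraicGeometry Opposite Topology

namespace Helper15.Constr

open Helper15.LcStruct Helper15.SpecArrow Groth.Agent.Lib.Helper13.StalkPull

/-- the specialization map evaluated on a germ -/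
theorem sheafFiber_germ {X : Scheme.{u}} {Ω Ω' : Type u} [Field Ω] [IsSepClosed Ω] [Field Ω']
    [IsSepClosed Ω'] {ξ : Spec (CommRingCat.of Ω) ⟶ X} {ε : Spec (CommRingCat.of Ω') ⟶ X}
    (φ : Scheme.pointSmallEtale ε ⟶ Scheme.pointSmallEtale ξ) (F : EtCoh.Ab X) (W : X.Etale)
    (z : (Scheme.pointSmallEtale ξ).fiber.obj W) (s : F.obj.obj (op W)) :
    ((GrothendieckTopology.Point.Hom.sheafFiber (A := AddCommGrpCat.{u + 1}) φ).app F)
      ((Scheme.pointSmallEtale ξ).toPresheafFiber W z F.obj s) =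
      (Scheme.pointSmallEtale ε).toPresheafFiber W (φ.hom.app W z) F.obj s := by
  have h1 : (Scheme.pointSmallEtale ξ).toPresheafFiber W z F.obj ≫
      ((GrothendieckTopology.Point.Hom.sheafFiber (A := AddCommGrpCat.{u + 1}) φ).app F) =
      (Scheme.pointSmallEtale ε).toPresheafFiber W (φ.hom.app W z) F.obj := by
    show (Scheme.pointSmallEtale ξ).toPresheafFiber W z F.obj ≫
      (GrothendieckTopology.Point.Hom.presheafFiber (A := AddCommGrpCat.{u + 1}) φ).app F.obj = _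
    rw [GrothendieckTopology.Point.Hom.presheafFiber_app]
    exact (Scheme.pointSmallEtale ξ).toPresheafFiber_presheafFiberDesc _ _ W z
  exact ConcreteCategory.congr_hom h1 s

theorem constructible_of_local_card {X : Scheme.{u}} [IsLocallyNoetherian X] (F : EtCoh.Ab X)
    (hfin : ∀ (Ω : Type u) [Field Ω] [IsSepClosed Ω] (ξ : Spec (CommRingCat.of Ω) ⟶ X),
      Finite ((EtCoh.stalk ξ).obj F))
    (h : ∀ x : X, ∃ (n : ℕ) (O₀ : Set X), IsOpen O₀ ∧ x ∈ O₀ ∧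
      O₀ ∩ closure {x} ⊆ cardSet F n) :
    EtPBC.IsConstructible F := by
  refine (S8527 F).2 ?_
  intro x
  obtain ⟨n, O₀, hO₀, hxO₀, hsub⟩ := h x
  obtain ⟨C, g, hg, hrange0⟩ := exists_immersion_range_diff (⟨O₀, hO₀⟩ : X.Opens)
    (closure {x})ᶜ isClosed_closure.isOpen_compl
  haveI := hg
  have hrange : Set.range g.base = O₀ ∩ closure {x} := by
    have : Set.range g.base = O₀ \ (closure {x})ᶜ := hrange0
    rw [this]
    ext y; simp
  haveI : IsLocallyNoetherian C := LocallyOfFiniteType.isLocallyNoetherian g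
  have hxr : x ∈ Set.range g.base := by rw [hrange]; exact ⟨hxO₀, subset_closure rfl⟩
  obtain ⟨c₀, hc₀x⟩ := hxr
  have hmem : ∀ q : C, g.base q ∈ O₀ ∩ closure ({x} : Set X) := fun q => by
    have : g.base q ∈ Set.range g.base := ⟨q, rfl⟩
    rw [hrange] at this; exact this
  have hc₀ : ∀ u : Set C, IsOpen u → u.Nonempty → c₀ ∈ u := by
    rintro u hu ⟨q, hq⟩
    obtain ⟨u', hu', rfl⟩ := g.isEmbedding.isInducing.isOpen_iff.1 hu
    have hx : x ∈ u' := (specializes_iff_mem_closure.2 (hmem q).2).mem_open hu' hq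
    show g.base c₀ ∈ u'
    rw [hc₀x]; exact hx
  haveI : IrreducibleSpace C :=
    { isPreirreducible_univ := fun u v hu hv ⟨a, _, ha⟩ ⟨b, _, hb⟩ =>
        ⟨c₀, trivial, hc₀ u hu ⟨a, ha⟩, hc₀ v hv ⟨b, hb⟩⟩
      toNonempty := ⟨c₀⟩ }
  have hfinC : ∀ (Ω : Type u) [Field Ω] [IsSepClosed Ω] (ζ : Spec (CommRingCat.of Ω) ⟶ C),
      Finite ((EtCoh.stalk ζ).obj ((EtCoh.pull g).obj F)) := by
    intro Ω _ _ ζ
    haveI := hfin Ω (ζ ≫ g)
    exact Finite.of_equiv _ ((stalkPullIso g ζ).app F).addCommGroupIsoToAddEquiv.symm.toEquiv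
  obtain ⟨O, hOne, hO⟩ := generic_flc ((EtCoh.pull g).obj F) hfinC n
    (fun t => (cardSet_pull_iff g F _ t).1 (hsub (hmem t)))
  obtain ⟨V'', hV''o, hV''⟩ := g.isEmbedding.isInducing.isOpen_iff.1 O.isOpen
  have hr : Set.range (O.ι ≫ g).base = V'' ∩ Set.range g.base := by
    ext p
    constructor
    · rintro ⟨q, rfl⟩
      refine ⟨?_, ⟨O.ι.base q, rfl⟩⟩
      have hq : O.ι.base q ∈ g.base ⁻¹' V'' := by rw [hV'']; exact q.2
      exact hq
    · rintro ⟨hp, q, rfl⟩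
      have hq : q ∈ (O : Set C) := by rw [← hV'']; exact hp
      exact ⟨⟨q, hq⟩, rfl⟩
  have hxV'' : x ∈ V'' := by
    obtain ⟨q, hq⟩ := hOne
    have h1 : g.base q ∈ V'' := by
      have : q ∈ g.base ⁻¹' V'' := by rw [hV'']; exact hq
      exact this
    obtain ⟨_, h3, rfl⟩ := mem_closure_iff.1 (hmem q).2 V'' hV''o h1
    exact h3
  refine ⟨(⟨O₀, hO₀⟩ : X.Opens) ⊓ ⟨V'', hV''o⟩, O.toScheme, O.ι ≫ g, inferInstance,
    ⟨hxO₀, hxV''⟩, ?_, ?_⟩
  · rw [hr, hrange]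
    ext p
    simp only [Set.mem_inter_iff, TopologicalSpace.Opens.coe_inf, TopologicalSpace.Opens.coe_mk]
    tauto
  · exact flc_of_iso ((EtCore.pullComp O.ι g).app F).symm hO

theorem card_eq_near {X : Scheme.{u}} [IsLocallyNoetherian X] (F : EtCoh.Ab X)
    (hfin : ∀ (Ω : Type u) [Field Ω] [IsSepClosed Ω] (ξ : Spec (CommRingCat.of Ω) ⟶ X),
      Finite ((EtCoh.stalk ξ).obj F))
    (hmono : ∀ (Ω Ω' : Type u) [Field Ω] [IsSepClosed Ω] [Field Ω'] [IsSepClosed Ω']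
        (ξ : Spec (CommRingCat.of Ω) ⟶ X) (ξ' : Spec (CommRingCat.of Ω') ⟶ X)
        (φ : Scheme.pointSmallEtale ξ' ⟶ Scheme.pointSmallEtale ξ),
        Mono ((GrothendieckTopology.Point.Hom.sheafFiber (A := AddCommGrpCat.{u + 1}) φ).app F))
    {Ω₀ : Type u} [Field Ω₀] [IsSepClosed Ω₀] (ξ₀ : Spec (CommRingCat.of Ω₀) ⟶ X) :
    ∃ O : Set X, IsOpen O ∧ ξ₀.base default ∈ O ∧
      O ∩ closure {ξ₀.base default} ⊆ cardSet F (Nat.card ((EtCoh.stalk ξ₀).obj F)) := by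
  haveI := hfin Ω₀ ξ₀
  obtain ⟨W, w, c, hc⟩ := exists_additive_sections ξ₀ F
  haveI : Etale W.hom := W.prop
  haveI : LocallyQuasiFinite W.hom :=
    Groth.Agent.Lib.Helper16.locallyQuasiFinite_of_etale W.hom
  have hdisc := W.hom.isDiscrete_preimage_singleton (ξ₀.base default)
  obtain ⟨N, hNo, hN⟩ :=
    (isDiscrete_iff_forall_mem_exists_isOpen.1 hdisc) (pt ξ₀ w) (pt_hom ξ₀ w)
  have hwN : pt ξ₀ w ∈ N := by
    have : pt ξ₀ w ∈ N ∩ (W.hom ⁻¹' {ξ₀.base default}) := by rw [hN]; rfl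
    exact this.1
  refine ⟨W.hom.base '' N, W.hom.isOpenMap N hNo, ⟨pt ξ₀ w, hwN, pt_hom ξ₀ w⟩, ?_⟩
  rintro y ⟨⟨w', hw'N, rfl⟩, hycl⟩
  obtain ⟨Ω, iF, iS, ζ, hrζ⟩ := exists_geomPt (T := X) (W.hom.base w')
  have hbζ : ζ.base default = W.hom.base w' := base_default_of_range ζ hrζ
  refine ⟨Ω, iF, iS, ζ, hrζ, ?_⟩
  obtain ⟨z, hz⟩ := Scheme.pointSmallEtaleFiberObjToPreimage_surjective ζ hbζ W ⟨w', by simp⟩
  have hzpt : pt ζ z = w' := congrArg Subtype.val hz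
  have hspec : ξ₀.base default ⤳ ζ.base default := by
    rw [hbζ]; exact specializes_iff_mem_closure.2 hycl
  obtain ⟨φ, hφ⟩ := exists_point_hom_of_specializes ζ ξ₀ hspec
  obtain ⟨w'', hw''⟩ : ∃ w'' : (Scheme.pointSmallEtale ξ₀).fiber.obj W, w'' = φ.hom.app W z :=
    ⟨_, rfl⟩
  have hw''pt : pt ξ₀ w'' = pt ξ₀ w := by
    have h1 : pt ξ₀ w'' ⤳ w' := by rw [hw'', ← hzpt]; exact hφ W z
    have h2 : pt ξ₀ w'' ∈ N := h1.mem_open hNo hw'N
    have h3 : pt ξ₀ w'' ∈ N ∩ (W.hom ⁻¹' {ξ₀.base default}) := ⟨h2, pt_hom ξ₀ w''⟩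
    rw [hN] at h3
    exact h3
  have hinj : Function.Injective (fun m : (EtCoh.stalk ξ₀).obj F =>
      ((Scheme.pointSmallEtale ξ₀).toPresheafFiber W w'' F.obj (c m) :
        (EtCoh.stalk ξ₀).obj F)) := by
    intro m m' hmm
    obtain ⟨W', k, w''', hw''', hk⟩ :=
      ((Scheme.pointSmallEtale ξ₀).toPresheafFiber_eq_iff' W w'' (c m) (c m')).1 hmm
    obtain ⟨l, hl, -⟩ := exists_lift ξ₀ k w (pt ξ₀ w''')
      (by rw [← pt_map, hw''', hw''pt])
    have e1 := (Scheme.pointSmallEtale ξ₀).toPresheafFiber_w_apply k l F.obj (c m)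
    have e2 := (Scheme.pointSmallEtale ξ₀).toPresheafFiber_w_apply k l F.obj (c m')
    rw [hl, hc] at e1 e2
    calc m = _ := e1.symm
      _ = _ := by rw [hk]
      _ = m' := e2
  have hbij := @Function.Injective.bijective_of_nat_card_le _ _ (hfin Ω₀ ξ₀) _ hinj le_rfl
  obtain ⟨sp, hsp⟩ : ∃ sp : (EtCoh.stalk ζ).obj F ⟶ (EtCoh.stalk ξ₀).obj F,
      sp = (GrothendieckTopology.Point.Hom.sheafFiber (A := AddCommGrpCat.{u + 1}) φ).app F :=
    ⟨_, rfl⟩
  have hspg : ∀ s : F.obj.obj (op W),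
      sp ((Scheme.pointSmallEtale ζ).toPresheafFiber W z F.obj s) =
        (Scheme.pointSmallEtale ξ₀).toPresheafFiber W w'' F.obj s := by
    intro s
    rw [hsp, hw'']
    exact sheafFiber_germ φ F W z s
  have hsurj : Function.Surjective sp := by
    intro m
    obtain ⟨a, ha⟩ := hbij.2 m
    exact ⟨(Scheme.pointSmallEtale ζ).toPresheafFiber W z F.obj (c a), by rw [hspg]; exact ha⟩
  have hinjsp : Function.Injective sp := by
    haveI := hmono Ω Ω₀ ζ ξ₀ φ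
    rw [hsp]
    exact (AddCommGrpCat.mono_iff_injective _).1 inferInstance
  exact Nat.card_congr (Equiv.ofBijective sp ⟨hinjsp, hsurj⟩)

theorem S3115 (X : Scheme.{u}) [IsLocallyNoetherian X] (F : EtCoh.Ab X)
    (hfin : ∀ (Ω : Type u) [Field Ω] [IsSepClosed Ω] (ξ : Spec (CommRingCat.of Ω) ⟶ X),
      Finite ((EtCoh.stalk ξ).obj F))
    (hmono : ∀ (Ω Ω' : Type u) [Field Ω] [IsSepClosed Ω] [Field Ω'] [IsSepClosed Ω']
        (ξ : Spec (CommRingCat.of Ω) ⟶ X) (ξ' : Spec (CommRingCat.of Ω') ⟶ X)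
        (φ : Scheme.pointSmallEtale ξ' ⟶ Scheme.pointSmallEtale ξ),
        Mono ((GrothendieckTopology.Point.Hom.sheafFiber (A := AddCommGrpCat.{u + 1}) φ).app F)) :
    EtPBC.IsConstructible F := by
  refine constructible_of_local_card F hfin ?_
  intro x
  obtain ⟨Ω₀, iF, iS, ξ₀, hr⟩ := exists_geomPt x
  have hb : ξ₀.base default = x := base_default_of_range ξ₀ hr
  obtain ⟨O, hO, hxO, hsub⟩ := card_eq_near F hfin hmono ξ₀
  rw [hb] at hxO hsub
  exact ⟨_, O, hO, hxO, hsub⟩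

end Helper15.Constr
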