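import Mathlib
import Groth.Agent.Lib.Helper15.SpecConstr

/-!
# Helper15: finite locally constant iff all specialization maps are isomorphisms (S3114)
-/

set_option autoImplicit false
set_option backward.isDefEq.respectTransparency false

universe u

open CategoryTheory CategoryTheory.Limits AlgebraicGeometry Opposite Topology

namespace Helper15.Constr

open Helper15.LcStruct Helper15.SpecArrow Groth.Agent.Lib.Helper13.StalkPull

theorem exists_open_common_generization {T : Scheme.{u}} [IsLocallyNoetherian T] (t₀ : T) :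
    ∃ N : Set T, IsOpen N ∧ t₀ ∈ N ∧ ∀ t ∈ N, ∃ η : T, η ⤳ t ∧ η ⤳ t₀ := by
  obtain ⟨A, hA, htA, -⟩ := exists_isAffineOpen_mem_and_subset (x := t₀) (U := ⊤) trivial
  have : IsNoetherianRing Γ(T, A) := IsLocallyNoetherian.component_noetherian ⟨A, hA⟩
  have hN : TopologicalSpace.NoetherianSpace A := noetherianSpace_of_isAffineOpen A hA
  have hfin : (irreducibleComponents A).Finite :=
    TopologicalSpace.NoetherianSpace.finite_irreducibleComponents
  obtain ⟨B, hB⟩ : ∃ B : Set A,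
      B = ⋃₀ {Z ∈ irreducibleComponents A | (⟨t₀, htA⟩ : A) ∉ Z} := ⟨_, rfl⟩
  have hBc : IsClosed B := by
    rw [hB, Set.sUnion_eq_biUnion]
    exact Set.Finite.isClosed_biUnion (hfin.subset (fun Z hZ => hZ.1))
      (fun Z hZ => isClosed_of_mem_irreducibleComponents Z hZ.1)
  have ht₀B : (⟨t₀, htA⟩ : A) ∉ B := by
    rw [hB]; rintro ⟨Z, ⟨-, hZ⟩, h⟩; exact hZ h
  refine ⟨Subtype.val '' Bᶜ, A.isOpen.isOpenEmbedding_subtypeVal.isOpenMap _ hBc.isOpen_compl,
    ⟨⟨t₀, htA⟩, ht₀B, rfl⟩, ?_⟩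
  rintro _ ⟨a, haB, rfl⟩
  have hZmem : irreducibleComponent a ∈ irreducibleComponents A :=
    irreducibleComponent_mem_irreducibleComponents a
  have ht₀Z : (⟨t₀, htA⟩ : A) ∈ irreducibleComponent a := by
    by_contra hcon
    exact haB (by rw [hB]; exact ⟨_, ⟨hZmem, hcon⟩, mem_irreducibleComponent⟩)
  have hirrZ : IsIrreducible (Subtype.val '' (irreducibleComponent a) : Set T) :=
    isIrreducible_irreducibleComponent.image _ continuous_subtype_val.continuousOn
  have hirrC := hirrZ.closure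
  obtain ⟨γ, hγ⟩ : ∃ γ : T, closure ({γ} : Set T) =
      closure (Subtype.val '' (irreducibleComponent a)) :=
    ⟨_, isGenericPoint_def.mp (hirrC.isGenericPoint_genericPoint isClosed_closure)⟩
  refine ⟨γ, ?_, ?_⟩
  · rw [specializes_iff_mem_closure, hγ]
    exact subset_closure ⟨a, mem_irreducibleComponent, rfl⟩
  · rw [specializes_iff_mem_closure, hγ]
    exact subset_closure ⟨⟨t₀, htA⟩, ht₀Z, rfl⟩

theorem iso_of_flc {X : Scheme.{u}} (F : EtCoh.Ab X) (hF : EtCoh.IsFiniteLocallyConstant F)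
    {Ω Ω' : Type u} [Field Ω] [IsSepClosed Ω] [Field Ω'] [IsSepClosed Ω']
    (ξ : Spec (CommRingCat.of Ω) ⟶ X) (ξ' : Spec (CommRingCat.of Ω') ⟶ X)
    (φ : Scheme.pointSmallEtale ξ' ⟶ Scheme.pointSmallEtale ξ) :
    IsIso ((GrothendieckTopology.Point.Hom.sheafFiber (A := AddCommGrpCat.{u + 1}) φ).app F) := by
  obtain ⟨ι₁, U, hU, hc⟩ := hF
  obtain ⟨j, y, hy⟩ := hU (ξ.base default)
  obtain ⟨M, iM, fM, ⟨a⟩⟩ := hc j
  have a' : F.over (U j) ≅ (cst X (AddCommGrpCat.of (ULift.{u+1} M))).over (U j) :=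
    a ≪≫ ((kappa (U j)).app _).symm
  have kF := isConstVia_of_iso _ a'
  obtain ⟨u⟩ := fiber_nonempty_of_mem_range ξ (U j) ⟨y, hy⟩
  have b1 := stalk_germ_injective ξ F (U j) _ kF u
  have b2 := stalk_germ_surjective ξ F (U j) _ kF u
  have b1' := stalk_germ_injective ξ' F (U j) _ kF (φ.hom.app (U j) u)
  have b2' := stalk_germ_surjective ξ' F (U j) _ kF (φ.hom.app (U j) u)
  rw [ConcreteCategory.isIso_iff_bijective]
  constructor
  · intro p q hpq
    obtain ⟨m, rfl⟩ := b2 p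
    obtain ⟨m', rfl⟩ := b2 q
    have e1 := sheafFiber_germ φ F (U j) u (csOf _ a' m)
    have e2 := sheafFiber_germ φ F (U j) u (csOf _ a' m')
    have : m = m' := b1' (e1.symm.trans (hpq.trans e2))
    rw [this]
  · intro p
    obtain ⟨m, hm⟩ := b2' p
    exact ⟨_, (sheafFiber_germ φ F (U j) u (csOf _ a' m)).trans hm⟩

theorem flc_of_spec_iso {X : Scheme.{u}} [IsLocallyNoetherian X] (F : EtCoh.Ab X)
    (hfin : ∀ (Ω : Type u) [Field Ω] [IsSepClosed Ω] (ξ : Spec (CommRingCat.of Ω) ⟶ X),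
      Finite ((EtCoh.stalk ξ).obj F))
    (hiso : ∀ (Ω Ω' : Type u) [Field Ω] [IsSepClosed Ω] [Field Ω'] [IsSepClosed Ω']
        (ξ : Spec (CommRingCat.of Ω) ⟶ X) (ξ' : Spec (CommRingCat.of Ω') ⟶ X)
        (φ : Scheme.pointSmallEtale ξ' ⟶ Scheme.pointSmallEtale ξ),
        IsIso ((GrothendieckTopology.Point.Hom.sheafFiber (A := AddCommGrpCat.{u + 1}) φ).app F)) :
    EtCoh.IsFiniteLocallyConstant F := by
  have key : ∀ x : X, ∃ V : X.Etale, (∃ v : V.left, V.hom.base v = x) ∧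
      ∃ (M : Type) (_ : AddCommGroup M) (_ : Finite M), Nonempty (EtCoh.restr F V ≅
        (constantSheaf (X.smallEtaleTopology.over V) AddCommGrpCat.{u + 1}).obj
          (AddCommGrpCat.of (ULift.{u + 1} M))) := by
    intro x
    obtain ⟨Ω₀, iF₀, iS₀, ξ₀, hr₀⟩ := exists_geomPt x
    have hb₀ : ξ₀.base default = x := base_default_of_range ξ₀ hr₀
    haveI hfin₀ : Finite ((EtCoh.stalk ξ₀).obj F) := hfin Ω₀ ξ₀
    obtain ⟨W, w, c, hc⟩ := exists_additive_sections ξ₀ F
    haveI : Etale W.hom := W.prop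
    haveI : IsLocallyNoetherian W.left :=
      LocallyOfFiniteType.isLocallyNoetherian (Y := X) W.hom
    obtain ⟨N, hNo, hwN, hNgen⟩ := exists_open_common_generization (pt ξ₀ w)
    have hP : ∀ (Ω : Type u) [Field Ω] [IsSepClosed Ω] (ζ : Spec (CommRingCat.of Ω) ⟶ X)
        (z' : (Scheme.pointSmallEtale ζ).fiber.obj W), pt ζ z' ∈ N →
        Function.Bijective (fun m : (EtCoh.stalk ξ₀).obj F =>
          ((Scheme.pointSmallEtale ζ).toPresheafFiber W z' F.obj (c m) :
            (EtCoh.stalk ζ).obj F)) := by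
      intro Ω _ _ ζ z' hz'
      obtain ⟨η, hη1, hη2⟩ := hNgen _ hz'
      obtain ⟨Ωε, iFε, iSε, ε, hrε⟩ := exists_geomPt (T := X) (W.hom.base η)
      have hbε : ε.base default = W.hom.base η := base_default_of_range ε hrε
      obtain ⟨e, he⟩ :=
        Scheme.pointSmallEtaleFiberObjToPreimage_surjective ε hbε W ⟨η, by simp⟩
      have hept : pt ε e = η := congrArg Subtype.val he
      obtain ⟨φ₁, hφ₁, -⟩ := exists_point_hom ξ₀ ε W w e (by rw [hept]; exact hη2)
      obtain ⟨φ₂, hφ₂, -⟩ := exists_point_hom ζ ε W z' e (by rw [hept]; exact hη1)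
      have hsp₁ := (ConcreteCategory.isIso_iff_bijective _).1 (hiso Ω₀ Ωε ξ₀ ε φ₁)
      have hsp₂ := (ConcreteCategory.isIso_iff_bijective _).1 (hiso Ω Ωε ζ ε φ₂)
      have heq₁ : ∀ m : (EtCoh.stalk ξ₀).obj F,
          (Scheme.pointSmallEtale ε).toPresheafFiber W e F.obj (c m) =
          (GrothendieckTopology.Point.Hom.sheafFiber (A := AddCommGrpCat.{u + 1}) φ₁).app F m := by
        intro m
        have := sheafFiber_germ φ₁ F W w (c m)
        rw [hc m, hφ₁] at this
        exact this.symm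
      have heq₂ : ∀ m : (EtCoh.stalk ξ₀).obj F,
          (GrothendieckTopology.Point.Hom.sheafFiber (A := AddCommGrpCat.{u + 1}) φ₂).app F
            ((Scheme.pointSmallEtale ζ).toPresheafFiber W z' F.obj (c m)) =
          (Scheme.pointSmallEtale ε).toPresheafFiber W e F.obj (c m) := by
        intro m
        have := sheafFiber_germ φ₂ F W z' (c m)
        rw [hφ₂] at this
        exact this
      constructor
      · intro m m' hmm
        apply hsp₁.1
        rw [← heq₁, ← heq₁, ← heq₂, ← heq₂]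
        exact congrArg _ hmm
      · intro p
        obtain ⟨m, hm⟩ := hsp₁.2
          ((GrothendieckTopology.Point.Hom.sheafFiber (A := AddCommGrpCat.{u + 1}) φ₂).app F p)
        refine ⟨m, hsp₂.1 ?_⟩
        show (GrothendieckTopology.Point.Hom.sheafFiber (A := AddCommGrpCat.{u + 1}) φ₂).app F
          ((Scheme.pointSmallEtale ζ).toPresheafFiber W z' F.obj (c m)) = _
        rw [heq₂, heq₁, hm]
    obtain ⟨V, f, hVf⟩ : ∃ (V : X.Etale) (f : V ⟶ W), Set.range f.left.base = N := by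
      obtain ⟨No, hNoe⟩ : ∃ No : W.left.Opens, (No : Set W.left) = N := ⟨⟨N, hNo⟩, rfl⟩
      refine ⟨Scheme.Etale.mk (No.ι ≫ W.hom),
        MorphismProperty.Over.homMk No.ι rfl trivial, ?_⟩
      rw [← hNoe]
      exact Scheme.Opens.range_ι _
    obtain ⟨c', hc'⟩ : ∃ c' : ((EtCoh.stalk ξ₀).obj F) →+ F.obj.obj (op V),
        c' = (F.obj.map f.op).hom.comp c := ⟨_, rfl⟩
    have hgerm : ∀ (Ω : Type u) [Field Ω] [IsSepClosed Ω] (ζ : Spec (CommRingCat.of Ω) ⟶ X)
        (z'' : (Scheme.pointSmallEtale ζ).fiber.obj V),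
        Function.Bijective (fun m : (EtCoh.stalk ξ₀).obj F =>
          ((Scheme.pointSmallEtale ζ).toPresheafFiber V z'' F.obj (c' m) :
            (EtCoh.stalk ζ).obj F)) := by
      intro Ω _ _ ζ z''
      have hmem : pt ζ ((Scheme.pointSmallEtale ζ).fiber.map f z'') ∈ N := by
        rw [pt_map, ← hVf]; exact ⟨_, rfl⟩
      have hb := hP Ω ζ _ hmem
      have heq : ∀ m : (EtCoh.stalk ξ₀).obj F,
          (Scheme.pointSmallEtale ζ).toPresheafFiber V z'' F.obj (c' m) =
          (Scheme.pointSmallEtale ζ).toPresheafFiber W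
            ((Scheme.pointSmallEtale ζ).fiber.map f z'') F.obj (c m) := by
        intro m
        rw [hc']
        exact (Scheme.pointSmallEtale ζ).toPresheafFiber_w_apply f z'' F.obj (c m)
      constructor
      · intro m m' hmm
        apply hb.1
        show (Scheme.pointSmallEtale ζ).toPresheafFiber W _ F.obj (c m) =
          (Scheme.pointSmallEtale ζ).toPresheafFiber W _ F.obj (c m')
        rw [← heq, ← heq]
        exact hmm
      · intro p
        obtain ⟨m, hm⟩ := hb.2 p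
        exact ⟨m, (heq m).trans hm⟩
    have hinj : ∀ {Y : X.Etale} (k : Y ⟶ V) (m : (EtCoh.stalk ξ₀).obj F),
        (⊥ : Sieve Y) ∉ X.smallEtaleTopology Y → F.obj.map k.op (c' m) = 0 → m = 0 := by
      intro Y k m hY hm
      obtain ⟨y₁⟩ := nonempty_of_bot_not_mem Y hY
      obtain ⟨Ω, iF, iS, ζ, hr⟩ := exists_geomPt (T := X) (Y.hom.base y₁)
      have hb : ζ.base default = Y.hom.base y₁ := base_default_of_range ζ hr
      obtain ⟨y', -⟩ :=
        Scheme.pointSmallEtaleFiberObjToPreimage_surjective ζ hb Y ⟨y₁, by simp⟩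
      have e1 := (Scheme.pointSmallEtale ζ).toPresheafFiber_w_apply k y' F.obj (c' m)
      rw [hm, map_zero] at e1
      apply (hgerm Ω ζ ((Scheme.pointSmallEtale ζ).fiber.map k y')).1
      show (Scheme.pointSmallEtale ζ).toPresheafFiber V _ F.obj (c' m) =
        (Scheme.pointSmallEtale ζ).toPresheafFiber V _ F.obj (c' 0)
      rw [← e1, map_zero, map_zero]
    have hsurj : ∀ {Y : X.Etale} (h : Y ⟶ V) (s : F.obj.obj (op Y)),
        cSieve F c' h s ∈ X.smallEtaleTopology Y := by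
      intro Y h s
      apply cover_of_points
      intro y
      obtain ⟨Ω, iF, iS, ζ, hr⟩ := exists_geomPt (T := X) (Y.hom.base y)
      have hb : ζ.base default = Y.hom.base y := base_default_of_range ζ hr
      obtain ⟨y', hy'⟩ :=
        Scheme.pointSmallEtaleFiberObjToPreimage_surjective ζ hb Y ⟨y, by simp⟩
      obtain ⟨yl, hyl⟩ : ∃ yl : Spec (CommRingCat.of Ω) ⟶ Y.left, yl = y'.left := ⟨y'.left, rfl⟩
      have hy'' : yl.base default = y := by
        rw [hyl]; exact congrArg Subtype.val hy'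
      have hbij := hgerm Ω ζ ((Scheme.pointSmallEtale ζ).fiber.map h y')
      obtain ⟨a, ha⟩ := hbij.2 ((Scheme.pointSmallEtale ζ).toPresheafFiber Y y' F.obj s)
      have ha' : (Scheme.pointSmallEtale ζ).toPresheafFiber Y y' F.obj (F.obj.map h.op (c' a)) =
          (Scheme.pointSmallEtale ζ).toPresheafFiber Y y' F.obj s :=
        ((Scheme.pointSmallEtale ζ).toPresheafFiber_w_apply h y' F.obj (c' a)).trans ha
      obtain ⟨Z, k, z, hz, hk⟩ :=
        ((Scheme.pointSmallEtale ζ).toPresheafFiber_eq_iff' Y y' _ _).1 ha'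
      obtain ⟨zl, hzl⟩ : ∃ zl : Spec (CommRingCat.of Ω) ⟶ Z.left, zl = z.left := ⟨z.left, rfl⟩
      have hz' : zl ≫ k.left = yl := by
        rw [hzl, hyl]; exact congrArg (fun q => q.left) hz
      refine ⟨Z, k, ⟨a, ?_⟩, ⟨zl.base default, ?_⟩⟩
      · rw [map_comp_app F k h (c' a)]
        exact hk.symm
      · have e2 : (zl ≫ k.left).base default = yl.base default := by rw [hz']
        exact e2.trans hy''
    have hCV : IsConstVia F V ((EtCoh.stalk ξ₀).obj F) c' := ⟨hsurj, hinj⟩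
    obtain ⟨e⟩ := constIso_of_isConstVia hCV
    obtain ⟨M', iM', fM', ⟨em⟩⟩ := exists_small_finite ((EtCoh.stalk ξ₀).obj F)
    refine ⟨V, ?_, M', iM', fM', ⟨e ≪≫ (constantSheaf _ _).mapIso em⟩⟩
    have hwr : pt ξ₀ w ∈ Set.range f.left.base := by rw [hVf]; exact hwN
    obtain ⟨v, hv⟩ := hwr
    refine ⟨v, ?_⟩
    have hfw : f.left ≫ W.hom = V.hom := MorphismProperty.Over.w f
    rw [← hfw, ← hb₀, ← pt_hom ξ₀ w, ← hv]
    rfl
  choose V hV hM using key
  exact ⟨X, V, fun x => by obtain ⟨y, hy⟩ := hV x; exact ⟨x, y, hy⟩, hM⟩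

theorem S3114 (X : Scheme.{u}) [IsLocallyNoetherian X] (F : EtCoh.Ab X)
    (hfin : ∀ (Ω : Type u) [Field Ω] [IsSepClosed Ω] (ξ : Spec (CommRingCat.of Ω) ⟶ X),
      Finite ((EtCoh.stalk ξ).obj F)) :
    EtCoh.IsFiniteLocallyConstant F ↔
      ∀ (Ω Ω' : Type u) [Field Ω] [IsSepClosed Ω] [Field Ω'] [IsSepClosed Ω']
        (ξ : Spec (CommRingCat.of Ω) ⟶ X) (ξ' : Spec (CommRingCat.of Ω') ⟶ X)
        (φ : Scheme.pointSmallEtale ξ' ⟶ Scheme.pointSmallEtale ξ),
        IsIso ((GrothendieckTopology.Point.Hom.sheafFiber (A := AddCommGrpCat.{u + 1}) φ).app F) :=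
  ⟨fun hF Ω Ω' _ _ _ _ ξ ξ' φ => iso_of_flc F hF ξ ξ' φ, fun h => flc_of_spec_iso F hfin h⟩

end Helper15.Constr
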