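import Mathlib
import Groth.Agent.Lib.Helper15.SpecArrow2
import Groth.Agent.Lib.Helper15.SpecFlc
import Groth.Agent.Lib.Helper15.StalkPullGerm

/-!
# Helper15: the locus where a system of sections fails to trivialise a sheaf (towards S8530)
-/

set_option autoImplicit false
set_option backward.isDefEq.respectTransparency false

universe u

open CategoryTheory CategoryTheory.Limits AlgebraicGeometry Opposite Topology

namespace Helper15.Constr

open Helper15.LcStruct Helper15.SpecArrow Groth.Agent.Lib.Helper13.StalkPull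
open Groth.Agent.Lib.Helper15.StalkPullGerm Groth.Agent.Lib.Helper15

theorem bijective_iff_of_comp {A B C : Type*} {f : A → C} {h : A → B} {I : B → C}
    (hI : Function.Bijective I) (heq : ∀ a, f a = I (h a)) :
    Function.Bijective f ↔ Function.Bijective h := by
  have : f = I ∘ h := funext heq
  rw [this]
  exact Function.Bijective.of_comp_iff' hI h

/-- points of `W` carrying a geometric point at which `c` does not induce a bijection on the stalk -/
def badSet {T : Scheme.{u}} (G : EtCoh.Ab T) (W : T.Etale) {M : Type (u+1)} [AddCommGroup M]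
    (c : M →+ G.obj.obj (op W)) : Set W.left :=
  {t | ∃ (Ω : Type u) (_ : Field Ω) (_ : IsSepClosed Ω) (ζ : Spec (CommRingCat.of Ω) ⟶ T)
      (z : (Scheme.pointSmallEtale ζ).fiber.obj W), pt ζ z = t ∧
      ¬ Function.Bijective (fun m : M =>
        ((Scheme.pointSmallEtale ζ).toPresheafFiber W z G.obj (c m) : (EtCoh.stalk ζ).obj G))}

theorem finite_stalk_of_flc {T : Scheme.{u}} (G : EtCoh.Ab T)
    (hG : EtCoh.IsFiniteLocallyConstant G) {Ω : Type u} [Field Ω] [IsSepClosed Ω]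
    (ζ : Spec (CommRingCat.of Ω) ⟶ T) : Finite ((EtCoh.stalk ζ).obj G) := by
  obtain ⟨ι₁, U, hU, hc⟩ := hG
  obtain ⟨j, y, hy⟩ := hU (ζ.base default)
  obtain ⟨M, iM, fM, ⟨a⟩⟩ := hc j
  have a' : G.over (U j) ≅ (cst T (AddCommGrpCat.of (ULift.{u+1} M))).over (U j) :=
    a ≪≫ ((kappa (U j)).app _).symm
  have kG := isConstVia_of_iso _ a'
  obtain ⟨w⟩ := fiber_nonempty_of_mem_range ζ (U j) ⟨y, hy⟩
  haveI : Finite (AddCommGrpCat.of (ULift.{u+1} M)) := by
    show Finite (ULift.{u+1} M); infer_instance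
  exact Finite.of_surjective _ (stalk_germ_surjective ζ G (U j) _ kG w)

theorem finite_stalk_of_adapted {X : Scheme.{u}} (F : EtCoh.Ab X) (U₀ : X.Opens)
    (hA : Adapted' F (U₀ : Set X)) {Ω : Type u} [Field Ω] [IsSepClosed Ω]
    (ξ : Spec (CommRingCat.of Ω) ⟶ X) (hx : ξ.base default ∈ U₀) :
    Finite ((EtCoh.stalk ξ).obj F) := by
  obtain ⟨κ, hκ, T, g, h1, h2, h3, h4, h5⟩ := hA
  have hx' : ξ.base default ∈ ⋃ k, Set.range (g k) := by rw [h4]; exact hx
  obtain ⟨k, hk⟩ := Set.mem_iUnion.1 hx'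
  haveI := h1 k
  obtain ⟨ζ, hζ⟩ := exists_factor_immersion (g k) ξ hk
  subst hζ
  haveI : Finite ((EtCoh.pull (g k) ⋙ EtCoh.stalk ζ).obj F) :=
    finite_stalk_of_flc _ (h5 k) ζ
  exact Finite.of_equiv _ ((stalkPullIso (g k) ζ).app F).addCommGroupIsoToAddEquiv.toEquiv

theorem badSet_isClopen_of_flc {T : Scheme.{u}} (G : EtCoh.Ab T)
    (hG : EtCoh.IsFiniteLocallyConstant G) (W : T.Etale) {M : Type (u+1)} [AddCommGroup M]
    [Finite M] (c : M →+ G.obj.obj (op W)) : IsClopen (badSet G W c) := by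
  classical
  obtain ⟨ι₁, U, hU, hc⟩ := hG
  have key : ∀ t : W.left, ∃ O : Set W.left, IsOpen O ∧ t ∈ O ∧
      (O ⊆ badSet G W c ∨ O ⊆ (badSet G W c)ᶜ) := by
    intro t
    obtain ⟨Ω, iF, iS, ζ, hr⟩ := exists_geomPt (T := T) (W.hom.base t)
    have hb : ζ.base default = W.hom.base t := base_default_of_range ζ hr
    obtain ⟨z, hz⟩ := Scheme.pointSmallEtaleFiberObjToPreimage_surjective ζ hb W ⟨t, by simp⟩
    have hzpt : pt ζ z = t := congrArg Subtype.val hz
    obtain ⟨j, y₀, hy₀⟩ := hU (ζ.base default)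
    obtain ⟨A₀, iA, fA, ⟨a⟩⟩ := hc j
    have a' : G.over (U j) ≅ (cst T (AddCommGrpCat.of (ULift.{u+1} A₀))).over (U j) :=
      a ≪≫ ((kappa (U j)).app _).symm
    obtain ⟨cA, kG⟩ : ∃ cA : (AddCommGrpCat.of (ULift.{u+1} A₀)) →+ G.obj.obj (op (U j)),
        IsConstVia G (U j) (AddCommGrpCat.of (ULift.{u+1} A₀)) cA :=
      ⟨_, isConstVia_of_iso _ a'⟩
    obtain ⟨u⟩ := fiber_nonempty_of_mem_range ζ (U j) ⟨y₀, hy₀⟩
    obtain ⟨Y, y, f₁, f₂, e₁, e₂⟩ := germ_refine (Scheme.pointSmallEtale ζ) z u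
    have hfin : ∀ S : Finset M, ∃ (Y' : T.Etale)
        (y' : (Scheme.pointSmallEtale ζ).fiber.obj Y') (k : Y' ⟶ Y),
        (Scheme.pointSmallEtale ζ).fiber.map k y' = y ∧
        ∀ m ∈ S, ∃ a₁, G.obj.map k.op (G.obj.map f₁.op (c m)) =
          G.obj.map (k ≫ f₂).op (cA a₁) := by
      intro S
      induction S using Finset.induction_on with
      | empty =>
        exact ⟨Y, y, 𝟙 Y, by simp, fun m hm => absurd hm (Finset.notMem_empty m)⟩
      | insert m₀ S hm₀ ih =>
        obtain ⟨Y', y', k, hk, hS⟩ := ih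
        have hsieve := kG.surj (k ≫ f₂) (G.obj.map k.op (G.obj.map f₁.op (c m₀)))
        obtain ⟨Y'', k', ⟨a₀, ha₀⟩, y'', hy''⟩ :=
          (Scheme.pointSmallEtale ζ).jointly_surjective _ hsieve y'
        refine ⟨Y'', y'', k' ≫ k, ?_, ?_⟩
        · rw [Functor.map_comp, ConcreteCategory.comp_apply, hy'', hk]
        · intro m hm
          rcases Finset.mem_insert.1 hm with hm | hm
          · refine ⟨a₀, ?_⟩
            rw [hm, map_comp_app G k' k, ha₀, Category.assoc]
          · obtain ⟨a₁, ha₁⟩ := hS m hm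
            refine ⟨a₁, ?_⟩
            rw [map_comp_app G k' k, ha₁, ← map_comp_app G k' (k ≫ f₂), Category.assoc]
    cases nonempty_fintype M
    obtain ⟨Y', y', k, hk, hS⟩ := hfin Finset.univ
    choose a₁ ha₁ using fun m => hS m (Finset.mem_univ m)
    haveI : Etale (k ≫ f₁).left := etale_left' (k ≫ f₁)
    have hchar : ∀ (Ω'' : Type u) [Field Ω''] [IsSepClosed Ω'']
        (ζ'' : Spec (CommRingCat.of Ω'') ⟶ T) (z'' : (Scheme.pointSmallEtale ζ'').fiber.obj W),
        pt ζ'' z'' ∈ Set.range (k ≫ f₁).left.base →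
        (Function.Bijective (fun m : M =>
          ((Scheme.pointSmallEtale ζ'').toPresheafFiber W z'' G.obj (c m) :
            (EtCoh.stalk ζ'').obj G)) ↔ Function.Bijective a₁) := by
      intro Ω'' _ _ ζ'' z'' hz''
      obtain ⟨q, hq⟩ := hz''
      obtain ⟨y'', hy''1, -⟩ := exists_lift ζ'' (k ≫ f₁) z'' q hq
      have hbi := stalk_germ_injective ζ'' G (U j) cA kG
        ((Scheme.pointSmallEtale ζ'').fiber.map (k ≫ f₂) y'')
      have hbs := stalk_germ_surjective ζ'' G (U j) cA kG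
        ((Scheme.pointSmallEtale ζ'').fiber.map (k ≫ f₂) y'')
      have heq : ∀ m, (Scheme.pointSmallEtale ζ'').toPresheafFiber W z'' G.obj (c m) =
          (Scheme.pointSmallEtale ζ'').toPresheafFiber (U j)
            ((Scheme.pointSmallEtale ζ'').fiber.map (k ≫ f₂) y'') G.obj (cA (a₁ m)) := by
        intro m
        rw [← hy''1, ← (Scheme.pointSmallEtale ζ'').toPresheafFiber_w_apply (k ≫ f₁) y'' G.obj (c m),
          map_comp_app G k f₁, ha₁ m]
        exact (Scheme.pointSmallEtale ζ'').toPresheafFiber_w_apply (k ≫ f₂) y'' G.obj (cA (a₁ m))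
      constructor
      · intro hbij
        refine ⟨fun m m' hmm => hbij.1 ?_, fun a => ?_⟩
        · show (Scheme.pointSmallEtale ζ'').toPresheafFiber W z'' G.obj (c m) =
            (Scheme.pointSmallEtale ζ'').toPresheafFiber W z'' G.obj (c m')
          rw [heq, heq, hmm]
        · obtain ⟨m, hm⟩ := hbij.2 ((Scheme.pointSmallEtale ζ'').toPresheafFiber (U j)
            ((Scheme.pointSmallEtale ζ'').fiber.map (k ≫ f₂) y'') G.obj (cA a))
          exact ⟨m, hbi ((heq m).symm.trans hm)⟩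
      · intro ha
        refine ⟨fun m m' hmm => ha.1 (hbi ?_), fun p => ?_⟩
        · show (Scheme.pointSmallEtale ζ'').toPresheafFiber (U j) _ G.obj (cA (a₁ m)) =
            (Scheme.pointSmallEtale ζ'').toPresheafFiber (U j) _ G.obj (cA (a₁ m'))
          rw [← heq, ← heq]
          exact hmm
        · obtain ⟨a, haa⟩ := hbs p
          obtain ⟨m, hm⟩ := ha.2 a
          refine ⟨m, ?_⟩
          show (Scheme.pointSmallEtale ζ'').toPresheafFiber W z'' G.obj (c m) = p
          rw [heq, hm]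
          exact haa
    refine ⟨Set.range (k ≫ f₁).left.base, (k ≫ f₁).left.isOpenMap.isOpen_range, ?_, ?_⟩
    · refine ⟨pt ζ y', ?_⟩
      rw [← hzpt, ← e₁, ← hk]
      rfl
    · by_cases ha : Function.Bijective a₁
      · right
        rintro t'' ht'' ⟨Ω'', iF'', iS'', ζ'', z'', hpt, hnb⟩
        exact hnb ((hchar Ω'' ζ'' z'' (by rw [hpt]; exact ht'')).2 ha)
      · left
        intro t'' ht''
        obtain ⟨Ω'', iF'', iS'', ζ'', hr''⟩ := exists_geomPt (T := T) (W.hom.base t'')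
        have hb'' : ζ''.base default = W.hom.base t'' := base_default_of_range ζ'' hr''
        obtain ⟨z'', hz''⟩ :=
          Scheme.pointSmallEtaleFiberObjToPreimage_surjective ζ'' hb'' W ⟨t'', by simp⟩
        have hz''pt : pt ζ'' z'' = t'' := congrArg Subtype.val hz''
        refine ⟨Ω'', iF'', iS'', ζ'', z'', hz''pt, fun hbij => ha ?_⟩
        exact (hchar Ω'' ζ'' z'' (by rw [hz''pt]; exact ht'')).1 hbij
  choose O hOo htO hO using key
  exact isClopen_of_local _ O hOo (fun t => ⟨t, htO t⟩) hO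

theorem badSet_pull {T X : Scheme.{u}} (g : T ⟶ X) [IsImmersion g] (F : EtCoh.Ab X)
    (W : X.Etale) {M : Type (u+1)} [AddCommGroup M] (c : M →+ F.obj.obj (op W))
    (cT : M →+ ((EtCoh.pull g).obj F).obj.obj (op ((EtCoh.bc g).obj W)))
    (hcT : ∀ m, cT m = ((EtCoh.pullPushAdj g).unit.app F).hom.app (op W) (c m))
    (t' : ((EtCoh.bc g).obj W).left) :
    (pullback.fst W.hom g).base t' ∈ badSet F W c ↔
      t' ∈ badSet ((EtCoh.pull g).obj F) ((EtCoh.bc g).obj W) cT := by
  have hformula : ∀ {Ω : Type u} [Field Ω] [IsSepClosed Ω] (ζT : Spec (CommRingCat.of Ω) ⟶ T)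
      (z : (Scheme.pointSmallEtale (ζT ≫ g)).fiber.obj W) (m : M),
      (Scheme.pointSmallEtale ζT).toPresheafFiber ((EtCoh.bc g).obj W)
        (FinitePushStalk.liftPt g (ζT ≫ g) ζT rfl W z) ((EtCoh.pull g).obj F).obj (cT m) =
      (stalkPullIso g ζT).inv.app F
        ((Scheme.pointSmallEtale (ζT ≫ g)).toPresheafFiber W z F.obj (c m)) := by
    intro Ω _ _ ζT z m
    rw [hcT]
    exact (ConcreteCategory.congr_hom (toPresheafFiber_stalkPullIso_inv g ζT F W z) (c m)).symm
  have hbij : ∀ {Ω : Type u} [Field Ω] [IsSepClosed Ω] (ζT : Spec (CommRingCat.of Ω) ⟶ T)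
      (z : (Scheme.pointSmallEtale (ζT ≫ g)).fiber.obj W),
      Function.Bijective (fun m : M =>
        ((Scheme.pointSmallEtale ζT).toPresheafFiber ((EtCoh.bc g).obj W)
          (FinitePushStalk.liftPt g (ζT ≫ g) ζT rfl W z) ((EtCoh.pull g).obj F).obj (cT m) :
          (EtCoh.stalk ζT).obj ((EtCoh.pull g).obj F))) ↔
      Function.Bijective (fun m : M =>
        ((Scheme.pointSmallEtale (ζT ≫ g)).toPresheafFiber W z F.obj (c m) :
          (EtCoh.stalk (ζT ≫ g)).obj F)) := by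
    intro Ω _ _ ζT z
    have hI : Function.Bijective ((stalkPullIso g ζT).inv.app F) :=
      ConcreteCategory.bijective_of_isIso _
    exact bijective_iff_of_comp hI (fun m => hformula ζT z m)
  constructor
  · rintro ⟨Ω, iF, iS, ζ, z, hpt, hnb⟩
    have hζr : ζ.base default ∈ Set.range g.base := by
      have h1 : W.hom.base (pt ζ z) = ζ.base default := pt_hom ζ z
      rw [← h1, hpt]
      refine ⟨(pullback.snd W.hom g).base t', ?_⟩
      have := congrArg (fun f => f.base t') (pullback.condition (f := W.hom) (g := g))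
      exact this.symm
    obtain ⟨ζT, hζT⟩ := exists_factor_immersion g ζ hζr
    subst hζT
    refine ⟨Ω, iF, iS, ζT, FinitePushStalk.liftPt g (ζT ≫ g) ζT rfl W z, ?_,
      fun hb => hnb ((hbij ζT z).1 hb)⟩
    apply (pullback.fst W.hom g).isEmbedding.injective
    rw [← hpt]
    have h2 := FinitePushStalk.liftPt_left_fst g (ζT ≫ g) ζT rfl W z
    obtain ⟨zl, hzl⟩ : ∃ zl : Spec (CommRingCat.of Ω) ⟶ W.left, zl = z.left := ⟨_, rfl⟩
    obtain ⟨ll, hll⟩ : ∃ ll : Spec (CommRingCat.of Ω) ⟶ ((EtCoh.bc g).obj W).left,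
        ll = (FinitePushStalk.liftPt g (ζT ≫ g) ζT rfl W z).left := ⟨_, rfl⟩
    rw [pt_eq ζT _ ll hll, pt_eq (ζT ≫ g) z zl hzl]
    have h3 : ll ≫ pullback.fst W.hom g = zl := by rw [hll, hzl]; exact h2
    rw [← h3]
    rfl
  · rintro ⟨Ω, iF, iS, ζT, zT, hpt, hnb⟩
    obtain ⟨z, hz⟩ : ∃ z : (Scheme.pointSmallEtale (ζT ≫ g)).fiber.obj W,
        z = (fiberIso g ζT).hom.app W zT := ⟨_, rfl⟩
    have hzT : FinitePushStalk.liftPt g (ζT ≫ g) ζT rfl W z = zT := by
      rw [← fiberIso_inv_app, hz,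
        ← types_comp_apply ((fiberIso g ζT).hom.app W) ((fiberIso g ζT).inv.app W),
        ← NatTrans.comp_app, Iso.hom_inv_id]
      rfl
    refine ⟨Ω, iF, iS, ζT ≫ g, z, ?_, fun hb => hnb ?_⟩
    · obtain ⟨tl, htl⟩ : ∃ tl : Spec (CommRingCat.of Ω) ⟶ ((EtCoh.bc g).obj W).left,
          tl = zT.left := ⟨_, rfl⟩
      have h4 : (tl ≫ pullback.fst W.hom g) = z.left := by
        rw [hz, fiberIso_hom_left, htl]
      rw [pt_eq (ζT ≫ g) z _ h4, ← hpt, pt_eq ζT zT tl htl]
      rfl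
    · have := (hbij ζT z).2 hb
      rw [hzT] at this
      exact this

end Helper15.Constr
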