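import Mathlib
import Groth.Agent.Lib.Helper15.ConstrGenA
import Groth.Agent.Lib.Helper15.Supp
import Groth.Agent.Lib.Helper15.SpecNear
import Groth.Agent.Lib.Helper13.StalkConservative

/-!
# Helper15: constructible sheaves of `ℤ/n`-modules are finitely generated (part B)
-/

set_option autoImplicit false
set_option backward.isDefEq.respectTransparency false
universe u
open CategoryTheory CategoryTheory.Limits AlgebraicGeometry Opposite Topology

namespace Helper15.ConstrGen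

open Helper15.Constr Helper15.LcStruct Groth.Agent.Lib.Helper13.StalkPull
  Groth.Agent.Lib.Helper13.StalkConservative Groth.Agent.Lib.Helper15.ExtBy

section Supp

theorem not_mem_supp_flc {T : Scheme.{u}} (G : EtCoh.Ab T)
    (hG : EtCoh.IsFiniteLocallyConstant G) (t : T) {Ω : Type u} [Field Ω] [IsSepClosed Ω]
    (ζ : Spec (CommRingCat.of Ω) ⟶ T) (hζ : ζ.base default = t)
    (hz : IsZero ((EtCoh.stalk ζ).obj G)) : t ∉ EtPBC.supp G := by
  obtain ⟨ι₁, U, hU, hc⟩ := hG
  obtain ⟨j, y, hy⟩ := hU t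
  obtain ⟨M, iM, fM, ⟨a⟩⟩ := hc j
  have a' : G.over (U j) ≅ (cst T (AddCommGrpCat.of (ULift.{u+1} M))).over (U j) :=
    a ≪≫ ((kappa (U j)).app _).symm
  have kG := isConstVia_of_iso _ a'
  have hsub := (isZero_stalk_iff ζ G (U j) _ kG (by rw [hζ]; exact ⟨y, hy⟩)).1 hz
  rintro ⟨Ω', _, _, ξ, hr, hnz⟩
  have hb := base_default_of_range ξ hr
  exact hnz ((isZero_stalk_iff ξ G (U j) _ kG (by rw [hb]; exact ⟨y, hy⟩)).2 hsub)

theorem not_mem_supp_of_isZero_stalk {X : Scheme.{u}} (C : EtCoh.Ab X)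
    (hC : EtPBC.IsConstructible C) (x : X) {Ω : Type u} [Field Ω] [IsSepClosed Ω]
    (ξ : Spec (CommRingCat.of Ω) ⟶ X) (hξ : ξ.base default = x)
    (hz : IsZero ((EtCoh.stalk ξ).obj C)) : x ∉ EtPBC.supp C := by
  obtain ⟨U₀, hU₀, hxU₀, -⟩ := exists_isAffineOpen_mem_and_subset (x := x) (U := ⊤) trivial
  obtain ⟨κ, hκ, T, g, h1, h2, h3, h4, h5⟩ := adapted'_of_adapted (hC U₀ hU₀)
  have hx' : x ∈ ⋃ k, Set.range (g k) := by rw [h4]; exact hxU₀
  obtain ⟨k, t, ht⟩ := Set.mem_iUnion.1 hx'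
  haveI := h1 k
  obtain ⟨ζ, hζ⟩ := exists_factor_immersion (g k) ξ (by rw [hξ]; exact ⟨t, ht⟩)
  subst hζ
  have hζt : ζ.base default = t := (g k).isEmbedding.injective (hξ.trans ht.symm)
  have hz' : IsZero ((EtCoh.stalk ζ).obj ((EtCoh.pull (g k)).obj C)) :=
    IsZero.of_iso hz ((stalkPullIso (g k) ζ).app C)
  have h6 := not_mem_supp_flc _ (h5 k) t ζ hζt hz'
  rw [← ht]
  exact fun h => h6 ((supp_pull_iff (g k) C t).1 h)

end Supp

variable {X : Scheme.{u}}

theorem exists_affine_germ (F : EtCoh.Ab X) {Ω : Type u} [Field Ω] [IsSepClosed Ω]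
    (ξ : Spec (CommRingCat.of Ω) ⟶ X) (p : (EtCoh.stalk ξ).obj F) :
    ∃ (Y : X.Etale) (_ : IsAffine Y.left) (y : (Scheme.pointSmallEtale ξ).fiber.obj Y)
      (s : F.obj.obj (op Y)), (Scheme.pointSmallEtale ξ).toPresheafFiber Y y F.obj s = p := by
  obtain ⟨Y, y, s, rfl⟩ := (Scheme.pointSmallEtale ξ).toPresheafFiber_jointly_surjective p
  obtain ⟨yl, hyl⟩ : ∃ yl : Spec (CommRingCat.of Ω) ⟶ Y.left, yl = y.left := ⟨_, rfl⟩
  have hw : yl ≫ Y.hom = ξ := by rw [hyl]; exact Over.w y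
  obtain ⟨V, hV, hyV, -⟩ :=
    exists_isAffineOpen_mem_and_subset (x := yl.base default) (U := ⊤) trivial
  have hr : Set.range yl ⊆ Set.range V.ι := by
    rintro _ ⟨a, rfl⟩
    rw [Scheme.Opens.range_ι, Subsingleton.elim a default]
    exact hyV
  obtain ⟨y', hy'⟩ : ∃ y' : (Scheme.pointSmallEtale ξ).fiber.obj (opPiece Y V),
      (Scheme.pointSmallEtale ξ).fiber.map (opι Y V) y' = y := by
    refine ⟨Over.homMk (IsOpenImmersion.lift V.ι yl hr) ?_, ?_⟩
    · show IsOpenImmersion.lift V.ι yl hr ≫ V.ι ≫ Y.hom = ξ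
      rw [← Category.assoc, IsOpenImmersion.lift_fac]
      exact hw
    · apply Over.OverMorphism.ext
      show IsOpenImmersion.lift V.ι yl hr ≫ V.ι = y.left
      rw [IsOpenImmersion.lift_fac, hyl]
  refine ⟨opPiece Y V, hV, y', F.obj.map (opι Y V).op s, ?_⟩
  rw [← hy']
  exact (Scheme.pointSmallEtale ξ).toPresheafFiber_w_apply (opι Y V) y' F.obj s

/-- Generator data: a section of `F` over an affine etale `X`-scheme. -/
structure Gen (F : EtCoh.Ab X) where
  U : X.Etale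
  aff : IsAffine U.left
  s : F.obj.obj (op U)

variable {F : EtCoh.Ab X} {n : ℕ}

/-- The source `j_! ℤ/n` of the map attached to a generator. -/
noncomputable def Gen.src (n : ℕ) (g : Gen F) : EtCoh.Ab X := EtPBC.extZeroConst g.U (ZMod n)

/-- The map `j_! ℤ/n ⟶ F` attached to a generator. -/
noncomputable def Gen.map (hF : EtCoh.KilledBy n F) (g : Gen F) : g.src n ⟶ F :=
  phi g.U n F g.s (hF g.U g.s)

/-- The sum map of a finite family of generators. -/
noncomputable def famMap (hF : EtCoh.KilledBy n F) {J : Type} [Finite J] (g : J → Gen F) :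
    (⨁ fun j => (g j).src n) ⟶ F :=
  biproduct.desc (fun j => (g j).map hF)

theorem germ_mem_range (hF : EtCoh.KilledBy n F) {J : Type} [Finite J] (g : J → Gen F) (j : J)
    {Ω : Type u} [Field Ω] [IsSepClosed Ω] (ξ : Spec (CommRingCat.of Ω) ⟶ X)
    (y : (Scheme.pointSmallEtale ξ).fiber.obj (g j).U) :
    ∃ z, (EtCoh.stalk ξ).map (famMap hF g) z =
      (Scheme.pointSmallEtale ξ).toPresheafFiber (g j).U y F.obj (g j).s := by
  obtain ⟨e, he⟩ := phi_spec (g j).U n F (g j).s (hF _ _)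
  refine ⟨(Scheme.pointSmallEtale ξ).toPresheafFiber (g j).U y (⨁ fun j => (g j).src n).obj
    ((biproduct.ι (fun j => (g j).src n) j).hom.app (op (g j).U) e), ?_⟩
  have h1 := (Scheme.pointSmallEtale ξ).toPresheafFiber_naturality_apply (famMap hF g).hom
    (g j).U y ((biproduct.ι (fun j => (g j).src n) j).hom.app (op (g j).U) e)
  refine h1.trans ?_
  congr 1
  have h2 : biproduct.ι (fun j => (g j).src n) j ≫ famMap hF g = (g j).map hF :=
    biproduct.ι_desc _ _
  have h3 := congrArg (fun α => α.hom.app (op (g j).U) e) h2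
  exact h3.trans he

theorem isZero_stalk_cokernel_of_surjective {A B : EtCoh.Ab X} (π : A ⟶ B)
    {Ω : Type u} [Field Ω] [IsSepClosed Ω] (ξ : Spec (CommRingCat.of Ω) ⟶ X)
    (h : Function.Surjective ((EtCoh.stalk ξ).map π)) :
    IsZero ((EtCoh.stalk ξ).obj (cokernel π)) := by
  haveI : Epi ((EtCoh.stalk ξ).map (cokernel.π π)) := inferInstance
  have hs := (AddCommGrpCat.epi_iff_surjective _).1 this
  have h0 : (EtCoh.stalk ξ).map π ≫ (EtCoh.stalk ξ).map (cokernel.π π) = 0 := by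
    rw [← Functor.map_comp, cokernel.condition, Functor.map_zero]
  haveI : Subsingleton ((EtCoh.stalk ξ).obj (cokernel π)) := by
    refine ⟨fun c c' => ?_⟩
    have key : ∀ c : (EtCoh.stalk ξ).obj (cokernel π), c = 0 := by
      intro c
      obtain ⟨a, rfl⟩ := hs c
      obtain ⟨z, rfl⟩ := h a
      exact ConcreteCategory.congr_hom h0 z
    rw [key c, key c']
  exact AddCommGrpCat.isZero_of_subsingleton _

theorem local_gen [CompactSpace X] [QuasiSeparatedSpace X] (hn : 0 < n)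
    (hF : EtCoh.KilledBy n F) (hc : EtPBC.IsConstructible F) (x : X) :
    ∃ (b : ℕ) (g : Fin b → Gen F), x ∉ EtPBC.supp (cokernel (famMap hF g)) := by
  obtain ⟨Ω, iF, iS, ξ, hr⟩ := exists_geomPt x
  have hb := base_default_of_range ξ hr
  obtain ⟨U₀, hU₀, hxU₀, -⟩ := exists_isAffineOpen_mem_and_subset (x := x) (U := ⊤) trivial
  haveI hfin : Finite ((EtCoh.stalk ξ).obj F) :=
    finite_stalk_of_adapted F U₀ (adapted'_of_adapted (hc U₀ hU₀)) ξ (by rw [hb]; exact hxU₀)
  obtain ⟨b, ⟨e⟩⟩ := Finite.exists_equiv_fin ((EtCoh.stalk ξ).obj F)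
  choose Y hY y s hs using fun p : (EtCoh.stalk ξ).obj F => exists_affine_germ F ξ p
  obtain ⟨g, hg⟩ : ∃ g : Fin b → Gen F, g = fun i => ⟨Y (e.symm i), hY _, s _⟩ := ⟨_, rfl⟩
  refine ⟨b, g, ?_⟩
  have hsurj : Function.Surjective ((EtCoh.stalk ξ).map (famMap hF g)) := by
    intro p
    obtain ⟨i, rfl⟩ : ∃ i, e.symm i = p := ⟨e p, e.symm_apply_apply p⟩
    have h1 := germ_mem_range hF g i ξ (by rw [hg]; exact y (e.symm i))
    obtain ⟨z, hz⟩ := h1
    refine ⟨z, hz.trans ?_⟩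
    subst hg
    exact hs (e.symm i)
  have hz := isZero_stalk_cokernel_of_surjective (famMap hF g) ξ hsurj
  have hcon : EtPBC.IsConstructible (cokernel (famMap hF g)) :=
    (S0131 (famMap hF g) n hn
      (killedBy_biproduct n _ (fun j => killedBy_extZeroConst (g j).U n)) hF
      (constructible_biproduct n hn _
        (fun j => by
          haveI := (g j).aff
          haveI : NeZero n := ⟨hn.ne'⟩
          exact Helper15.FinEtShriek.S0133 X (g j).U (ZMod n))
        (fun j => killedBy_extZeroConst (g j).U n)) hc).2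
  exact not_mem_supp_of_isZero_stalk _ hcon x ξ hb hz

end Helper15.ConstrGen
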