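import Mathlib
import Groth.Agent.Lib.Helper15.ConstrGenB

/-!
# Helper15: finite presentation of constructible sheaves of `ℤ/n`-modules (part C)
-/

set_option autoImplicit false
set_option backward.isDefEq.respectTransparency false
universe u
open CategoryTheory CategoryTheory.Limits AlgebraicGeometry Opposite Topology

namespace Helper15.ConstrGen

open Helper15.Constr Helper15.LcStruct Groth.Agent.Lib.Helper13.StalkConservative

variable {X : Scheme.{u}} {F : EtCoh.Ab X} {n : ℕ}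

theorem killedBy_src_biproduct {J : Type} [Finite J] (g : J → Gen F) :
    EtCoh.KilledBy n (⨁ fun j => (g j).src n) :=
  killedBy_biproduct n _ (fun j => killedBy_extZeroConst (g j).U n)

theorem constructible_src_biproduct [CompactSpace X] [QuasiSeparatedSpace X] (hn : 0 < n)
    {J : Type} [Finite J] (g : J → Gen F) :
    EtPBC.IsConstructible (⨁ fun j => (g j).src n) :=
  constructible_biproduct n hn _
    (fun j => by
      haveI := (g j).aff
      haveI : NeZero n := ⟨hn.ne'⟩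
      exact Helper15.FinEtShriek.S0133 X (g j).U (ZMod n))
    (fun j => killedBy_extZeroConst (g j).U n)

theorem map_eqToHom (hF : EtCoh.KilledBy n F) (G G' : Gen F) (h : G' = G) :
    eqToHom (congrArg (Gen.src n) h.symm) ≫ G'.map hF = G.map hF := by
  subst h
  simp

theorem exists_factor (hF : EtCoh.KilledBy n F) {J J' : Type} [Finite J] [Finite J']
    (g : J → Gen F) (g' : J' → Gen F) (ι : J → J') (h : ∀ j, g' (ι j) = g j) :
    ∃ u : (⨁ fun j => (g j).src n) ⟶ ⨁ fun j => (g' j).src n,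
      u ≫ famMap hF g' = famMap hF g := by
  refine ⟨biproduct.desc (fun j => eqToHom (congrArg (Gen.src n) (h j).symm) ≫
    biproduct.ι (fun j => (g' j).src n) (ι j)), ?_⟩
  apply biproduct.hom_ext'
  intro j
  rw [biproduct.ι_desc_assoc, Category.assoc]
  show _ ≫ biproduct.ι (fun j => (g' j).src n) (ι j) ≫ biproduct.desc (fun j => (g' j).map hF) =
    biproduct.ι (fun j => (g j).src n) j ≫ biproduct.desc (fun j => (g j).map hF)
  rw [biproduct.ι_desc, biproduct.ι_desc]
  exact map_eqToHom hF (g j) (g' (ι j)) (h j)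

theorem supp_coker_mono (hF : EtCoh.KilledBy n F) {J J' : Type} [Finite J] [Finite J']
    (g : J → Gen F) (g' : J' → Gen F) (ι : J → J') (h : ∀ j, g' (ι j) = g j) :
    EtPBC.supp (cokernel (famMap hF g')) ⊆ EtPBC.supp (cokernel (famMap hF g)) := by
  obtain ⟨u, hu⟩ := exists_factor hF g g' ι h
  have hd0 : famMap hF g ≫ cokernel.π (famMap hF g') = 0 := by
    rw [← hu, Category.assoc, cokernel.condition, comp_zero]
  obtain ⟨d, hd⟩ : ∃ d : cokernel (famMap hF g) ⟶ cokernel (famMap hF g'),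
      cokernel.π (famMap hF g) ≫ d = cokernel.π (famMap hF g') :=
    ⟨cokernel.desc _ _ hd0, cokernel.π_desc _ _ _⟩
  haveI : Epi d := epi_of_epi_fac hd
  rintro x ⟨Ω, iF, iS, ξ, hr, hnz⟩
  refine ⟨Ω, iF, iS, ξ, hr, fun hz => hnz ?_⟩
  haveI : Epi ((EtCoh.stalk ξ).map d) := inferInstance
  exact IsZero.of_epi ((EtCoh.stalk ξ).map d) hz

theorem fin_gen [CompactSpace X] [QuasiSeparatedSpace X] (hn : 0 < n)
    (hF : EtCoh.KilledBy n F) (hc : EtPBC.IsConstructible F) :
    ∃ (b : ℕ) (g : Fin b → Gen F), Epi (famMap hF g) := by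
  choose b g hg using fun x => local_gen hn hF hc x
  have hcon : ∀ x, IsConstructible ((EtPBC.supp (cokernel (famMap hF (g x))))ᶜ) := by
    intro x
    have h1 : EtPBC.IsConstructible (cokernel (famMap hF (g x))) :=
      (S0131 (famMap hF (g x)) n hn (killedBy_src_biproduct _) hF
        (constructible_src_biproduct hn _) hc).2
    exact ((S8526 _ h1).isConstructible).compl
  obtain ⟨t, ht⟩ := exists_finite_cover_of_constructible
    (fun x => (EtPBC.supp (cokernel (famMap hF (g x))))ᶜ) hcon (by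
      apply Set.eq_univ_of_forall
      intro x
      exact Set.mem_iUnion.2 ⟨x, hg x⟩)
  obtain ⟨r, xs, hxs⟩ : ∃ (r : ℕ) (xs : Fin r → X),
      ∀ y : X, ∃ k, y ∉ EtPBC.supp (cokernel (famMap hF (g (xs k)))) := by
    refine ⟨t.card, fun k => (t.equivFin.symm k).1, fun y => ?_⟩
    have hy : y ∈ ⋃ i ∈ t, (EtPBC.supp (cokernel (famMap hF (g i))))ᶜ := by
      rw [ht]; exact Set.mem_univ y
    simp only [Set.mem_iUnion] at hy
    obtain ⟨i, hi, hyi⟩ := hy
    refine ⟨t.equivFin ⟨i, hi⟩, ?_⟩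
    show y ∉ EtPBC.supp (cokernel (famMap hF (g (t.equivFin.symm (t.equivFin ⟨i, hi⟩)).1)))
    rw [Equiv.symm_apply_apply]
    exact hyi
  obtain ⟨B, ⟨e⟩⟩ := Finite.exists_equiv_fin (Σ k : Fin r, Fin (b (xs k)))
  refine ⟨B, fun i => g (xs (e.symm i).1) (e.symm i).2, ?_⟩
  apply Preadditive.epi_of_isZero_cokernel
  rw [isZero_iff_stalks]
  intro i
  by_contra hnz
  obtain ⟨k, hk⟩ := hxs (i.ξ.base default)
  apply hk
  have hmono := supp_coker_mono hF (g (xs k))
    (fun i : Fin B => g (xs (e.symm i).1) (e.symm i).2) (fun j => e ⟨k, j⟩) (fun j => by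
      show g (xs (e.symm (e ⟨k, j⟩)).1) (e.symm (e ⟨k, j⟩)).2 = g (xs k) j
      rw [Equiv.symm_apply_apply])
  exact hmono ⟨i.Ω, inferInstance, inferInstance, i.ξ, range_of_base_default i.ξ rfl, hnz⟩

theorem S0138 (X : Scheme.{u}) [CompactSpace X] [QuasiSeparatedSpace X]
    (n : ℕ) (hn : 0 < n) (F : EtCoh.Ab X) (hF : EtPBC.IsConstructible F)
    (hFn : EtCoh.KilledBy n F) :
    ∃ (a b : ℕ) (V : Fin a → X.Etale) (U : Fin b → X.Etale) (_ : ∀ j, IsAffine (V j).left)
      (_ : ∀ i, IsAffine (U i).left)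
      (φ : (⨁ fun j => EtPBC.extZeroConst (V j) (ZMod n)) ⟶
        ⨁ fun i => EtPBC.extZeroConst (U i) (ZMod n)),
      Nonempty (F ≅ cokernel φ) := by
  obtain ⟨b, g₀, hg₀⟩ := fin_gen hn hFn hF
  have hK1 : EtPBC.IsConstructible (kernel (famMap hFn g₀)) :=
    (S0131 (famMap hFn g₀) n hn (killedBy_src_biproduct _) hFn
      (constructible_src_biproduct hn _) hF).1
  have hK2 : EtCoh.KilledBy n (kernel (famMap hFn g₀)) :=
    killedBy_of_mono (kernel.ι (famMap hFn g₀)) n (killedBy_src_biproduct _)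
  obtain ⟨a, g₁, hg₁⟩ := fin_gen hn hK2 hK1
  refine ⟨a, b, fun j => (g₁ j).U, fun i => (g₀ i).U, fun j => (g₁ j).aff, fun i => (g₀ i).aff,
    famMap hK2 g₁ ≫ kernel.ι (famMap hFn g₀), ⟨?_⟩⟩
  have e1 : cokernel (famMap hK2 g₁ ≫ kernel.ι (famMap hFn g₀)) ≅
      cokernel (kernel.ι (famMap hFn g₀)) := cokernelEpiComp _ _
  have e2 : cokernel (kernel.ι (famMap hFn g₀)) ≅ F :=
    (cokernelIsCokernel (kernel.ι (famMap hFn g₀))).coconePointUniqueUpToIso
      (Abelian.epiIsCokernelOfKernel (limit.cone (parallelPair (famMap hFn g₀) 0))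
        (limit.isLimit _))
  exact (e1 ≪≫ e2).symm

end Helper15.ConstrGen
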