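import Mathlib
import Groth.Agent.Lib.Helper15.ConstrGenC
import Groth.Agent.Lib.Helper15.CardConstr
import Groth.Agent.Lib.Helper15.FinEtShriek

/-!
# Helper15: constructible sheaves on qcqs schemes are killed by an integer; S3508
-/

set_option autoImplicit false
set_option backward.isDefEq.respectTransparency false
universe u
open CategoryTheory CategoryTheory.Limits AlgebraicGeometry Opposite Topology

namespace Helper15.ConstrGen

open Helper15.Constr Helper15.LcStruct Groth.Agent.Lib.Helper13.StalkConservative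
  Groth.Agent.Lib.Helper13.StalkPull

variable {X : Scheme.{u}}

theorem killedBy_of_dvd {n N : ℕ} (h : n ∣ N) (G : EtCoh.Ab X) (hG : EtCoh.KilledBy n G) :
    EtCoh.KilledBy N G := by
  obtain ⟨d, rfl⟩ := h
  intro U s
  have h0 : n • s = 0 := hG U s
  rw [mul_nsmul, h0, nsmul_zero]

instance stalk_additive {Ω : Type u} [Field Ω] [IsSepClosed Ω]
    (ξ : Spec (CommRingCat.of Ω) ⟶ X) : (EtCoh.stalk ξ).Additive :=
  Functor.additive_of_preserves_binary_products _

theorem flc_card_bound {T : Scheme.{u}} [CompactSpace T] (G : EtCoh.Ab T)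
    (hG : EtCoh.IsFiniteLocallyConstant G) :
    ∃ N : ℕ, 0 < N ∧ ∀ i : GeomPt T, Nat.card ((EtCoh.stalk i.ξ).obj G) ∣ N := by
  obtain ⟨ι₁, U, hU, hc⟩ := hG
  have hex : ∀ j, ∃ c : ℕ, 0 < c ∧ ∀ i : GeomPt T,
      i.ξ.base default ∈ Set.range (U j).hom.base →
      Nat.card ((EtCoh.stalk i.ξ).obj G) = c := by
    intro j
    obtain ⟨M, iM, fM, ⟨a⟩⟩ := hc j
    have a' : G.over (U j) ≅ (cst T (AddCommGrpCat.of (ULift.{u+1} M))).over (U j) :=
      a ≪≫ ((kappa (U j)).app _).symm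
    have kG := isConstVia_of_iso _ a'
    refine ⟨Nat.card (AddCommGrpCat.of (ULift.{u+1} M)), ?_, ?_⟩
    · show 0 < Nat.card (ULift.{u+1} M)
      haveI : Nonempty (ULift.{u+1} M) := ⟨0⟩
      exact Nat.card_pos
    · intro i hi
      exact card_stalk_of_constVia i.ξ G (U j) _ kG hi
  choose c hc0 hc1 using hex
  have hcov : (Set.univ : Set T) ⊆ ⋃ j, Set.range (U j).hom.base := by
    intro x _
    obtain ⟨j, y, hy⟩ := hU x
    exact Set.mem_iUnion_of_mem j ⟨y, hy⟩
  obtain ⟨t, ht⟩ := isCompact_univ.elim_finite_subcover (fun j => (Set.range (U j).hom.base : Set T))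
    (fun j => (U j).hom.isOpenMap.isOpen_range) hcov
  refine ⟨∏ j ∈ t, c j, Finset.prod_pos (fun j _ => hc0 j), ?_⟩
  intro i
  have hx := ht (Set.mem_univ (i.ξ.base default))
  simp only [Set.mem_iUnion] at hx
  obtain ⟨j, hjt, hj⟩ := hx
  rw [hc1 j i hj]
  exact Finset.dvd_prod_of_mem c hjt

theorem constr_card_bound [CompactSpace X] [QuasiSeparatedSpace X] (F : EtCoh.Ab X)
    (hF : EtPBC.IsConstructible F) :
    ∃ N : ℕ, 0 < N ∧ ∀ i : GeomPt X, Nat.card ((EtCoh.stalk i.ξ).obj F) ∣ N := by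
  obtain ⟨κ, hκ, T, g, h1, h2, h3, h4, h5⟩ := adapted'_of_adapted ((S0128 X F).1 hF)
  haveI : Fintype κ := Fintype.ofFinite κ
  have hcpt : ∀ k, CompactSpace (T k) := by
    intro k
    haveI := h1 k
    have hc : IsCompact (Set.range (g k).base) :=
      isCompact_of_isConstructible (cin_univ (h2 k))
    rw [← isCompact_univ_iff, (g k).isEmbedding.isCompact_iff, Set.image_univ]
    exact hc
  have hex : ∀ k, ∃ N : ℕ, 0 < N ∧ ∀ i : GeomPt (T k),
      Nat.card ((EtCoh.stalk i.ξ).obj ((EtCoh.pull (g k)).obj F)) ∣ N := by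
    intro k
    haveI := hcpt k
    exact flc_card_bound _ (h5 k)
  choose N hN0 hN1 using hex
  refine ⟨∏ k, N k, Finset.prod_pos (fun k _ => hN0 k), ?_⟩
  intro i
  have hx : i.ξ.base default ∈ ⋃ k, Set.range (g k) := by rw [h4]; trivial
  obtain ⟨k, t, ht⟩ := Set.mem_iUnion.1 hx
  haveI := h1 k
  obtain ⟨ζ, hζ⟩ := exists_factor_immersion (g k) i.ξ ⟨t, ht⟩
  have e := (stalkPullIso (g k) ζ).app F
  have h6 := hN1 k ⟨i.Ω, ζ⟩
  have h7 : Nat.card ((EtCoh.stalk i.ξ).obj F) =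
      Nat.card ((EtCoh.stalk ζ).obj ((EtCoh.pull (g k)).obj F)) := by
    rw [← hζ]; exact (card_of_iso e).symm
  rw [h7]
  exact h6.trans (Finset.dvd_prod_of_mem N (Finset.mem_univ k))

theorem killedBy_of_card_bound (F : EtCoh.Ab X) (N : ℕ) (hN : 0 < N)
    (h : ∀ i : GeomPt X, Nat.card ((EtCoh.stalk i.ξ).obj F) ∣ N) : EtCoh.KilledBy N F := by
  apply killedBy_of_nsmul_id
  apply (stalk_jointlyReflectIsomorphisms X).jointlyFaithful.map_injective
  intro i
  rw [Functor.map_nsmul, Functor.map_zero, CategoryTheory.Functor.map_id]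
  have hne : Nat.card ((EtCoh.stalk i.ξ).obj F) ≠ 0 := by
    intro h0
    have := h i
    rw [h0, zero_dvd_iff] at this
    omega
  haveI : Finite ((EtCoh.stalk i.ξ).obj F) := Nat.finite_of_card_ne_zero hne
  apply AddCommGrpCat.hom_ext
  apply AddMonoidHom.ext
  intro x
  obtain ⟨d, hd⟩ := h i
  have hx : (AddCommGrpCat.Hom.hom (N • 𝟙 ((EtCoh.stalk i.ξ).obj F))) x = N • x := by simp
  rw [hx, hd, mul_nsmul, card_nsmul_eq_zero', nsmul_zero]
  rfl

theorem exists_killedBy [CompactSpace X] [QuasiSeparatedSpace X] (F : EtCoh.Ab X)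
    (hF : EtPBC.IsConstructible F) : ∃ N : ℕ, 0 < N ∧ EtCoh.KilledBy N F := by
  obtain ⟨N, hN, h⟩ := constr_card_bound F hF
  exact ⟨N, hN, killedBy_of_card_bound F N hN h⟩

theorem S3508 (X : Scheme.{u}) [CompactSpace X] [QuasiSeparatedSpace X]
    (F : EtCoh.Ab X) :
    EtPBC.IsConstructible F ↔
      ∃ (a b : ℕ) (U : Fin a → X.Etale) (V : Fin b → X.Etale) (n : Fin a → ℕ) (m : Fin b → ℕ),
        (∀ i, 0 < n i ∧ IsAffine (U i).left) ∧ (∀ j, 0 < m j ∧ IsAffine (V j).left) ∧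
        ∃ φ : (⨁ fun j => EtPBC.extZeroConst (V j) (ZMod (m j))) ⟶ (⨁ fun i => EtPBC.extZeroConst (U i) (ZMod (n i))),
          Nonempty (F ≅ cokernel φ) := by
  constructor
  · intro hF
    obtain ⟨N, hN, hk⟩ := exists_killedBy F hF
    obtain ⟨a, b, V, U, hV, hU, φ, he⟩ := S0138 X N hN F hF hk
    exact ⟨b, a, U, V, fun _ => N, fun _ => N, fun i => ⟨hN, hU i⟩, fun j => ⟨hN, hV j⟩, φ, he⟩
  · rintro ⟨a, b, U, V, n, m, h1, h2, φ, ⟨e⟩⟩
    obtain ⟨N, hNdef⟩ : ∃ N : ℕ, N = (∏ i, n i) * (∏ j, m j) := ⟨_, rfl⟩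
    have hN : 0 < N := by
      rw [hNdef]
      exact Nat.mul_pos (Finset.prod_pos fun i _ => (h1 i).1) (Finset.prod_pos fun j _ => (h2 j).1)
    have hdn : ∀ i, n i ∣ N := fun i => by
      rw [hNdef]; exact Dvd.dvd.mul_right (Finset.dvd_prod_of_mem n (Finset.mem_univ i)) _
    have hdm : ∀ j, m j ∣ N := fun j => by
      rw [hNdef]; exact Dvd.dvd.mul_left (Finset.dvd_prod_of_mem m (Finset.mem_univ j)) _
    have hcU : ∀ i, EtPBC.IsConstructible (EtPBC.extZeroConst (U i) (ZMod (n i))) := fun i => by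
      haveI := (h1 i).2
      haveI : NeZero (n i) := ⟨(h1 i).1.ne'⟩
      exact Helper15.FinEtShriek.S0133 X (U i) (ZMod (n i))
    have hcV : ∀ j, EtPBC.IsConstructible (EtPBC.extZeroConst (V j) (ZMod (m j))) := fun j => by
      haveI := (h2 j).2
      haveI : NeZero (m j) := ⟨(h2 j).1.ne'⟩
      exact Helper15.FinEtShriek.S0133 X (V j) (ZMod (m j))
    have hkU : ∀ i, EtCoh.KilledBy N (EtPBC.extZeroConst (U i) (ZMod (n i))) := fun i =>
      killedBy_of_dvd (hdn i) _ (killedBy_extZeroConst (U i) (n i))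
    have hkV : ∀ j, EtCoh.KilledBy N (EtPBC.extZeroConst (V j) (ZMod (m j))) := fun j =>
      killedBy_of_dvd (hdm j) _ (killedBy_extZeroConst (V j) (m j))
    have h3 := (S0131 φ N hN (killedBy_biproduct N _ hkV) (killedBy_biproduct N _ hkU)
      (constructible_biproduct N hN _ hcV hkV) (constructible_biproduct N hN _ hcU hkU)).2
    exact constructible_of_iso e.symm h3

end Helper15.ConstrGen
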