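import Mathlib
import Groth.Agent.Lib.Helper15.ConstrGenD
import Groth.Agent.Lib.Helper13.ModSheafBasic
import Groth.Agent.S14632

/-!
# Helper15: constructible sheaves on qcqs schemes are compact objects (S0139)
-/

set_option autoImplicit false
set_option backward.isDefEq.respectTransparency false
universe u
open CategoryTheory CategoryTheory.Limits AlgebraicGeometry Opposite

namespace Helper15.CompactObj

open Helper15.ConstrGen

attribute [local instance] Cardinal.fact_isRegular_aleph0

section Gen

variable {C : Type (u+1)} [Category.{u} C] (J : GrothendieckTopology C)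
  [HasSheafify J AddCommGrpCat.{u+1}] [HasSheafify J (Type (u+1))]
  [J.PreservesSheafification (forget AddCommGrpCat.{u+1})]

theorem sheafCompose_forget_pres (K : Type (u+1)) [SmallCategory K] [IsFiltered K] :
    PreservesColimitsOfShape K (sheafCompose J (forget AddCommGrpCat.{u+1})) := by
  haveI : PreservesColimitsOfShape K (forget AddCommGrpCat.{u+1}) := inferInstance
  haveI : PreservesColimitsOfShape K
      ((Functor.whiskeringRight Cᵒᵖ AddCommGrpCat.{u+1} (Type (u+1))).obj
        (forget AddCommGrpCat.{u+1})) :=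
    inferInstance
  haveI : PreservesColimitsOfShape K
      (presheafToSheaf J AddCommGrpCat.{u+1} ⋙ sheafCompose J (forget AddCommGrpCat.{u+1})) :=
    preservesColimitsOfShape_of_natIso
      (sheafComposeNatIso J (forget AddCommGrpCat.{u+1})
        (sheafificationAdjunction J AddCommGrpCat.{u+1})
        (sheafificationAdjunction J (Type (u+1))))
  exact Groth.Agent.Lib.Helper13.ModSheafBasic.preservesColimitsOfShape_of_reflective
    (sheafificationAdjunction J AddCommGrpCat.{u+1}) K _

end Gen

section ZMod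

/-- The morphism `ℤ/N → A` attached to an `N`-torsion element. -/
noncomputable def zlift (N : ℕ) (A : AddCommGrpCat.{u+1}) (y : A) (hy : N • y = 0) :
    AddCommGrpCat.of (ULift.{u+1} (ZMod N)) ⟶ A :=
  AddCommGrpCat.ofHom ((ZMod.lift N ⟨zmultiplesHom _ y, by
    show (N : ℤ) • y = 0
    rw [natCast_zsmul]; exact hy⟩).comp AddEquiv.ulift.toAddMonoidHom)

lemma zlift_one (N : ℕ) (A : AddCommGrpCat.{u+1}) (y : A) (hy : N • y = 0) :
    (zlift N A y hy) (ULift.up 1) = y := by
  simp only [zlift, AddCommGrpCat.hom_ofHom, AddMonoidHom.coe_comp, Function.comp_apply]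
  show (ZMod.lift N _) (1 : ZMod N) = y
  have h1 : ((1 : ℤ) : ZMod N) = 1 := Int.cast_one
  rw [← h1, ZMod.lift_coe]
  show (1 : ℤ) • y = y
  exact one_zsmul y

lemma zmod_hom_ext (N : ℕ) {A : AddCommGrpCat.{u+1}}
    (f g : AddCommGrpCat.of (ULift.{u+1} (ZMod N)) ⟶ A)
    (h : f (ULift.up 1) = g (ULift.up 1)) : f = g := by
  apply AddCommGrpCat.hom_ext
  apply AddMonoidHom.ext
  intro x
  obtain ⟨z, hz⟩ := ZMod.intCast_surjective x.down
  have hx : x = z • (ULift.up 1 : ULift.{u+1} (ZMod N)) := by
    apply ULift.ext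
    show x.down = z • (1 : ZMod N)
    rw [zsmul_one, hz]
  rw [hx, map_zsmul, map_zsmul]
  exact congrArg (fun t => z • t) h

lemma nsmul_up_one (N : ℕ) : N • (ULift.up 1 : ULift.{u+1} (ZMod N)) = 0 := by
  apply ULift.ext
  show N • (1 : ZMod N) = 0
  rw [nsmul_eq_mul, ZMod.natCast_self, zero_mul]

theorem zmod_fp (N : ℕ) :
    IsFinitelyPresentable.{u} (AddCommGrpCat.of (ULift.{u+1} (ZMod N))) := by
  rw [isFinitelyPresentable_iff_preservesFilteredColimitsOfSize]
  constructor
  intro K _ _
  haveI : PreservesColimitsOfShape K (forget AddCommGrpCat.{u+1}) :=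
    PreservesFilteredColimitsOfSize.preserves_filtered_colimits K
  constructor
  intro D
  constructor
  intro c hc
  refine ⟨Types.FilteredColimit.isColimitOf' _ _ ?_ ?_⟩
  · intro (f : AddCommGrpCat.of (ULift.{u+1} (ZMod N)) ⟶ c.pt)
    obtain ⟨k, y, hy⟩ := Concrete.isColimit_exists_rep D hc (f (ULift.up 1))
    have h0 : (c.ι.app k) (N • y) = (c.ι.app k) (0 : D.obj k) := by
      rw [map_nsmul, hy, map_zero]
      have h00 : N • (f (ULift.up 1)) = f (N • (ULift.up 1 : ULift.{u+1} (ZMod N))) :=
        (map_nsmul _ _ _).symm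
      rw [h00, nsmul_up_one, map_zero]
    obtain ⟨k', a, b, hab⟩ := Concrete.isColimit_exists_of_rep_eq D hc _ _ h0
    have hy' : N • ((D.map a) y) = 0 := by
      rw [← map_nsmul]
      exact hab.trans (map_zero _)
    refine ⟨k', zlift N (D.obj k') ((D.map a) y) hy', ?_⟩
    apply zmod_hom_ext
    show _ = (c.ι.app k') ((zlift N (D.obj k') ((D.map a) y) hy') (ULift.up 1))
    rw [zlift_one, ← hy]
    exact (ConcreteCategory.congr_hom (c.w a) y).symm
  · intro i (x : AddCommGrpCat.of (ULift.{u+1} (ZMod N)) ⟶ D.obj i)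
      (y : AddCommGrpCat.of (ULift.{u+1} (ZMod N)) ⟶ D.obj i) hxy
    have hxy' : x ≫ c.ι.app i = y ≫ c.ι.app i := hxy
    have h1 : (c.ι.app i) (x (ULift.up 1)) = (c.ι.app i) (y (ULift.up 1)) :=
      ConcreteCategory.congr_hom hxy' (ULift.up 1)
    obtain ⟨k, a, b, hab⟩ := Concrete.isColimit_exists_of_rep_eq D hc _ _ h1
    refine ⟨IsFiltered.coeq a b, a ≫ IsFiltered.coeqHom a b, ?_⟩
    apply zmod_hom_ext
    show (D.map (a ≫ IsFiltered.coeqHom a b)) (x (ULift.up 1)) =
      (D.map (a ≫ IsFiltered.coeqHom a b)) (y (ULift.up 1))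
    conv_rhs => rw [IsFiltered.coeq_condition a b]
    rw [D.map_comp, D.map_comp]
    show (D.map (IsFiltered.coeqHom a b)) ((D.map a) (x (ULift.up 1))) =
      (D.map (IsFiltered.coeqHom a b)) ((D.map b) (y (ULift.up 1)))
    rw [hab]

end ZMod

variable {X : Scheme.{u}}

/-- sections over `U` as a functor (the right adjoint of `adjU`). -/
noncomputable abbrev secU (U : X.Etale) : EtCoh.Ab X ⥤ AddCommGrpCat.{u+1} :=
  X.smallEtaleTopology.overPullback AddCommGrpCat.{u+1} U ⋙
    (sheafSections (X.smallEtaleTopology.over U) AddCommGrpCat.{u+1}).obj (op (Over.mk (𝟙 U)))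

noncomputable def secUForgetIso (U : X.Etale) :
    secU U ⋙ forget AddCommGrpCat.{u+1} ≅
      sheafCompose X.smallEtaleTopology (forget AddCommGrpCat.{u+1}) ⋙
        (sheafToPresheaf X.smallEtaleTopology (Type (u+1)) ⋙
          (evaluation X.Etaleᵒᵖ (Type (u+1))).obj (op U)) :=
  NatIso.ofComponents (fun _ => Iso.refl _) (by intros; rfl)

theorem secU_pres_big [CompactSpace X] [QuasiSeparatedSpace X] (U : X.Etale)
    [CompactSpace U.left] [QuasiSeparatedSpace U.left]
    (K : Type (u+1)) [SmallCategory K] [IsFiltered K] :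
    PreservesColimitsOfShape K (secU U) := by
  haveI : QuasiCompact U.hom := quasiCompact_of_compactSpace (X := U.left) (Y := X) U.hom
  haveI : QuasiSeparated U.hom := QuasiSeparated.of_quasiSeparatedSpace (X := U.left) (Y := X) U.hom
  haveI h1 := sheafCompose_forget_pres X.smallEtaleTopology K
  haveI h2 := Groth.Agent.S14632.result X U K
  haveI : PreservesColimitsOfShape K (secU U ⋙ forget AddCommGrpCat.{u+1}) :=
    preservesColimitsOfShape_of_natIso (secUForgetIso U).symm
  haveI : ReflectsColimitsOfShape K (forget AddCommGrpCat.{u+1}) :=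
    reflectsColimitsOfShape_of_reflectsIsomorphisms
  exact preservesColimitsOfShape_of_reflects_of_preserves (secU U) (forget AddCommGrpCat.{u+1})

theorem secU_accessible [CompactSpace X] [QuasiSeparatedSpace X] (U : X.Etale)
    [CompactSpace U.left] [QuasiSeparatedSpace U.left] :
    (secU U).IsFinitelyAccessible.{u} := by
  rw [Functor.IsFinitelyAccessible_iff_preservesFilteredColimitsOfSize]
  constructor
  intro J _ _
  haveI : IsFiltered (AsSmall.{u + 1} J) :=
    IsFiltered.of_equivalence (AsSmall.equiv.{u, u, u + 1} (C := J))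
  haveI := secU_pres_big U (AsSmall.{u+1} J)
  exact preservesColimitsOfShape_of_equiv (AsSmall.equiv.{u, u, u + 1} (C := J)).symm _

theorem extZeroConst_fp [CompactSpace X] [QuasiSeparatedSpace X] (U : X.Etale)
    [CompactSpace U.left] [QuasiSeparatedSpace U.left] (N : ℕ) :
    IsFinitelyPresentable.{u} (EtPBC.extZeroConst U (ZMod N)) := by
  haveI := zmod_fp.{u} N
  haveI := secU_accessible U
  exact (adjU U).isCardinalPresentable_leftAdjoint_obj (Cardinal.aleph0.{u})
    (AddCommGrpCat.of (ULift.{u+1} (ZMod N)))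

theorem fp_of_isColimit_fin {K : Type} [SmallCategory K] [FinCategory K] {Y : K ⥤ EtCoh.Ab X}
    (c : Cocone Y) (hc : IsColimit c) (h : ∀ k, IsFinitelyPresentable.{u} (Y.obj k)) :
    IsFinitelyPresentable.{u} c.pt :=
  isCardinalPresentable_of_isColimit' c hc Cardinal.aleph0.{u}
    ((hasCardinalLT_aleph0_iff _).2 inferInstance)

theorem fp_biproduct {a : ℕ} (f : Fin a → EtCoh.Ab X)
    (h : ∀ i, IsFinitelyPresentable.{u} (f i)) : IsFinitelyPresentable.{u} (⨁ f) :=
  fp_of_isColimit_fin (biproduct.bicone f).toCocone (biproduct.isColimit f) (fun k => h k.as)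

theorem fp_cokernel {A B : EtCoh.Ab X} (φ : A ⟶ B) (hA : IsFinitelyPresentable.{u} A)
    (hB : IsFinitelyPresentable.{u} B) : IsFinitelyPresentable.{u} (cokernel φ) :=
  fp_of_isColimit_fin (colimit.cocone (parallelPair φ 0)) (colimit.isColimit _) (fun k => by
    cases k
    · exact hA
    · exact hB)

theorem fp_of_constructible [CompactSpace X] [QuasiSeparatedSpace X] (F : EtCoh.Ab X)
    (hF : EtPBC.IsConstructible F) : IsFinitelyPresentable.{u} F := by
  obtain ⟨a, b, U, V, n, m, h1, h2, φ, ⟨e⟩⟩ := (S3508 X F).1 hF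
  have hU : ∀ i, IsFinitelyPresentable.{u} (EtPBC.extZeroConst (U i) (ZMod (n i))) := fun i => by
    haveI := (h1 i).2
    exact extZeroConst_fp (U i) (n i)
  have hV : ∀ j, IsFinitelyPresentable.{u} (EtPBC.extZeroConst (V j) (ZMod (m j))) := fun j => by
    haveI := (h2 j).2
    exact extZeroConst_fp (V j) (m j)
  haveI := fp_cokernel φ (fp_biproduct _ hV) (fp_biproduct _ hU)
  exact isCardinalPresentable_of_iso e.symm Cardinal.aleph0.{u}

theorem S0139 (X : Scheme.{u}) [CompactSpace X] [QuasiSeparatedSpace X]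
    (F : EtCoh.Ab X) (hF : EtPBC.IsConstructible F) (J : Type u) [SmallCategory J] [IsFiltered J] :
    PreservesColimitsOfShape J (coyoneda.obj (op F)) :=
  (isFinitelyPresentable_iff_preservesFilteredColimitsOfSize.1
    (fp_of_constructible F hF)).preserves_filtered_colimits J

end Helper15.CompactObj
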