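import Mathlib
import Groth.Agent.Lib.Helper15.CompactObj

/-!
# Helper15: filtered colimits of constructible sheaves with constructible colimit (S0181)
-/

set_option autoImplicit false
set_option backward.isDefEq.respectTransparency false
universe u
open CategoryTheory CategoryTheory.Limits AlgebraicGeometry Opposite

namespace Helper15.CompactObj

theorem S0181 (X : Scheme.{u}) [CompactSpace X] [QuasiSeparatedSpace X]
    {J : Type u} [SmallCategory J] [IsFiltered J] (D : J ⥤ EtCoh.Ab X)
    (c : Cocone D) (hc : IsColimit c)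
    (hD : ∀ j, EtPBC.IsConstructible (D.obj j)) (hF : EtPBC.IsConstructible c.pt) :
    ∃ (i : J) (s : c.pt ⟶ D.obj i), s ≫ c.ι.app i = 𝟙 c.pt ∧
      ∀ j : J, ∃ (k : J) (a : i ⟶ k) (b : j ⟶ k), D.map b = c.ι.app j ≫ s ≫ D.map a := by
  haveI := fp_of_constructible c.pt hF
  obtain ⟨i, s, hs⟩ := IsFinitelyPresentable.exists_hom_of_isColimit hc (𝟙 c.pt)
  refine ⟨i, s, hs, fun j => ?_⟩
  haveI := fp_of_constructible (D.obj j) (hD j)
  have h : D.map (IsFiltered.rightToMax i j) ≫ c.ι.app (IsFiltered.max i j) =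
      (c.ι.app j ≫ s ≫ D.map (IsFiltered.leftToMax i j)) ≫ c.ι.app (IsFiltered.max i j) := by
    rw [c.w, Category.assoc, Category.assoc, c.w, hs]
    exact (Category.comp_id _).symm
  obtain ⟨k, u', v', huv⟩ := IsFinitelyPresentable.exists_eq_of_isColimit hc
    (D.map (IsFiltered.rightToMax i j)) (c.ι.app j ≫ s ≫ D.map (IsFiltered.leftToMax i j)) h
  refine ⟨k, IsFiltered.leftToMax i j ≫ v', IsFiltered.rightToMax i j ≫ u', ?_⟩
  rw [D.map_comp, huv, D.map_comp]
  simp only [Category.assoc]

end Helper15.CompactObj
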