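import Groth.Agent.Lib.Helper15.ComplQuot3

/-!
# Helper library (helper15): completion of a module with an open adic submodule
-/

set_option autoImplicit false
universe u v w
open Topology Filter UniformSpace

namespace Groth.Agent.Lib.Helper15.CQ

section ApproxOpen

variable {A : Type u} [AddCommGroup A] [UniformSpace A] [IsUniformAddGroup A] [CompleteSpace A]
variable {B : Type v} [AddCommGroup B] [TopologicalSpace B] [IsTopologicalAddGroup B] [T2Space B]

theorem exists_preimage_of_approx_add' (φ : A →+ B) (hφ : Continuous φ) (I : ℕ → AddSubgroup A)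
    (hIopen : ∀ n, IsOpen (I n : Set A)) (hIanti : Antitone I)
    (hI0 : ∀ U ∈ 𝓝 (0 : A), ∃ n, (I n : Set A) ⊆ U)
    (J : ℕ → Set B) (hJ0 : ∀ U ∈ 𝓝 (0 : B), ∃ n, ∀ m, n ≤ m → J m ⊆ U)
    (hstep : ∀ n, ∀ b ∈ J n, ∃ a ∈ I n, b - φ a ∈ J (n + 1)) (n : ℕ) (b : B) (hb : b ∈ J n) :
    ∃ a ∈ I n, φ a = b := by
  haveI : NonarchimedeanAddGroup A :=
    { (inferInstance : IsTopologicalAddGroup A) with
      is_nonarchimedean := fun U hU => let ⟨n, hn⟩ := hI0 U hU; ⟨⟨I n, hIopen n⟩, hn⟩ }
  exact exists_preimage_of_approx_add φ hφ I (fun n => AddSubgroup.isClosed_of_isOpen _ (hIopen n))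
    hIanti hI0 J hJ0 hstep n b hb

end ApproxOpen

section Alg

variable {R : Type u} [CommRing R] {M : Type v} [AddCommGroup M] [Module R M]

theorem exists_sum_of_mem_span_smul {s : ℕ} (g : Fin s → R) (N : Submodule R M) {y : M}
    (hy : y ∈ Ideal.span (Set.range g) • N) :
    ∃ a : Fin s → M, (∀ k, a k ∈ N) ∧ y = ∑ k, g k • a k := by
  refine Submodule.smul_induction_on hy ?_ ?_
  · intro r hr n hn
    obtain ⟨c, rfl⟩ := (Submodule.mem_span_range_iff_exists_fun R).1 hr
    refine ⟨fun k => c k • n, fun k => N.smul_mem _ hn, ?_⟩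
    rw [Finset.sum_smul]
    refine Finset.sum_congr rfl fun k _ => ?_
    simp only [smul_eq_mul]
    rw [mul_comm, mul_smul]
  · rintro x y ⟨a, ha, rfl⟩ ⟨b, hb, rfl⟩
    refine ⟨fun k => a k + b k, fun k => N.add_mem (ha k) (hb k), ?_⟩
    rw [← Finset.sum_add_distrib]
    exact Finset.sum_congr rfl fun k _ => (smul_add _ _ _).symm

end Alg

section Hat

variable {R : Type u} [CommRing R] {M : Type v} [AddCommGroup M] [Module R M] [UniformSpace M]
  [IsUniformAddGroup M] [UniformContinuousConstSMul R M]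

/-- The closure of the image of a submodule in the completion. -/
noncomputable def hatSubmodule (N : Submodule R M) : Submodule R (Completion M) where
  carrier := closure ((fun m : M => (m : Completion M)) '' (N : Set M))
  add_mem' := fun {a b} ha hb => (hatSubgroup N.toAddSubgroup).add_mem ha hb
  zero_mem' := (hatSubgroup N.toAddSubgroup).zero_mem
  smul_mem' := by
    intro c x hx
    refine map_mem_closure (continuous_const_smul c) hx ?_
    rintro _ ⟨m, hm, rfl⟩
    exact ⟨c • m, N.smul_mem c hm, Completion.coe_smul c m⟩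

theorem hatSubmodule_toAddSubgroup (N : Submodule R M) :
    (hatSubmodule N).toAddSubgroup = hatSubgroup N.toAddSubgroup := rfl

theorem mem_hatSubmodule_iff (N : Submodule R M) (x : Completion M) :
    x ∈ hatSubmodule N ↔ x ∈ hatSubgroup N.toAddSubgroup := Iff.rfl

theorem smul_hatSubmodule_le (J : Ideal R) (N : Submodule R M) :
    J • hatSubmodule N ≤ hatSubmodule (J • N) := by
  rw [Submodule.smul_le]
  intro r hr x hx
  refine map_mem_closure (continuous_const_smul r) hx ?_
  rintro _ ⟨m, hm, rfl⟩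
  exact ⟨r • m, Submodule.smul_mem_smul hr hm, Completion.coe_smul r m⟩

end Hat

section Adic

variable {R : Type u} [CommRing R] (I : Ideal R) {M : Type v} [AddCommGroup M] [Module R M]
  [UniformSpace M] [IsUniformAddGroup M] [UniformContinuousConstSMul R M]
  (M' : Submodule R M) (hopen : ∀ n : ℕ, IsOpen ((I ^ n • M' : Submodule R M) : Set M))
  (hbasis : ∀ U ∈ 𝓝 (0 : M), ∃ n : ℕ, ((I ^ n • M' : Submodule R M) : Set M) ⊆ U)

include hopen hbasis in
theorem nonarch_of_adic : NonarchimedeanAddGroup M :=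
  { (inferInstance : IsTopologicalAddGroup M) with
    is_nonarchimedean := fun U hU =>
      let ⟨n, hn⟩ := hbasis U hU
      ⟨⟨(I ^ n • M').toAddSubgroup, hopen n⟩, hn⟩ }

omit [UniformSpace M] [IsUniformAddGroup M] [UniformContinuousConstSMul R M] in
theorem pow_smul_anti {a b : ℕ} (h : a ≤ b) : I ^ b • M' ≤ I ^ a • M' :=
  Submodule.smul_mono (Ideal.pow_le_pow_right h) le_rfl

theorem hatSubmodule_mono {N N' : Submodule R M} (h : N ≤ N') : hatSubmodule N ≤ hatSubmodule N' :=
  fun _ hx => closure_mono (Set.image_mono h) hx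

include hopen hbasis in
theorem exists_hat_pow_subset {U : Set (Completion M)} (hU : U ∈ 𝓝 (0 : Completion M)) :
    ∃ j : ℕ, (hatSubmodule (I ^ j • M') : Set (Completion M)) ⊆ U := by
  haveI := nonarch_of_adic I M' hopen hbasis
  obtain ⟨W, hW⟩ := exists_hatSubgroup_subset hU
  obtain ⟨j, hj⟩ := hbasis _ (W.isOpen.mem_nhds (W : AddSubgroup M).zero_mem)
  refine ⟨j, Set.Subset.trans ?_ hW⟩
  exact hatSubgroup_mono (V := (I ^ j • M').toAddSubgroup) (W := (W : AddSubgroup M)) hj

include hopen in
theorem isOpen_hat_pow (j : ℕ) : IsOpen (hatSubmodule (I ^ j • M') : Set (Completion M)) :=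
  hatSubgroup_isOpen (V := (I ^ j • M').toAddSubgroup) (hopen j)

include hopen hbasis in
theorem hatSubmodule_pow_smul_le {s : ℕ} (g : Fin s → R) (n : ℕ)
    (hg : Ideal.span (Set.range g) = I ^ n) :
    hatSubmodule (I ^ n • M') ≤ I ^ n • hatSubmodule M' := by
  intro b hb
  obtain ⟨φ, hφ⟩ : ∃ φ : (Fin s → Completion M) →+ Completion M, ∀ y, φ y = ∑ k, g k • y k :=
    ⟨{ toFun := fun y => ∑ k, g k • y k
       map_zero' := by simp
       map_add' := fun y z => by simp [smul_add, Finset.sum_add_distrib] }, fun _ => rfl⟩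
  have hφc : Continuous φ := by
    have : (φ : (Fin s → Completion M) → Completion M) = fun y => ∑ k, g k • y k := funext hφ
    rw [this]
    exact continuous_finset_sum _ (fun k _ => (continuous_const_smul (g k)).comp (continuous_apply k))
  obtain ⟨Ij, hIj⟩ : ∃ Ij : ℕ → AddSubgroup (Fin s → Completion M),
      ∀ j y, y ∈ Ij j ↔ ∀ k, y k ∈ hatSubmodule (I ^ j • M') :=
    ⟨fun j => AddSubgroup.pi Set.univ (fun _ => (hatSubmodule (I ^ j • M')).toAddSubgroup),
      fun j y => by simp [AddSubgroup.mem_pi]⟩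
  have hIjopen : ∀ j, IsOpen (Ij j : Set (Fin s → Completion M)) := by
    intro j
    have e : (Ij j : Set (Fin s → Completion M)) =
        Set.pi Set.univ (fun _ => (hatSubmodule (I ^ j • M') : Set (Completion M))) := by
      ext y
      simp [hIj]
    rw [e]
    exact isOpen_set_pi Set.finite_univ (fun k _ => isOpen_hat_pow I M' hopen j)
  have hIjanti : Antitone Ij := by
    intro a c hac y hy
    rw [hIj] at hy ⊢
    exact fun k => hatSubmodule_mono (pow_smul_anti I M' hac) (hy k)
  have hIj0 : ∀ U ∈ 𝓝 (0 : Fin s → Completion M), ∃ j, (Ij j : Set (Fin s → Completion M)) ⊆ U := by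
    intro U hU
    rw [nhds_pi, Filter.mem_pi] at hU
    obtain ⟨T, -, t, ht, htU⟩ := hU
    choose j hj using fun k => exists_hat_pow_subset I M' hopen hbasis (ht k)
    refine ⟨Finset.univ.sup j, fun y hy => htU ?_⟩
    intro k _
    have hy' := (hIj _ y).1 hy k
    exact hj k (hatSubmodule_mono (pow_smul_anti I M' (Finset.le_sup (Finset.mem_univ k))) hy')
  have hJ0 : ∀ U ∈ 𝓝 (0 : Completion M), ∃ j₀, ∀ m, j₀ ≤ m →
      (hatSubmodule (I ^ (n + m) • M') : Set (Completion M)) ⊆ U := by
    intro U hU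
    obtain ⟨j₀, hj₀⟩ := exists_hat_pow_subset I M' hopen hbasis hU
    exact ⟨j₀, fun m hm => Set.Subset.trans
      (hatSubmodule_mono (pow_smul_anti I M' (by omega : j₀ ≤ n + m))) hj₀⟩
  have hstep : ∀ j, ∀ b ∈ (hatSubmodule (I ^ (n + j) • M') : Set (Completion M)),
      ∃ a ∈ Ij j, b - φ a ∈ (hatSubmodule (I ^ (n + (j + 1)) • M') : Set (Completion M)) := by
    intro j b hb
    have hnhd : {y : Completion M | b - y ∈ hatSubmodule (I ^ (n + (j + 1)) • M')} ∈ 𝓝 b := by
      have ho : IsOpen {y : Completion M | b - y ∈ hatSubmodule (I ^ (n + (j + 1)) • M')} :=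
        (isOpen_hat_pow I M' hopen (n + (j + 1))).preimage (continuous_const.sub continuous_id)
      exact ho.mem_nhds (by simp)
    obtain ⟨y, hy, m, hm, rfl⟩ := mem_closure_iff_nhds.1 hb _ hnhd
    have hm' : m ∈ Ideal.span (Set.range g) • (I ^ j • M') := by
      rw [hg, ← Submodule.mul_smul, ← pow_add]
      exact hm
    obtain ⟨a, ha, rfl⟩ := exists_sum_of_mem_span_smul g (I ^ j • M') hm'
    refine ⟨fun k => ((a k : M) : Completion M), (hIj _ _).2 (fun k => subset_closure ⟨a k, ha k, rfl⟩), ?_⟩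
    have e : φ (fun k => ((a k : M) : Completion M)) = ((∑ k, g k • a k : M) : Completion M) := by
      rw [hφ]
      have := map_sum (Completion.toCompl : M →+ Completion M) (fun k => g k • a k) Finset.univ
      simp only [Completion.toCompl_apply] at this
      rw [this]
      exact Finset.sum_congr rfl fun k _ => (Completion.coe_smul (g k) (a k)).symm
    rw [e]
    exact hy
  obtain ⟨a, ha, hab⟩ := exists_preimage_of_approx_add' φ hφc Ij hIjopen hIjanti hIj0
    (fun j => (hatSubmodule (I ^ (n + j) • M') : Set (Completion M))) hJ0 hstep 0 b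
    (by simpa using hb)
  rw [← hab, hφ]
  have ha' := (hIj _ a).1 ha
  refine Submodule.sum_mem _ (fun k _ => Submodule.smul_mem_smul ?_ ?_)
  · rw [← hg]
    exact Ideal.subset_span ⟨k, rfl⟩
  · have := ha' k
    simpa using this

include hopen hbasis in
theorem pow_smul_hatSubmodule_eq (hI : I.FG) (n : ℕ) :
    I ^ n • hatSubmodule M' = hatSubmodule (I ^ n • M') := by
  obtain ⟨s, g, hg⟩ := Submodule.fg_iff_exists_fin_generating_family.1 (Ideal.FG.pow (n := n) hI)
  exact le_antisymm (smul_hatSubmodule_le _ _) (hatSubmodule_pow_smul_le I M' hopen hbasis g n hg)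

end Adic

end Groth.Agent.Lib.Helper15.CQ
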