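import Groth.Agent.Lib.Helper15.ComplAdic

/-!
# Helper library (helper15): completion of a module with an open adic submodule, main statement
-/

set_option autoImplicit false
universe u v w
open Topology Filter UniformSpace

namespace Groth.Agent.Lib.Helper15.CQ

theorem completion_of_isOpen_adic_submodule
    {R : Type u} [CommRing R] (I : Ideal R) (hI : I.FG)
    {M : Type v} [AddCommGroup M] [Module R M] [UniformSpace M] [IsUniformAddGroup M]
    [UniformContinuousConstSMul R M]
    (M' : Submodule R M) (hopen : ∀ n : ℕ, IsOpen ((I ^ n • M' : Submodule R M) : Set M))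
    (hbasis : ∀ U ∈ 𝓝 (0 : M), ∃ n : ℕ, ((I ^ n • M' : Submodule R M) : Set M) ⊆ U) :
    (∃ M'' : Submodule R (UniformSpace.Completion M),
        (∀ n : ℕ, IsOpen ((I ^ n • M'' : Submodule R (UniformSpace.Completion M)) :
          Set (UniformSpace.Completion M))) ∧
        ∀ U ∈ 𝓝 (0 : UniformSpace.Completion M), ∃ n : ℕ,
          ((I ^ n • M'' : Submodule R (UniformSpace.Completion M)) :
            Set (UniformSpace.Completion M)) ⊆ U) ∧
      ∀ n : ℕ, 0 < n →
        Function.Surjective ((QuotientAddGroup.mk' (I ^ n • ⊤ : Submodule R (UniformSpace.Completion M)).toAddSubgroup).comp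
          (UniformSpace.Completion.toCompl : M →+ UniformSpace.Completion M)) ∧
        ((QuotientAddGroup.mk' (I ^ n • ⊤ : Submodule R (UniformSpace.Completion M)).toAddSubgroup).comp
          (UniformSpace.Completion.toCompl : M →+ UniformSpace.Completion M)).ker =
            (I ^ n • ⊤ : Submodule R M).toAddSubgroup := by
  have heq := pow_smul_hatSubmodule_eq I M' hopen hbasis hI
  have hM'open : IsOpen (M' : Set M) := by
    have := hopen 0
    simpa using this
  refine ⟨⟨hatSubmodule M', fun n => ?_, fun U hU => ?_⟩, fun n _ => ⟨?_, ?_⟩⟩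
  · rw [heq n]
    exact isOpen_hat_pow I M' hopen n
  · obtain ⟨j, hj⟩ := exists_hat_pow_subset I M' hopen hbasis hU
    exact ⟨j, by rw [heq j]; exact hj⟩
  · intro y
    obtain ⟨x, rfl⟩ := QuotientAddGroup.mk'_surjective _ y
    obtain ⟨m, hm⟩ := exists_coe_sub_mem (V := (I ^ n • M').toAddSubgroup) (hopen n) x
    refine ⟨m, ?_⟩
    symm
    rw [AddMonoidHom.comp_apply, QuotientAddGroup.mk'_apply, QuotientAddGroup.mk'_apply,
      QuotientAddGroup.eq_iff_sub_mem]
    have h1 : x - (m : Completion M) ∈ hatSubmodule (I ^ n • M') := hm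
    rw [← heq n] at h1
    exact Submodule.smul_mono le_rfl le_top h1
  · ext m
    rw [AddMonoidHom.mem_ker, AddMonoidHom.comp_apply, QuotientAddGroup.mk'_apply,
      QuotientAddGroup.eq_zero_iff]
    show ((m : M) : Completion M) ∈ (I ^ n • ⊤ : Submodule R (Completion M)) ↔
      m ∈ (I ^ n • ⊤ : Submodule R M)
    constructor
    · intro hm
      obtain ⟨s, g, hg⟩ := Submodule.fg_iff_exists_fin_generating_family.1 (Ideal.FG.pow (n := n) hI)
      have hg' : Ideal.span (Set.range g) = I ^ n := hg
      rw [← hg'] at hm
      obtain ⟨y, -, hy⟩ := exists_sum_of_mem_span_smul g ⊤ hm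
      choose m' hm' using fun k => exists_coe_sub_mem (V := M'.toAddSubgroup) hM'open (y k)
      have h1 : ∑ k, g k • (y k - ((m' k : M) : Completion M)) ∈ I ^ n • hatSubmodule M' := by
        refine Submodule.sum_mem _ (fun k _ => Submodule.smul_mem_smul ?_ (hm' k))
        rw [← hg']
        exact Ideal.subset_span ⟨k, rfl⟩
      rw [heq n] at h1
      have e : ∑ k, g k • (y k - ((m' k : M) : Completion M)) =
          ((m - ∑ k, g k • m' k : M) : Completion M) := by
        rw [Completion.coe_sub, hy]
        have := map_sum (Completion.toCompl : M →+ Completion M) (fun k => g k • m' k) Finset.univ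
        simp only [Completion.toCompl_apply] at this
        rw [this, ← Finset.sum_sub_distrib]
        refine Finset.sum_congr rfl fun k _ => ?_
        rw [smul_sub, Completion.coe_smul]
      rw [e] at h1
      have h2 : m - ∑ k, g k • m' k ∈ closure ((I ^ n • M' : Submodule R M) : Set M) :=
        mem_closure_of_coe_mem_closure_image h1
      have hcl : IsClosed ((I ^ n • M' : Submodule R M) : Set M) :=
        AddSubgroup.isClosed_of_isOpen (I ^ n • M').toAddSubgroup (hopen n)
      rw [hcl.closure_eq] at h2
      have h3 : m - ∑ k, g k • m' k ∈ (I ^ n • ⊤ : Submodule R M) :=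
        Submodule.smul_mono le_rfl le_top h2
      have h4 : ∑ k, g k • m' k ∈ (I ^ n • ⊤ : Submodule R M) := by
        refine Submodule.sum_mem _ (fun k _ => Submodule.smul_mem_smul ?_ Submodule.mem_top)
        rw [← hg']
        exact Ideal.subset_span ⟨k, rfl⟩
      have := Submodule.add_mem _ h3 h4
      simpa using this
    · intro hm
      refine Submodule.smul_induction_on hm ?_ ?_
      · intro r hr m' _
        rw [Completion.coe_smul]
        exact Submodule.smul_mem_smul hr Submodule.mem_top
      · intro x y hx hy
        rw [Completion.coe_add]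
        exact Submodule.add_mem _ hx hy

end Groth.Agent.Lib.Helper15.CQ
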