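import Mathlib

/-!
# Helper library (helper15): completion of a quotient of a nonarchimedean group
-/

set_option autoImplicit false
universe u v w
open Topology Filter UniformSpace

namespace Groth.Agent.Lib.Helper15.CQ

section Basics

variable {G : Type u} [AddCommGroup G] [UniformSpace G] [IsUniformAddGroup G]

/-- The closure of the image of a subgroup in the completion. -/
noncomputable def hatSubgroup (V : AddSubgroup G) : AddSubgroup (Completion G) :=
  (V.map (Completion.toCompl : G →+ Completion G)).topologicalClosure

theorem coe_hatSubgroup (V : AddSubgroup G) :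
    (hatSubgroup V : Set (Completion G)) = closure ((fun g : G => (g : Completion G)) '' (V : Set G)) :=
  rfl

theorem coe_mem_hatSubgroup {V : AddSubgroup G} {g : G} (hg : g ∈ V) :
    (g : Completion G) ∈ hatSubgroup V :=
  subset_closure ⟨g, hg, rfl⟩

theorem hatSubgroup_mem_nhds {V : AddSubgroup G} (hV : IsOpen (V : Set G)) :
    (hatSubgroup V : Set (Completion G)) ∈ 𝓝 (0 : Completion G) := by
  rw [coe_hatSubgroup]
  have := Completion.isDenseInducing_coe.closure_image_mem_nhds (hV.mem_nhds V.zero_mem)
  rwa [Completion.coe_zero] at this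

theorem hatSubgroup_isOpen {V : AddSubgroup G} (hV : IsOpen (V : Set G)) :
    IsOpen (hatSubgroup V : Set (Completion G)) :=
  AddSubgroup.isOpen_of_mem_nhds _ (hatSubgroup_mem_nhds hV)

theorem hatSubgroup_isClosed (V : AddSubgroup G) : IsClosed (hatSubgroup V : Set (Completion G)) :=
  isClosed_closure

theorem hatSubgroup_mono {V W : AddSubgroup G} (h : V ≤ W) : hatSubgroup V ≤ hatSubgroup W :=
  fun _ hx => closure_mono (Set.image_mono h) hx

theorem exists_hatSubgroup_subset [NonarchimedeanAddGroup G] {U : Set (Completion G)}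
    (hU : U ∈ 𝓝 (0 : Completion G)) :
    ∃ V : OpenAddSubgroup G, (hatSubgroup (V : AddSubgroup G) : Set (Completion G)) ⊆ U := by
  obtain ⟨W, hW, hWc, hWU⟩ := exists_mem_nhds_isClosed_subset hU
  have h0 : (fun g : G => (g : Completion G)) ⁻¹' W ∈ 𝓝 (0 : G) := by
    apply (Completion.continuous_coe G).continuousAt
    rwa [Completion.coe_zero]
  obtain ⟨V, hV⟩ := NonarchimedeanAddGroup.is_nonarchimedean _ h0
  refine ⟨V, (closure_minimal ?_ hWc).trans hWU⟩
  rintro _ ⟨g, hg, rfl⟩
  exact hV hg

theorem mem_closure_of_coe_mem_closure_image {S : Set G} {g : G}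
    (h : (g : Completion G) ∈ closure ((fun g : G => (g : Completion G)) '' S)) : g ∈ closure S := by
  rw [Completion.isDenseInducing_coe.isInducing.closure_eq_preimage_closure_image]
  exact h

/-- every point of the completion is close to a point of `G` -/
theorem exists_coe_sub_mem {V : AddSubgroup G} (hV : IsOpen (V : Set G)) (x : Completion G) :
    ∃ g : G, x - (g : Completion G) ∈ hatSubgroup V := by
  have ho : IsOpen {y : Completion G | x - y ∈ hatSubgroup V} :=
    (hatSubgroup_isOpen hV).preimage (continuous_const.sub continuous_id)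
  have hx : x ∈ {y : Completion G | x - y ∈ hatSubgroup V} := by simp
  obtain ⟨y, hy, g, rfl⟩ := mem_closure_iff_nhds.1 (Completion.denseRange_coe x) _ (ho.mem_nhds hx)
  exact ⟨g, hy⟩

end Basics

section Quot

variable {G : Type u} [AddCommGroup G] [UniformSpace G] [IsUniformAddGroup G] [NonarchimedeanAddGroup G]
variable {Q : Type v} [AddCommGroup Q] [UniformSpace Q] [IsUniformAddGroup Q]

theorem map_eq_completion (π : G →+ Q) (hπc : Continuous π) (x : Completion G) :
    Completion.map π x = AddMonoidHom.completion π hπc x := rfl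

theorem completion_mem_closure (π : G →+ Q) (hπc : Continuous π) {V : AddSubgroup G} {x : Completion G}
    (hx : x ∈ hatSubgroup V) : AddMonoidHom.completion π hπc x ∈ hatSubgroup (V.map π) := by
  have h1 := image_closure_subset_closure_image (AddMonoidHom.continuous_completion π hπc)
    (s := (fun g : G => (g : Completion G)) '' (V : Set G)) ⟨x, hx, rfl⟩
  refine closure_mono ?_ h1
  rintro _ ⟨_, ⟨g, hg, rfl⟩, rfl⟩
  exact ⟨π g, ⟨g, hg, rfl⟩, (AddMonoidHom.completion_coe π hπc g).symm⟩

theorem isOpen_map_of_isOpenMap (π : G →+ Q) (hπo : IsOpenMap π) {V : AddSubgroup G}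
    (hV : IsOpen (V : Set G)) : IsOpen ((V.map π : AddSubgroup Q) : Set Q) := hπo _ hV

theorem ker_completion_map_eq (π : G →+ Q) (hπc : Continuous π) (hπo : IsOpenMap π) :
    (Completion.map π) ⁻¹' {0} =
      closure ((fun g : G => (g : Completion G)) '' (π.ker : Set G)) := by
  apply Set.Subset.antisymm
  · intro x hx
    have hx0 : AddMonoidHom.completion π hπc x = 0 := hx
    rw [mem_closure_iff_nhds]
    intro t ht
    have h0 : (fun y => x + y) ⁻¹' t ∈ 𝓝 (0 : Completion G) := by
      apply (continuous_add_left x).continuousAt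
      simpa using ht
    obtain ⟨V, hV⟩ := exists_hatSubgroup_subset h0
    obtain ⟨m, hm⟩ := exists_coe_sub_mem V.isOpen x
    -- `π̂ (x - m) ∈ closure (ι (π V))`
    have h1 := completion_mem_closure π hπc hm
    rw [map_sub, hx0, zero_sub, AddMonoidHom.completion_coe] at h1
    have h2 : ((π m : Q) : Completion Q) ∈ hatSubgroup ((V : AddSubgroup G).map π) := by
      have := (hatSubgroup ((V : AddSubgroup G).map π)).neg_mem h1
      simpa using this
    have h3 : π m ∈ closure (((V : AddSubgroup G).map π : AddSubgroup Q) : Set Q) :=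
      mem_closure_of_coe_mem_closure_image h2
    have hopen : IsOpen (((V : AddSubgroup G).map π : AddSubgroup Q) : Set Q) := hπo _ V.isOpen
    rw [(AddSubgroup.isClosed_of_isOpen _ hopen).closure_eq] at h3
    obtain ⟨v, hv, hvm⟩ := h3
    refine ⟨((m - v : G) : Completion G), ?_, ⟨m - v, ?_, rfl⟩⟩
    · have h4 : ((m - v : G) : Completion G) = x + (-(x - (m : Completion G)) - (v : Completion G)) := by
        rw [Completion.coe_sub]
        abel
      rw [h4]
      apply hV
      exact (hatSubgroup (V : AddSubgroup G)).sub_mem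
        ((hatSubgroup (V : AddSubgroup G)).neg_mem hm) (coe_mem_hatSubgroup hv)
    · show π (m - v) = 0
      rw [map_sub, hvm, sub_self]
  · have hcl : IsClosed ((Completion.map π) ⁻¹' ({0} : Set (Completion Q))) :=
      isClosed_singleton.preimage Completion.continuous_map
    refine closure_minimal ?_ hcl
    rintro _ ⟨g, hg, rfl⟩
    show Completion.map π (g : Completion G) = 0
    rw [map_eq_completion π hπc, AddMonoidHom.completion_coe]
    have : π g = 0 := hg
    rw [this, Completion.coe_zero]

end Quot

end Groth.Agent.Lib.Helper15.CQ
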