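import Groth.Agent.Lib.Helper15.ComplQuot

/-!
# Helper library (helper15): completion of a quotient of a linearly topologized module
-/

set_option autoImplicit false
universe u v w
open Topology Filter UniformSpace

namespace Groth.Agent.Lib.Helper15.CQ

theorem nonarch_of_isLinearTopology {R : Type u} [Ring R] {M : Type v} [AddCommGroup M] [Module R M]
    [TopologicalSpace M] [IsTopologicalAddGroup M] [IsLinearTopology R M] : NonarchimedeanAddGroup M :=
  { (inferInstance : IsTopologicalAddGroup M) with
    is_nonarchimedean := fun U hU =>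
      let ⟨V, hV, hVU⟩ := (IsLinearTopology.hasBasis_open_submodule R).mem_iff.1 hU
      ⟨⟨V.toAddSubgroup, hV⟩, hVU⟩ }

theorem ker_completion_map_mk {R : Type u} [Ring R] {M : Type v} [AddCommGroup M] [Module R M]
    [UniformSpace M] [IsUniformAddGroup M] [IsLinearTopology R M] (N : Submodule R M) :
    (@UniformSpace.Completion.map M _ (M ⧸ N.toAddSubgroup)
        (IsTopologicalAddGroup.rightUniformSpace (M ⧸ N.toAddSubgroup))
        (QuotientAddGroup.mk' N.toAddSubgroup)) ⁻¹' {0} =
      closure (Set.range (fun n : N => ((n : M) : UniformSpace.Completion M))) := by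
  letI : UniformSpace (M ⧸ N.toAddSubgroup) :=
    IsTopologicalAddGroup.rightUniformSpace (M ⧸ N.toAddSubgroup)
  haveI : IsUniformAddGroup (M ⧸ N.toAddSubgroup) := isUniformAddGroup_of_addCommGroup
  haveI : NonarchimedeanAddGroup M := nonarch_of_isLinearTopology (R := R)
  have h := ker_completion_map_eq (QuotientAddGroup.mk' N.toAddSubgroup)
    QuotientAddGroup.continuous_mk QuotientAddGroup.isOpenMap_coe
  rw [QuotientAddGroup.ker_mk'] at h
  rw [h]
  congr 1
  ext x
  constructor
  · rintro ⟨g, hg, rfl⟩
    exact ⟨⟨g, hg⟩, rfl⟩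
  · rintro ⟨⟨g, hg⟩, rfl⟩
    exact ⟨g, hg, rfl⟩

end Groth.Agent.Lib.Helper15.CQ
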