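import Groth.Agent.Lib.Helper15.ComplQuot2

/-!
# Helper library (helper15): the completion of an open surjection of first countable nonarchimedean groups is an
open surjection
-/

set_option autoImplicit false
universe u v w
open Topology Filter UniformSpace

namespace Groth.Agent.Lib.Helper15.CQ

section Approx

variable {A : Type u} [AddCommGroup A] [UniformSpace A] [IsUniformAddGroup A] [NonarchimedeanAddGroup A]
  [CompleteSpace A]
variable {B : Type v} [AddCommGroup B] [TopologicalSpace B] [IsTopologicalAddGroup B] [T2Space B]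

/-- Successive approximation for additive groups. -/
theorem exists_preimage_of_approx_add (φ : A →+ B) (hφ : Continuous φ) (I : ℕ → AddSubgroup A)
    (hIclosed : ∀ n, IsClosed (I n : Set A)) (hIanti : Antitone I)
    (hI0 : ∀ U ∈ 𝓝 (0 : A), ∃ n, (I n : Set A) ⊆ U)
    (J : ℕ → Set B) (hJ0 : ∀ U ∈ 𝓝 (0 : B), ∃ n, ∀ m, n ≤ m → J m ⊆ U)
    (hstep : ∀ n, ∀ b ∈ J n, ∃ a ∈ I n, b - φ a ∈ J (n + 1)) (n : ℕ) (b : B) (hb : b ∈ J n) :
    ∃ a ∈ I n, φ a = b := by
  have step : ∀ j (y : {y : B // y ∈ J (n + j)}), ∃ a : A, a ∈ I (n + j) ∧ y.1 - φ a ∈ J (n + (j + 1)) :=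
    fun j y => hstep (n + j) y.1 y.2
  choose a ha1 ha2 using step
  obtain ⟨bs, bs_zero, bs_succ⟩ : ∃ bs : ∀ j, {y : B // y ∈ J (n + j)},
      (bs 0).1 = b ∧ ∀ j, (bs (j + 1)).1 = (bs j).1 - φ (a j (bs j)) :=
    ⟨fun j => Nat.rec (motive := fun j => {y : B // y ∈ J (n + j)}) ⟨b, hb⟩
      (fun j y => ⟨y.1 - φ (a j y), ha2 j y⟩) j, rfl, fun j => rfl⟩
  have hident : ∀ N, φ (∑ j ∈ Finset.range N, a j (bs j)) + (bs N).1 = b := by
    intro N
    induction N with
    | zero => simp [bs_zero]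
    | succ N ih =>
      rw [bs_succ, Finset.sum_range_succ, map_add, ← ih]
      abel
  have hamem : ∀ j, a j (bs j) ∈ I (n + j) := fun j => ha1 j (bs j)
  have hatend : Tendsto (fun j => a j (bs j)) atTop (𝓝 0) := by
    rw [tendsto_def]
    intro U hU
    obtain ⟨m, hm⟩ := hI0 U hU
    rw [mem_atTop_sets]
    exact ⟨m, fun j hj => hm (hIanti (by omega : m ≤ n + j) (hamem j))⟩
  have hcauchy : CauchySeq (fun N => ∑ j ∈ Finset.range N, a j (bs j)) := by
    apply NonarchimedeanAddGroup.cauchySeq_of_tendsto_sub_nhds_zero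
    have e : (fun N => (∑ j ∈ Finset.range (N + 1), a j (bs j)) - ∑ j ∈ Finset.range N, a j (bs j))
        = fun N => a N (bs N) := by
      funext N
      rw [Finset.sum_range_succ]
      abel
    rw [e]
    exact hatend
  obtain ⟨l, hl⟩ := cauchySeq_tendsto_of_complete hcauchy
  have hsum_mem : ∀ N, ∑ j ∈ Finset.range N, a j (bs j) ∈ I n := fun N =>
    (I n).sum_mem (fun j _ => hIanti (Nat.le_add_right n j) (hamem j))
  have hl_mem : l ∈ I n := (hIclosed n).mem_of_tendsto hl (Eventually.of_forall hsum_mem)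
  have hbs : Tendsto (fun N => (bs N).1) atTop (𝓝 0) := by
    rw [tendsto_def]
    intro U hU
    obtain ⟨m, hm⟩ := hJ0 U hU
    rw [mem_atTop_sets]
    exact ⟨m, fun j hj => hm (n + j) (by omega) (bs j).2⟩
  have hlim : Tendsto (fun N => φ (∑ j ∈ Finset.range N, a j (bs j)) + (bs N).1) atTop
      (𝓝 (φ l + 0)) := ((hφ.tendsto l).comp hl).add hbs
  have hconst : Tendsto (fun N => φ (∑ j ∈ Finset.range N, a j (bs j)) + (bs N).1) atTop (𝓝 b) := by
    simp only [hident]
    exact tendsto_const_nhds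
  have hb' : b = φ l + 0 := tendsto_nhds_unique hconst hlim
  exact ⟨l, hl_mem, by rw [hb', add_zero]⟩

end Approx

section Main

variable {G : Type u} [AddCommGroup G] [UniformSpace G] [IsUniformAddGroup G] [NonarchimedeanAddGroup G]
variable {Q : Type v} [AddCommGroup Q] [UniformSpace Q] [IsUniformAddGroup Q]

theorem nonarch_completion : NonarchimedeanAddGroup (Completion G) :=
  { (inferInstance : IsTopologicalAddGroup (Completion G)) with
    is_nonarchimedean := fun U hU =>
      let ⟨V, hV⟩ := exists_hatSubgroup_subset hU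
      ⟨⟨hatSubgroup (V : AddSubgroup G), hatSubgroup_isOpen V.isOpen⟩, hV⟩ }

theorem nonarch_of_isOpenMap (π : G →+ Q) (hπc : Continuous π) (hπo : IsOpenMap π) :
    NonarchimedeanAddGroup Q :=
  { (inferInstance : IsTopologicalAddGroup Q) with
    is_nonarchimedean := fun U hU => by
      have h0 : π ⁻¹' U ∈ 𝓝 (0 : G) := hπc.continuousAt (by simpa using hU)
      obtain ⟨W, hW⟩ := NonarchimedeanAddGroup.is_nonarchimedean _ h0
      refine ⟨⟨(W : AddSubgroup G).map π, hπo _ W.isOpen⟩, ?_⟩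
      rintro _ ⟨w, hw, rfl⟩
      exact hW hw }

theorem completion_surjective_isOpenMap (hc : (𝓝 (0 : G)).IsCountablyGenerated) (π : G →+ Q)
    (hπc : Continuous π) (hπo : IsOpenMap π) (hπs : Function.Surjective π) :
    Function.Surjective (Completion.map π) ∧ IsOpenMap (Completion.map π) := by
  have hbasis : (𝓝 (0 : G)).HasBasis (fun _ : OpenAddSubgroup G => True)
      (fun V => ((V : AddSubgroup G) : Set G)) :=
    ⟨fun U => ⟨fun hU => let ⟨V, hV⟩ := NonarchimedeanAddGroup.is_nonarchimedean U hU; ⟨V, trivial, hV⟩,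
      fun ⟨V, _, hV⟩ => mem_of_superset (V.isOpen.mem_nhds (V : AddSubgroup G).zero_mem) hV⟩⟩
  obtain ⟨V, -, hVbasis⟩ := hbasis.exists_antitone_subbasis
  have hVanti : ∀ {m n}, m ≤ n → (V n : AddSubgroup G) ≤ (V m : AddSubgroup G) :=
    fun h => hVbasis.antitone h
  have hV0 : ∀ U ∈ 𝓝 (0 : G), ∃ n, ((V n : AddSubgroup G) : Set G) ⊆ U := fun U hU =>
    let ⟨n, _, h⟩ := hVbasis.1.mem_iff.1 hU
    ⟨n, h⟩
  haveI : NonarchimedeanAddGroup (Completion G) := nonarch_completion
  haveI : NonarchimedeanAddGroup Q := nonarch_of_isOpenMap π hπc hπo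
  obtain ⟨φ, hφdef⟩ : ∃ φ : Completion G →+ Completion Q, φ = AddMonoidHom.completion π hπc :=
    ⟨_, rfl⟩
  have hφc : Continuous φ := hφdef ▸ AddMonoidHom.continuous_completion π hπc
  have hφcoe : ∀ g : G, φ (g : Completion G) = ((π g : Q) : Completion Q) := fun g => by
    rw [hφdef, AddMonoidHom.completion_coe]
  have hφfun : Completion.map π = φ := by
    rw [hφdef]
    rfl
  obtain ⟨I, hIdef⟩ : ∃ I : ℕ → AddSubgroup (Completion G),
      I = fun n => hatSubgroup (V n : AddSubgroup G) := ⟨_, rfl⟩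
  obtain ⟨J, hJdef⟩ : ∃ J : ℕ → AddSubgroup (Completion Q),
      J = fun n => hatSubgroup ((V n : AddSubgroup G).map π) := ⟨_, rfl⟩
  have hIclosed : ∀ n, IsClosed (I n : Set (Completion G)) := fun n => by
    rw [hIdef]; exact hatSubgroup_isClosed _
  have hIanti : Antitone I := fun m n h => by
    rw [hIdef]; exact hatSubgroup_mono (hVanti h)
  have hI0 : ∀ U ∈ 𝓝 (0 : Completion G), ∃ n, (I n : Set (Completion G)) ⊆ U := by
    intro U hU
    obtain ⟨W, hW⟩ := exists_hatSubgroup_subset hU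
    obtain ⟨n, hn⟩ := hV0 _ (W.isOpen.mem_nhds (W : AddSubgroup G).zero_mem)
    refine ⟨n, Set.Subset.trans ?_ hW⟩
    rw [hIdef]
    exact hatSubgroup_mono (V := (V n : AddSubgroup G)) (W := (W : AddSubgroup G)) hn
  have hJopen : ∀ n, IsOpen (J n : Set (Completion Q)) := fun n => by
    rw [hJdef]; exact hatSubgroup_isOpen (hπo _ (V n).isOpen)
  have hJ0 : ∀ U ∈ 𝓝 (0 : Completion Q), ∃ n, ∀ m, n ≤ m → (J m : Set (Completion Q)) ⊆ U := by
    intro U hU
    obtain ⟨W, hW⟩ := exists_hatSubgroup_subset hU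
    have h0 : π ⁻¹' ((W : AddSubgroup Q) : Set Q) ∈ 𝓝 (0 : G) :=
      hπc.continuousAt (by simpa using W.isOpen.mem_nhds (W : AddSubgroup Q).zero_mem)
    obtain ⟨n, hn⟩ := hV0 _ h0
    refine ⟨n, fun m hm => Set.Subset.trans ?_ hW⟩
    rw [hJdef]
    apply hatSubgroup_mono (V := (V m : AddSubgroup G).map π) (W := (W : AddSubgroup Q))
    rintro _ ⟨g, hg, rfl⟩
    exact hn (hVanti hm hg)
  have hstep : ∀ n, ∀ b ∈ (J n : Set (Completion Q)), ∃ a ∈ I n, b - φ a ∈ (J (n + 1) : Set (Completion Q)) := by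
    intro n b hb
    have hnhd : {y : Completion Q | b - y ∈ J (n + 1)} ∈ 𝓝 b := by
      have ho : IsOpen {y : Completion Q | b - y ∈ J (n + 1)} :=
        (hJopen (n + 1)).preimage (continuous_const.sub continuous_id)
      exact ho.mem_nhds (by simp)
    rw [hJdef] at hb
    obtain ⟨y, hy, _, ⟨v, hv, rfl⟩, rfl⟩ := mem_closure_iff_nhds.1 hb _ hnhd
    refine ⟨(v : Completion G), ?_, ?_⟩
    · rw [hIdef]; exact coe_mem_hatSubgroup hv
    · rw [hφcoe]; exact hy
  have hkey : ∀ n, ∀ b ∈ (J n : Set (Completion Q)), ∃ a ∈ I n, φ a = b :=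
    exists_preimage_of_approx_add φ hφc I hIclosed hIanti hI0 (fun n => (J n : Set (Completion Q))) hJ0
      hstep
  have hsurj : Function.Surjective φ := by
    intro b
    obtain ⟨q, hq⟩ := exists_coe_sub_mem (V := (V 0 : AddSubgroup G).map π) (hπo _ (V 0).isOpen) b
    obtain ⟨g, rfl⟩ := hπs q
    have hq' : b - ((π g : Q) : Completion Q) ∈ (J 0 : Set (Completion Q)) := by
      rw [hJdef]; exact hq
    obtain ⟨a, -, ha⟩ := hkey 0 _ hq'
    exact ⟨(g : Completion G) + a, by rw [map_add, ha, hφcoe]; abel⟩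
  have hopen : IsOpenMap φ := by
    rw [isOpenMap_iff_nhds_le]
    intro x S hS
    have h1 : (fun y => x + y) ⁻¹' (φ ⁻¹' S) ∈ 𝓝 (0 : Completion G) := by
      apply (continuous_add_left x).continuousAt
      simpa using hS
    obtain ⟨n, hn⟩ := hI0 _ h1
    have ho : IsOpen {y : Completion Q | y - φ x ∈ J n} :=
      (hJopen n).preimage (continuous_id.sub continuous_const)
    refine mem_of_superset (ho.mem_nhds (by simp)) ?_
    intro y hy
    obtain ⟨a, ha, hay⟩ := hkey n _ hy
    have h2 : φ (x + a) ∈ S := hn ha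
    rw [map_add, hay] at h2
    simpa using h2
  rw [hφfun]
  exact ⟨hsurj, hopen⟩

end Main

theorem completion_map_mk_surjective_and_isOpenMap {R : Type u} [Ring R] {M : Type v} [AddCommGroup M]
    [Module R M] [UniformSpace M] [IsUniformAddGroup M] [IsLinearTopology R M]
    (hc : (𝓝 (0 : M)).IsCountablyGenerated) (N : Submodule R M) :
    Function.Surjective (@UniformSpace.Completion.map M _ (M ⧸ N.toAddSubgroup)
        (IsTopologicalAddGroup.rightUniformSpace (M ⧸ N.toAddSubgroup))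
        (QuotientAddGroup.mk' N.toAddSubgroup)) ∧
      IsOpenMap (@UniformSpace.Completion.map M _ (M ⧸ N.toAddSubgroup)
        (IsTopologicalAddGroup.rightUniformSpace (M ⧸ N.toAddSubgroup))
        (QuotientAddGroup.mk' N.toAddSubgroup)) := by
  letI : UniformSpace (M ⧸ N.toAddSubgroup) :=
    IsTopologicalAddGroup.rightUniformSpace (M ⧸ N.toAddSubgroup)
  haveI : IsUniformAddGroup (M ⧸ N.toAddSubgroup) := isUniformAddGroup_of_addCommGroup
  haveI : NonarchimedeanAddGroup M := nonarch_of_isLinearTopology (R := R)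
  exact completion_surjective_isOpenMap hc (QuotientAddGroup.mk' N.toAddSubgroup)
    QuotientAddGroup.continuous_mk QuotientAddGroup.isOpenMap_coe (QuotientAddGroup.mk'_surjective _)

end Groth.Agent.Lib.Helper15.CQ
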