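import Groth.Agent.Lib.Helper15.TransferEfface

/-!
# Helper15: `H^i(Spec k, ℤ) ≃ H^{i-1}(Spec k, ℚ/ℤ)` for `i ≥ 2`
-/

set_option autoImplicit false
set_option backward.isDefEq.respectTransparency false
universe u
open CategoryTheory CategoryTheory.Limits AlgebraicGeometry Opposite

namespace Groth.Agent.Lib.Helper15.ConstRat

open EtCore

section Alg

/-- `ℤ → ℚ` on `ULift`s. -/
noncomputable def aHom : ULift.{u + 1} ℤ →+ ULift.{u + 1} ℚ :=
  (AddEquiv.ulift.symm : ℚ ≃+ ULift.{u + 1} ℚ).toAddMonoidHom.comp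
    ((Int.castAddHom ℚ).comp (AddEquiv.ulift : ULift.{u + 1} ℤ ≃+ ℤ).toAddMonoidHom)

/-- `ℚ → ℚ/ℤ` on `ULift`s. -/
noncomputable def bHom :
    ULift.{u + 1} ℚ →+ ULift.{u + 1} (ℚ ⧸ AddSubgroup.zmultiples (1 : ℚ)) :=
  (AddEquiv.ulift.symm : _ ≃+ ULift.{u + 1} (ℚ ⧸ AddSubgroup.zmultiples (1 : ℚ))).toAddMonoidHom.comp
    ((QuotientAddGroup.mk' (AddSubgroup.zmultiples (1 : ℚ))).comp
      (AddEquiv.ulift : ULift.{u + 1} ℚ ≃+ ℚ).toAddMonoidHom)

lemma aHom_apply (x : ULift.{u + 1} ℤ) : (aHom x).down = (x.down : ℚ) := rfl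

lemma bHom_apply (x : ULift.{u + 1} ℚ) :
    (bHom x).down = QuotientAddGroup.mk' (AddSubgroup.zmultiples (1 : ℚ)) x.down := rfl

/-- The short complex `ℤ → ℚ → ℚ/ℤ` in `AddCommGrpCat.{u+1}`. -/
noncomputable def S₀ : ShortComplex AddCommGrpCat.{u + 1} :=
  ShortComplex.mk (AddCommGrpCat.ofHom aHom.{u}) (AddCommGrpCat.ofHom bHom.{u}) (by
    ext x
    change (bHom (aHom x)).down = 0
    rw [bHom_apply]
    change ((aHom x).down : ℚ ⧸ AddSubgroup.zmultiples (1 : ℚ)) = 0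
    rw [QuotientAddGroup.eq_zero_iff, aHom_apply]
    exact ⟨x.down, by simp⟩)

lemma S₀_shortExact : S₀.{u}.ShortExact := by
  refine ShortComplex.ShortExact.mk' ?_ ?_ ?_
  · rw [ShortComplex.ab_exact_iff]
    intro x hx
    have h1 : (bHom x).down = 0 := congrArg ULift.down hx
    rw [bHom_apply] at h1
    have h2 : (x.down : ℚ ⧸ AddSubgroup.zmultiples (1 : ℚ)) = 0 := h1
    rw [QuotientAddGroup.eq_zero_iff] at h2
    obtain ⟨n, hn⟩ := h2
    refine ⟨(ULift.up n : ULift.{u + 1} ℤ), ?_⟩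
    apply ULift.ext
    change (aHom (ULift.up n : ULift.{u + 1} ℤ)).down = x.down
    rw [aHom_apply, ← hn]
    simp
  · rw [AddCommGrpCat.mono_iff_injective]
    intro x y hxy
    have h1 : (aHom x).down = (aHom y).down := congrArg ULift.down hxy
    rw [aHom_apply, aHom_apply] at h1
    apply ULift.ext
    exact_mod_cast h1
  · rw [AddCommGrpCat.epi_iff_surjective]
    intro y
    obtain ⟨q, hq⟩ := QuotientAddGroup.mk'_surjective (AddSubgroup.zmultiples (1 : ℚ)) y.down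
    refine ⟨(ULift.up q : ULift.{u + 1} ℚ), ?_⟩
    apply ULift.ext
    exact hq

lemma isIso_nsmul_rat (n : ℕ) (hn : 0 < n) :
    IsIso (n • 𝟙 (AddCommGrpCat.of (ULift.{u + 1} ℚ))) := by
  rw [ConcreteCategory.isIso_iff_bijective]
  constructor
  · intro x y hxy
    have h1 : n • x = n • y := hxy
    have h2 : n • x.down = n • y.down := congrArg ULift.down h1
    apply ULift.ext
    rw [nsmul_eq_mul, nsmul_eq_mul] at h2
    exact mul_left_cancel₀ (Nat.cast_ne_zero.2 hn.ne') h2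
  · intro y
    refine ⟨ULift.up (y.down / n), ?_⟩
    change n • ULift.up (y.down / (n : ℚ)) = y
    apply ULift.ext
    change n • (y.down / (n : ℚ)) = y.down
    rw [nsmul_eq_mul]
    field_simp

end Alg

section Sheaf

variable (X : Scheme.{u})

lemma const_pfl :
    PreservesFiniteLimits (constantSheaf X.smallEtaleTopology AddCommGrpCat.{u + 1}) := by
  unfold constantSheaf
  infer_instance

lemma const_pfc :
    PreservesFiniteColimits (constantSheaf X.smallEtaleTopology AddCommGrpCat.{u + 1}) := by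
  haveI := (constAdj X).leftAdjoint_preservesColimits
  infer_instance

/-- The short exact sequence `0 → ℤ → ℚ → ℚ/ℤ → 0` of constant sheaves. -/
lemma constS_shortExact :
    (S₀.{u}.map (constantSheaf X.smallEtaleTopology AddCommGrpCat.{u + 1})).ShortExact := by
  haveI := const_pfl X
  haveI := const_pfc X
  exact S₀_shortExact.map_of_exact _

lemma isIso_nsmul_constRat (n : ℕ) (hn : 0 < n) : IsIso (n • 𝟙 (EtCoh.const X ℚ)) := by
  have h : n • 𝟙 (EtCoh.const X ℚ) =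
      (constantSheaf X.smallEtaleTopology AddCommGrpCat.{u + 1}).map
        (n • 𝟙 (AddCommGrpCat.of (ULift.{u + 1} ℚ))) := by
    rw [Functor.map_nsmul, CategoryTheory.Functor.map_id]
  rw [h]
  haveI := isIso_nsmul_rat.{u} n hn
  infer_instance

end Sheaf

/-- S13499. -/
theorem main_S13499 (k : Type u) [Field k] (i : ℕ) (hi : 2 ≤ i) :
    Nonempty (EtCoh.H (Spec (CommRingCat.of k)) (EtCoh.const (Spec (CommRingCat.of k)) ℤ) i ≃+
      EtCoh.H (Spec (CommRingCat.of k))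
        (EtCoh.const (Spec (CommRingCat.of k)) (ℚ ⧸ AddSubgroup.zmultiples (1 : ℚ))) (i - 1)) := by
  obtain ⟨j, rfl⟩ : ∃ j, i = j + 2 := ⟨i - 2, by omega⟩
  obtain ⟨hS⟩ : Nonempty ((S₀.{u}.map (constantSheaf (Spec (CommRingCat.of k)).smallEtaleTopology
      AddCommGrpCat.{u + 1})).ShortExact) := ⟨constS_shortExact _⟩
  have hQ : ∀ m : ℕ, Subsingleton (EtCoh.H (Spec (CommRingCat.of k))
      (EtCoh.const (Spec (CommRingCat.of k)) ℚ) (m + 1)) := fun m =>
    TransferEfface.main_S7744 k _ (isIso_nsmul_constRat _) (m + 1) (Nat.succ_pos m)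
  obtain ⟨δ, hδ⟩ : ∃ δ : EtCoh.H (Spec (CommRingCat.of k))
      (EtCoh.const (Spec (CommRingCat.of k)) (ℚ ⧸ AddSubgroup.zmultiples (1 : ℚ))) (j + 1) →+
      EtCoh.H (Spec (CommRingCat.of k)) (EtCoh.const (Spec (CommRingCat.of k)) ℤ) (j + 2),
      ∀ x, δ x = Abelian.Ext.comp x hS.extClass rfl :=
    ⟨hS.extClass.postcomp (EtCoh.const (Spec (CommRingCat.of k)) ℤ) rfl, fun x => rfl⟩
  have hinj : Function.Injective δ := by
    rw [injective_iff_map_eq_zero]
    intro x hx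
    rw [hδ] at hx
    obtain ⟨x₂, hx₂⟩ := Abelian.Ext.covariant_sequence_exact₃ _ hS x rfl hx
    haveI := hQ j
    have : x₂ = 0 := Subsingleton.elim (α := EtCoh.H (Spec (CommRingCat.of k))
      (EtCoh.const (Spec (CommRingCat.of k)) ℚ) (j + 1)) _ _
    rw [← hx₂, this, Abelian.Ext.zero_comp]
  have hsurj : Function.Surjective δ := by
    intro x₁
    haveI := hQ (j + 1)
    have h0 : Abelian.Ext.comp x₁ (Abelian.Ext.mk₀ (S₀.{u}.map (constantSheaf
        (Spec (CommRingCat.of k)).smallEtaleTopology AddCommGrpCat.{u + 1})).f)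
        (add_zero (j + 2)) = 0 :=
      Subsingleton.elim (α := EtCoh.H (Spec (CommRingCat.of k))
        (EtCoh.const (Spec (CommRingCat.of k)) ℚ) (j + 1 + 1)) _ _
    obtain ⟨x₃, hx₃⟩ := Abelian.Ext.covariant_sequence_exact₁ _ hS x₁ h0 rfl
    exact ⟨x₃, (hδ x₃).trans hx₃⟩
  exact ⟨(AddEquiv.ofBijective δ ⟨hinj, hsurj⟩).symm⟩

end Groth.Agent.Lib.Helper15.ConstRat
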