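import Mathlib
import Groth.Agent.Lib.Helper15.LcStruct
import Groth.Agent.Lib.Helper15.SubConst

/-!
# Helper15: sections of a constant sheaf on the small étale site as locally constant functions

For `s ∈ (M_X)(V)` the value function `val s : V → M`; it is locally constant, compatible with
restriction, determines `s`, and every locally constant function arises.  Consequence:
a criterion for the restriction map along `w : W ⟶ V` to be bijective.
-/

set_option autoImplicit false
set_option backward.isDefEq.respectTransparency false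

universe u

open CategoryTheory CategoryTheory.Limits AlgebraicGeometry Opposite Topology

namespace Helper15.ConstSec

open Helper15.LcStruct Groth.Agent.Lib.Helper15

variable {X : Scheme.{u}}

section FibreProduct

variable {V Z Z' : X.Etale} (k : Z ⟶ V) (k' : Z' ⟶ V)

/-- The fibre product `Z ×_V Z'` as an object of the small étale site. -/
noncomputable def fp : X.Etale :=
  haveI : Etale Z.hom := Z.prop
  Scheme.Etale.mk (pullback.fst k.left k'.left ≫ Z.hom)

noncomputable def fpFst : fp k k' ⟶ Z :=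
  MorphismProperty.Over.homMk (pullback.fst k.left k'.left) rfl trivial

noncomputable def fpSnd : fp k k' ⟶ Z' :=
  MorphismProperty.Over.homMk (pullback.snd k.left k'.left) (by
    show pullback.snd k.left k'.left ≫ Z'.hom = pullback.fst k.left k'.left ≫ Z.hom
    have h1 : k.left ≫ V.hom = Z.hom := MorphismProperty.Over.w k
    have h2 : k'.left ≫ V.hom = Z'.hom := MorphismProperty.Over.w k'
    rw [← h1, ← h2, ← Category.assoc, ← Category.assoc, pullback.condition]) trivial

lemma fp_w : fpFst k k' ≫ k = fpSnd k k' ≫ k' := by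
  apply MorphismProperty.Over.Hom.ext
  show (fpFst k k').left ≫ k.left = (fpSnd k k').left ≫ k'.left
  exact pullback.condition

lemma fp_point (z : Z.left) (z' : Z'.left) (h : k.left z = k'.left z') :
    ∃ p : (fp k k').left, (fpFst k k').left p = z ∧ (fpSnd k k').left p = z' :=
  Scheme.Pullback.exists_preimage_pullback z z' h

end FibreProduct

section Res

/-- An open of an étale `X`-scheme as an object of the small étale site. -/
noncomputable def res (V : X.Etale) (O : V.left.Opens) : X.Etale :=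
  haveI : Etale V.hom := V.prop
  Scheme.Etale.mk (O.ι ≫ V.hom)

noncomputable def resι (V : X.Etale) (O : V.left.Opens) : res V O ⟶ V :=
  MorphismProperty.Over.homMk O.ι rfl trivial

lemma resι_mem (V : X.Etale) (O : V.left.Opens) (p : (res V O).left) :
    (resι V O).left p ∈ O := by
  have h : O.ι p ∈ Set.range O.ι := ⟨p, rfl⟩
  rw [Scheme.Opens.range_ι] at h
  exact h

lemma exists_resι_eq (V : X.Etale) (O : V.left.Opens) (v : V.left) (hv : v ∈ O) :
    ∃ p : (res V O).left, (resι V O).left p = v := by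
  have h : v ∈ Set.range O.ι := by rw [Scheme.Opens.range_ι]; exact hv
  exact h

instance resι_mono (V : X.Etale) (O : V.left.Opens) : Mono (resι V O).left :=
  inferInstanceAs (Mono O.ι)

end Res

variable (Mg : AddCommGrpCat.{u+1})

/-- `s` has the value `m` at the point `v`: on some étale neighbourhood of `v` it is the constant
section `m`. -/
def HasVal {V : X.Etale} (s : (cst X Mg).obj.obj (op V)) (v : V.left) (m : Mg) : Prop :=
  ∃ (Z : X.Etale) (k : Z ⟶ V) (z : Z.left), k.left z = v ∧
    (cst X Mg).obj.map k.op s = eta Mg Z m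

theorem hasVal_exists {V : X.Etale} (s : (cst X Mg).obj.obj (op V)) (v : V.left) :
    ∃ m, HasVal Mg s v m := by
  have hS := Presheaf.imageSieve_mem X.smallEtaleTopology
    (toSheafify X.smallEtaleTopology ((Functor.const X.Etaleᵒᵖ).obj Mg)) (U := op V) s
  obtain ⟨Z, k, z, hk, hz⟩ := (EtGlue.mem_iff V _).1 hS v
  obtain ⟨m, hm⟩ := hk
  exact ⟨m, Z, k, z, hz, hm.symm⟩

theorem map_comp_apply {V Z Z₂ : X.Etale} (k : Z ⟶ V) (l : Z₂ ⟶ Z)
    (s : (cst X Mg).obj.obj (op V)) :
    (cst X Mg).obj.map (l ≫ k).op s = (cst X Mg).obj.map l.op ((cst X Mg).obj.map k.op s) := by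
  rw [op_comp]
  exact EtGlue.ab_map_comp (cst X Mg) k.op l.op s

theorem hasVal_unique {V : X.Etale} (s : (cst X Mg).obj.obj (op V)) (v : V.left) {m m' : Mg}
    (h : HasVal Mg s v m) (h' : HasVal Mg s v m') : m = m' := by
  obtain ⟨Z, k, z, hz, hk⟩ := h
  obtain ⟨Z', k', z', hz', hk'⟩ := h'
  obtain ⟨p, -, -⟩ := fp_point k k' z z' (hz.trans hz'.symm)
  haveI : Nonempty (fp k k').left := ⟨p⟩
  have c1 : (cst X Mg).obj.map (fpFst k k' ≫ k).op s = eta Mg (fp k k') m := by
    rw [map_comp_apply, hk, eta_map_apply]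
  have c2 : (cst X Mg).obj.map (fpSnd k k' ≫ k').op s = eta Mg (fp k k') m' := by
    rw [map_comp_apply, hk', eta_map_apply]
  rw [fp_w] at c1
  exact eta_injective Mg _ (bot_not_mem_of_nonempty _) (c1.symm.trans c2)

theorem hasVal_map {V Z : X.Etale} (h : Z ⟶ V) (s : (cst X Mg).obj.obj (op V)) (z : Z.left)
    {m : Mg} (hv : HasVal Mg s (h.left z) m) : HasVal Mg ((cst X Mg).obj.map h.op s) z m := by
  obtain ⟨Z₁, k, z₁, hz₁, hk⟩ := hv
  obtain ⟨p, hp1, -⟩ := fp_point h k z z₁ hz₁.symm
  refine ⟨fp h k, fpFst h k, p, hp1, ?_⟩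
  rw [← map_comp_apply, fp_w, map_comp_apply, hk, eta_map_apply]

theorem hasVal_of_map {V Z : X.Etale} (h : Z ⟶ V) (s : (cst X Mg).obj.obj (op V)) (z : Z.left)
    {m : Mg} (hv : HasVal Mg ((cst X Mg).obj.map h.op s) z m) : HasVal Mg s (h.left z) m := by
  obtain ⟨Z₁, k, z₁, hz₁, hk⟩ := hv
  refine ⟨Z₁, k ≫ h, z₁, ?_, ?_⟩
  · show (k.left ≫ h.left) z₁ = h.left z
    rw [Scheme.Hom.comp_apply, hz₁]
  · rw [map_comp_apply]; exact hk

/-- The value of a section of the constant sheaf at a point. -/
noncomputable def val {V : X.Etale} (s : (cst X Mg).obj.obj (op V)) (v : V.left) : Mg :=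
  (hasVal_exists Mg s v).choose

theorem val_spec {V : X.Etale} (s : (cst X Mg).obj.obj (op V)) (v : V.left) :
    HasVal Mg s v (val Mg s v) := (hasVal_exists Mg s v).choose_spec

theorem val_eq {V : X.Etale} {s : (cst X Mg).obj.obj (op V)} {v : V.left} {m : Mg}
    (h : HasVal Mg s v m) : val Mg s v = m := hasVal_unique Mg s v (val_spec Mg s v) h

theorem val_map {V Z : X.Etale} (h : Z ⟶ V) (s : (cst X Mg).obj.obj (op V)) (z : Z.left) :
    val Mg ((cst X Mg).obj.map h.op s) z = val Mg s (h.left z) :=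
  val_eq Mg (hasVal_map Mg h s z (val_spec Mg s (h.left z)))

theorem val_eta (V : X.Etale) (m : Mg) (v : V.left) : val Mg (eta Mg V m) v = m := by
  refine val_eq Mg ⟨V, 𝟙 V, v, rfl, ?_⟩
  rw [op_id, CategoryTheory.Functor.map_id]
  rfl

theorem ext_of_val {V : X.Etale} (s s' : (cst X Mg).obj.obj (op V))
    (h : ∀ v, val Mg s v = val Mg s' v) : s = s' := by
  refine EtGlue.eq_of_locally_ab (cst X Mg) s s' ?_
  intro v
  obtain ⟨Z, k, z, hz, hk⟩ := val_spec Mg s v
  obtain ⟨Z', k', z', hz', hk'⟩ := val_spec Mg s' v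
  obtain ⟨p, hp1, -⟩ := fp_point k k' z z' (hz.trans hz'.symm)
  refine ⟨fp k k', fpFst k k' ≫ k, p, ?_, ?_⟩
  · show ((fpFst k k').left ≫ k.left) p = v
    rw [Scheme.Hom.comp_apply, hp1, hz]
  · have c1 : (cst X Mg).obj.map (fpFst k k' ≫ k).op s = eta Mg (fp k k') (val Mg s v) := by
      rw [map_comp_apply, hk, eta_map_apply]
    have c2 : (cst X Mg).obj.map (fpSnd k k' ≫ k').op s' = eta Mg (fp k k') (val Mg s' v) := by
      rw [map_comp_apply, hk', eta_map_apply]
    rw [← fp_w] at c2
    rw [c1, c2, h v]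

theorem val_locallyConstant {V : X.Etale} (s : (cst X Mg).obj.obj (op V)) :
    IsLocallyConstant (val Mg s) := by
  rw [IsLocallyConstant.iff_exists_open]
  intro v
  obtain ⟨Z, k, z, hz, hk⟩ := val_spec Mg s v
  refine ⟨Set.range k.left.base, k.left.isOpenMap.isOpen_range, ⟨z, hz⟩, ?_⟩
  rintro _ ⟨z', rfl⟩
  have := val_map Mg k s z'
  rw [hk, val_eta] at this
  exact this.symm

theorem exists_of_locallyConstant {V : X.Etale} (f : V.left → Mg) (hf : IsLocallyConstant f) :
    ∃ s : (cst X Mg).obj.obj (op V), ∀ v, val Mg s v = f v := by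
  obtain ⟨O, hO⟩ : ∃ O : Mg → V.left.Opens, ∀ m v, v ∈ O m ↔ f v = m :=
    ⟨fun m => ⟨f ⁻¹' {m}, hf.isOpen_fiber m⟩, fun m v => Iff.rfl⟩
  obtain ⟨t, ht, -⟩ := EtGlue.glueAb (cst X Mg) (fun m : Mg => res V (O m))
    (fun m => resι V (O m)) (fun m => inferInstance)
    (by
      intro a b hab p q e
      have h1 := (hO a _).1 (resι_mem V (O a) p)
      have h2 := (hO b _).1 (resι_mem V (O b) q)
      rw [e] at h1
      exact hab (h1.symm.trans h2))
    (by
      intro v
      obtain ⟨p, hp⟩ := exists_resι_eq V (O (f v)) v ((hO _ _).2 rfl)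
      exact ⟨f v, p, hp⟩)
    (fun m => eta Mg _ m)
  refine ⟨t, fun v => ?_⟩
  obtain ⟨p, hp⟩ := exists_resι_eq V (O (f v)) v ((hO _ _).2 rfl)
  have := val_map Mg (resι V (O (f v))) t p
  rw [ht, val_eta, hp] at this
  exact this.symm

/-- Criterion for bijectivity of the restriction map of a constant sheaf along `w : W ⟶ V` with
dense image. -/
theorem restrict_bijective {V W : X.Etale} (w : W ⟶ V) (hd : DenseRange w.left.base)
    (H : ∀ g : W.left → Mg, IsLocallyConstant g → ∀ y : V.left, ∃ N : Set V.left,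
      IsOpen N ∧ y ∈ N ∧ ∀ a b : W.left, w.left.base a ∈ N → w.left.base b ∈ N → g a = g b) :
    Function.Bijective ((cst X Mg).obj.map w.op) := by
  constructor
  · intro s s' hss
    apply ext_of_val Mg
    intro v
    have h1 := (val_locallyConstant Mg s).isOpen_fiber (val Mg s v)
    have h2 := (val_locallyConstant Mg s').isOpen_fiber (val Mg s' v)
    obtain ⟨a, ha⟩ := hd.exists_mem_open (h1.inter h2) ⟨v, rfl, rfl⟩
    have e1 : val Mg s (w.left.base a) = val Mg s v := ha.1
    have e2 : val Mg s' (w.left.base a) = val Mg s' v := ha.2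
    have e3 := val_map Mg w s a
    have e4 := val_map Mg w s' a
    rw [hss] at e3
    exact e1.symm.trans (e3.symm.trans (e4.trans e2))
  · intro t
    have hg := val_locallyConstant Mg t
    choose N hNo hyN hN using H (val Mg t) hg
    have hex : ∀ y : V.left, ∃ a : W.left, w.left.base a ∈ N y := fun y =>
      hd.exists_mem_open (hNo y) ⟨y, hyN y⟩
    choose a ha using hex
    have hf : IsLocallyConstant (fun y => val Mg t (a y)) := by
      rw [IsLocallyConstant.iff_exists_open]
      intro y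
      refine ⟨N y, hNo y, hyN y, ?_⟩
      intro y' hy'
      obtain ⟨b, hb⟩ := hd.exists_mem_open ((hNo y).inter (hNo y')) ⟨y', hy', hyN y'⟩
      exact (hN y' _ _ (ha y') hb.2).trans (hN y _ _ hb.1 (ha y))
    obtain ⟨s, hs⟩ := exists_of_locallyConstant Mg _ hf
    refine ⟨s, ext_of_val Mg _ _ (fun b => ?_)⟩
    have e1 := val_map Mg w s b
    rw [e1, hs]
    exact hN _ _ _ (ha _) (hyN _)

end Helper15.ConstSec
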