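import Mathlib
import Groth.Prelude.Def_Algz

/-!
# Combinatorics of the distance function `Algz.deltaZ` (helper15)
-/

set_option autoImplicit false
universe u

namespace Groth.Agent.Lib.Helper15.DSys

section Codim

variable {Y : Type u} [TopologicalSpace Y]

theorem spec_of_eq {a a' b b' : Y} (ha : a = a') (hb : b = b') (h : a' ⤳ b') : a ⤳ b := by
  subst ha; subst hb; exact h

theorem codimPt_congr {w w' v v' : Y} (hw : w = w') (hv : v = v') (h : w ⤳ v) (h' : w' ⤳ v') :
    Algz.codimPt w v h = Algz.codimPt w' v' h' := by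
  subst hw; subst hv; rfl

theorem codimPt_self (v : Y) (h : v ⤳ v) : Algz.codimPt v v h = 0 := by
  unfold Algz.codimPt
  rw [Order.height_eq_zero]
  intro b _
  exact b.2

theorem specializes_of_codimPt_eq_zero {w v : Y} (h : w ⤳ v) (h0 : Algz.codimPt w v h = 0) :
    v ⤳ w := by
  unfold Algz.codimPt at h0
  rw [Order.height_eq_zero] at h0
  have h1 := h0 (b := ⟨Specialization.toEquiv v, Set.self_mem_Ici⟩)
    (Specialization.toEquiv_le_toEquiv.mpr h)
  exact Specialization.toEquiv_le_toEquiv.mp h1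

theorem one_le_codimPt {w v : Y} (h : w ⤳ v) (hn : ¬ v ⤳ w) : 1 ≤ Algz.codimPt w v h := by
  rw [Order.one_le_iff_ne_zero]
  exact fun h0 => hn (specializes_of_codimPt_eq_zero h h0)

theorem codimPt_le_of_specializes {w v v' : Y} (h : w ⤳ v) (h' : w ⤳ v') (hvv' : v ⤳ v') :
    Algz.codimPt w v h ≤ Algz.codimPt w v' h' := by
  unfold Algz.codimPt
  have hle : Specialization.toEquiv v' ≤ Specialization.toEquiv v :=
    Specialization.toEquiv_le_toEquiv.mpr hvv'
  exact Order.height_le_height_apply_of_strictMono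
    (fun x : Set.Ici (Specialization.toEquiv v) =>
      (⟨x.1, hle.trans x.2⟩ : Set.Ici (Specialization.toEquiv v')))
    (fun a b hab => hab) _

/-- an immediate specialization has codimension at most one -/
theorem codimPt_le_one_of_immediate {w v : Y} (h : w ⤳ v)
    (himm : ∀ z : Y, w ⤳ z → z ⤳ v → z ⤳ w ∨ v ⤳ z) : Algz.codimPt w v h ≤ 1 := by
  unfold Algz.codimPt
  rw [Order.height_le_iff]
  intro p hp
  by_contra hlen
  have h2 : 2 ≤ p.length := by
    by_contra h2
    apply hlen
    have : p.length ≤ 1 := by omega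
    exact_mod_cast this
  have h01 : p.toFun ⟨0, by omega⟩ < p.toFun ⟨1, by omega⟩ :=
    p.strictMono (by rw [Fin.lt_def]; exact Nat.zero_lt_one)
  have h1l : p.toFun ⟨1, by omega⟩ < p.toFun (Fin.last p.length) :=
    p.strictMono (by rw [Fin.lt_def]; show 1 < p.length; omega)
  have h1w : p.toFun ⟨1, by omega⟩ <
      (⟨Specialization.toEquiv w, Specialization.toEquiv_le_toEquiv.mpr h⟩ :
        Set.Ici (Specialization.toEquiv v)) := lt_of_lt_of_le h1l hp
  have hv1 : (⟨Specialization.toEquiv v, Set.self_mem_Ici⟩ : Set.Ici (Specialization.toEquiv v)) <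
      p.toFun ⟨1, by omega⟩ := lt_of_le_of_lt (p.toFun ⟨0, by omega⟩).2 h01
  obtain ⟨z, hz⟩ : ∃ z : Y, Specialization.toEquiv z = (p.toFun ⟨1, by omega⟩).1 :=
    ⟨Specialization.ofEquiv (p.toFun ⟨1, by omega⟩).1, rfl⟩
  have hzw : w ⤳ z := by
    have := h1w.le
    rw [← Subtype.coe_le_coe, ← hz] at this
    exact Specialization.toEquiv_le_toEquiv.mp this
  have hzv : z ⤳ v := by
    have := hv1.le
    rw [← Subtype.coe_le_coe, ← hz] at this
    exact Specialization.toEquiv_le_toEquiv.mp this
  rcases himm z hzw hzv with h' | h'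
  · apply not_le_of_gt h1w
    rw [← Subtype.coe_le_coe, ← hz]
    exact Specialization.toEquiv_le_toEquiv.mpr h'
  · apply not_le_of_gt hv1
    rw [← Subtype.coe_le_coe, ← hz]
    exact Specialization.toEquiv_le_toEquiv.mpr h'

end Codim

section Val

/-- the combinatorial value of a system -/
noncomputable def val {k : ℕ} (c : Fin (k + 1) → ℕ∞) (b : Fin k → ℕ∞) : ℕ∞ :=
  Finset.univ.sup fun i : Fin (k + 1) =>
    (∑ j ∈ Finset.univ.filter (fun j : Fin (k + 1) => i ≤ j), c j) -
      ∑ j ∈ Finset.univ.filter (fun j : Fin k => i.val ≤ j.val), b j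

theorem term_le_val {k : ℕ} (c : Fin (k + 1) → ℕ∞) (b : Fin k → ℕ∞) (i : Fin (k + 1)) :
    (∑ j ∈ Finset.univ.filter (fun j : Fin (k + 1) => i ≤ j), c j) -
      ∑ j ∈ Finset.univ.filter (fun j : Fin k => i.val ≤ j.val), b j ≤ val c b :=
  Finset.le_sup (f := fun i : Fin (k + 1) =>
    (∑ j ∈ Finset.univ.filter (fun j : Fin (k + 1) => i ≤ j), c j) -
      ∑ j ∈ Finset.univ.filter (fun j : Fin k => i.val ≤ j.val), b j) (Finset.mem_univ i)

theorem val_mono {k : ℕ} {c c' : Fin (k + 1) → ℕ∞} {b b' : Fin k → ℕ∞}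
    (hc : ∀ j, c' j ≤ c j) (hb : ∀ j, b j ≤ b' j) : val c' b' ≤ val c b := by
  unfold val
  exact Finset.sup_mono_fun (fun i _ => tsub_le_tsub
    (Finset.sum_le_sum (fun j _ => hc j)) (Finset.sum_le_sum (fun j _ => hb j)))

theorem sum_filter_le_castSucc {k : ℕ} (f : Fin (k + 2) → ℕ∞) (i : Fin (k + 1)) :
    ∑ j ∈ Finset.univ.filter (fun j : Fin (k + 2) => i.castSucc ≤ j), f j =
      (∑ j ∈ Finset.univ.filter (fun j : Fin (k + 1) => i ≤ j), f j.castSucc) +
        f (Fin.last (k + 1)) := by
  rw [Finset.sum_filter, Fin.sum_univ_castSucc, Finset.sum_filter,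
    if_pos (Fin.le_last i.castSucc)]
  rfl

theorem sum_filter_val_castSucc {k : ℕ} (g : Fin (k + 1) → ℕ∞) (i : Fin (k + 1)) :
    ∑ j ∈ Finset.univ.filter (fun j : Fin (k + 1) => i.castSucc.val ≤ j.val), g j =
      (∑ j ∈ Finset.univ.filter (fun j : Fin k => i.val ≤ j.val), g j.castSucc) +
        g (Fin.last k) := by
  rw [Finset.sum_filter, Fin.sum_univ_castSucc, Finset.sum_filter,
    if_pos (show i.castSucc.val ≤ (Fin.last k).val from Fin.is_le i)]
  rfl

theorem one_add_val_le {k : ℕ} (c : Fin (k + 1) → ℕ∞) (b : Fin k → ℕ∞)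
    (c' : Fin (k + 2) → ℕ∞) (b' : Fin (k + 1) → ℕ∞)
    (hc : ∀ j, c' (Fin.castSucc j) = c j) (hcl : c' (Fin.last (k + 1)) = 0)
    (hb : ∀ j, b' (Fin.castSucc j) = b j) (hbl : 1 ≤ b' (Fin.last k))
    (h1 : 1 ≤ c (Fin.last k)) :
    1 + val c' b' ≤ val c b := by
  have hM1 : 1 ≤ val c b := by
    have hB : ∑ j ∈ Finset.univ.filter (fun j : Fin k => (Fin.last k).val ≤ j.val), b j = 0 := by
      apply Finset.sum_eq_zero
      intro j hj
      exact absurd (Finset.mem_filter.mp hj).2 (not_le.mpr j.isLt)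
    have hle := term_le_val c b (Fin.last k)
    rw [hB, tsub_zero] at hle
    refine le_trans (h1.trans ?_) hle
    exact Finset.single_le_sum (f := c) (fun _ _ => by simp)
      (Finset.mem_filter.mpr ⟨Finset.mem_univ _, le_rfl⟩)
  have hkey : val c' b' ≤ val c b - 1 := by
    unfold val
    refine Finset.sup_le (fun i _ => ?_)
    refine Fin.lastCases ?_ (fun i₀ => ?_) i
    · have hC : ∑ j ∈ Finset.univ.filter (fun j : Fin (k + 2) => Fin.last (k + 1) ≤ j), c' j
          = 0 := by
        apply Finset.sum_eq_zero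
        intro j hj
        have hj' : j = Fin.last (k + 1) := Fin.last_le_iff.mp (Finset.mem_filter.mp hj).2
        rw [hj', hcl]
      show (∑ j ∈ Finset.univ.filter (fun j : Fin (k + 2) => Fin.last (k + 1) ≤ j), c' j) - _ ≤ _
      rw [hC, zero_tsub]
      simp
    · show (∑ j ∈ Finset.univ.filter (fun j : Fin (k + 2) => i₀.castSucc ≤ j), c' j) -
          (∑ j ∈ Finset.univ.filter (fun j : Fin (k + 1) => i₀.castSucc.val ≤ j.val), b' j) ≤ _
      rw [sum_filter_le_castSucc, sum_filter_val_castSucc, hcl, add_zero]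
      simp only [hc, hb]
      have hT := term_le_val c b i₀
      calc (∑ j ∈ Finset.univ.filter (fun j : Fin (k + 1) => i₀ ≤ j), c j) -
            ((∑ j ∈ Finset.univ.filter (fun j : Fin k => i₀.val ≤ j.val), b j) +
              b' (Fin.last k))
          ≤ (∑ j ∈ Finset.univ.filter (fun j : Fin (k + 1) => i₀ ≤ j), c j) -
            ((∑ j ∈ Finset.univ.filter (fun j : Fin k => i₀.val ≤ j.val), b j) + 1) :=
            tsub_le_tsub_left (add_le_add (le_refl _) hbl) _
        _ = ((∑ j ∈ Finset.univ.filter (fun j : Fin (k + 1) => i₀ ≤ j), c j) -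
            (∑ j ∈ Finset.univ.filter (fun j : Fin k => i₀.val ≤ j.val), b j)) - 1 :=
            tsub_add_eq_tsub_tsub _ _ _
        _ ≤ val c b - 1 := tsub_le_tsub_right hT 1
  calc 1 + val c' b' ≤ 1 + (val c b - 1) := add_le_add (le_refl _) hkey
    _ = val c b := add_tsub_cancel_of_le hM1

theorem val_eq_zero_of_le {k : ℕ} (c : Fin (k + 1) → ℕ∞) (b : Fin k → ℕ∞)
    (hcb : ∀ j : Fin k, c j.castSucc ≤ b j) (hcl : c (Fin.last k) = 0) : val c b = 0 := by
  unfold val
  rw [← nonpos_iff_eq_zero]
  refine Finset.sup_le (fun i _ => ?_)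
  rw [tsub_le_iff_right, zero_add, Finset.sum_filter, Fin.sum_univ_castSucc, hcl,
    Finset.sum_filter]
  simp only [ite_self, add_zero]
  refine Finset.sum_le_sum (fun j _ => ?_)
  by_cases hij : i ≤ Fin.castSucc j
  · rw [if_pos hij, if_pos (show i.val ≤ j.val from hij)]
    exact hcb j
  · rw [if_neg hij, if_neg (show ¬ i.val ≤ j.val from hij)]

end Val

section Sys

variable {Y : Type u} [TopologicalSpace Y]

/-- append an element to a tuple (non-dependent `Fin.snoc`) -/
def snocY {n : ℕ} (f : Fin n → Y) (a : Y) : Fin (n + 1) → Y := Fin.snoc (α := fun _ => Y) f a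

theorem snocY_castSucc {n : ℕ} (f : Fin n → Y) (a : Y) (j : Fin n) :
    snocY f a j.castSucc = f j := Fin.snoc_castSucc (α := fun _ => Y) a f j

theorem snocY_last {n : ℕ} (f : Fin n → Y) (a : Y) : snocY f a (Fin.last n) = a :=
  Fin.snoc_last (α := fun _ => Y) a f

variable {Z : Set Y} {y : Y} {k : ℕ}

theorem delta_eq (S : Algz.DSystem Z y k) : S.delta = (k : ℕ∞) + val S.c S.b := rfl

/-- extend a system by the pair `(y', y')` -/
def extSys (S : Algz.DSystem Z y k) (y' : Y) (h : y ⤳ y') : Algz.DSystem Z y' (k + 1) where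
  v := snocY S.v y'
  w := snocY S.w y'
  spec := fun i => Fin.lastCases (motive := fun i => snocY S.w y' i ⤳ snocY S.v y' i)
    (spec_of_eq (snocY_last _ _) (snocY_last _ _) specializes_rfl)
    (fun j => spec_of_eq (snocY_castSucc _ _ j) (snocY_castSucc _ _ j) (S.spec j)) i
  spec_succ := fun i => Fin.lastCases
    (motive := fun i : Fin (k + 1) => snocY S.w y' i.castSucc ⤳ snocY S.v y' i.succ)
    (spec_of_eq (snocY_castSucc _ _ _) (snocY_last _ _)
      (show S.w (Fin.last k) ⤳ y' by rw [S.last_eq]; exact h))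
    (fun j => spec_of_eq (snocY_castSucc _ _ _) (snocY_castSucc _ _ j.succ) (S.spec_succ j)) i
  start_mem := by
    have e : snocY S.v y' 0 = S.v 0 := snocY_castSucc S.v y' 0
    rw [e]; exact S.start_mem
  last_eq := snocY_last _ _

theorem extSys_delta_le (S : Algz.DSystem Z y k) (y' : Y) (h : y ⤳ y') (hny : ¬ y' ⤳ y)
    (hnv : ¬ S.v (Fin.last k) ⤳ y') : (extSys S y' h).delta ≤ S.delta := by
  have hc : ∀ j : Fin (k + 1), (extSys S y' h).c j.castSucc = S.c j := fun j =>
    codimPt_congr (snocY_castSucc _ _ j) (snocY_castSucc _ _ j) _ _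
  have hcl : (extSys S y' h).c (Fin.last (k + 1)) = 0 := by
    have e := codimPt_congr (snocY_last S.w y') (snocY_last S.v y')
      ((extSys S y' h).spec (Fin.last (k + 1))) specializes_rfl
    exact e.trans (codimPt_self y' _)
  have hb : ∀ j : Fin k, (extSys S y' h).b j.castSucc = S.b j := fun j =>
    codimPt_congr (snocY_castSucc _ _ _) (snocY_castSucc _ _ j.succ) _ _
  have hyy : S.w (Fin.last k) ⤳ y' := by rw [S.last_eq]; exact h
  have hbl : 1 ≤ (extSys S y' h).b (Fin.last k) := by
    have e : (extSys S y' h).b (Fin.last k) = Algz.codimPt (S.w (Fin.last k)) y' hyy :=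
      codimPt_congr (snocY_castSucc S.w y' (Fin.last k)) (snocY_last S.v y')
        ((extSys S y' h).spec_succ (Fin.last k)) hyy
    rw [e]
    apply one_le_codimPt
    rw [S.last_eq]; exact hny
  have h1 : 1 ≤ S.c (Fin.last k) := by
    show 1 ≤ Algz.codimPt (S.w (Fin.last k)) (S.v (Fin.last k)) (S.spec (Fin.last k))
    apply one_le_codimPt
    intro hvw
    exact hnv (hvw.trans hyy)
  rw [delta_eq, delta_eq]
  have hmain := one_add_val_le S.c S.b (extSys S y' h).c (extSys S y' h).b hc hcl hb hbl h1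
  calc ((k + 1 : ℕ) : ℕ∞) + val (extSys S y' h).c (extSys S y' h).b
      = (k : ℕ∞) + (1 + val (extSys S y' h).c (extSys S y' h).b) := by push_cast; ring
    _ ≤ (k : ℕ∞) + val S.c S.b := add_le_add (le_refl _) hmain

/-- replace the last pair of a system by `(y', y')` -/
def replSys (S : Algz.DSystem Z y k) (y' : Y) (hZ : IsClosed Z) (hv : S.v (Fin.last k) ⤳ y') :
    Algz.DSystem Z y' k where
  v := Function.update S.v (Fin.last k) y'
  w := Function.update S.w (Fin.last k) y'
  spec := by
    intro i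
    by_cases hi : i = Fin.last k
    · subst hi
      exact spec_of_eq (Function.update_self _ _ _) (Function.update_self _ _ _) specializes_rfl
    · exact spec_of_eq (Function.update_of_ne hi _ _) (Function.update_of_ne hi _ _) (S.spec i)
  spec_succ := by
    intro i
    have hw : Function.update S.w (Fin.last k) y' i.castSucc = S.w i.castSucc :=
      Function.update_of_ne (Fin.castSucc_ne_last i) _ _
    by_cases hi : i.succ = Fin.last k
    · have e2 : Function.update S.v (Fin.last k) y' i.succ = y' := by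
        rw [hi]; exact Function.update_self _ _ _
      have h3 := S.spec_succ i
      rw [hi] at h3
      exact spec_of_eq hw e2 (h3.trans hv)
    · exact spec_of_eq hw (Function.update_of_ne hi _ _) (S.spec_succ i)
  start_mem := by
    by_cases h0 : (0 : Fin (k + 1)) = Fin.last k
    · have e : Function.update S.v (Fin.last k) y' 0 = y' := by
        rw [h0]; exact Function.update_self _ _ _
      rw [e]
      have hm : S.v (Fin.last k) ∈ Z := by rw [← h0]; exact S.start_mem
      exact hv.mem_closed hZ hm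
    · rw [Function.update_of_ne h0]
      exact S.start_mem
  last_eq := Function.update_self _ _ _

theorem replSys_delta_le (S : Algz.DSystem Z y k) (y' : Y) (hZ : IsClosed Z)
    (hv : S.v (Fin.last k) ⤳ y') : (replSys S y' hZ hv).delta ≤ S.delta := by
  rw [delta_eq, delta_eq]
  refine add_le_add (le_refl _) (val_mono (fun j => ?_) (fun j => ?_))
  · by_cases hj : j = Fin.last k
    · subst hj
      have e1 : (replSys S y' hZ hv).w (Fin.last k) = y' := Function.update_self _ _ _
      have e2 : (replSys S y' hZ hv).v (Fin.last k) = y' := Function.update_self _ _ _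
      have e : (replSys S y' hZ hv).c (Fin.last k) = Algz.codimPt y' y' specializes_rfl :=
        codimPt_congr e1 e2 _ _
      rw [e, codimPt_self]
      simp
    · have e1 : (replSys S y' hZ hv).w j = S.w j := Function.update_of_ne hj _ _
      have e2 : (replSys S y' hZ hv).v j = S.v j := Function.update_of_ne hj _ _
      have e : (replSys S y' hZ hv).c j = S.c j := codimPt_congr e1 e2 _ _
      exact le_of_eq e
  · have e1 : (replSys S y' hZ hv).w j.castSucc = S.w j.castSucc :=
      Function.update_of_ne (Fin.castSucc_ne_last j) _ _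
    by_cases hj : j.succ = Fin.last k
    · have e2 : (replSys S y' hZ hv).v j.succ = y' := by
        show Function.update S.v (Fin.last k) y' j.succ = y'
        rw [hj]; exact Function.update_self _ _ _
      have hvy : S.v j.succ ⤳ y' := by rw [hj]; exact hv
      have hwy : S.w j.castSucc ⤳ y' := (S.spec_succ j).trans hvy
      have e : (replSys S y' hZ hv).b j = Algz.codimPt (S.w j.castSucc) y' hwy :=
        codimPt_congr e1 e2 _ _
      rw [e]
      exact codimPt_le_of_specializes _ _ hvy
    · have e2 : (replSys S y' hZ hv).v j.succ = S.v j.succ := Function.update_of_ne hj _ _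
      have e : (replSys S y' hZ hv).b j = S.b j := codimPt_congr e1 e2 _ _
      exact le_of_eq e.symm

/-- the system attached to a zigzag -/
def zigSys (y : Fin (k + 1) → Y) (y' : Fin k → Y) (h0 : y 0 ∈ Z)
    (hd : ∀ i : Fin k, y' i ⤳ y i.castSucc) (hu : ∀ i : Fin k, y' i ⤳ y i.succ) :
    Algz.DSystem Z (y (Fin.last k)) k where
  v := y
  w := snocY y' (y (Fin.last k))
  spec := fun i => Fin.lastCases (motive := fun i => snocY y' (y (Fin.last k)) i ⤳ y i)
    (spec_of_eq (snocY_last _ _) rfl specializes_rfl)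
    (fun j => spec_of_eq (snocY_castSucc _ _ j) rfl (hd j)) i
  spec_succ := fun i => spec_of_eq (snocY_castSucc _ _ i) rfl (hu i)
  start_mem := h0
  last_eq := snocY_last _ _

theorem zigSys_delta_le (y : Fin (k + 1) → Y) (y' : Fin k → Y) (h0 : y 0 ∈ Z)
    (hd : ∀ i : Fin k, y' i ⤳ y i.castSucc) (hu : ∀ i : Fin k, y' i ⤳ y i.succ)
    (himm : ∀ i : Fin k, ∀ z : Y, y' i ⤳ z → z ⤳ y i.castSucc → z ⤳ y' i ∨ y i.castSucc ⤳ z)
    (hne : ∀ i : Fin k, ¬ y i.succ ⤳ y' i) :
    (zigSys (Z := Z) y y' h0 hd hu).delta ≤ k := by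
  rw [delta_eq, val_eq_zero_of_le, add_zero]
  · intro j
    have e1 : (zigSys (Z := Z) y y' h0 hd hu).c j.castSucc =
        Algz.codimPt (y' j) (y j.castSucc) (hd j) :=
      codimPt_congr (snocY_castSucc _ _ j) rfl _ _
    have e2 : (zigSys (Z := Z) y y' h0 hd hu).b j = Algz.codimPt (y' j) (y j.succ) (hu j) :=
      codimPt_congr (snocY_castSucc _ _ j) rfl _ _
    rw [e1, e2]
    exact (codimPt_le_one_of_immediate (hd j) (himm j)).trans (one_le_codimPt (hu j) (hne j))
  · have e : (zigSys (Z := Z) y y' h0 hd hu).c (Fin.last k) =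
        Algz.codimPt (y (Fin.last k)) (y (Fin.last k)) specializes_rfl :=
      codimPt_congr (snocY_last _ _) rfl _ _
    rw [e, codimPt_self]

end Sys

end Groth.Agent.Lib.Helper15.DSys
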