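import Mathlib
import Groth.Prelude.Def_Algz
import Groth.Agent.Lib.Helper15.DSys

/-!
# Dimension functions and the codimension `Algz.codimPt` (helper15)
-/

set_option autoImplicit false
universe u

namespace Groth.Agent.Lib.Helper15.DSysDim

open Groth.Agent.Lib.Helper15

variable {Y : Type u} [TopologicalSpace Y] [T0Space Y] (δ : Y → ℤ)
  (hδ : ∀ x y : Y, x ⤳ y → x ≠ y →
    δ y < δ x ∧ ((∀ z : Y, x ⤳ z → z ⤳ y → z = x ∨ z = y) → δ x = δ y + 1))

include hδ

theorem le_of_specializes {x y : Y} (h : x ⤳ y) : δ y ≤ δ x := by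
  by_cases e : x = y
  · rw [e]
  · exact (hδ x y h e).1.le

theorem strictMono_g (v : Y) : StrictMono
    (fun x : Set.Ici (Specialization.toEquiv v) => δ (Specialization.ofEquiv x.1)) := by
  intro a b hab
  have h1 : Specialization.ofEquiv b.1 ⤳ Specialization.ofEquiv a.1 :=
    Specialization.ofEquiv_specializes_ofEquiv.mpr hab.le
  have h2 : Specialization.ofEquiv b.1 ≠ Specialization.ofEquiv a.1 := by
    intro e
    have e' : b.1 = a.1 := Specialization.ofEquiv.injective e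
    exact hab.ne (Subtype.ext e'.symm)
  exact (hδ _ _ h1 h2).1

theorem codimPt_le (w v : Y) (h : w ⤳ v) :
    Algz.codimPt w v h ≤ (((δ w - δ v).toNat : ℕ) : ℕ∞) := by
  unfold Algz.codimPt
  rw [Order.height_le_iff]
  intro p hp
  have h1 := LTSeries.head_add_length_le_int (p.map _ (strictMono_g δ hδ v))
  rw [LTSeries.head_map, LTSeries.last_map, LTSeries.map_length] at h1
  have h2 : δ v ≤ δ (Specialization.ofEquiv p.head.1) :=
    le_of_specializes δ hδ (Specialization.toEquiv_le_toEquiv.mp p.head.2)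
  have h3 : δ (Specialization.ofEquiv p.last.1) ≤ δ w :=
    le_of_specializes δ hδ (Specialization.toEquiv_le_toEquiv.mp hp)
  have h4 : p.length ≤ (δ w - δ v).toNat := by omega
  exact_mod_cast h4

theorem le_height (v : Y) : ∀ (N : ℕ) (x : Set.Ici (Specialization.toEquiv v)),
    δ (Specialization.ofEquiv x.1) - δ v = N → (N : ℕ∞) ≤ Order.height x := by
  intro N
  induction N with
  | zero => intro x _; simp
  | succ N ih =>
    intro x hx
    have hxv : Specialization.ofEquiv x.1 ⤳ v := Specialization.toEquiv_le_toEquiv.mp x.2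
    have hne : Specialization.ofEquiv x.1 ≠ v := by
      intro e
      rw [e] at hx
      push_cast at hx
      omega
    obtain ⟨t, ⟨ht1, ht2, ht3⟩, hmax⟩ : ∃ t : Y,
        (Specialization.ofEquiv x.1 ⤳ t ∧ t ⤳ v ∧ t ≠ Specialization.ofEquiv x.1) ∧
        ∀ t' : Y, (Specialization.ofEquiv x.1 ⤳ t' ∧ t' ⤳ v ∧
          t' ≠ Specialization.ofEquiv x.1) → δ t' ≤ δ t := by
      obtain ⟨z, ⟨t, ht, hz'⟩, hz⟩ := Int.exists_greatest_of_bdd
        (P := fun z => ∃ t : Y, (Specialization.ofEquiv x.1 ⤳ t ∧ t ⤳ v ∧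
          t ≠ Specialization.ofEquiv x.1) ∧ δ t = z)
        ⟨δ (Specialization.ofEquiv x.1), fun z hz => by
          obtain ⟨t, ht, e⟩ := hz
          rw [← e]
          exact le_of_specializes δ hδ ht.1⟩
        ⟨δ v, v, ⟨hxv, specializes_rfl, hne.symm⟩, rfl⟩
      refine ⟨t, ht, fun t' ht' => ?_⟩
      rw [hz']
      exact hz _ ⟨t', ht', rfl⟩
    have himm : ∀ z : Y, Specialization.ofEquiv x.1 ⤳ z → z ⤳ t →
        z = Specialization.ofEquiv x.1 ∨ z = t := by
      intro z hz1 hz2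
      by_contra hcon
      push_neg at hcon
      have h5 := hmax z ⟨hz1, hz2.trans ht2, hcon.1⟩
      have h6 := (hδ z t hz2 hcon.2).1
      omega
    have hstep : δ (Specialization.ofEquiv x.1) = δ t + 1 := (hδ _ _ ht1 ht3.symm).2 himm
    have htmem : Specialization.toEquiv t ∈ Set.Ici (Specialization.toEquiv v) :=
      Specialization.toEquiv_le_toEquiv.mpr ht2
    have hlt : (⟨Specialization.toEquiv t, htmem⟩ : Set.Ici (Specialization.toEquiv v)) < x := by
      rw [lt_iff_le_not_ge]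
      refine ⟨?_, fun hle => ?_⟩
      · show Specialization.toEquiv t ≤ x.1
        exact Specialization.toEquiv_le_toEquiv.mpr ht1
      · have h7 : t ⤳ Specialization.ofEquiv x.1 := Specialization.toEquiv_le_toEquiv.mp hle
        exact ht3 (h7.antisymm ht1).eq
    have hih := ih ⟨Specialization.toEquiv t, htmem⟩ (by
      show δ t - δ v = N
      push_cast at hx
      omega)
    calc ((N + 1 : ℕ) : ℕ∞) = (N : ℕ∞) + 1 := by push_cast; rfl
      _ ≤ Order.height (⟨Specialization.toEquiv t, htmem⟩ :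
            Set.Ici (Specialization.toEquiv v)) + 1 := add_le_add hih le_rfl
      _ ≤ Order.height x := Order.height_add_one_le hlt

theorem codimPt_eq (w v : Y) (h : w ⤳ v) :
    Algz.codimPt w v h = (((δ w - δ v).toNat : ℕ) : ℕ∞) := by
  apply le_antisymm (codimPt_le δ hδ w v h)
  unfold Algz.codimPt
  refine le_height δ hδ v _ ⟨Specialization.toEquiv w, Specialization.toEquiv_le_toEquiv.mpr h⟩ ?_
  show δ w - δ v = (((δ w - δ v).toNat : ℕ) : ℤ)
  have := le_of_specializes δ hδ h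
  omega

/-- the telescoping inequality for a system -/
theorem delta_le {Z : Set Y} {y : Y} {k : ℕ} (S : Algz.DSystem Z y k) (n : ℕ)
    (hS : S.delta ≤ n) : δ y ≤ n + δ (S.v 0) := by
  obtain ⟨dn, hdn⟩ : ∃ dn : Fin (k + 1) → ℕ, ∀ j, dn j = (δ (S.w j) - δ (S.v j)).toNat :=
    ⟨_, fun _ => rfl⟩
  obtain ⟨en, hen⟩ : ∃ en : Fin k → ℕ,
      ∀ j, en j = (δ (S.w j.castSucc) - δ (S.v j.succ)).toNat := ⟨_, fun _ => rfl⟩
  have hT := DSys.term_le_val S.c S.b 0
  have hf1 : Finset.univ.filter (fun j : Fin (k + 1) => (0 : Fin (k + 1)) ≤ j) = Finset.univ :=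
    Finset.filter_true_of_mem (fun j _ => Fin.zero_le j)
  have hf2 : Finset.univ.filter (fun j : Fin k => (0 : Fin (k + 1)).val ≤ j.val) = Finset.univ :=
    Finset.filter_true_of_mem (fun j _ => by simp)
  rw [hf1, hf2] at hT
  have hc : ∀ j, S.c j = ((dn j : ℕ) : ℕ∞) := fun j => by
    rw [hdn]; exact codimPt_eq δ hδ _ _ _
  have hb : ∀ j, S.b j = ((en j : ℕ) : ℕ∞) := fun j => by
    rw [hen]; exact codimPt_eq δ hδ _ _ _
  have hsc : ∑ j, S.c j = (((∑ j, dn j : ℕ)) : ℕ∞) := by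
    rw [Nat.cast_sum]; exact Finset.sum_congr rfl (fun j _ => hc j)
  have hsb : ∑ j, S.b j = (((∑ j, en j : ℕ)) : ℕ∞) := by
    rw [Nat.cast_sum]; exact Finset.sum_congr rfl (fun j _ => hb j)
  rw [hsc, hsb, ← ENat.natCast_sub] at hT
  have hval : DSys.val S.c S.b ≤ n := by
    have h1 := hS
    rw [DSys.delta_eq] at h1
    exact le_trans le_add_self h1
  have hAB : (∑ j, dn j) - (∑ j, en j) ≤ n := by exact_mod_cast hT.trans hval
  have hdn' : ∀ j, ((dn j : ℕ) : ℤ) = δ (S.w j) - δ (S.v j) := fun j => by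
    rw [hdn]
    exact Int.toNat_of_nonneg (sub_nonneg.mpr (le_of_specializes δ hδ (S.spec j)))
  have hen' : ∀ j, ((en j : ℕ) : ℤ) = δ (S.w j.castSucc) - δ (S.v j.succ) := fun j => by
    rw [hen]
    exact Int.toNat_of_nonneg (sub_nonneg.mpr (le_of_specializes δ hδ (S.spec_succ j)))
  have htel : (∑ j : Fin (k + 1), (δ (S.w j) - δ (S.v j))) -
      ∑ j : Fin k, (δ (S.w j.castSucc) - δ (S.v j.succ)) =
      δ (S.w (Fin.last k)) - δ (S.v 0) := by
    rw [Finset.sum_sub_distrib, Finset.sum_sub_distrib,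
      Fin.sum_univ_castSucc (fun j => δ (S.w j)), Fin.sum_univ_succ (fun j => δ (S.v j))]
    ring
  have hA : (((∑ j, dn j : ℕ)) : ℤ) = ∑ j : Fin (k + 1), (δ (S.w j) - δ (S.v j)) := by
    rw [Nat.cast_sum]; exact Finset.sum_congr rfl (fun j _ => hdn' j)
  have hB : (((∑ j, en j : ℕ)) : ℤ) = ∑ j : Fin k, (δ (S.w j.castSucc) - δ (S.v j.succ)) := by
    rw [Nat.cast_sum]; exact Finset.sum_congr rfl (fun j _ => hen' j)
  rw [S.last_eq] at htel
  omega

end Groth.Agent.Lib.Helper15.DSysDim
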