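import Mathlib
import Groth.Prelude.Def_Algz
import Groth.Agent.Lib.Helper15.DSys

/-!
# `Algz.codimPt` and `Algz.deltaZ` under inducing maps with generization-stable range (helper15)
-/

set_option autoImplicit false
universe u

namespace Groth.Agent.Lib.Helper15.DSysMap

open Groth.Agent.Lib.Helper15

section Map

variable {Y' Y : Type u} [TopologicalSpace Y'] [TopologicalSpace Y] (f : Y' → Y)
  (hf : Topology.IsInducing f) (hgen : ∀ (y' : Y') (x : Y), x ⤳ f y' → x ∈ Set.range f)

include hf hgen in
theorem codimPt_map (w v : Y') (h : w ⤳ v) (h' : f w ⤳ f v) :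
    Algz.codimPt (f w) (f v) h' = Algz.codimPt w v h := by
  unfold Algz.codimPt
  apply le_antisymm
  · have hch : ∀ x : Set.Ici (Specialization.toEquiv (f v)),
        ∃ x' : Y', f x' = Specialization.ofEquiv x.1 := fun x =>
      hgen v _ (Specialization.toEquiv_le_toEquiv.mp x.2)
    choose g hg using hch
    have hmem : ∀ x, Specialization.toEquiv (g x) ∈ Set.Ici (Specialization.toEquiv v) := by
      intro x
      show Specialization.toEquiv v ≤ Specialization.toEquiv (g x)
      rw [Specialization.toEquiv_le_toEquiv, ← hf.specializes_iff, hg]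
      exact Specialization.toEquiv_le_toEquiv.mp x.2
    have hmono : StrictMono (fun x =>
        (⟨Specialization.toEquiv (g x), hmem x⟩ : Set.Ici (Specialization.toEquiv v))) := by
      intro a b hab
      rw [lt_iff_le_not_ge] at hab ⊢
      constructor
      · show Specialization.toEquiv (g a) ≤ Specialization.toEquiv (g b)
        rw [Specialization.toEquiv_le_toEquiv, ← hf.specializes_iff, hg, hg]
        exact Specialization.ofEquiv_specializes_ofEquiv.mpr hab.1
      · intro hle
        apply hab.2
        have h2 : Specialization.toEquiv (g b) ≤ Specialization.toEquiv (g a) := hle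
        rw [Specialization.toEquiv_le_toEquiv, ← hf.specializes_iff, hg, hg] at h2
        exact Specialization.ofEquiv_specializes_ofEquiv.mp h2
    have h1 := Order.height_le_height_apply_of_strictMono _ hmono
      ⟨Specialization.toEquiv (f w), Specialization.toEquiv_le_toEquiv.mpr h'⟩
    refine h1.trans (Order.height_mono ?_)
    show Specialization.toEquiv (g _) ≤ Specialization.toEquiv w
    rw [Specialization.toEquiv_le_toEquiv, ← hf.specializes_iff, hg]
    exact specializes_rfl
  · have hmem : ∀ x : Set.Ici (Specialization.toEquiv v),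
        Specialization.toEquiv (f (Specialization.ofEquiv x.1)) ∈
          Set.Ici (Specialization.toEquiv (f v)) := by
      intro x
      show Specialization.toEquiv (f v) ≤ _
      rw [Specialization.toEquiv_le_toEquiv, hf.specializes_iff]
      exact Specialization.toEquiv_le_toEquiv.mp x.2
    have hmono : StrictMono (fun x : Set.Ici (Specialization.toEquiv v) =>
        (⟨_, hmem x⟩ : Set.Ici (Specialization.toEquiv (f v)))) := by
      intro a b hab
      rw [lt_iff_le_not_ge] at hab ⊢
      constructor
      · show Specialization.toEquiv (f _) ≤ Specialization.toEquiv (f _)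
        rw [Specialization.toEquiv_le_toEquiv, hf.specializes_iff]
        exact Specialization.ofEquiv_specializes_ofEquiv.mpr hab.1
      · intro hle
        apply hab.2
        have h2 : Specialization.toEquiv (f (Specialization.ofEquiv b.1)) ≤
            Specialization.toEquiv (f (Specialization.ofEquiv a.1)) := hle
        rw [Specialization.toEquiv_le_toEquiv, hf.specializes_iff] at h2
        exact Specialization.ofEquiv_specializes_ofEquiv.mp h2
    exact Order.height_le_height_apply_of_strictMono _ hmono
      ⟨Specialization.toEquiv w, Specialization.toEquiv_le_toEquiv.mpr h⟩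

/-- push a system forward along a continuous map -/
def mapSys (hc : Continuous f) {Z : Set Y} {y' : Y'} {k : ℕ}
    (S : Algz.DSystem (f ⁻¹' Z) y' k) : Algz.DSystem Z (f y') k where
  v := fun i => f (S.v i)
  w := fun i => f (S.w i)
  spec := fun i => (S.spec i).map hc
  spec_succ := fun i => (S.spec_succ i).map hc
  start_mem := S.start_mem
  last_eq := congrArg f S.last_eq

include hf hgen in
theorem mapSys_delta {Z : Set Y} {y' : Y'} {k : ℕ} (S : Algz.DSystem (f ⁻¹' Z) y' k) :
    (mapSys f hf.continuous S).delta = S.delta := by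
  rw [DSys.delta_eq, DSys.delta_eq]
  have hc : (mapSys f hf.continuous S).c = S.c :=
    funext fun j => codimPt_map f hf hgen _ _ (S.spec j) _
  have hb : (mapSys f hf.continuous S).b = S.b :=
    funext fun j => codimPt_map f hf hgen _ _ (S.spec_succ j) _
  rw [hc, hb]

include hf hgen in
theorem deltaZ_map_le (Z : Set Y) (y' : Y') :
    Algz.deltaZ Z (f y') ≤ Algz.deltaZ (f ⁻¹' Z) y' := by
  unfold Algz.deltaZ
  refine le_iInf₂ (fun k S => ?_)
  exact (iInf₂_le k (mapSys f hf.continuous S)).trans (le_of_eq (mapSys_delta f hf hgen S))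

end Map

section Single

variable {Y : Type u} [TopologicalSpace Y]

theorem deltaZ_le_codimPt (Z : Set Y) (y z : Y) (h : y ⤳ z) (hz : z ∈ Z) :
    Algz.deltaZ Z y ≤ Algz.codimPt y z h := by
  unfold Algz.deltaZ
  obtain ⟨S, hSc⟩ : ∃ S : Algz.DSystem Z y 0, ∀ j, S.c j = Algz.codimPt y z h :=
    ⟨⟨fun _ => z, fun _ => y, fun _ => h, fun i => i.elim0, hz, rfl⟩, fun _ => rfl⟩
  refine (iInf₂_le 0 S).trans ?_
  rw [DSys.delta_eq, Nat.cast_zero, zero_add]
  unfold DSys.val
  refine Finset.sup_le (fun i _ => ?_)
  refine tsub_le_self.trans ?_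
  refine (Finset.sum_le_sum_of_subset (t := {0}) (fun j _ => ?_)).trans ?_
  · rw [Finset.mem_singleton]
    apply Fin.ext
    have := j.isLt
    simp only [Fin.val_zero]
    omega
  · rw [Finset.sum_singleton, hSc]

end Single

section Spec

variable {R : Type u} [CommRing R]

theorem codimPt_le_coheight (y x : PrimeSpectrum R) (h : y ⤳ x) :
    Algz.codimPt y x h ≤ Order.coheight y := by
  unfold Algz.codimPt
  have hmono : StrictMono (fun a : Set.Ici (Specialization.toEquiv x) =>
      OrderDual.toDual (Specialization.ofEquiv a.1)) := by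
    intro a b hab
    rw [lt_iff_le_not_ge] at hab
    show Specialization.ofEquiv b.1 < Specialization.ofEquiv a.1
    rw [lt_iff_le_not_ge]
    refine ⟨(PrimeSpectrum.le_iff_specializes _ _).mpr
      (Specialization.ofEquiv_specializes_ofEquiv.mpr hab.1), fun hle => hab.2 ?_⟩
    exact Specialization.ofEquiv_specializes_ofEquiv.mp
      ((PrimeSpectrum.le_iff_specializes _ _).mp hle)
  exact Order.height_le_height_apply_of_strictMono _ hmono _

theorem coheight_eq_ringKrullDim_quot (y : PrimeSpectrum R) :
    ((Order.coheight y : ℕ∞) : WithBot ℕ∞) = ringKrullDim (R ⧸ y.asIdeal) := by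
  rw [ringKrullDim_quotient, Order.coheight_eq_krullDim_Ici]
  have e : PrimeSpectrum.zeroLocus (y.asIdeal : Set R) = Set.Ici y := by
    ext q
    rw [PrimeSpectrum.mem_zeroLocus, Set.mem_Ici, SetLike.coe_subset_coe]
    rfl
  rw [e]

end Spec

end Groth.Agent.Lib.Helper15.DSysMap
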