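import Mathlib
import Groth.Prelude.Def_Algz
import Groth.Prelude.Def_Found
import Groth.Agent.Lib.Helper15.DSys
import Groth.Agent.Lib.Helper15.DSysDim
import Groth.Agent.Lib.Helper15.DSysMap

/-!
# The distance function on the spectrum of a catenary local ring (helper15)
-/

set_option autoImplicit false
universe u

namespace Groth.Agent.Lib.Helper15.DSysCat

open Groth.Agent.Lib.Helper15

section Chains

variable {α : Type u} [PartialOrder α]

/-- a chain all of whose steps are covering relations -/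
def Saturated (s : LTSeries α) : Prop :=
  ∀ i : Fin s.length, s (Fin.castSucc i) ⋖ s (Fin.succ i)

theorem covBy_of_eq {a a' b b' : α} (ha : a = a') (hb : b = b') (h : a' ⋖ b') : a ⋖ b := by
  subst ha; subst hb; exact h

theorem saturated_snoc (s : LTSeries α) (a : α) (h : s.last ⋖ a) (hs : Saturated s) :
    Saturated (s.snoc a h.lt) := by
  intro i
  have key : ∀ i' : Fin (s.length + 1),
      (s.snoc a h.lt) (Fin.castSucc i') ⋖ (s.snoc a h.lt) (Fin.succ i') := by
    intro i'
    refine Fin.lastCases ?_ (fun j => ?_) i'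
    · exact covBy_of_eq (RelSeries.snoc_castSucc s a h.lt (Fin.last s.length))
        (RelSeries.last_snoc' s a h.lt) h
    · exact covBy_of_eq (RelSeries.snoc_castSucc s a h.lt (Fin.castSucc j))
        (RelSeries.snoc_castSucc s a h.lt (Fin.succ j)) (hs j)
  exact key i

theorem exists_saturated_ext (m : α) (hm : ∀ x : α, x ≤ m) :
    ∀ (M : ℕ) (s₀ : LTSeries α), Saturated s₀ → Order.coheight s₀.last = M →
      ∃ s : LTSeries α, Saturated s ∧ s.head = s₀.head ∧ s.last = m ∧
        s.length = s₀.length + M := by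
  intro M
  induction M with
  | zero =>
    intro s₀ hs₀ hc
    refine ⟨s₀, hs₀, rfl, ?_, rfl⟩
    have hmax : IsMax s₀.last := Order.coheight_eq_zero.mp (by exact_mod_cast hc)
    exact le_antisymm (hm _) (hmax (hm _))
  | succ M ih =>
    intro s₀ hs₀ hc
    have hc' : Order.coheight s₀.last = (M : ℕ∞) + 1 := by exact_mod_cast hc
    obtain ⟨-, ⟨z', hz', hcz'⟩, hall⟩ := Order.coheight_eq_coe_add_one_iff.mp hc'
    have hcov : s₀.last ⋖ z' := by
      refine ⟨hz', fun t ht1 ht2 => ?_⟩
      have h1 := hall t ht1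
      have h2 := Order.coheight_add_one_le ht2
      rw [hcz'] at h2
      have h3 : ((M + 1 : ℕ) : ℕ∞) ≤ (M : ℕ∞) := by push_cast; exact h2.trans h1
      have h4 := Nat.cast_le.mp h3
      omega
    obtain ⟨s, hs, hhead, hlast, hlen⟩ := ih (s₀.snoc z' hcov.lt)
      (saturated_snoc s₀ z' hcov hs₀) (by rw [RelSeries.last_snoc]; exact hcz')
    refine ⟨s, hs, ?_, hlast, ?_⟩
    · rw [hhead, RelSeries.head_snoc]
    · rw [hlen, RelSeries.snoc_length]; omega

end Chains

section Cat

variable {A : Type u} [CommRing A]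

theorem coheight_eq_of_covBy (hA : CAlg.IsCatenary A) (m : PrimeSpectrum A)
    (hm : ∀ x : PrimeSpectrum A, x ≤ m) (hfin : ∀ x : PrimeSpectrum A, Order.coheight x < ⊤)
    (x y : PrimeSpectrum A) (hxy : x ⋖ y) : Order.coheight x = Order.coheight y + 1 := by
  obtain ⟨N, hN⟩ := ENat.ne_top_iff_exists.mp (hfin y).ne
  obtain ⟨K, hK⟩ := ENat.ne_top_iff_exists.mp (hfin x).ne
  have hs0 : Saturated (RelSeries.singleton _ x : LTSeries (PrimeSpectrum A)) := fun i => i.elim0
  have hxy' : (RelSeries.singleton _ x : LTSeries (PrimeSpectrum A)).last ⋖ y := hxy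
  have hs1 := saturated_snoc (RelSeries.singleton _ x : LTSeries (PrimeSpectrum A)) y hxy' hs0
  obtain ⟨s, hs, hsh, hsl, hslen⟩ := exists_saturated_ext m hm N _ hs1
    (by rw [RelSeries.last_snoc]; exact hN.symm)
  obtain ⟨t, ht, hth, htl, htlen⟩ := exists_saturated_ext m hm K _ hs0
    (show Order.coheight (RelSeries.singleton _ x : LTSeries (PrimeSpectrum A)).last = K
      from hK.symm)
  have hlen := hA.2 s t (by rw [hsh, hth, RelSeries.head_snoc]) (by rw [hsl, htl]) hs ht
  have e1 : ((RelSeries.singleton _ x : LTSeries (PrimeSpectrum A)).snoc y hxy'.lt).length = 1 :=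
    rfl
  have e0 : (RelSeries.singleton _ x : LTSeries (PrimeSpectrum A)).length = 0 := rfl
  rw [e1] at hslen
  rw [e0] at htlen
  have hKN : K = N + 1 := by omega
  rw [← hK, ← hN, hKN]
  push_cast
  rfl

theorem isDimFun_coheight (hA : CAlg.IsCatenary A) (m : PrimeSpectrum A)
    (hm : ∀ x : PrimeSpectrum A, x ≤ m) (hfin : ∀ x : PrimeSpectrum A, Order.coheight x < ⊤) :
    ∀ x y : PrimeSpectrum A, x ⤳ y → x ≠ y →
      (((Order.coheight y).toNat : ℕ) : ℤ) < (((Order.coheight x).toNat : ℕ) : ℤ) ∧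
      ((∀ z : PrimeSpectrum A, x ⤳ z → z ⤳ y → z = x ∨ z = y) →
        (((Order.coheight x).toNat : ℕ) : ℤ) = (((Order.coheight y).toNat : ℕ) : ℤ) + 1) := by
  intro x y hxy hne
  have hle : x ≤ y := (PrimeSpectrum.le_iff_specializes x y).mpr hxy
  have hlt : x < y := lt_of_le_of_ne hle hne
  obtain ⟨N, hN⟩ := ENat.ne_top_iff_exists.mp (hfin y).ne
  obtain ⟨K, hK⟩ := ENat.ne_top_iff_exists.mp (hfin x).ne
  have h1 := Order.coheight_add_one_le hlt
  rw [← hN, ← hK] at h1
  have h1' : N + 1 ≤ K := by exact_mod_cast h1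
  rw [← hN, ← hK]
  simp only [ENat.toNat_coe]
  refine ⟨by omega, fun himm => ?_⟩
  have hcov : x ⋖ y := ⟨hlt, fun c hc1 hc2 => by
    rcases himm c ((PrimeSpectrum.le_iff_specializes x c).mp hc1.le)
      ((PrimeSpectrum.le_iff_specializes c y).mp hc2.le) with e | e
    · exact hc1.ne' e
    · exact hc2.ne e⟩
  have h2 := coheight_eq_of_covBy hA m hm hfin x y hcov
  rw [← hN, ← hK] at h2
  have h3 : K = N + 1 := by exact_mod_cast h2
  omega

theorem deltaZ_closedPoint [IsNoetherianRing A] [IsLocalRing A] (hA : CAlg.IsCatenary A)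
    (y : PrimeSpectrum A) :
    Algz.deltaZ ({IsLocalRing.closedPoint A} : Set (PrimeSpectrum A)) y = Order.coheight y := by
  have hm : ∀ x : PrimeSpectrum A, x ≤ IsLocalRing.closedPoint A := fun x =>
    IsLocalRing.le_maximalIdeal x.isPrime.ne_top
  have hfin : ∀ x : PrimeSpectrum A, Order.coheight x < ⊤ := fun x => Order.coheight_lt_top x
  apply le_antisymm
  · have hy : y ⤳ IsLocalRing.closedPoint A := (PrimeSpectrum.le_iff_specializes _ _).mp (hm y)
    exact (DSysMap.deltaZ_le_codimPt ({IsLocalRing.closedPoint A} : Set (PrimeSpectrum A)) y _ hy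
      (Set.mem_singleton _)).trans (DSysMap.codimPt_le_coheight y _ hy)
  · unfold Algz.deltaZ
    refine le_iInf₂ (fun k S => ?_)
    by_cases htop : S.delta = ⊤
    · rw [htop]; exact le_top
    · obtain ⟨n, hn⟩ := ENat.ne_top_iff_exists.mp htop
      have h1 := DSysDim.delta_le
        (fun x : PrimeSpectrum A => (((Order.coheight x).toNat : ℕ) : ℤ))
        (isDimFun_coheight hA _ hm hfin) S n (le_of_eq hn.symm)
      have hv0 : S.v 0 = IsLocalRing.closedPoint A := Set.mem_singleton_iff.mp S.start_mem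
      have hc0 : Order.coheight (IsLocalRing.closedPoint A) = 0 :=
        Order.coheight_eq_zero.mpr (fun b _ => hm b)
      obtain ⟨K, hK⟩ := ENat.ne_top_iff_exists.mp (hfin y).ne
      rw [hv0] at h1
      simp only [hc0, ← hK, ENat.toNat_coe, ENat.toNat_zero, Nat.cast_zero, add_zero] at h1
      rw [← hn, ← hK]
      exact_mod_cast h1

end Cat

end Groth.Agent.Lib.Helper15.DSysCat
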