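import Mathlib
import Groth.Prelude.Def_DeltaF

/-!
# Helper15: dévissage for morphisms of delta-functors commuting with filtered colimits (S8612)
-/

set_option autoImplicit false
set_option backward.isDefEq.respectTransparency false
universe w v u
open CategoryTheory CategoryTheory.Limits

namespace Helper15.DeltaDev

section Generic

variable {C : Type u} [Category.{v} C]

theorem isIso_app_of_isColimit {B : Type*} [Category B] {J : Type*} [Category J] {F G : C ⥤ B}
    (α : F ⟶ G) {K : J ⥤ C} {c : Cocone K} (hc : IsColimit c) [PreservesColimit K F]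
    [PreservesColimit K G] (h : ∀ j, IsIso (α.app (K.obj j))) : IsIso (α.app c.pt) := by
  have hF := isColimitOfPreserves F hc
  have hG := isColimitOfPreserves G hc
  haveI : IsIso (Functor.whiskerLeft K α) := by
    haveI : ∀ j, IsIso ((Functor.whiskerLeft K α).app j) := fun j => h j
    exact NatIso.isIso_of_isIso_app _
  have he : (IsColimit.coconePointsIsoOfNatIso hF hG (asIso (Functor.whiskerLeft K α))).hom =
      α.app c.pt := by
    apply hF.hom_ext
    intro j
    rw [IsColimit.comp_coconePointsIsoOfNatIso_hom]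
    exact (α.naturality (c.ι.app j)).symm
  rw [← he]
  infer_instance

section Elements

variable {J : Type v} [SmallCategory J] [IsFiltered J] {G : J ⥤ AddCommGrpCat.{w}}
  {D : Cocone G}

instance presFiltForget :
    PreservesFilteredColimitsOfSize.{v, v} (forget AddCommGrpCat.{max w v}) :=
  preservesFilteredColimitsOfSize_of_univLE.{max v w, max v w, v, v} _

theorem exists_rep (hD : IsColimit D) (x : D.pt) :
    ∃ (j : J) (y : G.obj j), (D.ι.app j).hom y = x := by
  have hD' := isColimitOfPreserves AddCommGrpCat.uliftFunctor.{v, w} hD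
  obtain ⟨j, y', hy'⟩ := Concrete.isColimit_exists_rep
    (G ⋙ AddCommGrpCat.uliftFunctor.{v, w}) hD' (ULift.up x)
  exact ⟨j, ULift.down (y' : ULift.{v, w} (G.obj j)), congrArg ULift.down hy'⟩

theorem exists_zero (hD : IsColimit D) (j : J) (z : G.obj j) (hz : (D.ι.app j).hom z = 0) :
    ∃ (j' : J) (a : j ⟶ j'), (G.map a).hom z = 0 := by
  have hD' := isColimitOfPreserves AddCommGrpCat.uliftFunctor.{v, w} hD
  have heq : (AddCommGrpCat.uliftFunctor.{v, w}.mapCocone D).ι.app j (ULift.up z) =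
      (AddCommGrpCat.uliftFunctor.{v, w}.mapCocone D).ι.app j (ULift.up 0) := by
    show ULift.up ((D.ι.app j).hom z) = ULift.up ((D.ι.app j).hom 0)
    rw [hz, map_zero]
  obtain ⟨k, f, g, hfg⟩ := Concrete.isColimit_exists_of_rep_eq
    (G ⋙ AddCommGrpCat.uliftFunctor.{v, w}) hD' (ULift.up z) (ULift.up 0) heq
  refine ⟨k, f, ?_⟩
  have h1 : (G.map f).hom z = (G.map g).hom 0 := congrArg ULift.down hfg
  rw [h1, map_zero]

end Elements

theorem injective_app_of_isColimit {J : Type v} [SmallCategory J] [IsFiltered J]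
    {F G : C ⥤ AddCommGrpCat.{w}} (α : F ⟶ G) {K : J ⥤ C} {c : Cocone K} (hc : IsColimit c)
    [PreservesColimit K F] [PreservesColimit K G]
    (h : ∀ j, Function.Injective (α.app (K.obj j)).hom) :
    Function.Injective (α.app c.pt).hom := by
  rw [injective_iff_map_eq_zero]
  intro x hx
  obtain ⟨j, y, rfl⟩ := exists_rep (isColimitOfPreserves F hc) x
  have h1 : (G.map (c.ι.app j)).hom ((α.app (K.obj j)).hom y) = 0 := by
    rw [← hx]
    exact (congrArg (fun g => g.hom y) (α.naturality (c.ι.app j))).symm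
  obtain ⟨j', a, h2⟩ := exists_zero (isColimitOfPreserves G hc) j _ h1
  have h3 : (α.app (K.obj j')).hom ((F.map (K.map a)).hom y) = 0 := by
    rw [← h2]
    exact congrArg (fun g => g.hom y) (α.naturality (K.map a))
  have h4 : (F.map (K.map a)).hom y = 0 := h j' (h3.trans (map_zero _).symm)
  have h5 : F.map (K.map a) ≫ F.map (c.ι.app j') = F.map (c.ι.app j) := by
    rw [← F.map_comp, c.w]
  have h6 : (F.map (c.ι.app j)).hom y = (F.map (c.ι.app j')).hom ((F.map (K.map a)).hom y) :=
    (congrArg (fun g => g.hom y) h5).symm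
  show (F.map (c.ι.app j)).hom y = 0
  rw [h6, h4, map_zero]

end Generic

section Main

variable {C : Type u} [Category.{v} C] [Abelian C]
  {T T' : DeltaF.CohDeltaFunctor C AddCommGrpCat.{w} ℕ}

/-- short exact sequence attached to a monomorphism -/
noncomputable abbrev sesOf {A M : C} (i : A ⟶ M) : ShortComplex C :=
  ShortComplex.mk i (cokernel.π i) (cokernel.condition i)

theorem sesOf_shortExact {A M : C} (i : A ⟶ M) [Mono i] : (sesOf i).ShortExact :=
  { exact := ShortComplex.exact_cokernel i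
    mono_f := ‹Mono i›
    epi_g := inferInstanceAs (Epi (cokernel.π i)) }

/-- the component as an additive map -/
def comp (φ : T ⟶ T') (q : ℕ) (Z : C) : (T.F q).obj Z →+ (T'.F q).obj Z :=
  ((φ.app q).app Z).hom

variable (φ : T ⟶ T')

theorem nat_apply (q : ℕ) {Z Z' : C} (f : Z ⟶ Z') (x : (T.F q).obj Z) :
    comp φ q Z' (((T.F q).map f).hom x) = ((T'.F q).map f).hom (comp φ q Z x) :=
  congrArg (fun g => g.hom x) ((φ.app q).naturality f)

theorem comm_apply (S : ShortComplex C) (hS : S.ShortExact) (n₀ n₁ : ℕ) (h : n₀ + 1 = n₁)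
    (z : (T.F n₀).obj S.X₃) :
    comp φ n₁ S.X₁ ((T.δ S hS n₀ n₁ h).hom z) = (T'.δ S hS n₀ n₁ h).hom (comp φ n₀ S.X₃ z) :=
  congrArg (fun g => g.hom z) (φ.comm S hS n₀ n₁ h)

variable (T) in
theorem fg_apply (S : ShortComplex C) (n : ℕ) (x : (T.F n).obj S.X₁) :
    ((T.F n).map S.g).hom (((T.F n).map S.f).hom x) = 0 := by
  have h : (T.F n).map S.f ≫ (T.F n).map S.g = 0 := by
    rw [← Functor.map_comp, S.zero, Functor.map_zero]
  exact congrArg (fun g => g.hom x) h

variable (T) in
theorem ex2 (S : ShortComplex C) (hS : S.ShortExact) (n : ℕ) (m : (T.F n).obj S.X₂)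
    (hm : ((T.F n).map S.g).hom m = 0) : ∃ x : (T.F n).obj S.X₁, ((T.F n).map S.f).hom x = m :=
  (ShortComplex.ab_exact_iff _).1 (T.exact₂ S hS n) m hm

variable (T) in
theorem ex3 (S : ShortComplex C) (hS : S.ShortExact) (n₀ n₁ : ℕ) (h : n₀ + 1 = n₁)
    (z : (T.F n₀).obj S.X₃) (hz : (T.δ S hS n₀ n₁ h).hom z = 0) :
    ∃ m : (T.F n₀).obj S.X₂, ((T.F n₀).map S.g).hom m = z :=
  (ShortComplex.ab_exact_iff _).1 (T.exact₃ S hS n₀ n₁ h) z hz

variable (T) in
theorem ex1 (S : ShortComplex C) (hS : S.ShortExact) (n₀ n₁ : ℕ) (h : n₀ + 1 = n₁)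
    (x : (T.F n₁).obj S.X₁) (hx : ((T.F n₁).map S.f).hom x = 0) :
    ∃ z : (T.F n₀).obj S.X₃, (T.δ S hS n₀ n₁ h).hom z = x :=
  (ShortComplex.ab_exact_iff _).1 (T.exact₁ S hS n₀ n₁ h) x hx

variable (T) in
theorem gδ_apply (S : ShortComplex C) (hS : S.ShortExact) (n₀ n₁ : ℕ) (h : n₀ + 1 = n₁)
    (m : (T.F n₀).obj S.X₂) : (T.δ S hS n₀ n₁ h).hom (((T.F n₀).map S.g).hom m) = 0 :=
  congrArg (fun g => g.hom m) (T.comp_δ S hS n₀ n₁ h)

theorem inj_zero (hT0 : T.ZeroMono) (S : ShortComplex C) (hS : S.ShortExact)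
    (hM : Function.Injective (comp φ 0 S.X₂)) : Function.Injective (comp φ 0 S.X₁) := by
  have hi : Function.Injective ((T.F 0).map S.f).hom :=
    (AddCommGrpCat.mono_iff_injective _).1 (hT0 S hS)
  intro x x' hxx
  apply hi
  apply hM
  rw [nat_apply, nat_apply, hxx]

theorem surj_zero (hT'0 : T'.ZeroMono) (S : ShortComplex C) (hS : S.ShortExact)
    (hM : Function.Surjective (comp φ 0 S.X₂)) (hQ : Function.Injective (comp φ 0 S.X₃)) :
    Function.Surjective (comp φ 0 S.X₁) := by
  have hi' : Function.Injective ((T'.F 0).map S.f).hom :=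
    (AddCommGrpCat.mono_iff_injective _).1 (hT'0 S hS)
  intro y
  obtain ⟨m, hm⟩ := hM (((T'.F 0).map S.f).hom y)
  have h1 : ((T.F 0).map S.g).hom m = 0 := by
    apply hQ
    rw [nat_apply, hm, fg_apply, map_zero]
  obtain ⟨x, hx⟩ := ex2 T S hS 0 m h1
  refine ⟨x, hi' ?_⟩
  rw [← nat_apply, hx, hm]

theorem inj_succ (S : ShortComplex C) (hS : S.ShortExact) (q : ℕ)
    (hMq1 : Function.Injective (comp φ (q + 1) S.X₂))
    (hMq : Function.Surjective (comp φ q S.X₂)) (hQq : Function.Injective (comp φ q S.X₃)) :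
    Function.Injective (comp φ (q + 1) S.X₁) := by
  rw [injective_iff_map_eq_zero]
  intro x hx
  have h1 : ((T.F (q + 1)).map S.f).hom x = 0 := by
    apply hMq1
    rw [nat_apply, hx, map_zero, map_zero]
  obtain ⟨z, hz⟩ := ex1 T S hS q (q + 1) rfl x h1
  have h2 : (T'.δ S hS q (q + 1) rfl).hom (comp φ q S.X₃ z) = 0 := by
    rw [← comm_apply, hz, hx]
  obtain ⟨m', hm'⟩ := ex3 T' S hS q (q + 1) rfl _ h2
  obtain ⟨m, hm⟩ := hMq m'
  have h3 : ((T.F q).map S.g).hom m = z := by
    apply hQq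
    rw [nat_apply, hm, hm']
  rw [← hz, ← h3, gδ_apply]

theorem surj_succ (S : ShortComplex C) (hS : S.ShortExact) (q : ℕ)
    (hMq1 : Function.Surjective (comp φ (q + 1) S.X₂))
    (hQq1 : Function.Injective (comp φ (q + 1) S.X₃))
    (hQq : Function.Surjective (comp φ q S.X₃)) :
    Function.Surjective (comp φ (q + 1) S.X₁) := by
  intro y
  obtain ⟨m, hm⟩ := hMq1 (((T'.F (q + 1)).map S.f).hom y)
  have h1 : ((T.F (q + 1)).map S.g).hom m = 0 := by
    apply hQq1
    rw [nat_apply, hm, fg_apply, map_zero]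
  obtain ⟨x, hx⟩ := ex2 T S hS (q + 1) m h1
  have h2 : ((T'.F (q + 1)).map S.f).hom (comp φ (q + 1) S.X₁ x - y) = 0 := by
    rw [map_sub, ← nat_apply, hx, hm, sub_self]
  obtain ⟨z', hz'⟩ := ex1 T' S hS q (q + 1) rfl _ h2
  obtain ⟨z, hz⟩ := hQq z'
  refine ⟨x - (T.δ S hS q (q + 1) rfl).hom z, ?_⟩
  rw [map_sub, comm_apply, hz, hz', sub_sub_cancel]

section Colim

variable [∀ n, PreservesFilteredColimitsOfSize.{v, v} (T.F n)]
  [∀ n, PreservesFilteredColimitsOfSize.{v, v} (T'.F n)]
  (D : ObjectProperty C)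
  (hD : ∀ A : C, ∃ (J : Type v) (_ : SmallCategory J) (_ : IsFiltered J) (K : J ⥤ C)
    (c : Cocone K) (_ : IsColimit c), (∀ j, D (K.obj j)) ∧ Nonempty (c.pt ≅ A))

include hD

theorem key_eq (q : ℕ) {A A' : C} (e : A' ≅ A) :
    (φ.app q).app A = (T.F q).map e.inv ≫ (φ.app q).app A' ≫ (T'.F q).map e.hom := by
  rw [← (φ.app q).naturality e.hom, ← Category.assoc, ← (T.F q).map_comp, e.inv_hom_id,
    (T.F q).map_id, Category.id_comp]

theorem inj_all (q : ℕ) (h : ∀ A, D A → Function.Injective (comp φ q A)) (A : C) :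
    Function.Injective (comp φ q A) := by
  obtain ⟨J, _, _, K, c, hc, hK, ⟨e⟩⟩ := hD A
  haveI : PreservesColimitsOfShape J (T.F q) :=
    PreservesFilteredColimitsOfSize.preserves_filtered_colimits J
  haveI : PreservesColimitsOfShape J (T'.F q) :=
    PreservesFilteredColimitsOfSize.preserves_filtered_colimits J
  have h1 : Function.Injective ((φ.app q).app c.pt).hom :=
    injective_app_of_isColimit (φ.app q) hc (fun j => h _ (hK j))
  haveI : Mono ((φ.app q).app c.pt) := (AddCommGrpCat.mono_iff_injective _).2 h1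
  refine (AddCommGrpCat.mono_iff_injective ((φ.app q).app A)).1 ?_
  rw [key_eq φ D hD q e]
  infer_instance

theorem iso_all (q : ℕ) (h : ∀ A, D A → IsIso ((φ.app q).app A)) (A : C) :
    IsIso ((φ.app q).app A) := by
  obtain ⟨J, _, _, K, c, hc, hK, ⟨e⟩⟩ := hD A
  haveI : PreservesColimitsOfShape J (T.F q) :=
    PreservesFilteredColimitsOfSize.preserves_filtered_colimits J
  haveI : PreservesColimitsOfShape J (T'.F q) :=
    PreservesFilteredColimitsOfSize.preserves_filtered_colimits J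
  haveI : IsIso ((φ.app q).app c.pt) :=
    isIso_app_of_isColimit (φ.app q) hc (fun j => h _ (hK j))
  rw [key_eq φ D hD q e]
  infer_instance

end Colim

theorem isIso_of_bij {X Y : AddCommGrpCat.{w}} (f : X ⟶ Y) (h1 : Function.Injective f.hom)
    (h2 : Function.Surjective f.hom) : IsIso f := by
  haveI : Mono f := (AddCommGrpCat.mono_iff_injective _).2 h1
  haveI : Epi f := (AddCommGrpCat.epi_iff_surjective _).2 h2
  exact isIso_of_mono_of_epi f

theorem surj_of_isIso {X Y : AddCommGrpCat.{w}} (f : X ⟶ Y) [IsIso f] :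
    Function.Surjective f.hom :=
  (AddCommGrpCat.epi_iff_surjective f).1 inferInstance

theorem inj_of_isIso {X Y : AddCommGrpCat.{w}} (f : X ⟶ Y) [IsIso f] :
    Function.Injective f.hom :=
  (AddCommGrpCat.mono_iff_injective f).1 inferInstance

theorem S8612 {C : Type u} [Category.{v} C] [Abelian C]
    [HasFilteredColimitsOfSize.{v, v} C]
    (T T' : DeltaF.CohDeltaFunctor C AddCommGrpCat.{w} ℕ) (hT0 : T.ZeroMono) (hT'0 : T'.ZeroMono)
    [∀ n, PreservesFilteredColimitsOfSize.{v, v} (T.F n)] [∀ n, PreservesFilteredColimitsOfSize.{v, v} (T'.F n)]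
    (φ : T ⟶ T') (D E : ObjectProperty C)
    (hD : ∀ A : C, ∃ (J : Type v) (_ : SmallCategory J) (_ : IsFiltered J) (K : J ⥤ C) (c : Cocone K)
      (_ : IsColimit c), (∀ j, D (K.obj j)) ∧ Nonempty (c.pt ≅ A))
    (hE : ∀ A : C, D A → ∃ (M : C) (i : A ⟶ M), Mono i ∧ E M) :
    (∀ (q : ℕ) (A : C), IsIso ((φ.app q).app A)) ↔
      ∀ (q : ℕ) (M : C), E M → IsIso ((φ.app q).app M) := by
  refine ⟨fun h q M _ => h q M, fun h => ?_⟩
  have hEinj : ∀ q M, E M → Function.Injective (comp φ q M) := fun q M hM => by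
    haveI := h q M hM
    exact inj_of_isIso _
  have hEsurj : ∀ q M, E M → Function.Surjective (comp φ q M) := fun q M hM => by
    haveI := h q M hM
    exact surj_of_isIso _
  suffices hb : ∀ q A, Function.Injective (comp φ q A) ∧ Function.Surjective (comp φ q A) from
    fun q A => isIso_of_bij _ (hb q A).1 (hb q A).2
  intro q
  induction q with
  | zero =>
    have hinjD : ∀ A, D A → Function.Injective (comp φ 0 A) := fun A hA => by
      obtain ⟨M, i, hi, hM⟩ := hE A hA
      haveI := hi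
      exact inj_zero φ hT0 (sesOf i) (sesOf_shortExact i) (hEinj 0 M hM)
    have hinj := inj_all φ D hD 0 hinjD
    have hisoD : ∀ A, D A → IsIso ((φ.app 0).app A) := fun A hA => by
      obtain ⟨M, i, hi, hM⟩ := hE A hA
      haveI := hi
      exact isIso_of_bij _ (hinj A)
        (surj_zero φ hT'0 (sesOf i) (sesOf_shortExact i) (hEsurj 0 M hM) (hinj _))
    have hiso := iso_all φ D hD 0 hisoD
    intro A
    haveI := hiso A
    exact ⟨hinj A, surj_of_isIso _⟩
  | succ q ih =>
    have hinjD : ∀ A, D A → Function.Injective (comp φ (q + 1) A) := fun A hA => by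
      obtain ⟨M, i, hi, hM⟩ := hE A hA
      haveI := hi
      exact inj_succ φ (sesOf i) (sesOf_shortExact i) q (hEinj (q + 1) M hM) (ih M).2
        (ih _).1
    have hinj := inj_all φ D hD (q + 1) hinjD
    have hisoD : ∀ A, D A → IsIso ((φ.app (q + 1)).app A) := fun A hA => by
      obtain ⟨M, i, hi, hM⟩ := hE A hA
      haveI := hi
      exact isIso_of_bij _ (hinj A)
        (surj_succ φ (sesOf i) (sesOf_shortExact i) q (hEsurj (q + 1) M hM) (hinj _) (ih _).2)
    have hiso := iso_all φ D hD (q + 1) hisoD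
    intro A
    haveI := hiso A
    exact ⟨hinj A, surj_of_isIso _⟩

end Main

end Helper15.DeltaDev
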