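import Mathlib
import Groth.Agent.Lib.Helper2.DerivedAdj

/-!
# Derived functor of a fully faithful exact right adjoint

For an adjunction `G ⊣ F` of exact functors between abelian categories with `F` fully faithful:

* `full_faithful`: `F.mapDerivedCategory` is full and faithful;
* `essImage_iff`: an object `K` of the derived category lies in the essential image of
  `F.mapDerivedCategory` iff all its cohomology objects lie in the essential image of `F`.
-/

set_option autoImplicit false
universe w₁ w₂ v₁ v₂ u₁ u₂
open CategoryTheory CategoryTheory.Limits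

namespace Groth.Agent.Lib.Helper15.DerivedFF

open Groth.Agent.Lib.Helper2.DerivedAdj DerivedCategory

variable {C₁ : Type u₁} [Category.{v₁} C₁] [Abelian C₁] [HasDerivedCategory.{w₁} C₁]
  {C₂ : Type u₂} [Category.{v₂} C₂] [Abelian C₂] [HasDerivedCategory.{w₂} C₂]
  {G : C₁ ⥤ C₂} {F : C₂ ⥤ C₁} [G.Additive] [F.Additive]
  [PreservesFiniteLimits G] [PreservesFiniteColimits G]
  [PreservesFiniteLimits F] [PreservesFiniteColimits F]
  (adj : G ⊣ F)

lemma isIso_counit_app_Q (K : CochainComplex C₂ ℤ)
    (hK : IsIso ((mapHomologicalComplexAdj adj (ComplexShape.up ℤ)).counit.app K)) :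
    IsIso ((derivedAdj adj).counit.app (Q.obj K)) := by
  haveI := hK
  simp only [derivedAdj, Adjunction.localization_counit_app]
  infer_instance

lemma isIso_unit_app_Q_iff (K : CochainComplex C₁ ℤ) :
    IsIso ((derivedAdj adj).unit.app (Q.obj K)) ↔
      QuasiIso ((mapHomologicalComplexAdj adj (ComplexShape.up ℤ)).unit.app K) := by
  simp only [derivedAdj, Adjunction.localization_unit_app]
  rw [isIso_comp_right_iff, isIso_Q_map_iff_quasiIso]

lemma isIso_counitHC (K : CochainComplex C₂ ℤ) [IsIso adj.counit] :
    IsIso ((mapHomologicalComplexAdj adj (ComplexShape.up ℤ)).counit.app K) := by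
  haveI : ∀ n, IsIso (((mapHomologicalComplexAdj adj (ComplexShape.up ℤ)).counit.app K).f n) := by
    intro n
    show IsIso (adj.counit.app (K.X n))
    infer_instance
  exact HomologicalComplex.Hom.isIso_of_components _

include adj in
theorem full_faithful [F.Full] [F.Faithful] :
    F.mapDerivedCategory.Full ∧ F.mapDerivedCategory.Faithful := by
  haveI : IsIso (derivedAdj adj).counit := by
    haveI : ∀ K, IsIso ((derivedAdj adj).counit.app K) := by
      intro K
      rw [← NatTrans.isIso_app_iff_of_iso (derivedAdj adj).counit (Q.objObjPreimageIso K)]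
      exact isIso_counit_app_Q adj _ (isIso_counitHC adj _)
    exact NatIso.isIso_of_isIso_app _
  exact ⟨(derivedAdj adj).fullyFaithfulROfIsIsoCounit.full,
    (derivedAdj adj).fullyFaithfulROfIsIsoCounit.faithful⟩

lemma isIso_homologyMap_unit_iff (K : CochainComplex C₁ ℤ) (n : ℤ) :
    IsIso (HomologicalComplex.homologyMap
      ((mapHomologicalComplexAdj adj (ComplexShape.up ℤ)).unit.app K) n) ↔
      IsIso (adj.unit.app (K.homology n)) := by
  have h := NatTrans.app_homology adj.unit (K.sc n)
  have h2 : IsIso (adj.unit.app (K.sc n).homology) ↔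
      IsIso (ShortComplex.homologyMap ((K.sc n).mapNatTrans adj.unit)) := by
    rw [h, isIso_comp_left_iff, isIso_comp_right_iff]
  exact h2.symm

include adj in
theorem essImage_iff [F.Full] [F.Faithful] (K : DerivedCategory C₁) :
    F.mapDerivedCategory.essImage K ↔
      ∀ n : ℤ, F.essImage ((homologyFunctor C₁ n).obj K) := by
  obtain ⟨hfull, hfaith⟩ := full_faithful adj
  haveI := hfull
  haveI := hfaith
  rw [← (derivedAdj adj).isIso_unit_app_iff_mem_essImage,
    ← NatTrans.isIso_app_iff_of_iso (derivedAdj adj).unit (Q.objObjPreimageIso K),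
    isIso_unit_app_Q_iff, quasiIso_iff]
  refine forall_congr' fun n => ?_
  rw [quasiIsoAt_iff_isIso_homologyMap, isIso_homologyMap_unit_iff,
    adj.isIso_unit_app_iff_mem_essImage]
  exact F.essImage.prop_iff_of_iso
    (((homologyFunctorFactors C₁ n).app (Q.objPreimage K)).symm ≪≫
      (homologyFunctor C₁ n).mapIso (Q.objObjPreimageIso K))

end Groth.Agent.Lib.Helper15.DerivedFF
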