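import Mathlib

/-!
# The long exact sequence of right derived functors attached to a short exact sequence of functors
(helper15)

Let `α : G₁ ⟶ G₂`, `β : G₂ ⟶ G₃` be natural transformations of additive functors `C ⥤ D` such that
`0 → G₁ I → G₂ I → G₃ I → 0` is short exact for every injective object `I`. For an injective resolution `J` of
`X` this gives a short exact sequence of complexes `G₁ J → G₂ J → G₃ J`, whence:

* `nonempty_deltaIso`: if `R^{p+1} G₂ X = 0 = R^{p+2} G₂ X` then `R^{p+1} G₃ X ≅ R^{p+2} G₁ X`;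
* `nonempty_cokernelIso`: if `R^1 G₂ X = 0` and `G₂`, `G₃` are left exact then
  `coker (G₂ X → G₃ X) ≅ R^1 G₁ X`.
-/

set_option autoImplicit false

namespace Groth.Agent.Lib.Helper15.DerivedLES

open CategoryTheory Limits

universe v v' w w'

variable {C : Type w} [Category.{v} C] [Abelian C] [HasInjectiveResolutions C]
  {D : Type w'} [Category.{v'} D] [Abelian D]
  {G₁ G₂ G₃ : C ⥤ D} [G₁.Additive] [G₂.Additive] [G₃.Additive]
  (α : G₁ ⟶ G₂) (β : G₂ ⟶ G₃) (hαβ : ∀ X, α.app X ≫ β.app X = 0)

/-- The short complex of complexes attached to an injective resolution. -/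
noncomputable abbrev SC {X : C} (J : InjectiveResolution X) : ShortComplex (CochainComplex D ℕ) :=
  ShortComplex.mk ((NatTrans.mapHomologicalComplex α (ComplexShape.up ℕ)).app J.cocomplex)
    ((NatTrans.mapHomologicalComplex β (ComplexShape.up ℕ)).app J.cocomplex) (by
      ext k
      simp only [HomologicalComplex.comp_f, NatTrans.mapHomologicalComplex_app_f,
        HomologicalComplex.zero_f]
      exact hαβ _)

variable (hex : ∀ I : C, Injective I → (ShortComplex.mk (α.app I) (β.app I) (hαβ I)).ShortExact)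

include hex in
lemma SC_shortExact {X : C} (J : InjectiveResolution X) : (SC α β hαβ J).ShortExact := by
  apply HomologicalComplex.shortExact_of_degreewise_shortExact
  intro k
  exact hex (J.cocomplex.X k) (J.injective k)

include hex in
/-- `R^{p+1} G₃ X ≅ R^{p+2} G₁ X` when the neighbouring derived functors of `G₂` vanish. -/
lemma nonempty_deltaIso {X : C} (p : ℕ)
    (h1 : IsZero ((G₂.rightDerived (p + 1)).obj X))
    (h2 : IsZero ((G₂.rightDerived (p + 1 + 1)).obj X)) :
    Nonempty ((G₃.rightDerived (p + 1)).obj X ≅ (G₁.rightDerived (p + 1 + 1)).obj X) := by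
  obtain ⟨J⟩ : Nonempty (InjectiveResolution X) := ⟨injectiveResolution X⟩
  have hS := SC_shortExact α β hαβ hex J
  exact ⟨J.isoRightDerivedObj G₃ (p + 1) ≪≫
    hS.δIso (p + 1) (p + 1 + 1) rfl
      (IsZero.of_iso h1 (J.isoRightDerivedObj G₂ (p + 1)).symm)
      (IsZero.of_iso h2 (J.isoRightDerivedObj G₂ (p + 1 + 1)).symm) ≪≫
    (J.isoRightDerivedObj G₁ (p + 1 + 1)).symm⟩

include hex in
/-- `coker (G₂ X → G₃ X) ≅ R^1 G₁ X` when `R^1 G₂ X = 0` and `G₂`, `G₃` are left exact. -/
lemma nonempty_cokernelIso {X : C} [PreservesFiniteLimits G₂] [PreservesFiniteLimits G₃]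
    (h1 : IsZero ((G₂.rightDerived 1).obj X)) :
    Nonempty (cokernel (β.app X) ≅ (G₁.rightDerived 1).obj X) := by
  obtain ⟨J⟩ : Nonempty (InjectiveResolution X) := ⟨injectiveResolution X⟩
  have hS := SC_shortExact α β hαβ hex J
  haveI : Epi (hS.δ 0 1 rfl) :=
    hS.epi_δ 0 1 rfl (IsZero.of_iso h1 (J.isoRightDerivedObj G₂ 1).symm)
  have ex := hS.homology_exact₃ 0 1 rfl
  have hcyc : β.app X ≫ J.toRightDerivedZero' G₃ =
      J.toRightDerivedZero' G₂ ≫ HomologicalComplex.cyclesMap
        ((NatTrans.mapHomologicalComplex β (ComplexShape.up ℕ)).app J.cocomplex) 0 := by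
    simp only [← cancel_mono (HomologicalComplex.iCycles _ 0), Category.assoc,
      InjectiveResolution.toRightDerivedZero'_comp_iCycles, HomologicalComplex.cyclesMap_i,
      InjectiveResolution.toRightDerivedZero'_comp_iCycles_assoc,
      NatTrans.mapHomologicalComplex_app_f]
    exact (β.naturality (J.ι.f 0)).symm
  have comm : β.app X ≫
      (asIso (J.toRightDerivedZero' G₃) ≪≫ CochainComplex.isoHomologyπ₀ _).hom =
      (asIso (J.toRightDerivedZero' G₂) ≪≫ CochainComplex.isoHomologyπ₀ _).hom ≫
        HomologicalComplex.homologyMap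
          ((NatTrans.mapHomologicalComplex β (ComplexShape.up ℕ)).app J.cocomplex) 0 := by
    simp only [Iso.trans_hom, asIso_hom, HomologicalComplex.isoHomologyπ_hom, Category.assoc]
    rw [HomologicalComplex.homologyπ_naturality, ← Category.assoc, hcyc, Category.assoc]
  exact ⟨cokernel.mapIso _ _ _ _ comm ≪≫
    (cokernelIsCokernel _).coconePointUniqueUpToIso ex.gIsCokernel ≪≫
    (J.isoRightDerivedObj G₁ 1).symm⟩

end Groth.Agent.Lib.Helper15.DerivedLES
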