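import Groth.Agent.Lib.Helper15.GroupoidPts
import Groth.Agent.Lib.Helper15.Bootstrap
import Groth.Agent.Lib.Helper15.QcDescent
import Groth.Agent.Lib.Helper16.Descent

/-!
# Helper library (helper15): the diagonal of a sheaf in terms of a chart
-/

set_option autoImplicit false
universe u
open CategoryTheory CategoryTheory.Limits AlgebraicGeometry Opposite Topology

namespace Groth.Agent.Lib.Helper15

/-- `F ×_G H` is the pullback of the diagonal of `G` along `a × b`. -/
theorem isPullback_prod_lift_diag' {C : Type*} [Category C] [HasBinaryProducts C] {P A B G : C}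
    {π₁ : P ⟶ A} {π₂ : P ⟶ B} {a : A ⟶ G} {b : B ⟶ G} (sq : IsPullback π₁ π₂ a b) :
    IsPullback (π₁ ≫ a) (prod.lift π₁ π₂) (Limits.diag G) (prod.map a b) := by
  apply GroupoidSp.isPullback_of_exists_lift'
  · apply Limits.prod.hom_ext
    · simp only [Category.assoc, prod.map_fst, prod.lift_fst_assoc, prod.lift_fst, Category.comp_id]
    · simp only [Category.assoc, prod.map_snd, prod.lift_snd_assoc, prod.lift_snd, Category.comp_id,
        sq.w]
  · intro Q q p hpq
    have h1 : (p ≫ prod.fst) ≫ a = q := by
      have := congrArg (· ≫ prod.fst) hpq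
      simpa only [Category.assoc, prod.map_fst, prod.lift_fst, Category.comp_id] using this.symm
    have h2 : (p ≫ prod.snd) ≫ b = q := by
      have := congrArg (· ≫ prod.snd) hpq
      simpa only [Category.assoc, prod.map_snd, prod.lift_snd, Category.comp_id] using this.symm
    refine ⟨sq.lift (p ≫ prod.fst) (p ≫ prod.snd) (h1.trans h2.symm), ?_, ?_⟩
    · rw [← Category.assoc, sq.lift_fst, h1]
    · apply Limits.prod.hom_ext
      · simp only [Category.assoc, prod.lift_fst, sq.lift_fst]
      · simp only [Category.assoc, prod.lift_snd, sq.lift_snd]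
  · intro Q l l' _ h1
    apply sq.hom_ext
    · have := congrArg (· ≫ prod.fst) h1
      simpa only [Category.assoc, prod.lift_fst] using this
    · have := congrArg (· ≫ prod.snd) h1
      simpa only [Category.assoc, prod.lift_snd] using this

open AlgSp

variable {S : Scheme.{u}}

/-- `RepWith P` is stable under binary products of morphisms. -/
theorem repWith_prod_map {P : MorphismProperty Scheme.{u}} [P.IsStableUnderBaseChange]
    [P.IsStableUnderComposition] {F₁ G₁ F₂ G₂ : Sp S} {a₁ : F₁ ⟶ G₁} {a₂ : F₂ ⟶ G₂}
    (h₁ : RepWith P a₁) (h₂ : RepWith P a₂) : RepWith P (prod.map a₁ a₂) := by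
  have e : prod.map a₁ a₂ = prod.map a₁ (𝟙 F₂) ≫ prod.map (𝟙 G₁) a₂ := by
    rw [prod.map_map, Category.comp_id, Category.id_comp]
  rw [e]
  exact (RepWith P).comp_mem _ _
    ((RepWith P).of_isPullback (isPullback_prod_map_id a₁ F₂) h₁)
    ((RepWith P).of_isPullback (isPullback_prod_id_map a₂ G₁) h₂)

end Groth.Agent.Lib.Helper15
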