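import Groth.Agent.Lib.Helper16.QsField

/-!
# Helper library (helper15): the comparison map `R ⟶ A ×_S B` of a represented fibre product `h_A ×_X h_B`
has every property that the diagonal of `X` has (generalising helper16's `QsField` argument).
-/

set_option autoImplicit false
universe u
open CategoryTheory CategoryTheory.Limits AlgebraicGeometry Opposite Topology MorphismProperty

namespace Groth.Agent.Lib.Helper15.DiagLift

open AlgSp Groth.Agent.Lib.Helper16

variable {S : Scheme.{u}}

theorem prop_lift_of_repWith_diag {Pr : MorphismProperty Scheme.{u}} {X : Sp S}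
    (hX : RepWith Pr (Limits.diag X)) {A B R : Over S} (a : (yon S).obj A ⟶ X)
    (b : (yon S).obj B ⟶ X) (rU : R ⟶ A) (rW : R ⟶ B)
    (sqR : IsPullback ((yon S).map rU) ((yon S).map rW) a b)
    (A₀ : A ⟶ Over.mk (𝟙 S)) (B₀ : B ⟶ Over.mk (𝟙 S)) (m : R ⟶ pullback A₀ B₀)
    (hm1' : m ≫ pullback.fst A₀ B₀ = rU) (hm2' : m ≫ pullback.snd A₀ B₀ = rW) : Pr m.left := by
  have sq₀ := (IsPullback.of_hasPullback A₀ B₀).map (yon S)
  have hm1 : (yon S).map m ≫ (yon S).map (pullback.fst A₀ B₀) = (yon S).map rU := by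
    rw [← Functor.map_comp, hm1']
  have hm2 : (yon S).map m ≫ (yon S).map (pullback.snd A₀ B₀) = (yon S).map rW := by
    rw [← Functor.map_comp, hm2']
  have sqD : IsPullback ((yon S).map rU ≫ a) ((yon S).map m) (Limits.diag X)
      (prod.lift ((yon S).map (pullback.fst A₀ B₀) ≫ a) ((yon S).map (pullback.snd A₀ B₀) ≫ b)) := by
    refine isPullback_of_exists_lift ?_ ?_ ?_
    · apply Limits.prod.hom_ext
      · simp only [Category.assoc, prod.lift_fst, Category.comp_id]
        rw [← Category.assoc ((yon S).map m), hm1]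
      · simp only [Category.assoc, prod.lift_snd, Category.comp_id]
        rw [← Category.assoc ((yon S).map m), hm2]
        exact sqR.w
    · intro Q c d h
      have hc1 : c = d ≫ (yon S).map (pullback.fst A₀ B₀) ≫ a := by
        have := congrArg (· ≫ prod.fst) h
        simpa only [Category.assoc, prod.lift_fst, Category.comp_id] using this
      have hc2 : c = d ≫ (yon S).map (pullback.snd A₀ B₀) ≫ b := by
        have := congrArg (· ≫ prod.snd) h
        simpa only [Category.assoc, prod.lift_snd, Category.comp_id] using this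
      have hw : (d ≫ (yon S).map (pullback.fst A₀ B₀)) ≫ a =
          (d ≫ (yon S).map (pullback.snd A₀ B₀)) ≫ b := by
        rw [Category.assoc, Category.assoc, ← hc1, ← hc2]
      refine ⟨sqR.lift _ _ hw, ?_, ?_⟩
      · rw [← Category.assoc, sqR.lift_fst, Category.assoc, ← hc1]
      · apply sq₀.hom_ext
        · rw [Category.assoc, hm1, sqR.lift_fst]
        · rw [Category.assoc, hm2, sqR.lift_snd]
    · intro Q l l' _ h2
      apply sqR.hom_ext
      · have := congrArg (· ≫ (yon S).map (pullback.fst A₀ B₀)) h2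
        simpa only [Category.assoc, hm1] using this
      · have := congrArg (· ≫ (yon S).map (pullback.snd A₀ B₀)) h2
        simpa only [Category.assoc, hm2] using this
  exact hX.property _ _ _ sqD

/-- Packaged version: the scheme-level comparison map `R.left ⟶ A.left ×_S B.left` has `Pr`. -/
theorem exists_lift_prop {Pr : MorphismProperty Scheme.{u}} [Pr.RespectsIso] {X : Sp S}
    (hX : RepWith Pr (Limits.diag X)) {A B R : Over S} (a : (yon S).obj A ⟶ X)
    (b : (yon S).obj B ⟶ X) (rU : R ⟶ A) (rW : R ⟶ B)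
    (sqR : IsPullback ((yon S).map rU) ((yon S).map rW) a b) :
    ∃ j : R.left ⟶ pullback A.hom B.hom, j ≫ pullback.fst A.hom B.hom = rU.left ∧
      j ≫ pullback.snd A.hom B.hom = rW.left ∧ Pr j := by
  obtain ⟨A₀, hA₀⟩ : ∃ A₀ : A ⟶ Over.mk (𝟙 S), A₀.left = A.hom := ⟨Over.homMk A.hom, rfl⟩
  obtain ⟨B₀, hB₀⟩ : ∃ B₀ : B ⟶ Over.mk (𝟙 S), B₀.left = B.hom := ⟨Over.homMk B.hom, rfl⟩
  obtain ⟨m, hm1', hm2'⟩ : ∃ m : R ⟶ pullback A₀ B₀, m ≫ pullback.fst A₀ B₀ = rU ∧
      m ≫ pullback.snd A₀ B₀ = rW :=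
    ⟨pullback.lift rU rW (Over.mkIdTerminal.hom_ext _ _), pullback.lift_fst _ _ _, pullback.lift_snd _ _ _⟩
  have hm := prop_lift_of_repWith_diag hX a b rU rW sqR A₀ B₀ m hm1' hm2'
  have sqS : IsPullback (pullback.fst A₀ B₀).left (pullback.snd A₀ B₀).left A₀.left B₀.left :=
    (IsPullback.of_hasPullback A₀ B₀).map (Over.forget S)
  rw [hA₀, hB₀] at sqS
  refine ⟨m.left ≫ sqS.isoPullback.hom, ?_, ?_, ?_⟩
  · rw [Category.assoc, sqS.isoPullback_hom_fst, ← Over.comp_left, hm1']
  · rw [Category.assoc, sqS.isoPullback_hom_snd, ← Over.comp_left, hm2']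
  · exact (Pr.cancel_right_of_respectsIso _ _).2 hm

end Groth.Agent.Lib.Helper15.DiagLift
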