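import Mathlib.AlgebraicGeometry.ValuativeCriterion
import Mathlib.AlgebraicGeometry.Morphisms.Separated
import Mathlib.AlgebraicGeometry.Morphisms.QuasiSeparated
import Mathlib.AlgebraicGeometry.Limits
import Mathlib.RingTheory.Spectrum.Prime.ConstructibleSet
import Mathlib.Topology.KrullDimension
import Mathlib.Topology.Connected.Separation

/-!
# Schemes without nontrivial specializations (dimension zero) (helper15)

For a scheme `X` in which `x ⤳ y → x = y` (e.g. `topologicalKrullDim X ≤ 0`, or `X` is T1):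
* quasi-separated implies separated (valuative criterion);
* quasi-separated implies Hausdorff and totally separated;
* quasi-compact opens are affine.
-/

set_option autoImplicit false
universe u

open AlgebraicGeometry CategoryTheory Limits TopologicalSpace

namespace Groth.Agent.Lib.Helper15

section Top

attribute [local instance] specializationOrder

theorem specializes_eq_of_topologicalKrullDim_le_zero {X : Type*} [TopologicalSpace X] [QuasiSober X]
    [T0Space X] (h : topologicalKrullDim X ≤ 0) (x y : X) (hxy : x ⤳ y) : x = y := by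
  have e : topologicalKrullDim X = Order.krullDim X :=
    Order.krullDim_eq_of_orderIso irreducibleSetEquivPoints
  rw [e, Order.krullDim_nonpos_iff_forall_isMax] at h
  have h1 : y ≤ x := hxy
  exact le_antisymm (h y h1) h1

end Top

theorem t2Space_primeSpectrum_of_specializes_eq (R : Type*) [CommRing R]
    (h : ∀ p q : PrimeSpectrum R, p ⤳ q → p = q) : T2Space (PrimeSpectrum R) := by
  have hclopen : ∀ f : R, IsClopen (PrimeSpectrum.basicOpen f : Set (PrimeSpectrum R)) := by
    intro f
    refine ⟨?_, (PrimeSpectrum.basicOpen f).isOpen⟩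
    refine PrimeSpectrum.isClosed_of_stableUnderSpecialization_of_isConstructible ?_
      PrimeSpectrum.isConstructible_basicOpen
    intro p q hpq hp
    rwa [← h p q hpq]
  have key : ∀ p q : PrimeSpectrum R, ∀ U : Set (PrimeSpectrum R), IsOpen U → p ∈ U → q ∉ U →
      ∃ V : Set (PrimeSpectrum R), IsClopen V ∧ p ∈ V ∧ q ∉ V := by
    intro p q U hU hp hq
    obtain ⟨_, ⟨f, rfl⟩, hpf, hfU⟩ :=
      PrimeSpectrum.isTopologicalBasis_basic_opens.exists_subset_of_mem_open hp hU
    exact ⟨_, hclopen f, hpf, fun hq' => hq (hfU hq')⟩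
  have : TotallySeparatedSpace (PrimeSpectrum R) := by
    rw [totallySeparatedSpace_iff_exists_isClopen]
    intro p q hpq
    obtain ⟨U, hU, hx⟩ := exists_isOpen_xor_mem hpq
    rcases hx with ⟨hp, hq⟩ | ⟨hq, hp⟩
    · obtain ⟨V, hV, hpV, hqV⟩ := key p q U hU hp hq
      exact ⟨V, hV, hpV, hqV⟩
    · obtain ⟨V, hV, hqV, hpV⟩ := key q p U hU hq hp
      exact ⟨Vᶜ, hV.compl, hpV, by simpa using hqV⟩
  infer_instance

variable {X : Scheme.{u}}

theorem specializes_eq_spec_of_affineOpen (hsp : ∀ x y : X, x ⤳ y → x = y) {U : X.Opens}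
    (hU : IsAffineOpen U) (p q : PrimeSpectrum Γ(X, U)) (hpq : p ⤳ q) : p = q := by
  have h1 : hU.fromSpec p ⤳ hU.fromSpec q := hpq.map hU.fromSpec.continuous
  exact hU.fromSpec.isOpenEmbedding.injective (hsp _ _ h1)

theorem t2Space_affineOpen (hsp : ∀ x y : X, x ⤳ y → x = y) {U : X.Opens}
    (hU : IsAffineOpen U) : T2Space (U : Set X) := by
  have : T2Space (PrimeSpectrum Γ(X, U)) :=
    t2Space_primeSpectrum_of_specializes_eq _ (specializes_eq_spec_of_affineOpen hsp hU)
  have : T2Space (Spec Γ(X, U)) := this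
  exact (Scheme.homeoOfIso hU.isoSpec).symm.t2Space

/-- A quasi-separated scheme without nontrivial specializations is separated. -/
theorem isSeparated_of_specializes_eq (X : Scheme.{u}) [QuasiSeparatedSpace X]
    (hsp : ∀ x y : X, x ⤳ y → x = y) : X.IsSeparated := by
  rw [Scheme.isSeparated_iff]
  have : QuasiSeparated (terminal.from X) := (quasiSeparatedSpace_iff_quasiSeparated X).mp inferInstance
  apply IsSeparated.of_valuativeCriterion
  intro S
  constructor
  intro l₁ l₂
  ext : 1
  -- the generic point of `Spec R`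
  let ι : Spec (.of S.K) ⟶ Spec (.of S.R) := Spec.map (CommRingCat.ofHom (algebraMap S.R S.K))
  let pt : Spec (.of S.K) := Classical.arbitrary _
  let η : Spec (.of S.R) := ι pt
  have hη : ∀ p : Spec (.of S.R), η ⤳ p := by
    intro p
    refine (PrimeSpectrum.le_iff_specializes (R := S.R) η p).mp ?_
    change (PrimeSpectrum.comap (algebraMap S.R S.K) pt).asIdeal ≤ p.asIdeal
    intro r hr
    have h0 : algebraMap S.R S.K r ∈ pt.asIdeal := hr
    have h1 : algebraMap S.R S.K r = 0 := by
      by_contra hne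
      exact pt.2.ne_top (Ideal.eq_top_of_isUnit_mem _ h0 (isUnit_iff_ne_zero.mpr hne))
    have : r = 0 := (IsFractionRing.injective S.R S.K) (h1.trans (map_zero _).symm)
    rw [this]
    exact zero_mem _
  let x : X := S.i₁ pt
  have hx₁ : l₁.l η = x := by
    have := congrArg (fun g => g pt) l₁.fac_left
    simpa using this
  have hx₂ : l₂.l η = x := by
    have := congrArg (fun g => g pt) l₂.fac_left
    simpa using this
  have hall₁ : ∀ p, l₁.l p = x := fun p =>
    (hsp _ _ (hx₁ ▸ (hη p).map l₁.l.continuous)).symm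
  have hall₂ : ∀ p, l₂.l p = x := fun p =>
    (hsp _ _ (hx₂ ▸ (hη p).map l₂.l.continuous)).symm
  obtain ⟨_, ⟨(U : X.Opens), hU : IsAffineOpen U, rfl⟩, hxU, -⟩ :=
    X.isBasis_affineOpens.exists_subset_of_mem_open (Set.mem_univ x) isOpen_univ
  have hr₁ : Set.range l₁.l ⊆ Set.range U.ι := by
    rintro _ ⟨p, rfl⟩
    rw [hall₁, Scheme.Opens.range_ι]
    exact hxU
  have hr₂ : Set.range l₂.l ⊆ Set.range U.ι := by
    rintro _ ⟨p, rfl⟩
    rw [hall₂, Scheme.Opens.range_ι]
    exact hxU
  rw [← IsOpenImmersion.lift_fac U.ι l₁.l hr₁, ← IsOpenImmersion.lift_fac U.ι l₂.l hr₂]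
  congr 1
  have : IsAffine (U : Scheme.{u}) := hU
  have hcomp : ι ≫ IsOpenImmersion.lift U.ι l₁.l hr₁ = ι ≫ IsOpenImmersion.lift U.ι l₂.l hr₂ := by
    rw [← cancel_mono U.ι, Category.assoc, Category.assoc, IsOpenImmersion.lift_fac,
      IsOpenImmersion.lift_fac]
    exact l₁.fac_left.trans l₂.fac_left.symm
  apply ext_of_isAffine
  have hmono : Mono ι.appTop := by
    have hf : Mono (CommRingCat.ofHom (algebraMap S.R S.K)) :=
      ConcreteCategory.mono_of_injective _ (IsFractionRing.injective S.R S.K)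
    have e : ι.appTop = (Scheme.ΓSpecIso _).hom ≫ CommRingCat.ofHom (algebraMap S.R S.K) ≫
        (Scheme.ΓSpecIso _).inv := by
      rw [← Scheme.ΓSpecIso_naturality_assoc, Iso.hom_inv_id, Category.comp_id]
    rw [e]
    infer_instance
  have := congrArg Scheme.Hom.appTop hcomp
  rw [Scheme.Hom.comp_appTop, Scheme.Hom.comp_appTop] at this
  exact (cancel_mono _).mp this

/-- A quasi-separated scheme without nontrivial specializations is Hausdorff. -/
theorem t2Space_of_specializes_eq (X : Scheme.{u}) [QuasiSeparatedSpace X]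
    (hsp : ∀ x y : X, x ⤳ y → x = y) : T2Space X := by
  -- two points in a common affine open can be separated
  have common : ∀ (U : X.Opens), IsAffineOpen U → ∀ x y : X, x ∈ U → y ∈ U → x ≠ y →
      ∃ u v : Set X, IsOpen u ∧ IsOpen v ∧ x ∈ u ∧ y ∈ v ∧ Disjoint u v := by
    intro U hU x y hxU hyU hxy
    have : T2Space (U : Set X) := t2Space_affineOpen hsp hU
    obtain ⟨u, v, hu, hv, hxu, hyv, huv⟩ :=
      t2_separation (x := (⟨x, hxU⟩ : (U : Set X))) (y := ⟨y, hyU⟩)
        (by simpa [Subtype.ext_iff] using hxy)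
    refine ⟨Subtype.val '' u, Subtype.val '' v, U.isOpen.isOpenMap_subtype_val _ hu,
      U.isOpen.isOpenMap_subtype_val _ hv, ⟨_, hxu, rfl⟩, ⟨_, hyv, rfl⟩, ?_⟩
    exact (Set.disjoint_image_iff Subtype.val_injective).mpr huv
  rw [t2Space_iff]
  intro x y hxy
  obtain ⟨_, ⟨(U : X.Opens), hU : IsAffineOpen U, rfl⟩, hxU, -⟩ :=
    X.isBasis_affineOpens.exists_subset_of_mem_open (Set.mem_univ x) isOpen_univ
  obtain ⟨_, ⟨(V : X.Opens), hV : IsAffineOpen V, rfl⟩, hyV, -⟩ :=
    X.isBasis_affineOpens.exists_subset_of_mem_open (Set.mem_univ y) isOpen_univ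
  by_cases hyU : y ∈ (U : Set X)
  · exact common U hU x y hxU hyU hxy
  by_cases hxV : x ∈ (V : Set X)
  · exact common V hV x y hxV hyV hxy
  -- `W = U ∩ V` is compact, hence closed in `U`
  have hW : IsCompact ((U : Set X) ∩ V) :=
    QuasiSeparatedSpace.inter_isCompact _ _ U.isOpen hU.isCompact V.isOpen hV.isCompact
  have : T2Space (U : Set X) := t2Space_affineOpen hsp hU
  have hWU : IsCompact ((Subtype.val : ↥(U : Set X) → X) ⁻¹' ((U : Set X) ∩ V)) := by
    rw [Subtype.isCompact_iff, Subtype.image_preimage_coe]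
    convert hW using 1
    ext z
    simp
  obtain ⟨C, hC, hCW⟩ := isClosed_induced_iff.mp hWU.isClosed
  refine ⟨(U : Set X) ∩ Cᶜ, V, U.isOpen.inter hC.isOpen_compl, V.isOpen, ⟨hxU, ?_⟩, hyV, ?_⟩
  · intro hxC
    have : (⟨x, hxU⟩ : (U : Set X)) ∈ (Subtype.val : ↥(U : Set X) → X) ⁻¹' C := hxC
    rw [hCW] at this
    exact hxV this.2
  · rw [Set.disjoint_left]
    rintro z ⟨hzU, hzC⟩ hzV
    apply hzC
    have : (⟨z, hzU⟩ : (U : Set X)) ∈ (Subtype.val : ↥(U : Set X) → X) ⁻¹' ((U : Set X) ∩ V) :=
      ⟨hzU, hzV⟩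
    rw [← hCW] at this
    exact this

/-- A quasi-separated scheme without nontrivial specializations is totally separated. -/
theorem totallySeparatedSpace_of_specializes_eq (X : Scheme.{u}) [QuasiSeparatedSpace X]
    (hsp : ∀ x y : X, x ⤳ y → x = y) : TotallySeparatedSpace X := by
  have : T2Space X := t2Space_of_specializes_eq X hsp
  rw [totallySeparatedSpace_iff_exists_isClopen]
  intro x y hxy
  obtain ⟨_, ⟨(U : X.Opens), hU : IsAffineOpen U, rfl⟩, hxU, -⟩ :=
    X.isBasis_affineOpens.exists_subset_of_mem_open (Set.mem_univ x) isOpen_univ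
  let V : X.Opens := ⟨{y}ᶜ, isOpen_compl_singleton⟩
  have hxV : x ∈ V := hxy
  obtain ⟨f, hfV, hxf⟩ := hU.exists_basicOpen_le (V := V) ⟨x, hxV⟩ hxU
  refine ⟨X.basicOpen f, ⟨?_, (X.basicOpen f).isOpen⟩, hxf, ?_⟩
  · exact (hU.basicOpen f).isCompact.isClosed
  · intro hy
    exact hfV hy rfl

/-- In a quasi-separated scheme without nontrivial specializations, finite unions of affine opens
are affine. -/
theorem isAffineOpen_of_isCompact_of_specializes_eq (X : Scheme.{u}) [QuasiSeparatedSpace X]
    (hsp : ∀ x y : X, x ⤳ y → x = y) (U : X.Opens) (hU : IsCompact (U : Set X)) :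
    IsAffineOpen U := by
  have : T2Space X := t2Space_of_specializes_eq X hsp
  obtain ⟨s, hs, rfl⟩ := isCompact_iff_finite_and_eq_biUnion_affineOpens.mp hU
  clear hU
  induction s, hs using Set.Finite.induction_on with
  | empty =>
    simp only [Set.mem_empty_iff_false, iSup_false, iSup_bot]
    exact isAffineOpen_bot X
  | @insert a s ha hs ih =>
    rw [iSup_insert]
    set T : X.Opens := ⨆ i ∈ s, (i : X.Opens) with hT
    have hTc : IsClosed (T : Set X) := ih.isCompact.isClosed
    let A : X.Opens := ⟨(a : Set X) ∩ (T : Set X)ᶜ, a.1.isOpen.inter hTc.isOpen_compl⟩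
    have hAa : A ≤ a.1 := fun z hz => hz.1
    have hAaff : IsAffineOpen A := by
      have : IsAffine (a.1 : Scheme.{u}) := a.2
      have hcl : IsClosedImmersion (X.homOfLE hAa) := by
        apply IsClosedImmersion.of_isPreimmersion
        have hr : Set.range (X.homOfLE hAa) = (Subtype.val : a.1 → X) ⁻¹' ((T : Set X)ᶜ) := by
          ext z
          constructor
          · rintro ⟨w, rfl⟩
            have : (X.homOfLE hAa w).1 = w.1 := by
              have := congrArg (fun g => g w) (X.homOfLE_ι hAa)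
              simpa using this
            show (X.homOfLE hAa w).1 ∈ (T : Set X)ᶜ
            rw [this]
            exact w.2.2
          · intro hz
            refine ⟨⟨z.1, z.2, hz⟩, ?_⟩
            apply Subtype.ext
            have := congrArg (fun g => g (⟨z.1, z.2, hz⟩ : A)) (X.homOfLE_ι hAa)
            simpa using this
        rw [hr]
        exact T.isOpen.isClosed_compl.preimage continuous_subtype_val
      exact (IsClosedImmersion.isAffine_surjective_of_isAffine (X.homOfLE hAa)).1
    have hsup : a.1 ⊔ T = A ⊔ T := by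
      ext z
      simp only [Opens.coe_sup, Set.mem_union, SetLike.mem_coe]
      constructor
      · rintro (hz | hz)
        · by_cases hzT : z ∈ T
          · exact Or.inr hzT
          · exact Or.inl ⟨hz, hzT⟩
        · exact Or.inr hz
      · rintro (hz | hz)
        · exact Or.inl hz.1
        · exact Or.inr hz
    rw [hsup]
    apply hAaff.sup_of_disjoint ih
    rw [← Opens.coe_disjoint, Set.disjoint_left]
    intro z hzA hzT
    exact hzA.2 hzT

end Groth.Agent.Lib.Helper15
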