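import Groth.Agent.Lib.Helper15.OpenSubspace
import Groth.Agent.Lib.Helper15.ToposQuot
import Groth.Agent.Lib.Helper16.SpCoprod2
import Groth.Agent.Lib.Helper16.Rep

/-!
# Helper library (helper15): a sheaf with discrete points whose open points are representable is representable;
charts of open subspaces cut out by open immersions into an etale chart.
-/

set_option autoImplicit false
universe u
open CategoryTheory CategoryTheory.Limits AlgebraicGeometry Opposite Topology

namespace Groth.Agent.Lib.Helper15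

open AlgSp Groth.Agent.Lib.Helper16 Groth.Agent.Lib.Helper16.SpCoprod

variable {S : Scheme.{u}}

/-- Restricting an etale chart along an open immersion gives an etale surjective chart of the open subspace
of points in its image. -/
theorem chart_of_openImmersion {F : Sp S} {U : Over S} (p : (yon S).obj U ⟶ F) (hp : RepWith @Etale p)
    {V : Scheme.{u}} (i : V ⟶ U.left) [IsOpenImmersion i] (Ω : Set (Points F))
    (hΩ : ∀ x, x ∈ Ω ↔ ∃ v : V, Points.ofPt p (i v) = x) :
    ∃ p' : (yon S).obj (Over.mk (i ≫ U.hom)) ⟶ openSub F Ω,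
      RepWith @Etale p' ∧ RepWith @Surjective p' := by
  obtain ⟨ι', hι'⟩ : ∃ ι' : Over.mk (i ≫ U.hom) ⟶ U, ι'.left = i := ⟨Over.homMk i rfl, rfl⟩
  obtain ⟨q, hq⟩ : ∃ q, q = (yon S).map ι' ≫ p := ⟨_, rfl⟩
  have hqe : RepWith @Etale q := by
    rw [hq]
    refine (RepWith @Etale).comp_mem _ _ ((repWith_yon_map_iff _ _).2 ?_) hp
    rw [hι']
    infer_instance
  have hqpt : ∀ v : V, Points.ofPt q v = Points.ofPt p (i v) := by
    intro v
    rw [hq, ofPt_yon_map_comp, hι']
  have hqΩ : ∀ v, Points.ofPt q v ∈ Ω := by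
    intro v
    rw [hqpt, hΩ]
    exact ⟨v, rfl⟩
  obtain ⟨p', hp'⟩ := (exists_factor_openSub_iff Ω q).2 hqΩ
  have hp'e : RepWith @Etale p' := by
    apply repWith_of_comp_mono _ p' (openSubι F Ω)
    rw [hp']; exact hqe
  refine ⟨p', hp'e, ?_⟩
  refine MorphismProperty.relative_of_snd hp'e.rep (fun T a => ⟨fun t => ?_⟩)
  have sq := hp'e.rep.isPullback a
  obtain ⟨c, hc⟩ := (yon S).map_surjective (hp'e.rep.fst a)
  rw [← hc] at sq
  have sq' : IsPullback ((yon S).map c) ((yon S).map (hp'e.rep.snd a)) q (a ≫ openSubι F Ω) := by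
    have := isPullback_comp_mono (openSubι F Ω) sq
    rwa [hp'] at this
  have h1 : Points.ofPt (a ≫ openSubι F Ω) t ∈ Ω :=
    (exists_factor_openSub_iff Ω _).1 ⟨a, rfl⟩ t
  obtain ⟨v, hv⟩ := (hΩ _).1 h1
  obtain ⟨r, -, hr⟩ := exists_point_of_isPullback_yon_yon sq' v t (by rw [hqpt, hv])
  exact ⟨r, hr⟩

/-- A sheaf with discrete points all of whose open points are representable is representable (by the
coproduct of the representing schemes). -/
theorem nonempty_iso_yon_sig_of_discrete {F : Sp S} [Small.{u} (Points F)]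
    (hopen : ∀ x : Points F, IsOpen ({x} : Set (Points F)))
    (W : Points F → Over S) (e : ∀ x, (yon S).obj (W x) ≅ openSub F {x}) :
    Nonempty ((yon S).obj (sig W) ≅ F) := by
  obtain ⟨hW⟩ := isColimit_sig W
  obtain ⟨a, ha⟩ : ∃ a : ∀ x, (yon S).obj (W x) ⟶ F, ∀ x, a x = (e x).hom ≫ openSubι F {x} :=
    ⟨_, fun _ => rfl⟩
  have hamono : ∀ x, Mono (a x) := fun x => by rw [ha]; infer_instance
  have hapt : ∀ x (T : Over S) (z : (yon S).obj T ⟶ (yon S).obj (W x)) (t : ↥T.left),
      Points.ofPt (z ≫ a x) t = x := by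
    intro x T z t
    exact (exists_factor_openSub_iff ({x} : Set (Points F)) (z ≫ a x)).1
      ⟨z ≫ (e x).hom, by rw [ha, Category.assoc]⟩ t
  obtain ⟨φ, hφ⟩ : ∃ φ : (yon S).obj (sig W) ⟶ F, ∀ x, (yon S).map (sigι W x) ≫ φ = a x :=
    ⟨Cofan.IsColimit.desc hW a, fun x => Cofan.IsColimit.fac hW a x⟩
  have hepi : Epi φ := by
    rw [epi_iff_locally_lift]
    intro T y
    obtain ⟨V, hV⟩ : ∃ V : Points F → T.left.Opens, ∀ x t, t ∈ V x ↔ Points.ofPt y t = x :=
      ⟨fun x => ⟨Points.ofPt y ⁻¹' {x}, (hopen x).preimage (Points.continuous_ofPt y)⟩,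
        fun _ _ => Iff.rfl⟩
    refine ⟨Sieve.generate (Presieve.ofArrows (fun x => overOpen T (V x)) (fun x => overOpenι T (V x))),
      generate_ofArrows_mem_J_of_open_cover _ _
        (fun x => by change IsOpenImmersion (V x).ι; infer_instance)
        (fun t => ⟨Points.ofPt y t, ?_⟩), ?_⟩
    · show t ∈ Set.range (V (Points.ofPt y t)).ι
      rw [Scheme.Opens.range_ι]
      exact (hV _ _).2 rfl
    · rintro T' g ⟨T'', h, g', hg', rfl⟩
      obtain ⟨x⟩ := hg'
      have hpts : ∀ v, Points.ofPt ((yon S).map (overOpenι T (V x)) ≫ y) v ∈ ({x} : Set (Points F)) := by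
        intro v
        rw [ofPt_restrict]
        have h1 : (V x).ι v ∈ Set.range (V x).ι := ⟨v, rfl⟩
        rw [Scheme.Opens.range_ι] at h1
        exact (hV _ _).1 h1
      obtain ⟨y', hy'⟩ := (exists_factor_openSub_iff {x} _).2 hpts
      refine ⟨(yon S).map h ≫ y' ≫ (e x).inv ≫ (yon S).map (sigι W x), ?_⟩
      rw [Category.assoc, Category.assoc, Category.assoc, hφ, ha, Iso.inv_hom_id_assoc, hy',
        Functor.map_comp, Category.assoc]
  have key : ∀ (T : Over S) (α β : (yon S).obj T ⟶ (yon S).obj (sig W)), α ≫ φ = β ≫ φ → α = β := by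
    intro T α β h
    obtain ⟨V, g, a', h1, h2, h3, h4⟩ := exists_decomposition
      (Cofan.mk ((yon S).obj (sig W)) (fun x => (yon S).map (sigι W x))) hW α
    obtain ⟨V', g', b', h1', h2', h3', -⟩ := exists_decomposition
      (Cofan.mk ((yon S).obj (sig W)) (fun x => (yon S).map (sigι W x))) hW β
    obtain ⟨hT⟩ := isColimit_cofan_yon_of_disjoint_open_cover V g (fun x => (h2 x).1) h3 h4
    refine Cofan.IsColimit.hom_ext hT _ _ (fun x => ?_)
    have e1 : (yon S).map (g x) ≫ α = a' x ≫ (yon S).map (sigι W x) := (h1 x).w.symm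
    have e1' : ∀ y, (yon S).map (g' y) ≫ β = b' y ≫ (yon S).map (sigι W y) := fun y => (h1' y).w.symm
    have hsub : Set.range (g x).left ⊆ Set.range (g' x).left := by
      rintro _ ⟨v, rfl⟩
      obtain ⟨y, v', hv'⟩ := h3' ((g x).left v)
      have hx : Points.ofPt (α ≫ φ) ((g x).left v) = x := by
        rw [← ofPt_yon_map_comp, ← Category.assoc, e1, Category.assoc, hφ]
        exact hapt x _ (a' x) v
      have hy : Points.ofPt (β ≫ φ) ((g' y).left v') = y := by
        rw [← ofPt_yon_map_comp, ← Category.assoc, e1', Category.assoc, hφ]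
        exact hapt y _ (b' y) v'
      have hxy : x = y := by rw [← hx, h, ← hv', hy]
      subst hxy
      exact ⟨v', hv'⟩
    obtain ⟨l, hl⟩ : ∃ l : V x ⟶ V' x, l ≫ g' x = g x := by
      haveI := (h2' x).1
      refine ⟨Over.homMk (IsOpenImmersion.lift (g' x).left (g x).left hsub) ?_, ?_⟩
      · rw [← Over.w (g' x), ← Category.assoc, IsOpenImmersion.lift_fac]
        exact Over.w (g x)
      · ext
        exact IsOpenImmersion.lift_fac _ _ _
    have e2 : (yon S).map (g x) ≫ β = ((yon S).map l ≫ b' x) ≫ (yon S).map (sigι W x) := by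
      rw [← hl, Functor.map_comp, Category.assoc, e1', Category.assoc]
    have e3 : (a' x ≫ (yon S).map (sigι W x)) ≫ φ =
        (((yon S).map l ≫ b' x) ≫ (yon S).map (sigι W x)) ≫ φ := by
      rw [← e1, ← e2, Category.assoc, Category.assoc, h]
    simp only [Category.assoc] at e3
    rw [hφ] at e3
    have e4 : a' x = (yon S).map l ≫ b' x :=
      (cancel_mono (a x)).1 (by rw [Category.assoc]; exact e3)
    show (yon S).map (g x) ≫ α = (yon S).map (g x) ≫ β
    rw [e1, e2, e4]
  have hmono : Mono φ := by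
    constructor
    intro Z α β hαβ
    apply sp_hom_ext
    intro T z
    exact key T (z ≫ α) (z ≫ β) (by rw [Category.assoc, Category.assoc, hαβ])
  haveI : IsIso φ := isIso_of_mono_of_epi φ
  exact ⟨asIso φ⟩

end Groth.Agent.Lib.Helper15
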