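import Groth.Agent.Lib.Helper15.EffCartierDescent
import Groth.Prelude.Def_AlgSpSub
import Groth.Agent.S10855
import Groth.Agent.Lib.Helper16.Charts

/-!
# Effective Cartier divisors on algebraic spaces: chart lemmas

* `exists_isPullback_comap`: a chart of a closed subspace can be pulled back along a morphism of schemes;
* `comap_eq_comap_of_charts`: two charts of the same closed subspace induce the same ideal on a common
  refinement;
* `exists_chart_ideal`: every morphism from a scheme carries a chart of a closed subspace;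
* `isEffCartierIdeal_of_chart`: for an effective Cartier divisor every etale chart has an effective
  Cartier ideal.
-/

set_option autoImplicit false
universe u
open CategoryTheory CategoryTheory.Limits AlgebraicGeometry Opposite AlgSp

namespace Groth.Agent.Lib.Helper15

variable {S : Scheme.{u}}

/-- The closed subscheme of an ideal sheaf on a scheme over `S`, as a scheme over `S`. -/
noncomputable abbrev subOver (V : Over S) (I : V.left.IdealSheafData) : Over S := Over.mk (I.subschemeι ≫ V.hom)

/-- The inclusion of the closed subscheme, over `S`. -/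
noncomputable abbrev subι (V : Over S) (I : V.left.IdealSheafData) : subOver V I ⟶ V := Over.homMk I.subschemeι rfl

/-- A chart of a closed subspace can be pulled back along a morphism of schemes. -/
theorem exists_isPullback_comap {F D : Sp S} {i : D ⟶ F} {V : Over S} {φ : (yon S).obj V ⟶ F}
    {I : V.left.IdealSheafData} {fstV : (yon S).obj (subOver V I) ⟶ D}
    (sqV : IsPullback fstV ((yon S).map (subι V I)) i φ) {W : Over S} (q : W ⟶ V) :
    ∃ fstW : (yon S).obj (subOver W (I.comap q.left)) ⟶ D,
      IsPullback fstW ((yon S).map (subι W (I.comap q.left))) i ((yon S).map q ≫ φ) := by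
  have hw : (I.comap q.left).subschemeι ≫ q.left =
      ((I.comapIso q.left).hom ≫ pullback.snd _ _) ≫ I.subschemeι := by
    rw [Category.assoc, ← pullback.condition, ← Category.assoc, I.comapIso_hom_fst]
  have sq0 : IsPullback (I.comap q.left).subschemeι ((I.comapIso q.left).hom ≫ pullback.snd _ _)
      q.left I.subschemeι :=
    IsPullback.of_iso_pullback ⟨hw⟩ (I.comapIso q.left) (I.comapIso_hom_fst q.left) rfl
  let c : subOver W (I.comap q.left) ⟶ subOver V I :=
    Over.homMk ((I.comapIso q.left).hom ≫ pullback.snd _ _) (by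
      show ((I.comapIso q.left).hom ≫ pullback.snd _ _) ≫ I.subschemeι ≫ V.hom =
        (I.comap q.left).subschemeι ≫ W.hom
      rw [← Category.assoc, ← hw, Category.assoc, Over.w q])
  have sqO : IsPullback (subι W (I.comap q.left)) c q (subι V I) :=
    IsPullback.of_map (Over.forget S) (Over.OverMorphism.ext hw) sq0
  have sqY := sqO.map (yon S)
  exact ⟨(yon S).map c ≫ fstV, sqY.flip.paste_horiz sqV⟩

/-- Two charts of the same closed subspace induce the same ideal on a common refinement. -/
theorem comap_eq_comap_of_charts {F D : Sp S} {i : D ⟶ F}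
    {V : Over S} {φ : (yon S).obj V ⟶ F} {I : V.left.IdealSheafData}
    {fstV : (yon S).obj (subOver V I) ⟶ D} (sqV : IsPullback fstV ((yon S).map (subι V I)) i φ)
    {U : Over S} {ψ : (yon S).obj U ⟶ F} {J : U.left.IdealSheafData}
    {fstU : (yon S).obj (subOver U J) ⟶ D} (sqU : IsPullback fstU ((yon S).map (subι U J)) i ψ)
    {W : Over S} (p : W ⟶ U) (q : W ⟶ V) (hpq : (yon S).map p ≫ ψ = (yon S).map q ≫ φ) :
    J.comap p.left = I.comap q.left := by
  obtain ⟨f1, sq1⟩ := exists_isPullback_comap sqV q
  obtain ⟨f2, sq2⟩ := exists_isPullback_comap sqU p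
  rw [hpq] at sq2
  let e := sq2.isoIsPullback _ _ sq1
  have he : e.hom ≫ (yon S).map (subι W (I.comap q.left)) = (yon S).map (subι W (J.comap p.left)) :=
    IsPullback.isoIsPullback_hom_snd _ _ sq2 sq1
  let ε := (yon S).preimage e.hom
  have hε : (yon S).map ε = e.hom := Functor.map_preimage _ _
  have hiso : IsIso ε := by
    have : IsIso ((yon S).map ε) := by rw [hε]; infer_instance
    exact isIso_of_fully_faithful (yon S) ε
  have hει : ε ≫ subι W (I.comap q.left) = subι W (J.comap p.left) :=
    (yon S).map_injective (by rw [Functor.map_comp, hε, he])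
  have hleft : ε.left ≫ (I.comap q.left).subschemeι = (J.comap p.left).subschemeι :=
    congrArg CommaMorphism.left hει
  have hisol : IsIso ε.left := inferInstanceAs (IsIso ((Over.forget S).map ε))
  calc J.comap p.left = (J.comap p.left).subschemeι.ker := (Scheme.IdealSheafData.ker_subschemeι _).symm
    _ = (ε.left ≫ (I.comap q.left).subschemeι).ker := by rw [hleft]
    _ = (I.comap q.left).subschemeι.ker := Scheme.Hom.ker_comp_of_isIso _ _
    _ = I.comap q.left := Scheme.IdealSheafData.ker_subschemeι _

/-- Every morphism from a scheme carries a chart of a closed subspace. -/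
theorem exists_chart_ideal {F D : Sp S} {i : D ⟶ F} (hi : RepWith @IsClosedImmersion i) {U : Over S}
    (ψ : (yon S).obj U ⟶ F) :
    ∃ (J : U.left.IdealSheafData) (fst : (yon S).obj (subOver U J) ⟶ D),
      IsPullback fst ((yon S).map (subι U J)) i ψ := by
  have sq := hi.rep.isPullback ψ
  have hcl : IsClosedImmersion (hi.rep.snd ψ).left := hi.property_snd ψ
  let J := (hi.rep.snd ψ).left.ker
  have hti : (hi.rep.snd ψ).left.toImage ≫ J.subschemeι = (hi.rep.snd ψ).left :=
    (hi.rep.snd ψ).left.toImage_imageι
  let ε : hi.rep.pullback ψ ≅ subOver U J :=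
    Over.isoMk (asIso (hi.rep.snd ψ).left.toImage) (by
      show (hi.rep.snd ψ).left.toImage ≫ J.subschemeι ≫ U.hom = (hi.rep.pullback ψ).hom
      rw [← Category.assoc, hti, Over.w])
  have hε : ε.hom ≫ subι U J = hi.rep.snd ψ := by
    ext
    exact hti
  refine ⟨J, (yon S).map ε.inv ≫ hi.rep.fst ψ, ?_⟩
  refine IsPullback.of_iso sq ((yon S).mapIso ε) (Iso.refl _) (Iso.refl _) (Iso.refl _) ?_ ?_ ?_ ?_
  · simp [← Functor.map_comp_assoc]
  · simp only [Iso.refl_hom, Category.comp_id, Functor.mapIso_hom, ← Functor.map_comp, hε]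
  · simp
  · simp

/-- Pulling back a chart of `i : D ⟶ Y` to a chart of the base change of `i` along `f : X ⟶ Y`. -/
theorem exists_isPullback_chart_of_isPullback {X Y D P : Sp S} {f : X ⟶ Y} {i : D ⟶ Y} {fst : P ⟶ D}
    {snd : P ⟶ X} (hP : IsPullback fst snd i f) {V : Over S} {φ : (yon S).obj V ⟶ Y}
    {I : V.left.IdealSheafData} {fstV : (yon S).obj (subOver V I) ⟶ D}
    (sqV : IsPullback fstV ((yon S).map (subι V I)) i φ) {W : Over S} (b : (yon S).obj W ⟶ X)
    (q : W ⟶ V) (hbq : b ≫ f = (yon S).map q ≫ φ) :
    ∃ fstW : (yon S).obj (subOver W (I.comap q.left)) ⟶ P,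
      IsPullback fstW ((yon S).map (subι W (I.comap q.left))) snd b := by
  obtain ⟨f1, sq1⟩ := exists_isPullback_comap sqV q
  rw [← hbq] at sq1
  refine ⟨hP.lift f1 ((yon S).map (subι W (I.comap q.left)) ≫ b) (by rw [sq1.w, Category.assoc]), ?_⟩
  exact IsPullback.of_right (by rw [hP.lift_fst]; exact sq1) (hP.lift_snd _ _ _) hP

/-- For an effective Cartier divisor, every etale chart has an effective Cartier ideal. -/
theorem isEffCartierIdeal_of_chart {F D : Sp S} {i : D ⟶ F} (hD : IsEffCartierSub i) {U : Over S}
    {ψ : (yon S).obj U ⟶ F} (hψ : RepWith @Etale ψ) {J : U.left.IdealSheafData}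
    {fstU : (yon S).obj (subOver U J) ⟶ D} (sqU : IsPullback fstU ((yon S).map (subι U J)) i ψ) :
    BlowUp.IsEffCartierIdeal J := by
  obtain ⟨-, V, φ, I, fstV, hφe, hφs, sqV, hI⟩ := hD
  have sqW := hφe.rep.isPullback ψ
  set W := hφe.rep.pullback ψ with hW
  set p : W ⟶ U := hφe.rep.snd ψ with hp
  have hpe : Etale p.left := hφe.property_snd ψ
  have hps : Surjective p.left := hφs.property ψ _ _ sqW
  let q : W ⟶ V := (yon S).preimage (hφe.rep.fst ψ)
  have hq : (yon S).map q = hφe.rep.fst ψ := Functor.map_preimage _ _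
  rw [← hq] at sqW
  have hqe : Etale q.left := hψ.property φ _ _ sqW.flip
  have hpq : (yon S).map p ≫ ψ = (yon S).map q ≫ φ := sqW.w.symm
  have hcomap := comap_eq_comap_of_charts sqV sqU p q hpq
  have h1 : BlowUp.IsEffCartierIdeal (I.comap q.left) := Groth.Agent.S10855.result q.left I hI
  rw [← hcomap] at h1
  exact isEffCartierIdeal_of_comap p.left p.left.isOpenMap J h1

end Groth.Agent.Lib.Helper15
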