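import Groth.Agent.Lib.Helper15.LocPrincipalDescent
import Groth.Prelude.Def_CInt

/-!
# The complement of an effective Cartier divisor is schematically dense; open charts
-/

set_option autoImplicit false
universe u
open CategoryTheory CategoryTheory.Limits AlgebraicGeometry Opposite AlgSp TopologicalSpace

namespace Groth.Agent.Lib.Helper15

/-- The complement of an effective Cartier divisor is schematically dense. -/
theorem isSchematicallyDense_compl_support {X : Scheme.{u}} (I : X.IdealSheafData)
    (hI : BlowUp.IsEffCartierIdeal I) : CInt.IsSchematicallyDense I.support.compl := by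
  intro V'
  refine (injective_iff_map_eq_zero
    (X.presheaf.map (homOfLE (inf_le_left : V' ⊓ I.support.compl ≤ V')).op).hom).mpr fun s hs => ?_
  apply X.IsSheaf.section_ext
  rintro x hx
  obtain ⟨A, hxA, hAV', a, ha, hIa⟩ := Helper3.exists_affine_principal_le I hI x V' hx
  refine ⟨A.1, hAV', hxA, ?_⟩
  rw [map_zero]
  have hD : X.basicOpen a ≤ V' ⊓ I.support.compl := by
    intro y hy
    have hyA : y ∈ A.1 := X.basicOpen_le a hy
    refine ⟨hAV' hyA, ?_⟩
    show y ∉ (I.support : Set X)
    intro hys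
    have hys' : y ∈ I.support := hys
    rw [Scheme.IdealSheafData.mem_support_iff_of_mem hyA, hIa, Scheme.zeroLocus_span,
      Scheme.zeroLocus_singleton] at hys'
    exact hys' hy
  have h0 : algebraMap Γ(X, A.1) Γ(X, X.basicOpen a) ((X.presheaf.map (homOfLE hAV').op).hom s) = 0 := by
    have e1 : X.presheaf.map (homOfLE hAV').op ≫ X.presheaf.map (homOfLE (X.basicOpen_le a)).op =
        X.presheaf.map (homOfLE (inf_le_left : V' ⊓ I.support.compl ≤ V')).op ≫
          X.presheaf.map (homOfLE hD).op := by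
      rw [← Functor.map_comp, ← Functor.map_comp]; rfl
    show (X.presheaf.map (homOfLE hAV').op ≫ X.presheaf.map (homOfLE (X.basicOpen_le a)).op).hom s = 0
    rw [e1, CommRingCat.hom_comp, RingHom.comp_apply, hs, map_zero]
  have hloc := A.2.isLocalization_basicOpen a
  obtain ⟨⟨_, n, rfl⟩, hn⟩ :=
    (IsLocalization.map_eq_zero_iff (Submonoid.powers a) Γ(X, X.basicOpen a) _).mp h0
  exact (mem_nonZeroDivisors_iff_right.mp (pow_mem ha n)) _ (by rw [mul_comm]; exact hn)

variable {S : Scheme.{u}}

/-- Transfer of the represented pullback of an open subspace to the open subscheme with the same image. -/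
theorem exists_isPullback_opens_of_range {X U : Sp S} {j : U ⟶ X} (hj : RepWith @IsOpenImmersion j)
    {V : Over S} (φ : (yon S).obj V ⟶ X) (O : V.left.Opens)
    (hO : Set.range (hj.rep.snd φ).left = (O : Set V.left)) :
    ∃ fst : (yon S).obj (Over.mk (O.ι ≫ V.hom)) ⟶ U,
      IsPullback fst ((yon S).map (Over.homMk O.ι rfl : Over.mk (O.ι ≫ V.hom) ⟶ V)) j φ := by
  have sq := hj.rep.isPullback φ
  have hop : IsOpenImmersion (hj.rep.snd φ).left := hj.property_snd φ
  have hr : Set.range (hj.rep.snd φ).left = Set.range O.ι := by rw [hO, Scheme.Opens.range_ι]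
  let e := IsOpenImmersion.isoOfRangeEq (hj.rep.snd φ).left O.ι hr
  have hfac : e.hom ≫ O.ι = (hj.rep.snd φ).left := IsOpenImmersion.isoOfRangeEq_hom_fac _ _ hr
  let ε : hj.rep.pullback φ ≅ Over.mk (O.ι ≫ V.hom) :=
    Over.isoMk e (by
      show e.hom ≫ O.ι ≫ V.hom = (hj.rep.pullback φ).hom
      rw [← Category.assoc, hfac, Over.w])
  have hε : ε.hom ≫ (Over.homMk O.ι rfl : Over.mk (O.ι ≫ V.hom) ⟶ V) = hj.rep.snd φ := by
    ext
    exact hfac
  refine ⟨(yon S).map ε.inv ≫ hj.rep.fst φ, ?_⟩
  refine IsPullback.of_iso sq ((yon S).mapIso ε) (Iso.refl _) (Iso.refl _) (Iso.refl _) ?_ ?_ ?_ ?_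
  · simp [← Functor.map_comp_assoc]
  · simp only [Iso.refl_hom, Category.comp_id, Functor.mapIso_hom, ← Functor.map_comp, hε]
  · simp
  · simp

end Groth.Agent.Lib.Helper15
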