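import Mathlib
import Groth.Prelude.Def_BlowUp2
import Groth.Agent.Lib.Helper3.RelCartier
import Groth.Agent.Lib.Helper3.IdealComap

/-!
# Descent of effective Cartier ideals along flat open (e.g. etale) morphisms

* `exists_mul_le_span_singleton`: if `A → B` is faithfully flat and `I B` is principal, then near every
  prime of `A` the ideal `I` is generated by one element;
* `exists_away_principal`: if moreover the generator of `I B` is a nonzerodivisor, so is the local generator;
* `exists_principal_of_comap`, `isEffCartierIdeal_of_comap`: the scheme-level statements.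
-/

set_option autoImplicit false
universe u
open CategoryTheory CategoryTheory.Limits AlgebraicGeometry TopologicalSpace

namespace Groth.Agent.Lib.Helper15

section Algebra

variable {A B : Type u} [CommRing A] [CommRing B] [Algebra A B]

/-- Finite generation of an ideal descends along a faithfully flat map when the extension is principal. -/
theorem fg_of_map_eq_span_singleton [Module.FaithfullyFlat A B] (I : Ideal A) (b : B)
    (hI : I.map (algebraMap A B) = Ideal.span {b}) : I.FG := by
  classical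
  have hb : b ∈ Submodule.span B ((algebraMap A B) '' (I : Set A)) := by
    have : b ∈ I.map (algebraMap A B) := hI ▸ Ideal.mem_span_singleton_self b
    exact this
  obtain ⟨T, hT, hbT⟩ := Submodule.mem_span_finite_of_mem_span hb
  obtain ⟨F, hF, rfl⟩ := Finset.subset_set_image_iff.mp hT
  have hJI : Ideal.span (F : Set A) ≤ I := Ideal.span_le.mpr hF
  have hmap : (Ideal.span (F : Set A)).map (algebraMap A B) = I.map (algebraMap A B) := by
    refine le_antisymm (Ideal.map_mono hJI) ?_
    rw [hI, Ideal.span_singleton_le_iff_mem, Ideal.map_span]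
    rw [Finset.coe_image] at hbT
    exact hbT
  exact ⟨F, Ideal.map_injective_of_faithfullyFlat (A := A) (B := B) hmap⟩

/-- If `A → B` is faithfully flat and `I B` is principal, then near every prime `p` of `A` the ideal
`I` is generated by one element: there are `t ∉ p` and `g ∈ I` with `t I ⊆ (g)`. -/
theorem exists_mul_le_span_singleton [Module.FaithfullyFlat A B] (I : Ideal A) (b : B)
    (hI : I.map (algebraMap A B) = Ideal.span {b}) (p : Ideal A) [p.IsPrime] :
    ∃ t : A, t ∉ p ∧ ∃ g ∈ I, Ideal.span {t} * I ≤ Ideal.span {g} := by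
  classical
  obtain ⟨q, hqprime, hqp⟩ := Ideal.exists_isPrime_liesOver_of_faithfullyFlat (B := B) p
  have hpq : p = q.comap (algebraMap A B) := hqp.over
  let Ap := Localization.AtPrime p
  let Bq := Localization.AtPrime q
  let ρ : Ap →+* Bq := Localization.localRingHom p q (algebraMap A B) hpq
  have hρflat : ρ.Flat :=
    RingHom.Flat.localRingHom (RingHom.flat_algebraMap_iff.mpr inferInstance) q p hpq
  have hρmap : ∀ a : A, ρ (algebraMap A Ap a) = algebraMap B Bq (algebraMap A B a) := fun a =>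
    Localization.localRingHom_to_map p q (algebraMap A B) hpq a
  algebraize [ρ]
  have : Module.FaithfullyFlat Ap Bq := Module.FaithfullyFlat.of_flat_of_isLocalHom
  have hρalg : algebraMap Ap Bq = ρ := rfl
  -- extension of ideals along the two paths agree
  have key : ∀ K : Ideal A, (K.map (algebraMap A Ap)).map ρ =
      (K.map (algebraMap A B)).map (algebraMap B Bq) := by
    intro K
    rw [Ideal.map_map, Ideal.map_map]
    congr 1
    ext a
    exact hρmap a
  -- a local generator
  have hgen : ∃ g ∈ I, Ideal.span {algebraMap B Bq b} ≤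
      Ideal.span {algebraMap B Bq (algebraMap A B g)} := by
    by_cases hcase : ∃ g ∈ I, ∃ d : B, d ∉ q ∧ algebraMap A B g = d * b
    · obtain ⟨g, hg, d, hd, hgd⟩ := hcase
      refine ⟨g, hg, ?_⟩
      rw [Ideal.span_singleton_le_span_singleton, hgd, map_mul]
      have hu : IsUnit (algebraMap B Bq d) :=
        IsLocalization.map_units Bq (⟨d, hd⟩ : q.primeCompl)
      exact (IsUnit.mul_left_dvd hu).mpr dvd_rfl
    · refine ⟨0, I.zero_mem, ?_⟩
      have hle : I.map (algebraMap A B) ≤ q * Ideal.span {b} := by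
        rw [Ideal.map_le_iff_le_comap]
        intro x hx
        have hx' : algebraMap A B x ∈ Ideal.span {b} := hI ▸ Ideal.mem_map_of_mem _ hx
        obtain ⟨d, hd⟩ := Ideal.mem_span_singleton'.mp hx'
        have hdq : d ∈ q := by
          by_contra hdq
          exact hcase ⟨x, hx, d, hdq, hd.symm⟩
        rw [Ideal.mem_comap, ← hd]
        exact Ideal.mul_mem_mul hdq (Ideal.mem_span_singleton_self b)
      have hb : b ∈ q * Ideal.span {b} := hle (hI ▸ Ideal.mem_span_singleton_self b)
      obtain ⟨m, hm, hmb⟩ := Ideal.mem_mul_span_singleton.mp hb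
      have h1m : (1 - m) ∉ q := by
        intro h
        have : (1 : B) ∈ q := by
          have := q.add_mem h hm
          simpa using this
        exact hqprime.ne_top ((Ideal.eq_top_iff_one q).mpr this)
      have hu : IsUnit (algebraMap B Bq (1 - m)) :=
        IsLocalization.map_units Bq (⟨1 - m, h1m⟩ : q.primeCompl)
      have hz : algebraMap B Bq (1 - m) * algebraMap B Bq b = 0 := by
        rw [← map_mul, sub_mul, one_mul, hmb, sub_self, map_zero]
      have hb0 : algebraMap B Bq b = 0 := (IsUnit.mul_right_eq_zero hu).mp hz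
      rw [hb0]
      simp
  obtain ⟨g, hg, hgle⟩ := hgen
  -- `I_p ≤ (g)_p`
  have hIp : I.map (algebraMap A Ap) ≤ Ideal.span {algebraMap A Ap g} := by
    have h1 : (I.map (algebraMap A Ap)).map ρ ≤ (Ideal.span {algebraMap A Ap g}).map ρ := by
      rw [key I, hI, Ideal.map_span, Set.image_singleton, Ideal.map_span, Set.image_singleton, hρmap]
      exact hgle
    have h2 := Ideal.comap_mono (f := ρ) h1
    rw [← hρalg, Ideal.comap_map_eq_self_of_faithfullyFlat,
      Ideal.comap_map_eq_self_of_faithfullyFlat] at h2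
    exact h2
  -- every element of `I` is multiplied into `(g)` by some `s ∉ p`
  have H : ∀ x : A, ∃ s : A, s ∉ p ∧ (x ∈ I → s * x ∈ Ideal.span {g}) := by
    intro x
    by_cases hx : x ∈ I
    · have hx1 : algebraMap A Ap x ∈ (Ideal.span {g}).map (algebraMap A Ap) := by
        rw [Ideal.map_span, Set.image_singleton]
        exact hIp (Ideal.mem_map_of_mem _ hx)
      obtain ⟨⟨a, s⟩, has⟩ := (IsLocalization.mem_map_algebraMap_iff p.primeCompl Ap).mp hx1
      rw [← map_mul] at has
      obtain ⟨c, hc⟩ := (IsLocalization.eq_iff_exists p.primeCompl Ap).mp has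
      refine ⟨c * s, ?_, fun _ => ?_⟩
      · exact (p.primeCompl.mul_mem c.2 s.2)
      · have : (c : A) * (s : A) * x = c * a := by rw [← hc]; ring
        rw [this]
        exact Ideal.mul_mem_left _ _ a.2
    · exact ⟨1, fun h => (Ideal.IsPrime.ne_top inferInstance) ((Ideal.eq_top_iff_one p).mpr h),
        fun h => absurd h hx⟩
  choose s hs1 hs2 using H
  obtain ⟨F, hF⟩ := fg_of_map_eq_span_singleton I b hI
  refine ⟨∏ x ∈ F, s x, ?_, g, hg, ?_⟩
  · rw [Ideal.IsPrime.prod_mem_iff]
    rintro ⟨x, -, hx⟩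
    exact hs1 x hx
  · rw [Ideal.span_singleton_mul_le_iff]
    intro z hz
    rw [← hF] at hz
    induction hz using Submodule.span_induction with
    | mem x hx =>
      obtain ⟨r, hr⟩ := Finset.dvd_prod_of_mem s hx
      have hxI : x ∈ I := hF ▸ Ideal.subset_span hx
      rw [hr, mul_comm (s x) r, mul_assoc]
      exact Ideal.mul_mem_left _ _ (hs2 x hxI)
    | zero => simp
    | add x y _ _ hx hy => rw [mul_add]; exact Ideal.add_mem _ hx hy
    | smul a x _ hx =>
      rw [smul_eq_mul, mul_left_comm]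
      exact Ideal.mul_mem_left _ _ hx

/-- If `A → B` is faithfully flat and `I B` is generated by a nonzerodivisor, then near every prime of
`A` the ideal `I` is generated by a nonzerodivisor. -/
theorem exists_away_principal [Module.FaithfullyFlat A B] (I : Ideal A) (b : B)
    (hb : b ∈ nonZeroDivisors B) (hI : I.map (algebraMap A B) = Ideal.span {b}) (p : Ideal A)
    [p.IsPrime] :
    ∃ t : A, t ∉ p ∧ ∃ g ∈ I, ∀ (At : Type u) [CommRing At] [Algebra A At]
      [IsLocalization.Away t At],
      I.map (algebraMap A At) = Ideal.span {algebraMap A At g} ∧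
        algebraMap A At g ∈ nonZeroDivisors At := by
  obtain ⟨t, ht, g, hg, H1⟩ := exists_mul_le_span_singleton I b hI p
  have hinj : Function.Injective (algebraMap A B) := FaithfulSMul.algebraMap_injective A B
  -- `y g = 0 → t y = 0`
  have H2 : ∀ y : A, y * g = 0 → t * y = 0 := by
    intro y hy
    have h1 : (Ideal.span {t} * I).map (algebraMap A B) ≤ (Ideal.span {g}).map (algebraMap A B) :=
      Ideal.map_mono H1
    rw [Ideal.map_mul, hI, Ideal.map_span, Set.image_singleton, Ideal.map_span, Set.image_singleton,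
      Ideal.span_singleton_mul_span_singleton, Ideal.span_singleton_le_span_singleton] at h1
    obtain ⟨e, he⟩ := h1
    apply hinj
    rw [map_zero]
    apply (mem_nonZeroDivisors_iff_right.mp hb)
    calc algebraMap A B (t * y) * b = algebraMap A B y * (algebraMap A B t * b) := by
          rw [map_mul]; ring
      _ = algebraMap A B (y * g) * e := by rw [he, map_mul]; ring
      _ = 0 := by rw [hy, map_zero, zero_mul]
  refine ⟨t, ht, g, hg, fun At _ _ _ => ⟨?_, ?_⟩⟩
  · refine le_antisymm ?_ ?_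
    · rw [Ideal.map_le_iff_le_comap]
      intro x hx
      have h1 : t * x ∈ Ideal.span {g} :=
        H1 (Ideal.mul_mem_mul (Ideal.mem_span_singleton_self t) hx)
      obtain ⟨c, hc⟩ := Ideal.mem_span_singleton'.mp h1
      have hu : IsUnit (algebraMap A At t) := IsLocalization.Away.algebraMap_isUnit t
      rw [Ideal.mem_comap, Ideal.mem_span_singleton']
      refine ⟨↑hu.unit⁻¹ * algebraMap A At c, ?_⟩
      rw [mul_assoc, ← map_mul, hc, map_mul, ← mul_assoc, IsUnit.val_inv_mul, one_mul]
    · rw [Ideal.span_singleton_le_iff_mem]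
      exact Ideal.mem_map_of_mem _ hg
  · rw [mem_nonZeroDivisors_iff_right]
    intro z hz
    obtain ⟨⟨y, m⟩, rfl⟩ := IsLocalization.mk'_surjective (Submonoid.powers t) z
    have h1 : algebraMap A At (y * g) = 0 := by
      have := IsLocalization.mk'_spec At y m
      rw [map_mul, ← this]
      calc IsLocalization.mk' At y m * algebraMap A At m * algebraMap A At g
          = IsLocalization.mk' At y m * algebraMap A At g * algebraMap A At m := by ring
        _ = 0 := by rw [hz, zero_mul]
    obtain ⟨⟨_, k, rfl⟩, hk⟩ := (IsLocalization.map_eq_zero_iff (Submonoid.powers t) At _).mp h1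
    have h2 : t ^ k * y * g = 0 := by rw [mul_assoc]; exact hk
    have h3 : t * (t ^ k * y) = 0 := H2 _ h2
    rw [IsLocalization.mk'_eq_zero_iff]
    refine ⟨⟨t ^ (k + 1), k + 1, rfl⟩, ?_⟩
    show t ^ (k + 1) * y = 0
    rw [pow_succ, mul_comm (t ^ k) t, mul_assoc]
    exact h3

end Algebra

section Scheme

variable {X' X : Scheme.{u}}

/-- Pointwise descent of effective Cartier ideals along a flat open morphism. -/
theorem exists_principal_of_comap (f : X' ⟶ X) [Flat f] (hopen : IsOpenMap f)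
    (𝓘 : X.IdealSheafData) (h : BlowUp.IsEffCartierIdeal (𝓘.comap f)) (x' : X') :
    ∃ U : X.affineOpens, f x' ∈ U.1 ∧ ∃ a : Γ(X, U.1), a ∈ nonZeroDivisors Γ(X, U.1) ∧
      𝓘.ideal U = Ideal.span {a} := by
  obtain ⟨_, ⟨U₀', hU₀', rfl⟩, hxU₀, -⟩ :=
    X.isBasis_affineOpens.exists_subset_of_mem_open (Set.mem_univ (f x')) isOpen_univ
  let U₀ : X.affineOpens := ⟨U₀', hU₀'⟩
  obtain ⟨V₁, hx'V₁, hV₁U₀, b₁, hb₁, hIb₁⟩ :=
    Helper3.exists_affine_principal_le (𝓘.comap f) h x' (f ⁻¹ᵁ U₀.1) hxU₀
  let O : X.Opens := ⟨f '' (V₁.1 : Set X'), hopen _ V₁.1.2⟩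
  have hxO : f x' ∈ O := ⟨x', hx'V₁, rfl⟩
  obtain ⟨s, hsO, hxs⟩ := U₀.2.exists_basicOpen_le (V := O) ⟨f x', hxO⟩ hxU₀
  set s' : Γ(X', V₁.1) := (f.appLE U₀.1 V₁.1 hV₁U₀).hom s with hs'
  have hV₂ : X'.basicOpen s' = V₁.1 ⊓ f ⁻¹ᵁ (X.basicOpen s) :=
    Scheme.basicOpen_appLE f V₁.1 U₀.1 hV₁U₀ s
  obtain ⟨hb₂, hIb₂⟩ := Helper3.principal_basicOpen (𝓘.comap f) V₁ b₁ hb₁ hIb₁ s'
  let U₁ : X.affineOpens := X.affineBasicOpen s
  let V₂ : X'.affineOpens := X'.affineBasicOpen s'
  have hV₂U₁ : V₂.1 ≤ f ⁻¹ᵁ U₁.1 := by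
    show X'.basicOpen s' ≤ f ⁻¹ᵁ (X.basicOpen s)
    rw [hV₂]; exact inf_le_right
  let φ : Γ(X, U₁.1) →+* Γ(X', V₂.1) := (f.appLE U₁.1 V₂.1 hV₂U₁).hom
  have hφflat : φ.Flat := HasRingHomProperty.appLE (P := @Flat) f inferInstance U₁ V₂ hV₂U₁
  algebraize [φ]
  -- surjectivity on spectra
  have hsurj : Function.Surjective (PrimeSpectrum.comap (algebraMap Γ(X, U₁.1) Γ(X', V₂.1))) := by
    intro P
    have hy : U₁.2.fromSpec P ∈ U₁.1 := by
      rw [← SetLike.mem_coe, ← U₁.2.range_fromSpec]; exact ⟨P, rfl⟩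
    obtain ⟨z, hz, hzy⟩ : U₁.2.fromSpec P ∈ O := hsO hy
    have hzV₂ : z ∈ V₂.1 := by
      show z ∈ X'.basicOpen s'
      rw [hV₂]
      exact ⟨hz, by show f z ∈ X.basicOpen s; rw [hzy]; exact hy⟩
    obtain ⟨Q, hQ⟩ : z ∈ Set.range V₂.2.fromSpec := by rw [V₂.2.range_fromSpec]; exact hzV₂
    refine ⟨Q, ?_⟩
    have hcomm := IsAffineOpen.SpecMap_appLE_fromSpec f U₁.2 V₂.2 hV₂U₁
    have h1 : U₁.2.fromSpec ((Spec.map (f.appLE U₁.1 V₂.1 hV₂U₁)) Q) = U₁.2.fromSpec P := by
      rw [← Scheme.Hom.comp_apply, hcomm, Scheme.Hom.comp_apply, hQ, hzy]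
    exact U₁.2.fromSpec.isOpenEmbedding.injective h1
  have : Module.FaithfullyFlat Γ(X, U₁.1) Γ(X', V₂.1) := Module.FaithfullyFlat.of_comap_surjective hsurj
  have hmap : (𝓘.ideal U₁).map (algebraMap Γ(X, U₁.1) Γ(X', V₂.1)) =
      Ideal.span {(algebraMap Γ(X', V₁.1) Γ(X', X'.basicOpen s') b₁ : Γ(X', V₂.1))} := by
    rw [← hIb₂, Helper3.ideal_comap_of_le f 𝓘 V₂ U₁ hV₂U₁]
    rfl
  -- the prime of the point
  have hxU₁ : f x' ∈ U₁.1 := hxs
  let p : Ideal Γ(X, U₁.1) := Ideal.comap (X.presheaf.germ U₁.1 (f x') hxU₁).hom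
    (IsLocalRing.maximalIdeal (X.presheaf.stalk (f x')))
  obtain ⟨t, ht, g, hg, H⟩ := exists_away_principal (A := Γ(X, U₁.1)) (B := Γ(X', V₂.1)) (𝓘.ideal U₁) _ hb₂ hmap p
  have hxt : f x' ∈ X.basicOpen t := by
    rw [Scheme.mem_basicOpen X t (f x') hxU₁]
    by_contra hnu
    exact ht (by
      show (X.presheaf.germ U₁.1 (f x') hxU₁).hom t ∈ IsLocalRing.maximalIdeal _
      rw [IsLocalRing.mem_maximalIdeal, mem_nonunits_iff]
      exact hnu)
  have hloc := U₁.2.isLocalization_basicOpen t
  obtain ⟨h1, h2⟩ := H Γ(X, X.basicOpen t)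
  refine ⟨X.affineBasicOpen t, hxt, algebraMap Γ(X, U₁.1) Γ(X, X.basicOpen t) g, h2, ?_⟩
  rw [← 𝓘.map_ideal_basicOpen U₁ t]
  exact h1

/-- Effective Cartier ideals descend along flat, open, surjective morphisms. -/
theorem isEffCartierIdeal_of_comap (f : X' ⟶ X) [Flat f] [Surjective f] (hopen : IsOpenMap f)
    (𝓘 : X.IdealSheafData) (h : BlowUp.IsEffCartierIdeal (𝓘.comap f)) :
    BlowUp.IsEffCartierIdeal 𝓘 := by
  intro x
  obtain ⟨x', rfl⟩ := f.surjective x
  exact exists_principal_of_comap f hopen 𝓘 h x'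

/-- On an affine open disjoint from the support, the ideal is the unit ideal. -/
theorem ideal_eq_top_of_disjoint_support (I : X.IdealSheafData) (U : X.affineOpens)
    (h : Disjoint (I.support : Set X) (U.1 : Set X)) : I.ideal U = ⊤ := by
  have h1 := U.2.fromSpec_image_zeroLocus (I.ideal U)
  rw [← I.coe_support_inter U, h.inter_eq, Set.image_eq_empty] at h1
  exact PrimeSpectrum.zeroLocus_empty_iff_eq_top.mp h1

/-- Away from the support every ideal sheaf is locally generated by the nonzerodivisor `1`. -/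
theorem exists_principal_of_notMem_support (I : X.IdealSheafData) (v : X) (hv : v ∉ I.support) :
    ∃ U : X.affineOpens, v ∈ U.1 ∧ ∃ f : Γ(X, U.1), f ∈ nonZeroDivisors Γ(X, U.1) ∧
      I.ideal U = Ideal.span {f} := by
  obtain ⟨_, ⟨U, hU, rfl⟩, hvU, hUs⟩ := X.isBasis_affineOpens.exists_subset_of_mem_open
    (show v ∈ (I.support : Set X)ᶜ from hv) I.support.isClosed.isOpen_compl
  refine ⟨⟨U, hU⟩, hvU, 1, one_mem _, ?_⟩
  rw [Ideal.span_singleton_one]
  exact ideal_eq_top_of_disjoint_support I ⟨U, hU⟩ (Set.disjoint_left.mpr fun x hx hxU => hUs hxU hx)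

/-- Bijective ring homomorphisms preserve nonzerodivisors. -/
theorem map_mem_nonZeroDivisors_of_bijective {R R' : Type*} [CommRing R] [CommRing R'] (m : R →+* R')
    (hm : Function.Bijective m) {a : R} (ha : a ∈ nonZeroDivisors R) : m a ∈ nonZeroDivisors R' := by
  rw [mem_nonZeroDivisors_iff_right]
  intro z hz
  obtain ⟨z₀, rfl⟩ := hm.2 z
  have h1 : m (z₀ * a) = m 0 := by rw [map_mul, hz, map_zero]
  rw [(mem_nonZeroDivisors_iff_right.mp ha) z₀ (hm.1 h1), map_zero]

end Scheme

end Groth.Agent.Lib.Helper15
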