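import Groth.Agent.Lib.Helper15.EffCartierChart
import Groth.Prelude.Def_AlgSpModX

/-!
# Chart ideals of closed subspaces versus ideal sheaves on the small etale site

* `chart_ideal_map_eq`: on an affine open of an etale chart, the chart ideal of a closed subspace cut out
  by `I : IdealEt X` is the value of `I` on that affine open (as object of the small etale site);
* `chart_ideal_eq_mul`: the chart ideal of the subspace cut out by a product is the product of chart ideals;
* `isEffCartierIdeal_mul`: products of effective Cartier ideals are effective Cartier.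
-/

set_option autoImplicit false
set_option backward.isDefEq.respectTransparency false
universe u
open CategoryTheory CategoryTheory.Limits AlgebraicGeometry Opposite AlgSp

namespace Groth.Agent.Lib.Helper15

variable {S : Scheme.{u}}

theorem ofIdealTop_ideal_top {X : Scheme.{u}} (I : Ideal Γ(X, ⊤)) (h : IsAffineOpen (⊤ : X.Opens)) :
    (Scheme.IdealSheafData.ofIdealTop I).ideal ⟨⊤, h⟩ = I := by
  rw [Scheme.IdealSheafData.ofIdealTop_ideal]
  have hid : X.presheaf.map (homOfLE (le_top : (⊤ : X.Opens) ≤ ⊤)).op = 𝟙 _ := X.presheaf.map_id _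
  rw [hid]
  exact Ideal.map_id I

/-- The canonical chart ideal of a closed subspace: the kernel of the chosen represented pullback. -/
noncomputable def chartIdeal {F D : Sp S} {i : D ⟶ F} (hi : RepWith @IsClosedImmersion i) {U : Over S}
    (ψ : (yon S).obj U ⟶ F) : U.left.IdealSheafData := (hi.rep.snd ψ).left.ker

theorem exists_isPullback_chartIdeal {F D : Sp S} {i : D ⟶ F} (hi : RepWith @IsClosedImmersion i)
    {U : Over S} (ψ : (yon S).obj U ⟶ F) :
    ∃ fst : (yon S).obj (subOver U (chartIdeal hi ψ)) ⟶ D,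
      IsPullback fst ((yon S).map (subι U (chartIdeal hi ψ))) i ψ := by
  have sq := hi.rep.isPullback ψ
  have hcl : IsClosedImmersion (hi.rep.snd ψ).left := hi.property_snd ψ
  have hti : (hi.rep.snd ψ).left.toImage ≫ (chartIdeal hi ψ).subschemeι = (hi.rep.snd ψ).left :=
    (hi.rep.snd ψ).left.toImage_imageι
  let ε : hi.rep.pullback ψ ≅ subOver U (chartIdeal hi ψ) :=
    Over.isoMk (asIso (hi.rep.snd ψ).left.toImage) (by
      show (hi.rep.snd ψ).left.toImage ≫ (chartIdeal hi ψ).subschemeι ≫ U.hom = (hi.rep.pullback ψ).hom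
      rw [← Category.assoc, hti, Over.w])
  have hε : ε.hom ≫ subι U (chartIdeal hi ψ) = hi.rep.snd ψ := by
    ext
    exact hti
  refine ⟨(yon S).map ε.inv ≫ hi.rep.fst ψ, ?_⟩
  refine IsPullback.of_iso sq ((yon S).mapIso ε) (Iso.refl _) (Iso.refl _) (Iso.refl _) ?_ ?_ ?_ ?_
  · simp [← Functor.map_comp_assoc]
  · simp only [Iso.refl_hom, Category.comp_id, Functor.mapIso_hom, ← Functor.map_comp, hε]
  · simp
  · simp

/-- On an affine scheme the canonical chart ideal is the kernel of the map on global sections. -/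
theorem chartIdeal_ideal_top {F D : Sp S} {i : D ⟶ F} (hi : RepWith @IsClosedImmersion i) {U : Over S}
    [IsAffine U.left] (ψ : (yon S).obj U ⟶ F) :
    (chartIdeal hi ψ).ideal ⟨⊤, isAffineOpen_top U.left⟩ = RingHom.ker (hi.rep.snd ψ).left.appTop.hom := by
  unfold chartIdeal
  rw [Scheme.ker_of_isAffine, ofIdealTop_ideal_top]

/-- On an affine open `U₀` of an etale chart `φ : h_V ⟶ X`, the chart ideal of the closed subspace cut out by
`I` is the value of `I` on `U₀ ⟶ V ⟶ X`. -/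
theorem chart_ideal_map_eq {X D : Sp S} {i : D ⟶ X} {V : Over S} {φ : (yon S).obj V ⟶ X}
    (hφ : RepWith @Etale φ) {J : V.left.IdealSheafData} {fstV : (yon S).obj (subOver V J) ⟶ D}
    (sqV : IsPullback fstV ((yon S).map (subι V J)) i φ) (I : IdealEt X) (hI : IsCutOutBy I i)
    (U₀ : V.left.affineOpens)
    (hét : RepWith @Etale ((yon S).map (Over.homMk U₀.1.ι rfl : Over.mk (U₀.1.ι ≫ V.hom) ⟶ V) ≫ φ))
    (haff : IsAffine (Over.mk (U₀.1.ι ≫ V.hom)).left) :
    (J.ideal U₀).map (V.left.presheaf.map (eqToHom U₀.1.ι_image_top).op).hom =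
      I.ideal (EtOver.mk ((yon S).map (Over.homMk U₀.1.ι rfl : Over.mk (U₀.1.ι ≫ V.hom) ⟶ V) ≫ φ) hét)
        haff := by
  obtain ⟨hi, rfl⟩ := hI
  let ι₀ : Over.mk (U₀.1.ι ≫ V.hom) ⟶ V := Over.homMk U₀.1.ι rfl
  obtain ⟨fst, sq⟩ := exists_isPullback_chartIdeal hi ((yon S).map ι₀ ≫ φ)
  have h1 := comap_eq_comap_of_charts sqV sq (𝟙 _) ι₀ (by simp)
  have h2 : chartIdeal hi ((yon S).map ι₀ ≫ φ) = J.comap U₀.1.ι := by
    rw [Over.id_left, Scheme.IdealSheafData.comap_id] at h1
    exact h1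
  have h3 := chartIdeal_ideal_top (U := Over.mk (U₀.1.ι ≫ V.hom)) hi ((yon S).map ι₀ ≫ φ)
  rw [← Groth.Agent.Lib.Helper3.ideal_comap_ι_top J U₀, ← h2]
  exact h3

/-- The chart ideal of the closed subspace cut out by a product of ideal sheaves is the product of the chart
ideals. -/
theorem chart_ideal_eq_mul {X D D₁ D₂ : Sp S} {i : D ⟶ X} {i₁ : D₁ ⟶ X} {i₂ : D₂ ⟶ X} {V : Over S}
    {φ : (yon S).obj V ⟶ X} (hφ : RepWith @Etale φ) {J J₁ J₂ : V.left.IdealSheafData}
    {fst : (yon S).obj (subOver V J) ⟶ D} (sq : IsPullback fst ((yon S).map (subι V J)) i φ)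
    {fst₁ : (yon S).obj (subOver V J₁) ⟶ D₁} (sq₁ : IsPullback fst₁ ((yon S).map (subι V J₁)) i₁ φ)
    {fst₂ : (yon S).obj (subOver V J₂) ⟶ D₂} (sq₂ : IsPullback fst₂ ((yon S).map (subι V J₂)) i₂ φ)
    (I₁ I₂ : IdealEt X) (h : IsCutOutBy (I₁ * I₂) i) (h₁ : IsCutOutBy I₁ i₁) (h₂ : IsCutOutBy I₂ i₂) :
    J = J₁ * J₂ := by
  apply Scheme.IdealSheafData.ext
  funext U₀
  let ι₀ : Over.mk (U₀.1.ι ≫ V.hom) ⟶ V := Over.homMk U₀.1.ι rfl
  have hét : RepWith @Etale ((yon S).map ι₀ ≫ φ) :=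
    (RepWith @Etale).comp_mem _ _ ((repWith_yon_map_iff _ _).2 (inferInstanceAs (Etale U₀.1.ι))) hφ
  have haff : IsAffine (Over.mk (U₀.1.ι ≫ V.hom)).left := U₀.2
  have e := chart_ideal_map_eq hφ sq (I₁ * I₂) h U₀ hét haff
  have e₁ := chart_ideal_map_eq hφ sq₁ I₁ h₁ U₀ hét haff
  have e₂ := chart_ideal_map_eq hφ sq₂ I₂ h₂ U₀ hét haff
  rw [IdealEt.mul_ideal, ← e₁, ← e₂, ← Ideal.map_mul] at e
  have hm : Function.Bijective (V.left.presheaf.map (eqToHom U₀.1.ι_image_top).op).hom :=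
    ConcreteCategory.bijective_of_isIso (V.left.presheaf.map (eqToHom U₀.1.ι_image_top).op)
  have := congrArg (Ideal.comap (V.left.presheaf.map (eqToHom U₀.1.ι_image_top).op).hom) e
  rw [Ideal.comap_map_of_bijective _ hm, Ideal.comap_map_of_bijective _ hm] at this
  rw [this]
  rfl

/-- Products of effective Cartier ideals are effective Cartier. -/
theorem isEffCartierIdeal_mul {X : Scheme.{u}} (I J : X.IdealSheafData) (hI : BlowUp.IsEffCartierIdeal I)
    (hJ : BlowUp.IsEffCartierIdeal J) : BlowUp.IsEffCartierIdeal (I * J) := by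
  intro x
  obtain ⟨U, hxU, -, ⟨a, ha, hIa⟩, ⟨b, hb, hJb⟩⟩ :=
    Groth.Agent.Lib.Helper3.exists_affine_principal_pair I J hI hJ x ⊤ trivial
  refine ⟨U, hxU, a * b, mul_mem ha hb, ?_⟩
  rw [Scheme.IdealSheafData.ideal_mul, Pi.mul_apply, hIa, hJb, Ideal.span_singleton_mul_span_singleton]

end Groth.Agent.Lib.Helper15
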