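import Mathlib
import Groth.Agent.Lib.Helper15.CompactObj

/-!
# Helper15: torsion sheaves on qcqs schemes are filtered colimits of constructible sheaves (S0134)
-/

set_option autoImplicit false
set_option backward.isDefEq.respectTransparency false
universe u
open CategoryTheory CategoryTheory.Limits AlgebraicGeometry Opposite
open scoped ZeroObject

namespace Helper15.IndConstr

open Helper15.ConstrGen Helper15.CompactObj Helper15.Constr Groth.Agent.Lib.Helper15.ExtBy
  Groth.Agent.Lib.Helper15.EtGlue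

variable {X : Scheme.{u}}

section Basic

theorem killedBy_biprod (N : ℕ) (A B : EtCoh.Ab X) (hA : EtCoh.KilledBy N A)
    (hB : EtCoh.KilledBy N B) : EtCoh.KilledBy N (A ⊞ B) := by
  apply killedBy_of_nsmul_id
  apply biprod.hom_ext'
  · rw [Preadditive.comp_nsmul, Category.comp_id, comp_zero]
    calc N • (biprod.inl : A ⟶ A ⊞ B) = (N • 𝟙 A) ≫ biprod.inl := by
          rw [Preadditive.nsmul_comp, Category.id_comp]
      _ = 0 := by rw [nsmul_id_of_killedBy N A hA, zero_comp]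
  · rw [Preadditive.comp_nsmul, Category.comp_id, comp_zero]
    calc N • (biprod.inr : B ⟶ A ⊞ B) = (N • 𝟙 B) ≫ biprod.inr := by
          rw [Preadditive.nsmul_comp, Category.id_comp]
      _ = 0 := by rw [nsmul_id_of_killedBy N B hB, zero_comp]

theorem constructible_biprod (N : ℕ) (hN : 0 < N) (A B : EtCoh.Ab X)
    (hA : EtPBC.IsConstructible A) (hB : EtPBC.IsConstructible B)
    (kA : EtCoh.KilledBy N A) (kB : EtCoh.KilledBy N B) : EtPBC.IsConstructible (A ⊞ B) :=
  S0132 (ShortComplex.mk (biprod.inl : A ⟶ A ⊞ B) (biprod.snd : A ⊞ B ⟶ B) biprod.inl_snd)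
    (ShortComplex.Splitting.ofHasBinaryBiproduct A B).shortExact N hN
    (killedBy_biprod N A B kA kB) hA hB

theorem exists_common_killedBy [CompactSpace X] [QuasiSeparatedSpace X] (A B : EtCoh.Ab X)
    (hA : EtPBC.IsConstructible A) (hB : EtPBC.IsConstructible B) :
    ∃ N : ℕ, 0 < N ∧ EtCoh.KilledBy N A ∧ EtCoh.KilledBy N B := by
  obtain ⟨N₁, h1, k1⟩ := exists_killedBy A hA
  obtain ⟨N₂, h2, k2⟩ := exists_killedBy B hB
  exact ⟨N₁ * N₂, Nat.mul_pos h1 h2, killedBy_of_dvd (Dvd.intro _ rfl) A k1,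
    killedBy_of_dvd (Dvd.intro_left _ rfl) B k2⟩

theorem hom_eq_zero_of_sections {A B : EtCoh.Ab X} (g : A ⟶ B)
    (h : ∀ (U : X.Etale) (s : A.obj.obj (op U)), g.hom.app (op U) s = 0) : g = 0 := by
  apply Sheaf.hom_ext
  ext V : 2
  apply AddCommGrpCat.hom_ext
  apply AddMonoidHom.ext
  intro s
  exact h V.unop s

theorem phi_comp_eq_zero (U : X.Etale) (n : ℕ) {C C' : EtCoh.Ab X} (f : C ⟶ C')
    (t : C.obj.obj (op U)) (ht : n • t = 0) (h0 : f.hom.app (op U) t = 0) :
    phi U n C t ht ≫ f = 0 := by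
  apply ((adjU U).homEquiv _ _).injective
  rw [Adjunction.homEquiv_naturality_right]
  have h1 : (adjU U).homEquiv _ C (phi U n C t ht) = secHom U n C t ht :=
    Equiv.apply_symm_apply _ _
  rw [h1]
  have h2 : (adjU U).homEquiv (AddCommGrpCat.of (ULift.{u+1} (ZMod n))) C' 0 = 0 := by
    have h3 : (0 : (constantSheaf (X.smallEtaleTopology.over U) AddCommGrpCat.{u+1} ⋙
        EtPBC.extZero U).obj (AddCommGrpCat.of (ULift.{u+1} (ZMod n))) ⟶ C') =
        (constantSheaf (X.smallEtaleTopology.over U) AddCommGrpCat.{u+1} ⋙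
          EtPBC.extZero U).map (0 : AddCommGrpCat.of (ULift.{u+1} (ZMod n)) ⟶
            AddCommGrpCat.of (ULift.{u+1} (ZMod n))) ≫
          (0 : (constantSheaf (X.smallEtaleTopology.over U) AddCommGrpCat.{u+1} ⋙
            EtPBC.extZero U).obj (AddCommGrpCat.of (ULift.{u+1} (ZMod n))) ⟶ C') := by
      rw [comp_zero]
    rw [h3, Adjunction.homEquiv_naturality_left, zero_comp]
  rw [h2]
  apply zmod_hom_ext
  show (f.hom.app (op U)) ((secHom U n C t ht) (ULift.up 1)) = 0
  rw [secHom_one]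
  exact h0

theorem exists_rep_section [CompactSpace X] [QuasiSeparatedSpace X] {J : Type (u+1)}
    [SmallCategory J] [IsFiltered J] (D : J ⥤ EtCoh.Ab X) (Z : X.Etale)
    [CompactSpace Z.left] [QuasiSeparatedSpace Z.left] (t : (colimit D).obj.obj (op Z)) :
    ∃ (j : J) (tj : (D.obj j).obj.obj (op Z)), (colimit.ι D j).hom.app (op Z) tj = t := by
  haveI := secU_pres_big Z J
  have hcol := isColimitOfPreserves (secU Z) (colimit.isColimit D)
  obtain ⟨j, y, hy⟩ := Concrete.isColimit_exists_rep (D ⋙ secU Z) hcol t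
  exact ⟨j, y, hy⟩

end Basic

section Main

variable (X) in
/-- constructibility as an object property -/
def constrP : ObjectProperty (EtCoh.Ab X) := fun C => EtPBC.IsConstructible C

/-- presentation data (in `Type (u+1)`) -/
structure Pres (X : Scheme.{u}) : Type (u+1) where
  a : ℕ
  b : ℕ
  U : Fin a → X.Etale
  V : Fin b → X.Etale
  n : Fin a → ℕ
  m : Fin b → ℕ
  φ : (⨁ fun j => EtPBC.extZeroConst (V j) (ZMod (m j))) ⟶
    (⨁ fun i => EtPBC.extZeroConst (U i) (ZMod (n i)))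

instance [CompactSpace X] [QuasiSeparatedSpace X] :
    ObjectProperty.EssentiallySmall.{u+1} (constrP X) where
  exists_small_le' := ⟨ObjectProperty.ofObj (fun d : Pres X => cokernel d.φ), inferInstance,
    fun C hC => by
      obtain ⟨a, b, U, V, n, m, h1, h2, φ, ⟨e⟩⟩ := (S3508 X C).1 hC
      exact ⟨_, ObjectProperty.ofObj_apply _ (⟨a, b, U, V, n, m, φ⟩ : Pres X), ⟨e⟩⟩⟩

variable [CompactSpace X] [QuasiSeparatedSpace X] (F : EtCoh.Ab X)

/-- constructible sheaves over `F` -/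
abbrev CJ := CostructuredArrow (constrP X).ι F

noncomputable def mkObj (C : EtCoh.Ab X) (hC : EtPBC.IsConstructible C) (φ : C ⟶ F) : CJ F :=
  CostructuredArrow.mk (Y := (⟨C, hC⟩ : (constrP X).FullSubcategory)) φ

variable {F} in
noncomputable def mkHom {A B : CJ F} (f : A.left.obj ⟶ B.left.obj) (w : f ≫ B.hom = A.hom) :
    A ⟶ B :=
  CostructuredArrow.homMk (ObjectProperty.homMk f) w

instance : IsFilteredOrEmpty (CJ F) where
  cocone_objs A B := by
    obtain ⟨N, hN, kA, kB⟩ := exists_common_killedBy A.left.obj B.left.obj A.left.property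
      B.left.property
    have hC : EtPBC.IsConstructible (A.left.obj ⊞ B.left.obj) :=
      constructible_biprod N hN _ _ A.left.property B.left.property kA kB
    exact ⟨mkObj F _ hC (biprod.desc A.hom B.hom), mkHom biprod.inl (biprod.inl_desc _ _),
      mkHom biprod.inr (biprod.inr_desc _ _), trivial⟩
  cocone_maps A B f g := by
    obtain ⟨N, hN, kA, kB⟩ := exists_common_killedBy A.left.obj B.left.obj A.left.property
      B.left.property
    have hC : EtPBC.IsConstructible (cokernel (f.left.hom - g.left.hom)) :=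
      (S0131 (f.left.hom - g.left.hom) N hN kA kB A.left.property B.left.property).2
    have w : (f.left.hom - g.left.hom) ≫ B.hom = 0 := by
      rw [Preadditive.sub_comp]
      have h1 : f.left.hom ≫ B.hom = A.hom := CostructuredArrow.w f
      have h2 : g.left.hom ≫ B.hom = A.hom := CostructuredArrow.w g
      rw [h1, h2, sub_self]
    refine ⟨mkObj F _ hC (cokernel.desc _ B.hom w), mkHom (cokernel.π _) (cokernel.π_desc _ _ _),
      ?_⟩
    apply CostructuredArrow.hom_ext
    apply ObjectProperty.hom_ext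
    show f.left.hom ≫ cokernel.π (f.left.hom - g.left.hom) =
      g.left.hom ≫ cokernel.π (f.left.hom - g.left.hom)
    rw [← sub_eq_zero, ← Preadditive.sub_comp, cokernel.condition]

instance : Nonempty (CJ F) :=
  ⟨mkObj F 0 (constructible_of_isZero 0 (isZero_zero _)) 0⟩

instance : IsFiltered (CJ F) := {}

/-- the small index category -/
def J₀ : Type (u+1) := SmallModel.{u+1} (CJ F)

noncomputable instance : SmallCategory (J₀ F) :=
  inferInstanceAs (SmallCategory (SmallModel.{u+1} (CJ F)))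

noncomputable def eqv : CJ F ≌ J₀ F := equivSmallModel.{u+1} (CJ F)

instance : HasColimitsOfShape (J₀ F) (EtCoh.Ab X) :=
  haveI : HasColimitsOfSize.{u+1,u+1} (EtCoh.Ab X) := inferInstance
  HasColimitsOfSize.has_colimits_of_shape (J₀ F)

instance : IsFiltered (J₀ F) := IsFiltered.of_equivalence (eqv F)

noncomputable def D₀ : J₀ F ⥤ EtCoh.Ab X :=
  (eqv F).inverse ⋙ CostructuredArrow.proj (constrP X).ι F ⋙ (constrP X).ι

noncomputable def c₀ : Cocone (D₀ F) where
  pt := F
  ι :=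
    { app := fun j => ((eqv F).inverse.obj j).hom
      naturality := fun j j' a => by
        have := CostructuredArrow.w ((eqv F).inverse.map a)
        show ((eqv F).inverse.map a).left.hom ≫ _ = _ ≫ 𝟙 F
        rw [Category.comp_id]; exact this }

noncomputable abbrev κ : colimit (D₀ F) ⟶ F := colimit.desc (D₀ F) (c₀ F)

theorem exists_factor_kappa (C : EtCoh.Ab X) (hC : EtPBC.IsConstructible C) (φ : C ⟶ F) :
    ∃ ψ : C ⟶ colimit (D₀ F), ψ ≫ κ F = φ := by
  obtain ⟨θ, hθ⟩ : ∃ θ, θ = (eqv F).unitIso.app (mkObj F C hC φ) := ⟨_, rfl⟩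
  refine ⟨θ.hom.left.hom ≫ colimit.ι (D₀ F) ((eqv F).functor.obj (mkObj F C hC φ)), ?_⟩
  rw [Category.assoc, colimit.ι_desc]
  exact CostructuredArrow.w θ.hom

theorem epi_kappa (hF : EtCoh.IsTorsion F) : Epi (κ F) := by
  apply Abelian.epi_of_cokernel_π_eq_zero
  apply hom_eq_zero_of_sections
  intro U s
  apply eq_of_locally_ab (cokernel (κ F)) _ 0
  intro x
  obtain ⟨V, g, ⟨v, hv⟩, hfin⟩ := hF U s x
  obtain ⟨W, hW, hvW, -⟩ := exists_isAffineOpen_mem_and_subset (x := v) (U := ⊤) trivial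
  obtain ⟨z, hz⟩ := exists_opι_eq V W v hvW
  refine ⟨opPiece V W, opι V W ≫ g, z, ?_, ?_⟩
  · show g.left ((opι V W).left z) = x
    rw [hz]; exact hv
  · obtain ⟨s', hs'⟩ : ∃ s', s' = F.obj.map (opι V W ≫ g).op s := ⟨_, rfl⟩
    have hfin' : IsOfFinAddOrder s' := by
      rw [hs', op_comp, ab_map_comp]
      exact AddMonoidHom.isOfFinAddOrder (F.obj.map (opι V W).op).hom hfin
    obtain ⟨n, hn, hns⟩ : ∃ n : ℕ, 0 < n ∧ n • s' = 0 :=
      ⟨addOrderOf s', hfin'.addOrderOf_pos, addOrderOf_nsmul_eq_zero s'⟩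
    haveI : IsAffine (opPiece V W).left := hW
    haveI : NeZero n := ⟨hn.ne'⟩
    have hC : EtPBC.IsConstructible (EtPBC.extZeroConst (opPiece V W) (ZMod n)) :=
      Helper15.FinEtShriek.S0133 X _ (ZMod n)
    obtain ⟨e, he⟩ := phi_spec (opPiece V W) n F s' hns
    obtain ⟨ψ, hψ⟩ := exists_factor_kappa F _ hC (phi (opPiece V W) n F s' hns)
    have h3 : phi (opPiece V W) n F s' hns ≫ cokernel.π (κ F) = 0 := by
      rw [← hψ, Category.assoc, cokernel.condition, comp_zero]
    rw [map_zero, ← ab_hom_nat, ← hs', ← he]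
    exact congrArg (fun m : EtPBC.extZeroConst (opPiece V W) (ZMod n) ⟶ cokernel (κ F) =>
      m.hom.app (op (opPiece V W)) e) h3

theorem mono_kappa : Mono (κ F) := by
  apply Abelian.mono_of_kernel_ι_eq_zero
  apply hom_eq_zero_of_sections
  intro U t
  obtain ⟨tL, htL⟩ : ∃ tL, tL = (kernel.ι (κ F)).hom.app (op U) t := ⟨_, rfl⟩
  have h0 : (κ F).hom.app (op U) tL = 0 := by
    rw [htL]
    exact congrArg (fun m : kernel (κ F) ⟶ F => m.hom.app (op U) t) (kernel.condition (κ F))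
  rw [← htL]
  apply eq_of_locally_ab (colimit (D₀ F)) tL 0
  intro x
  obtain ⟨W, hW, hxW, -⟩ := exists_isAffineOpen_mem_and_subset (x := x) (U := ⊤) trivial
  obtain ⟨z, hz⟩ := exists_opι_eq U W x hxW
  refine ⟨opPiece U W, opι U W, z, hz, ?_⟩
  haveI : IsAffine (opPiece U W).left := hW
  rw [map_zero]
  obtain ⟨j, tj, htj⟩ := exists_rep_section (D₀ F) (opPiece U W)
    ((colimit (D₀ F)).obj.map (opι U W).op tL)
  have h1 : ((eqv F).inverse.obj j).hom.hom.app (op (opPiece U W)) tj = 0 := by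
    have h10 : colimit.ι (D₀ F) j ≫ κ F = ((eqv F).inverse.obj j).hom := colimit.ι_desc _ _
    rw [← h10]
    show (κ F).hom.app (op (opPiece U W))
      ((colimit.ι (D₀ F) j).hom.app (op (opPiece U W)) tj) = 0
    rw [htj, ab_hom_nat, h0, map_zero]
  obtain ⟨N, hN, kN⟩ := exists_killedBy ((D₀ F).obj j) ((eqv F).inverse.obj j).left.property
  have hNt : N • tj = 0 := kN _ tj
  haveI : NeZero N := ⟨hN.ne'⟩
  obtain ⟨ψ, hψ⟩ : ∃ ψ, ψ = phi (opPiece U W) N ((D₀ F).obj j) tj hNt := ⟨_, rfl⟩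
  have hψ0 : ψ ≫ ((eqv F).inverse.obj j).hom = 0 := by
    rw [hψ]; exact phi_comp_eq_zero (opPiece U W) N _ tj hNt h1
  have hC' : EtPBC.IsConstructible (cokernel ψ) :=
    (S0131 ψ N hN (killedBy_extZeroConst (opPiece U W) N) kN
      (Helper15.FinEtShriek.S0133 X _ (ZMod N)) ((eqv F).inverse.obj j).left.property).2
  obtain ⟨m, hm⟩ : ∃ m : (eqv F).inverse.obj j ⟶
      mkObj F (cokernel ψ) hC' (cokernel.desc ψ ((eqv F).inverse.obj j).hom hψ0),
      m.left.hom = cokernel.π ψ :=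
    ⟨mkHom (cokernel.π ψ) (cokernel.π_desc _ _ _), rfl⟩
  obtain ⟨θ, hθ⟩ : ∃ θ, θ = (eqv F).unitIso.app
      (mkObj F (cokernel ψ) hC' (cokernel.desc ψ ((eqv F).inverse.obj j).hom hψ0)) := ⟨_, rfl⟩
  obtain ⟨a, ha⟩ : ∃ a : j ⟶ (eqv F).functor.obj
      (mkObj F (cokernel ψ) hC' (cokernel.desc ψ ((eqv F).inverse.obj j).hom hψ0)),
      (eqv F).inverse.map a = m ≫ θ.hom :=
    ⟨(eqv F).inverse.preimage (m ≫ θ.hom), Functor.map_preimage _ _⟩
  have ha' : (D₀ F).map a = cokernel.π ψ ≫ θ.hom.left.hom := by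
    show ((eqv F).inverse.map a).left.hom = _
    rw [ha, ← hm]; rfl
  obtain ⟨e, he⟩ := phi_spec (opPiece U W) N ((D₀ F).obj j) tj hNt
  have h2 : (cokernel.π ψ).hom.app (op (opPiece U W)) tj = 0 := by
    rw [← he, ← hψ]
    exact congrArg (fun m : _ ⟶ cokernel ψ => m.hom.app (op (opPiece U W)) e)
      (cokernel.condition ψ)
  rw [← htj, ← colimit.w (D₀ F) a]
  show (colimit.ι (D₀ F) _).hom.app (op (opPiece U W))
    (((D₀ F).map a).hom.app (op (opPiece U W)) tj) = 0
  rw [ha']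
  show (colimit.ι (D₀ F) _).hom.app (op (opPiece U W))
    (θ.hom.left.hom.hom.app (op (opPiece U W))
      ((cokernel.π ψ).hom.app (op (opPiece U W)) tj)) = 0
  rw [h2, map_zero, map_zero]

theorem isColimit_c₀ (hF : EtCoh.IsTorsion F) : Nonempty (IsColimit (c₀ F)) := by
  haveI := epi_kappa F hF
  haveI := mono_kappa F
  haveI : IsIso ((colimit.isColimit (D₀ F)).desc (c₀ F)) := isIso_of_mono_of_epi (κ F)
  exact ⟨IsColimit.ofPointIso (colimit.isColimit (D₀ F))⟩

end Main

theorem S0134 (X : Scheme.{u}) [CompactSpace X] [QuasiSeparatedSpace X]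
    (F : EtCoh.Ab X) (hF : EtCoh.IsTorsion F) :
    ∃ (J : Type (u + 1)) (_ : SmallCategory J) (_ : IsFiltered J) (D : J ⥤ EtCoh.Ab X)
      (c : Cocone D) (_ : IsColimit c), (∀ j, EtPBC.IsConstructible (D.obj j)) ∧
        Nonempty (c.pt ≅ F) := by
  obtain ⟨hc⟩ := isColimit_c₀ F hF
  exact ⟨J₀ F, inferInstance, inferInstance, D₀ F, c₀ F, hc,
    fun j => ((eqv F).inverse.obj j).left.property, ⟨Iso.refl _⟩⟩

end Helper15.IndConstr
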