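import Mathlib
import Groth.Agent.Lib.Helper15.IndConstr
import Groth.Agent.Lib.Helper13.ExtZeroExact

/-!
# Helper15: the `N`-torsion of an injective abelian sheaf is acyclic
-/

set_option autoImplicit false
set_option backward.isDefEq.respectTransparency false
universe u
open CategoryTheory CategoryTheory.Limits AlgebraicGeometry Opposite Abelian

namespace Helper15.Efface

open Helper15.ConstrGen Helper15.CompactObj Helper15.FinEtShriek Helper15.IndConstr

variable {X : Scheme.{u}}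

/-- The integers, as an object of `AddCommGrpCat.{u+1}`. -/
abbrev ZZ : AddCommGrpCat.{u+1} := AddCommGrpCat.of (ULift.{u+1} ℤ)

theorem mono_nsmul_ZZ (N : ℕ) (hN : 0 < N) : Mono (N • 𝟙 ZZ.{u}) := by
  rw [AddCommGrpCat.mono_iff_injective]
  intro x y h
  have hx : ∀ z : ULift.{u+1} ℤ, (AddCommGrpCat.Hom.hom (N • 𝟙 ZZ.{u})) z = N • z := by
    intro z; simp
  have h' : N • x = N • y := by
    have := h
    rw [← hx x, ← hx y]; exact this
  apply ULift.ext
  have h2 : N • x.down = N • y.down := congrArg ULift.down h'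
  exact nsmul_right_injective hN.ne' h2

theorem mono_constantSheaf_map {C : Type (u+1)} [Category.{u} C] (J : GrothendieckTopology C)
    [HasSheafify J AddCommGrpCat.{u+1}] {A B : AddCommGrpCat.{u+1}} (f : A ⟶ B) [Mono f] :
    Mono ((constantSheaf J AddCommGrpCat.{u+1}).map f) := by
  haveI : ∀ c, Mono (((Functor.const Cᵒᵖ).map f : (Functor.const Cᵒᵖ).obj A ⟶ _).app c) :=
    fun c => by dsimp; infer_instance
  haveI : Mono ((Functor.const Cᵒᵖ).map f) := NatTrans.mono_of_mono_app _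
  show Mono ((presheafToSheaf J AddCommGrpCat.{u+1}).map ((Functor.const Cᵒᵖ).map f))
  infer_instance

theorem mono_nsmul_shriek (U : X.Etale) (N : ℕ) (hN : 0 < N) :
    Mono (N • 𝟙 ((constantSheaf U.left.smallEtaleTopology AddCommGrpCat.{u+1} ⋙
      EtShriek.extZero U.hom).obj ZZ)) := by
  haveI := mono_nsmul_ZZ.{u} N hN
  haveI := mono_constantSheaf_map U.left.smallEtaleTopology (N • 𝟙 ZZ.{u})
  haveI : (EtShriek.extZero U.hom).Additive := (EtShriek.extZeroAdj U.hom).left_adjoint_additive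
  have h : N • 𝟙 ((constantSheaf U.left.smallEtaleTopology AddCommGrpCat.{u+1} ⋙
      EtShriek.extZero U.hom).obj ZZ) =
      (EtShriek.extZero U.hom).map
        ((constantSheaf U.left.smallEtaleTopology AddCommGrpCat.{u+1}).map (N • 𝟙 ZZ.{u})) := by
    rw [Functor.map_nsmul, Functor.map_nsmul, CategoryTheory.Functor.map_id,
      CategoryTheory.Functor.map_id]
    rfl
  rw [h]
  infer_instance

theorem mono_nsmul_extZeroConst (U : X.Etale) (N : ℕ) (hN : 0 < N) :
    Mono (N • 𝟙 ((constantSheaf (X.smallEtaleTopology.over U) AddCommGrpCat.{u+1} ⋙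
      EtPBC.extZero U).obj ZZ)) := by
  haveI := mono_nsmul_shriek U N hN
  obtain ⟨e, he⟩ : ∃ e, e = (transIso U).app ZZ.{u} := ⟨_, rfl⟩
  have h : N • 𝟙 ((constantSheaf (X.smallEtaleTopology.over U) AddCommGrpCat.{u+1} ⋙
      EtPBC.extZero U).obj ZZ) = e.hom ≫ (N • 𝟙 _) ≫ e.inv := by
    rw [Preadditive.nsmul_comp, Preadditive.comp_nsmul, Category.id_comp, e.hom_inv_id]
  rw [h]
  have h1 : Mono e.hom := inferInstance
  have h2 : Mono e.inv := inferInstance
  exact mono_comp' h1 (mono_comp' this h2)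

/-- The homomorphism `ℤ → G(U)` attached to a section. -/
noncomputable def zhom (U : X.Etale) (G : EtCoh.Ab X) (s : G.obj.obj (op U)) :
    ZZ.{u} ⟶ (secU U).obj G :=
  AddCommGrpCat.ofHom ((zmultiplesHom _ s).comp AddEquiv.ulift.toAddMonoidHom)

lemma zhom_one (U : X.Etale) (G : EtCoh.Ab X) (s : G.obj.obj (op U)) :
    (zhom U G s) (ULift.up 1) = s := by
  simp only [zhom, AddCommGrpCat.hom_ofHom, AddMonoidHom.coe_comp, Function.comp_apply]
  show (zmultiplesHom _ s) (1 : ℤ) = s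
  simp

/-- Sections of an injective abelian sheaf are divisible. -/
theorem exists_nsmul_eq_of_injective (I : EtCoh.Ab X) [Injective I] (N : ℕ) (hN : 0 < N)
    (U : X.Etale) (s : I.obj.obj (op U)) : ∃ s' : I.obj.obj (op U), N • s' = s := by
  haveI := mono_nsmul_extZeroConst U N hN
  obtain ⟨f, hf⟩ : ∃ f, f = ((adjU U).homEquiv ZZ.{u} I).symm (zhom U I s) := ⟨_, rfl⟩
  obtain ⟨g, hg⟩ : ∃ g, (N • 𝟙 ((constantSheaf (X.smallEtaleTopology.over U) AddCommGrpCat.{u+1} ⋙
      EtPBC.extZero U).obj ZZ)) ≫ g = f := ⟨Injective.factorThru f _, Injective.comp_factorThru _ _⟩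
  refine ⟨((adjU U).homEquiv ZZ.{u} I g) (ULift.up 1), ?_⟩
  have h1 : (adjU U).homEquiv ZZ.{u} I f = zhom U I s := by
    rw [hf]; exact Equiv.apply_symm_apply _ _
  have h2 : N • 𝟙 ((constantSheaf (X.smallEtaleTopology.over U) AddCommGrpCat.{u+1} ⋙
      EtPBC.extZero U).obj ZZ) =
      (constantSheaf (X.smallEtaleTopology.over U) AddCommGrpCat.{u+1} ⋙
      EtPBC.extZero U).map (N • 𝟙 ZZ.{u}) := by
    rw [Functor.map_nsmul, CategoryTheory.Functor.map_id]
  rw [← hg, h2, Adjunction.homEquiv_naturality_left] at h1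
  have h3 := ConcreteCategory.congr_hom h1 (ULift.up 1)
  rw [zhom_one] at h3
  rw [← h3]
  show N • ((adjU U).homEquiv ZZ.{u} I g) (ULift.up 1) =
    ((adjU U).homEquiv ZZ.{u} I g) ((AddCommGrpCat.Hom.hom (N • 𝟙 ZZ.{u})) (ULift.up 1))
  have h4 : (AddCommGrpCat.Hom.hom (N • 𝟙 ZZ.{u})) (ULift.up 1) = N • (ULift.up 1) := by simp
  rw [h4, map_nsmul]

theorem epi_nsmul_of_injective (I : EtCoh.Ab X) [Injective I] (N : ℕ) (hN : 0 < N) :
    Epi (N • 𝟙 I) := by
  apply Abelian.epi_of_cokernel_π_eq_zero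
  apply hom_eq_zero_of_sections
  intro U s
  obtain ⟨s', hs'⟩ := exists_nsmul_eq_of_injective I N hN U s
  rw [← hs', ← ev_nsmul N I U s']
  exact congrArg (fun m : I ⟶ cokernel (N • 𝟙 I) => m.hom.app (op U) s')
    (cokernel.condition (N • 𝟙 I))

theorem H_torsion_of_injective_eq_zero (I : EtCoh.Ab X) [Injective I] (N : ℕ) (hN : 0 < N)
    (q : ℕ) (hq : 0 < q) (x : EtCoh.H X (kernel (N • 𝟙 I)) q) : x = 0 := by
  haveI := epi_nsmul_of_injective I N hN
  obtain ⟨S, hSdef⟩ : ∃ S : ShortComplex (EtCoh.Ab X),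
      S = ShortComplex.mk (kernel.ι (N • 𝟙 I)) (N • 𝟙 I) (kernel.condition _) := ⟨_, rfl⟩
  have hS : S.ShortExact := by
    rw [hSdef]
    exact { exact := ShortComplex.exact_kernel _
            mono_f := inferInstanceAs (Mono (kernel.ι (N • 𝟙 I)))
            epi_g := inferInstanceAs (Epi (N • 𝟙 I)) }
  obtain ⟨q', rfl⟩ : ∃ q', q = q' + 1 := ⟨q - 1, by omega⟩
  subst hSdef
  have h1 : x.comp (Ext.mk₀ (kernel.ι (N • 𝟙 I))) (add_zero (q' + 1)) = 0 :=
    Ext.eq_zero_of_injective _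
  obtain ⟨x₃, hx₃⟩ := Ext.covariant_sequence_exact₁ _ hS x h1 rfl
  rw [← hx₃]
  cases q' with
  | zero =>
    obtain ⟨s', hs'⟩ := exists_nsmul_eq_of_injective I N hN (EtCoh.top X)
      (Sheaf.H.equiv₀ I (EtCore.topIsTerminal X) x₃)
    obtain ⟨y, hy⟩ : ∃ y : EtCoh.H X I 0, y.comp (Ext.mk₀ (N • 𝟙 I)) (add_zero 0) = x₃ := by
      refine ⟨(Sheaf.H.equiv₀ I (EtCore.topIsTerminal X)).symm s', ?_⟩
      apply (Sheaf.H.equiv₀ I (EtCore.topIsTerminal X)).injective
      rw [← Sheaf.H.map_apply, ← Sheaf.H.equiv₀_naturality, AddEquiv.apply_symm_apply, ev_nsmul,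
        hs']
    rw [← hy, Ext.comp_assoc_of_second_deg_zero, hS.comp_extClass, Ext.comp_zero]
  | succ q'' =>
    have : x₃ = 0 := Ext.eq_zero_of_injective _
    rw [this, Ext.zero_comp]

end Helper15.Efface
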