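import Mathlib
import Groth.Agent.Lib.Helper15.Efface1
import Groth.Agent.Lib.Helper5.EtaleQcqs

/-!
# Helper15: effaceability of cohomology among constructible sheaves (S13504, S8613)
-/

set_option autoImplicit false
set_option backward.isDefEq.respectTransparency false
universe u
open CategoryTheory CategoryTheory.Limits AlgebraicGeometry Opposite Abelian

namespace Helper15.Efface

open Helper15.ConstrGen Helper15.CompactObj Helper15.FinEtShriek Helper15.IndConstr

attribute [local instance] Cardinal.fact_isRegular_aleph0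

variable {X : Scheme.{u}}

section Big

theorem zmod_fp_big (N : ℕ) :
    IsFinitelyPresentable.{u+1} (AddCommGrpCat.of (ULift.{u+1} (ZMod N))) := by
  rw [isFinitelyPresentable_iff_preservesFilteredColimitsOfSize]
  constructor
  intro K _ _
  haveI : PreservesColimitsOfShape K (forget AddCommGrpCat.{u+1}) := inferInstance
  constructor
  intro D
  constructor
  intro c hc
  refine ⟨Types.FilteredColimit.isColimitOf' _ _ ?_ ?_⟩
  · intro (f : AddCommGrpCat.of (ULift.{u+1} (ZMod N)) ⟶ c.pt)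
    obtain ⟨k, y, hy⟩ := Concrete.isColimit_exists_rep D hc (f (ULift.up 1))
    have h0 : (c.ι.app k) (N • y) = (c.ι.app k) (0 : D.obj k) := by
      rw [map_nsmul, hy, map_zero]
      have h00 : N • (f (ULift.up 1)) = f (N • (ULift.up 1 : ULift.{u+1} (ZMod N))) :=
        (map_nsmul _ _ _).symm
      rw [h00, nsmul_up_one, map_zero]
    obtain ⟨k', a, b, hab⟩ := Concrete.isColimit_exists_of_rep_eq D hc _ _ h0
    have hy' : N • ((D.map a) y) = 0 := by
      rw [← map_nsmul]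
      exact hab.trans (map_zero _)
    refine ⟨k', zlift N (D.obj k') ((D.map a) y) hy', ?_⟩
    apply zmod_hom_ext
    show _ = (c.ι.app k') ((zlift N (D.obj k') ((D.map a) y) hy') (ULift.up 1))
    rw [zlift_one, ← hy]
    exact (ConcreteCategory.congr_hom (c.w a) y).symm
  · intro i (x : AddCommGrpCat.of (ULift.{u+1} (ZMod N)) ⟶ D.obj i)
      (y : AddCommGrpCat.of (ULift.{u+1} (ZMod N)) ⟶ D.obj i) hxy
    have hxy' : x ≫ c.ι.app i = y ≫ c.ι.app i := hxy
    have h1 : (c.ι.app i) (x (ULift.up 1)) = (c.ι.app i) (y (ULift.up 1)) :=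
      ConcreteCategory.congr_hom hxy' (ULift.up 1)
    obtain ⟨k, a, b, hab⟩ := Concrete.isColimit_exists_of_rep_eq D hc _ _ h1
    refine ⟨IsFiltered.coeq a b, a ≫ IsFiltered.coeqHom a b, ?_⟩
    apply zmod_hom_ext
    show (D.map (a ≫ IsFiltered.coeqHom a b)) (x (ULift.up 1)) =
      (D.map (a ≫ IsFiltered.coeqHom a b)) (y (ULift.up 1))
    conv_rhs => rw [IsFiltered.coeq_condition a b]
    rw [D.map_comp, D.map_comp]
    show (D.map (IsFiltered.coeqHom a b)) ((D.map a) (x (ULift.up 1))) =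
      (D.map (IsFiltered.coeqHom a b)) ((D.map b) (y (ULift.up 1)))
    rw [hab]

theorem secU_accessible_big [CompactSpace X] [QuasiSeparatedSpace X] (U : X.Etale)
    [CompactSpace U.left] [QuasiSeparatedSpace U.left] :
    (secU U).IsFinitelyAccessible.{u+1} := by
  rw [Functor.IsFinitelyAccessible_iff_preservesFilteredColimitsOfSize]
  constructor
  intro J _ _
  exact secU_pres_big U J

theorem extZeroConst_fp_big [CompactSpace X] [QuasiSeparatedSpace X] (U : X.Etale)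
    [CompactSpace U.left] [QuasiSeparatedSpace U.left] (N : ℕ) :
    IsFinitelyPresentable.{u+1} (EtPBC.extZeroConst U (ZMod N)) := by
  haveI := zmod_fp_big.{u} N
  haveI := secU_accessible_big U
  exact (adjU U).isCardinalPresentable_leftAdjoint_obj (Cardinal.aleph0.{u+1})
    (AddCommGrpCat.of (ULift.{u+1} (ZMod N)))

theorem fp_of_isColimit_fin_big {K : Type} [SmallCategory K] [FinCategory K]
    {Y : K ⥤ EtCoh.Ab X} (c : Cocone Y) (hc : IsColimit c)
    (h : ∀ k, IsFinitelyPresentable.{u+1} (Y.obj k)) :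
    IsFinitelyPresentable.{u+1} c.pt :=
  isCardinalPresentable_of_isColimit' c hc Cardinal.aleph0.{u+1}
    ((hasCardinalLT_aleph0_iff _).2 inferInstance)

theorem fp_biproduct_big {a : ℕ} (f : Fin a → EtCoh.Ab X)
    (h : ∀ i, IsFinitelyPresentable.{u+1} (f i)) : IsFinitelyPresentable.{u+1} (⨁ f) :=
  fp_of_isColimit_fin_big (biproduct.bicone f).toCocone (biproduct.isColimit f) (fun k => h k.as)

theorem fp_cokernel_big {A B : EtCoh.Ab X} (φ : A ⟶ B) (hA : IsFinitelyPresentable.{u+1} A)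
    (hB : IsFinitelyPresentable.{u+1} B) : IsFinitelyPresentable.{u+1} (cokernel φ) :=
  fp_of_isColimit_fin_big (colimit.cocone (parallelPair φ 0)) (colimit.isColimit _) (fun k => by
    cases k
    · exact hA
    · exact hB)

theorem fp_of_constructible_big [CompactSpace X] [QuasiSeparatedSpace X] (F : EtCoh.Ab X)
    (hF : EtPBC.IsConstructible F) : IsFinitelyPresentable.{u+1} F := by
  obtain ⟨a, b, U, V, n, m, h1, h2, φ, ⟨e⟩⟩ := (S3508 X F).1 hF
  have hU : ∀ i, IsFinitelyPresentable.{u+1} (EtPBC.extZeroConst (U i) (ZMod (n i))) :=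
    fun i => by
      haveI := (h1 i).2
      exact extZeroConst_fp_big (U i) (n i)
  have hV : ∀ j, IsFinitelyPresentable.{u+1} (EtPBC.extZeroConst (V j) (ZMod (m j))) :=
    fun j => by
      haveI := (h2 j).2
      exact extZeroConst_fp_big (V j) (m j)
  haveI := fp_cokernel_big φ (fp_biproduct_big _ hV) (fp_biproduct_big _ hU)
  exact isCardinalPresentable_of_iso e.symm Cardinal.aleph0.{u+1}

end Big

theorem HF_pres (X : Scheme.{u}) [CompactSpace X] [QuasiSeparatedSpace X] (q : ℕ)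
    (I : Type (u+1)) [SmallCategory I] [IsFiltered I] :
    PreservesColimitsOfShape I (EtCoh.HF X q) := by
  unfold EtCoh.HF
  exact Groth.Agent.Lib.Helper5.SmallModelH.preservesColimitsOfShape_functorH
      X.smallEtaleTopology (Groth.Agent.Lib.Helper5.EtaleQcqs.Bq X)
      (Groth.Agent.Lib.Helper5.EtaleQcqs.Cov X)
      (fun _ _ e h => Groth.Agent.Lib.Helper5.EtaleQcqs.Bq_iso e h)
      (Groth.Agent.Lib.Helper5.EtaleQcqs.h1 X)
      (Groth.Agent.Lib.Helper5.EtaleQcqs.h2 X)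
      (Groth.Agent.Lib.Helper5.EtaleQcqs.topIsTerminal X)
      (Groth.Agent.Lib.Helper5.EtaleQcqs.top_mem X) q I

theorem isTorsion_of_killedBy (N : ℕ) (hN : 0 < N) (G : EtCoh.Ab X) (h : EtCoh.KilledBy N G) :
    EtCoh.IsTorsion G := by
  intro U s x
  refine ⟨U, 𝟙 U, ⟨x, rfl⟩, ?_⟩
  rw [isOfFinAddOrder_iff_nsmul_eq_zero]
  exact ⟨N, hN, h U _⟩

theorem S13504 (X : Scheme.{u}) [CompactSpace X] [QuasiSeparatedSpace X]
    (F : EtCoh.Ab X) (hF : EtPBC.IsConstructible F) (q : ℕ) (hq : 0 < q) (α : EtCoh.H X F q) :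
    ∃ (G : EtCoh.Ab X) (u : F ⟶ G), EtPBC.IsConstructible G ∧ Mono u ∧
      (EtCoh.HF X q).map u α = 0 := by
  obtain ⟨N, hN, kN⟩ := exists_killedBy F hF
  obtain ⟨I, hI, ι, hι⟩ : ∃ (I : EtCoh.Ab X) (_ : Injective I) (ι : F ⟶ I), Mono ι :=
    ⟨Injective.under F, inferInstance, Injective.ι F, inferInstance⟩
  have hι0 : ι ≫ (N • 𝟙 I) = 0 := by
    rw [Preadditive.comp_nsmul, Category.comp_id]
    calc N • ι = (N • 𝟙 F) ≫ ι := by rw [Preadditive.nsmul_comp, Category.id_comp]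
      _ = 0 := by rw [nsmul_id_of_killedBy N F kN, zero_comp]
  obtain ⟨u₀, hu₀⟩ : ∃ u₀ : F ⟶ kernel (N • 𝟙 I), u₀ ≫ kernel.ι _ = ι :=
    ⟨kernel.lift _ ι hι0, kernel.lift_ι _ _ _⟩
  haveI : Mono u₀ := by
    haveI : Mono (u₀ ≫ kernel.ι (N • 𝟙 I)) := by rw [hu₀]; exact hι
    exact mono_of_mono u₀ (kernel.ι (N • 𝟙 I))
  have kT : EtCoh.KilledBy N (kernel (N • 𝟙 I)) := by
    apply killedBy_of_nsmul_id
    rw [← cancel_mono (kernel.ι (N • 𝟙 I)), zero_comp, Preadditive.nsmul_comp, Category.id_comp]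
    have := kernel.condition (N • 𝟙 I)
    rw [Preadditive.comp_nsmul, Category.comp_id] at this
    exact this
  have hT : EtCoh.IsTorsion (kernel (N • 𝟙 I)) := isTorsion_of_killedBy N hN _ kT
  obtain ⟨hcol⟩ := isColimit_c₀ (kernel (N • 𝟙 I)) hT
  haveI := fp_of_constructible_big F hF
  obtain ⟨j, v, hv⟩ := IsFinitelyPresentable.exists_hom_of_isColimit hcol u₀
  haveI := HF_pres X q (J₀ (kernel (N • 𝟙 I)))
  have hcolH := isColimitOfPreserves (EtCoh.HF X q) hcol
  obtain ⟨β, hβ⟩ : ∃ β, β = (EtCoh.HF X q).map v α := ⟨_, rfl⟩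
  have h1 : ((EtCoh.HF X q).mapCocone (c₀ (kernel (N • 𝟙 I)))).ι.app j β =
      ((EtCoh.HF X q).mapCocone (c₀ (kernel (N • 𝟙 I)))).ι.app j 0 := by
    rw [map_zero]
    exact H_torsion_of_injective_eq_zero I N hN q hq _
  obtain ⟨k, a, b, hab⟩ := Concrete.isColimit_exists_of_rep_eq
    (D₀ (kernel (N • 𝟙 I)) ⋙ EtCoh.HF X q) hcolH β 0 h1
  refine ⟨(D₀ (kernel (N • 𝟙 I))).obj k, v ≫ (D₀ (kernel (N • 𝟙 I))).map a,
    ((eqv (kernel (N • 𝟙 I))).inverse.obj k).left.property, ?_, ?_⟩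
  · have h2 : (v ≫ (D₀ (kernel (N • 𝟙 I))).map a) ≫ (c₀ (kernel (N • 𝟙 I))).ι.app k = u₀ := by
      rw [Category.assoc, (c₀ (kernel (N • 𝟙 I))).w, hv]
    haveI : Mono ((v ≫ (D₀ (kernel (N • 𝟙 I))).map a) ≫
        (c₀ (kernel (N • 𝟙 I))).ι.app k) := by rw [h2]; infer_instance
    exact mono_of_mono _ ((c₀ (kernel (N • 𝟙 I))).ι.app k)
  · rw [Functor.map_comp]
    show (EtCoh.HF X q).map ((D₀ (kernel (N • 𝟙 I))).map a) ((EtCoh.HF X q).map v α) = 0
    rw [← hβ]
    exact hab.trans (map_zero _)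

theorem S8613 {X : Scheme.{u}} [IsNoetherian X] (F : EtCoh.Ab X)
    (hF : EtPBC.IsConstructible F) (q : ℕ) (hq : 0 < q) (α : EtCoh.H X F q) :
    ∃ (G : EtCoh.Ab X) (u : F ⟶ G), EtPBC.IsConstructible G ∧ Mono u ∧
      (EtCoh.HF X q).map u α = 0 :=
  S13504 X F hF q hq α

end Helper15.Efface
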