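import Mathlib
import Groth.Agent.Lib.Helper8.EtLift
import Groth.Agent.Lib.Helper8.EtSepNormal

/-!
# Étale schemes over closed subschemes of a normal affine scheme with separably closed
function field (helper15)

Stacks 09Z9: lift the étale algebra along the surjection (helper8 `EtLift.exists_lift`), split
the lift (helper8 `EtSepNormal.exists_sigma_opens`) and pull the splitting back.
-/

set_option autoImplicit false
universe u
open CategoryTheory CategoryTheory.Limits AlgebraicGeometry TensorProduct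

namespace Groth.Agent.Lib.Helper15.EtClosedSplit

/-- An étale algebra over a quotient is the pushout of an étale algebra. -/
theorem exists_etale_pushout {A Ab C : Type u} [CommRing A] [CommRing Ab] [CommRing C]
    (f : A →+* Ab) (hf : Function.Surjective f) (h : Ab →+* C) (hh : h.Etale) :
    ∃ (S : Type u) (_ : CommRing S) (a : A →+* S) (ψ : S →+* C), a.Etale ∧
      IsPushout (CommRingCat.ofHom f) (CommRingCat.ofHom a) (CommRingCat.ofHom h)
        (CommRingCat.ofHom ψ) := by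
  classical
  let I : Ideal A := RingHom.ker f
  let e₀ : (A ⧸ I) ≃+* Ab := RingHom.quotientKerEquivOfSurjective hf
  have he₀ : ∀ x : A, e₀ (Ideal.Quotient.mk I x) = f x := fun x => rfl
  letI algC : Algebra (A ⧸ I) C := (h.comp e₀.toRingHom).toAlgebra
  haveI : Algebra.Etale (A ⧸ I) C := by
    have h1 : (h.comp e₀.toRingHom).Etale :=
      RingHom.Etale.stableUnderComposition _ _ (RingHom.Etale.of_bijective e₀.bijective) hh
    exact h1
  obtain ⟨S, _, _, hS, ⟨E⟩⟩ := Groth.Agent.Lib.Helper8.EtLift.exists_lift A I C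
  refine ⟨S, inferInstance, algebraMap A S,
    (E.toAlgHom.toRingHom).comp (Algebra.TensorProduct.includeRight.toRingHom), ?_, ?_⟩
  · exact RingHom.etale_algebraMap.mpr hS
  · have h0 := CommRingCat.isPushout_tensorProduct A (A ⧸ I) S
    refine IsPushout.of_iso h0 (Iso.refl _) (e₀.toCommRingCatIso) (Iso.refl _)
      (E.toRingEquiv.toCommRingCatIso) ?_ ?_ ?_ ?_
    · ext x
      exact he₀ x
    · rfl
    · have key : ∀ z : A ⧸ I, E (z ⊗ₜ[A] (1 : S)) = h (e₀ z) := by
        intro z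
        have h1 : z ⊗ₜ[A] (1 : S) = algebraMap (A ⧸ I) ((A ⧸ I) ⊗[A] S) z := by
          rw [Algebra.TensorProduct.algebraMap_apply]
          rfl
        rw [h1, E.commutes]
        rfl
      apply CommRingCat.hom_ext
      apply RingHom.ext
      intro z
      exact key z
    · rfl

/-- Categorical form. -/
theorem exists_etale_pushout' {A Ab C : CommRingCat.{u}} (f : A ⟶ Ab)
    (hf : Function.Surjective f.hom) (h : Ab ⟶ C) (hh : h.hom.Etale) :
    ∃ (S : CommRingCat.{u}) (a : A ⟶ S) (ψ : S ⟶ C), a.hom.Etale ∧ IsPushout f a h ψ := by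
  obtain ⟨S, _, a, ψ, ha, hpo⟩ := exists_etale_pushout f.hom hf h.hom hh
  exact ⟨CommRingCat.of S, CommRingCat.ofHom a, CommRingCat.ofHom ψ, ha, hpo⟩

/-- An affine étale scheme over a closed subscheme of an affine scheme is the pullback of an
étale separated scheme. -/
theorem exists_pullback_lift {V Z X : Scheme.{u}} [IsAffine X] (i : Z ⟶ X) [IsClosedImmersion i]
    (φ : V ⟶ Z) [Etale φ] [IsAffine V] :
    ∃ (U : Scheme.{u}) (g : U ⟶ X) (j : V ⟶ U), Etale g ∧ IsSeparated g ∧ IsPullback j φ g i := by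
  obtain ⟨hZaff, hsurj⟩ := IsClosedImmersion.isAffine_surjective_of_isAffine i
  haveI := hZaff
  have hφ : φ.appTop.hom.Etale :=
    (HasRingHomProperty.iff_of_isAffine (P := @Etale)).mp inferInstance
  obtain ⟨S, a, ψ, ha, hpo⟩ := exists_etale_pushout' i.appTop hsurj φ.appTop hφ
  have hpb := (isPullback_SpecMap_of_isPushout _ _ _ _ hpo).flip
  haveI : Etale (Spec.map a) := (HasRingHomProperty.Spec_iff (P := @Etale)).mpr ha
  refine ⟨Spec S, Spec.map a ≫ X.isoSpec.inv, V.isoSpec.hom ≫ Spec.map ψ, inferInstance,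
    inferInstance, ?_⟩
  refine IsPullback.of_iso hpb V.isoSpec.symm (Iso.refl _) Z.isoSpec.symm X.isoSpec.symm
    ?_ ?_ ?_ ?_
  · simp
  · exact Scheme.isoSpec_inv_naturality φ
  · simp
  · exact Scheme.isoSpec_inv_naturality i

section Sigma

variable {ι : Type u} (f : ι → Scheme.{u}) {V : Scheme.{u}} (e : (∐ f) ≅ V)

lemma sigma_iso_cover (v : V) : ∃ (k : ι) (y : f k), (Sigma.ι f k ≫ e.hom).base y = v := by
  obtain ⟨k, y, hy'⟩ : ∃ (k : ι) (y : f k), (Sigma.ι f k).base y = e.inv.base v :=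
    (sigmaOpenCover f).exists_eq (e.inv.base v)
  refine ⟨k, y, ?_⟩
  rw [Scheme.Hom.comp_apply, hy', ← Scheme.Hom.comp_apply, e.inv_hom_id]
  rfl

lemma sigma_iso_inj {k k' : ι} (y : f k) (y' : f k')
    (h : (Sigma.ι f k ≫ e.hom).base y = (Sigma.ι f k' ≫ e.hom).base y') : k = k' := by
  have h2 : (Sigma.ι f k).base y = (Sigma.ι f k').base y' := by
    have h3 := congrArg e.inv.base h
    rw [← Scheme.Hom.comp_apply, ← Scheme.Hom.comp_apply, Category.assoc, Category.assoc,
      e.hom_inv_id, Category.comp_id, Category.comp_id] at h3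
    exact h3
  exact congrArg Sigma.fst ((sigmaι_eq_iff f k k' y y').1 h2)

end Sigma

/-- Stacks 09Z9, first part. -/
theorem main {V Z X : Scheme.{u}} [IsAffine X] [IsIntegral X]
    (hN : ∀ x : X, IsIntegrallyClosed (X.presheaf.stalk x)) [IsSepClosed X.functionField]
    (i : Z ⟶ X) [IsClosedImmersion i] (φ : V ⟶ Z) [Etale φ] [IsAffine V] :
    ∃ (ι : Type u) (_ : Finite ι) (W : ι → Z.Opens) (e : (∐ fun k => (W k : Scheme.{u})) ≅ V),
      ∀ k, Sigma.ι (fun k => (W k : Scheme.{u})) k ≫ e.hom ≫ φ = (W k).ι := by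
  classical
  obtain ⟨U, g, j, hg1, hg2, hpb⟩ := exists_pullback_lift i φ
  obtain ⟨ι₀, Vop, e₀, he₀⟩ := Groth.Agent.Lib.Helper8.EtSepNormal.exists_sigma_opens hN g
  obtain ⟨β, hβ⟩ : ∃ β : ∀ k : ι₀, (Vop k : Scheme.{u}) ⟶ U,
      ∀ k, β k = Sigma.ι (fun k => (Vop k : Scheme.{u})) k ≫ e₀.hom := ⟨_, fun _ => rfl⟩
  have hβoi : ∀ k, IsOpenImmersion (β k) := fun k => by rw [hβ]; infer_instance
  have hβg : ∀ k, β k ≫ g = (Vop k).ι := fun k => by rw [hβ, Category.assoc, he₀]
  have hβcov : ∀ u : U, ∃ (k : ι₀) (y : (Vop k : Scheme.{u})), (β k).base y = u := by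
    intro u
    obtain ⟨k, y, hy⟩ := sigma_iso_cover (fun k => (Vop k : Scheme.{u})) e₀ u
    exact ⟨k, y, by rw [hβ]; exact hy⟩
  have hβinj : ∀ (k k' : ι₀) (y : (Vop k : Scheme.{u})) (y' : (Vop k' : Scheme.{u})),
      (β k).base y = (β k').base y' → k = k' := by
    intro k k' y y' h
    rw [hβ, hβ] at h
    exact sigma_iso_inj (fun k => (Vop k : Scheme.{u})) e₀ y y' h
  have hcomm : ∀ k, ((i ∣_ Vop k) ≫ β k) ≫ g = (i ⁻¹ᵁ Vop k).ι ≫ i := fun k => by
    rw [Category.assoc, hβg, morphismRestrict_ι]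
  obtain ⟨α, hα1, hα2⟩ : ∃ α : ∀ k : ι₀, ((i ⁻¹ᵁ Vop k : Z.Opens) : Scheme.{u}) ⟶ V,
      (∀ k, α k ≫ j = (i ∣_ Vop k) ≫ β k) ∧ (∀ k, α k ≫ φ = (i ⁻¹ᵁ Vop k).ι) :=
    ⟨fun k => hpb.lift ((i ∣_ Vop k) ≫ β k) (i ⁻¹ᵁ Vop k).ι (hcomm k),
      fun k => hpb.lift_fst _ _ _, fun k => hpb.lift_snd _ _ _⟩
  have hsq : ∀ k, IsPullback (α k) (i ∣_ Vop k) j (β k) := fun k => by
    refine IsPullback.of_right ?_ (hα1 k) hpb.flip
    rw [hα2, hβg]
    exact (isPullback_morphismRestrict i (Vop k)).flip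
  have hoi : ∀ k, IsOpenImmersion (α k) := fun k =>
    MorphismProperty.of_isPullback (P := @IsOpenImmersion) (hsq k).flip (hβoi k)
  have hrange : ∀ k (v : V), v ∈ Set.range (α k).base ↔ j.base v ∈ Set.range (β k).base := by
    intro k v
    constructor
    · rintro ⟨w, rfl⟩
      refine ⟨(i ∣_ Vop k).base w, ?_⟩
      rw [← Scheme.Hom.comp_apply, ← hα1, Scheme.Hom.comp_apply]
    · rintro ⟨y, hy⟩
      obtain ⟨p, hp1, -⟩ := Scheme.exists_preimage_of_isPullback (hsq k) v y hy.symm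
      exact ⟨p, hp1⟩
  have hdisj : ∀ (k k' : ι₀) (v : V), v ∈ Set.range (α k).base → v ∈ Set.range (α k').base →
      k = k' := by
    intro k k' v hv hv'
    obtain ⟨y, hy⟩ := (hrange k v).1 hv
    obtain ⟨y', hy'⟩ := (hrange k' v).1 hv'
    exact hβinj k k' y y' (hy.trans hy'.symm)
  have hcov : ∀ v : V, ∃ k, v ∈ Set.range (α k).base := by
    intro v
    obtain ⟨k, y, hy⟩ := hβcov (j.base v)
    exact ⟨k, (hrange k v).2 ⟨y, hy⟩⟩
  -- the finite index type
  obtain ⟨ι, hι⟩ : ∃ ι : Type u, ι = {k : ι₀ // (Set.range (α k).base).Nonempty} := ⟨_, rfl⟩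
  subst hι
  have hfin : Finite {k : ι₀ // (Set.range (α k).base).Nonempty} := by
    have hcpt : IsCompact (Set.univ : Set V) := isCompact_univ
    have hopen : ∀ k : {k : ι₀ // (Set.range (α k).base).Nonempty},
        IsOpen (Set.range (α k.1).base) := fun k =>
      haveI := hoi k.1
      (α k.1).isOpenEmbedding.isOpen_range
    have hcover : (Set.univ : Set V) ⊆
        ⋃ k : {k : ι₀ // (Set.range (α k).base).Nonempty}, Set.range (α k.1).base := by
      intro v _
      obtain ⟨k, hv⟩ := hcov v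
      exact Set.mem_iUnion.2 ⟨⟨k, ⟨v, hv⟩⟩, hv⟩
    obtain ⟨t, ht⟩ := hcpt.elim_finite_subcover _ hopen hcover
    have hall : (Set.univ : Set {k : ι₀ // (Set.range (α k).base).Nonempty}) ⊆ (t : Set _) := by
      intro k _
      obtain ⟨v, hv⟩ := k.2
      obtain ⟨k', hk't, hv'⟩ : ∃ k' ∈ t, v ∈ Set.range (α k'.1).base := by
        simpa only [Set.mem_iUnion, exists_prop] using ht (Set.mem_univ v)
      have hkk' : k = k' := Subtype.ext (hdisj k.1 k'.1 v hv hv')
      rw [hkk']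
      exact hk't
    exact Set.finite_univ_iff.mp (t.finite_toSet.subset hall)
  haveI hoi' : ∀ k : {k : ι₀ // (Set.range (α k).base).Nonempty}, IsOpenImmersion (α k.1) :=
    fun k => hoi k.1
  have hcol := nonempty_isColimit_cofanMk_of
    (f := fun k : {k : ι₀ // (Set.range (α k).base).Nonempty} => α k.1)
    (by
      rw [eq_top_iff]
      intro v _
      obtain ⟨k, hv⟩ := hcov v
      exact TopologicalSpace.Opens.mem_iSup.2 ⟨⟨k, ⟨v, hv⟩⟩, hv⟩)
    (by
      intro k k' hne
      rw [Function.onFun, ← TopologicalSpace.Opens.coe_disjoint, Set.disjoint_left]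
      intro v hv hv'
      exact hne (Subtype.ext (hdisj k.1 k'.1 v hv hv')))
  have hiso : IsIso (Sigma.desc fun k : {k : ι₀ // (Set.range (α k).base).Nonempty} => α k.1) := by
    have := (Cofan.nonempty_isColimit_iff_isIso_sigmaDesc
      (Cofan.mk V fun k : {k : ι₀ // (Set.range (α k).base).Nonempty} => α k.1)).1 hcol
    simpa using this
  refine ⟨_, hfin, fun k => i ⁻¹ᵁ Vop k.1,
    asIso (Sigma.desc fun k : {k : ι₀ // (Set.range (α k).base).Nonempty} => α k.1),
    fun k => ?_⟩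
  rw [asIso_hom, Sigma.ι_desc_assoc]
  exact hα2 k.1

end Groth.Agent.Lib.Helper15.EtClosedSplit
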