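import Mathlib
import Groth.Agent.Lib.Helper15.EtClosedSplit

/-!
# Sections of finite étale covers of closed subschemes of a normal affine scheme with separably
closed function field (helper15) — Stacks 09Z9, second part.
-/

set_option autoImplicit false
universe u
open CategoryTheory CategoryTheory.Limits AlgebraicGeometry

namespace Groth.Agent.Lib.Helper15.EtClosedSplit

theorem exists_section {V Z X : Scheme.{u}} [IsAffine X] [IsIntegral X]
    (hN : ∀ x : X, IsIntegrallyClosed (X.presheaf.stalk x)) [IsSepClosed X.functionField]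
    (i : Z ⟶ X) [IsClosedImmersion i] (φ : V ⟶ Z) [Etale φ] [IsFinite φ] [Surjective φ] :
    ∃ s : Z ⟶ V, s ≫ φ = 𝟙 Z := by
  classical
  haveI : IsAffine Z := (IsClosedImmersion.isAffine_surjective_of_isAffine i).1
  haveI : IsAffine V := isAffine_of_isAffineHom φ
  obtain ⟨ι, hι, W, e, he⟩ := main hN i φ
  obtain ⟨α, hα⟩ : ∃ α : ∀ k : ι, (W k : Scheme.{u}) ⟶ V,
      ∀ k, α k = Sigma.ι (fun k => (W k : Scheme.{u})) k ≫ e.hom := ⟨_, fun _ => rfl⟩
  have hαφ : ∀ k, α k ≫ φ = (W k).ι := fun k => by rw [hα, Category.assoc, he]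
  have hαoi : ∀ k, IsOpenImmersion (α k) := fun k => by rw [hα]; infer_instance
  have hαcov : ∀ v : V, ∃ (k : ι) (y : (W k : Scheme.{u})), (α k).base y = v := by
    intro v
    obtain ⟨k, y, hy⟩ := sigma_iso_cover (fun k => (W k : Scheme.{u})) e v
    exact ⟨k, y, by rw [hα]; exact hy⟩
  have hαinj : ∀ (k k' : ι) (y : (W k : Scheme.{u})) (y' : (W k' : Scheme.{u})),
      (α k).base y = (α k').base y' → k = k' := by
    intro k k' y y' h
    rw [hα, hα] at h
    exact sigma_iso_inj (fun k => (W k : Scheme.{u})) e y y' h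
  -- each `W k` is closed
  have hWcl : ∀ k, IsClosed ((W k : Z.Opens) : Set Z) := by
    intro k
    have hAcl : IsClosed (Set.range (α k).base) := by
      rw [← isOpen_compl_iff]
      have hc : (Set.range (α k).base)ᶜ = ⋃ k' ∈ {k' : ι | k' ≠ k}, Set.range (α k').base := by
        ext v
        simp only [Set.mem_compl_iff, Set.mem_iUnion, Set.mem_setOf_eq, exists_prop]
        constructor
        · intro hv
          obtain ⟨k', y, hy⟩ := hαcov v
          refine ⟨k', ?_, y, hy⟩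
          rintro rfl
          exact hv ⟨y, hy⟩
        · rintro ⟨k', hk', y', hy'⟩ ⟨y, hy⟩
          exact hk' (hαinj k' k y' y (hy'.trans hy.symm))
      rw [hc]
      exact isOpen_biUnion fun k' _ =>
        haveI := hαoi k'
        (α k').isOpenEmbedding.isOpen_range
    have himg : φ.base '' Set.range (α k).base = ((W k : Z.Opens) : Set Z) := by
      rw [← Set.range_comp]
      have h1 : (φ.base ∘ (α k).base) = ((W k).ι.base : _ → _) := by
        funext y
        rw [Function.comp_apply, ← Scheme.Hom.comp_apply, hαφ]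
      rw [h1]
      exact Scheme.Opens.range_ι (W k)
    rw [← himg]
    exact φ.isClosedMap _ hAcl
  have hWcov : ∀ z : Z, ∃ k, z ∈ ((W k : Z.Opens) : Set Z) := by
    intro z
    obtain ⟨v, rfl⟩ := φ.surjective z
    obtain ⟨k, y, rfl⟩ := hαcov v
    refine ⟨k, ?_⟩
    rw [← Scheme.Opens.range_ι (W k), ← hαφ k]
    exact ⟨y, Scheme.Hom.comp_apply _ _ _⟩
  obtain ⟨r, hr⟩ := exists_injective_nat ι
  -- disjointification
  obtain ⟨Zk, hZk⟩ : ∃ Zk : ι → Z.Opens, ∀ k, ((Zk k : Z.Opens) : Set Z) =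
      ((W k : Z.Opens) : Set Z) \ ⋃ k' ∈ {k' : ι | r k' < r k}, ((W k' : Z.Opens) : Set Z) :=
    ⟨fun k => ⟨((W k : Z.Opens) : Set Z) \ ⋃ k' ∈ {k' : ι | r k' < r k}, ((W k' : Z.Opens) : Set Z),
      (W k).isOpen.sdiff (Set.Finite.isClosed_biUnion (Set.toFinite _) fun k' _ => hWcl k')⟩,
      fun _ => rfl⟩
  have hmem : ∀ k (z : Z), z ∈ Zk k ↔ z ∈ W k ∧ ∀ k', r k' < r k → z ∉ W k' := by
    intro k z
    have h0 : z ∈ Zk k ↔ z ∈ ((Zk k : Z.Opens) : Set Z) := Iff.rfl
    rw [h0, hZk]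
    simp only [Set.mem_diff, Set.mem_iUnion, Set.mem_setOf_eq, exists_prop, not_exists, not_and,
      SetLike.mem_coe]
  have hle : ∀ k, Zk k ≤ W k := fun k z hz => ((hmem k z).1 hz).1
  have hZcov : ∀ z : Z, ∃ k, z ∈ Zk k := by
    intro z
    obtain ⟨k₀, hk₀⟩ := hWcov z
    obtain ⟨a, ha, hmin⟩ := Set.exists_min_image {k : ι | z ∈ W k} r (Set.toFinite _) ⟨k₀, hk₀⟩
    refine ⟨a, (hmem a z).2 ⟨ha, fun k' hk' hz => ?_⟩⟩
    exact absurd (hmin k' hz) (not_le.2 hk')
  have hZdisj : ∀ (k k' : ι) (z : Z), z ∈ Zk k → z ∈ Zk k' → k = k' := by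
    intro k k' z hz hz'
    by_contra hne
    have hrne : r k ≠ r k' := fun h => hne (hr h)
    rcases lt_or_gt_of_ne hrne with h | h
    · exact ((hmem k' z).1 hz').2 k h ((hmem k z).1 hz).1
    · exact ((hmem k z).1 hz).2 k' h ((hmem k' z).1 hz').1
  obtain ⟨hcol⟩ := nonempty_isColimit_cofanMk_of (f := fun k : ι => (Zk k).ι)
    (by
      rw [eq_top_iff]
      intro z _
      obtain ⟨k, hz⟩ := hZcov z
      refine TopologicalSpace.Opens.mem_iSup.2 ⟨k, ?_⟩
      rw [Scheme.Opens.opensRange_ι]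
      exact hz)
    (by
      intro k k' hne
      rw [Function.onFun, Scheme.Opens.opensRange_ι, Scheme.Opens.opensRange_ι,
        ← TopologicalSpace.Opens.coe_disjoint, Set.disjoint_left]
      intro z hz hz'
      exact hne (hZdisj k k' z hz hz'))
  refine ⟨Cofan.IsColimit.desc hcol (fun k => Z.homOfLE (hle k) ≫ α k), ?_⟩
  refine Cofan.IsColimit.hom_ext hcol _ _ fun k => ?_
  rw [Cofan.IsColimit.fac_assoc, Category.assoc, hαφ, Scheme.homOfLE_ι]
  exact (Category.comp_id _).symm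

end Groth.Agent.Lib.Helper15.EtClosedSplit
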