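import Groth.Agent.Lib.Helper2.EtMV.Etale
import Groth.Agent.Lib.Helper2.EtMV.MVAlg
import Groth.Agent.Lib.Helper15.HpullTrans

/-!
# Helper15: restriction maps between opens and a relative Mayer–Vietoris injectivity

For opens `U' ≤ U` of a scheme `X` and an abelian sheaf `F` on `X_et`, `rho F q h` is the
restriction `H^q(U, F|_U) ⟶ H^q(U', F|_{U'})` (in the `HpullVia` form).  We prove
* `rho_refl`, `rho_trans`: functoriality;
* `subsingleton_H_of_isEmpty`: cohomology of the empty scheme vanishes;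
* `Hpull_injective_of_forall_mem`: `H^q(X, F) ⟶ H^q(U, F|_U)` is injective when `U` is everything;
* `rel_mv_inj`: for `W = U ∪ V`, if `H^n(U ∩ V) = 0` then `H^{n+1}(W) ⟶ H^{n+1}(U) × H^{n+1}(V)` is
  injective.
-/

set_option autoImplicit false
set_option backward.isDefEq.respectTransparency false
universe u
open CategoryTheory CategoryTheory.Limits AlgebraicGeometry Opposite EtCore

namespace Groth.Agent.Lib.Helper15.GabberMV

open Groth.Agent.Lib.Helper2.EtMV Groth.Agent.Lib.Helper13.StalkConservative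
  Groth.Agent.Lib.Helper13.StalkPull

attribute [local instance] Groth.Agent.Lib.Helper2.EtMV.pull_preservesFiniteLimits

section BMap

variable {W U X : Scheme.{u}} (f : W ⟶ U) (t : U ⟶ X) (f₀ : W ⟶ X) (w : f ≫ t = f₀)
  [IsOpenImmersion t] [IsOpenImmersion f₀]

include w in
lemma isIso_pull_aMap_via : IsIso ((EtCoh.pull f₀).map (aMap t)) := by
  refine (NatIso.isIso_map_iff (κIso f t f₀ w) (aMap t)).1 ?_
  show IsIso ((EtCoh.pull f).map ((EtCoh.pull t).map (aMap t)))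
  infer_instance

include w in
/-- Maps `(f₀)_! ℤ ⟶ t_! ℤ` are determined by their composite with the augmentation. -/
lemma hom_ext_aMap
    {a b : (EtShriek.extZero f₀).obj (EtCoh.const W ℤ) ⟶ (EtShriek.extZero t).obj (EtCoh.const U ℤ)}
    (h : a ≫ aMap t = b ≫ aMap t) : a = b := by
  haveI := isIso_pull_aMap_via f t f₀ w
  apply ((adjJ f₀).homEquiv _ _).injective
  rw [Adjunction.homEquiv_unit, Adjunction.homEquiv_unit,
    ← cancel_mono ((EtCoh.pull f₀).map (aMap t)), Category.assoc, Category.assoc,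
    ← Functor.map_comp, ← Functor.map_comp, h]

end BMap

lemma bMap_eq_id {U X : Scheme.{u}} (f : U ⟶ U) (t : U ⟶ X) [IsOpenImmersion t] (w : f ≫ t = t) :
    bMap f t t w = 𝟙 _ :=
  hom_ext_aMap f t t w (by rw [bMap_aMap, Category.id_comp])

section Rho

variable {X : Scheme.{u}} (F : EtCoh.Ab X) (q : ℕ)

lemma bMap_homOfLE_comp {U'' U' U : X.Opens} (h' : U'' ≤ U') (h : U' ≤ U) :
    bMap (X.homOfLE h') U'.ι U''.ι (X.homOfLE_ι h') ≫ bMap (X.homOfLE h) U.ι U'.ι (X.homOfLE_ι h) =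
      bMap (X.homOfLE (h'.trans h)) U.ι U''.ι (X.homOfLE_ι (h'.trans h)) :=
  hom_ext_aMap (X.homOfLE (h'.trans h)) U.ι U''.ι (X.homOfLE_ι _)
    (by rw [Category.assoc, bMap_aMap, bMap_aMap, bMap_aMap])

/-- The restriction `H^q(U, F|_U) ⟶ H^q(U', F|_{U'})` for opens `U' ≤ U`. -/
noncomputable def rho {U' U : X.Opens} (h : U' ≤ U) :
    EtCoh.H (U : Scheme.{u}) ((EtCoh.pull U.ι).obj F) q →+
      EtCoh.H (U' : Scheme.{u}) ((EtCoh.pull U'.ι).obj F) q :=
  HpullVia (X.homOfLE h) U.ι U'.ι (X.homOfLE_ι h) F q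

lemma rho_apply {U' U : X.Opens} (h : U' ≤ U)
    (ξ : EtCoh.H (U : Scheme.{u}) ((EtCoh.pull U.ι).obj F) q) :
    rho F q h ξ = HpullVia (X.homOfLE h) U.ι U'.ι (X.homOfLE_ι h) F q ξ := rfl

lemma rho_Θ {U' U : X.Opens} (h : U' ≤ U)
    (x : Abelian.Ext.{u + 1} ((EtShriek.extZero U.ι).obj (EtCoh.const (U : Scheme.{u}) ℤ)) F q) :
    rho F q h (Θ U.ι F q x) = Θ U'.ι F q
      ((Abelian.Ext.mk₀ (bMap (X.homOfLE h) U.ι U'.ι (X.homOfLE_ι h))).comp x (zero_add q)) :=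
  HpullVia_eq (X.homOfLE h) U.ι U'.ι (X.homOfLE_ι h) F q x

lemma rho_refl {U : X.Opens} (h : U ≤ U)
    (ξ : EtCoh.H (U : Scheme.{u}) ((EtCoh.pull U.ι).obj F) q) : rho F q h ξ = ξ := by
  obtain ⟨x, rfl⟩ := (Θ U.ι F q).surjective ξ
  rw [rho_Θ, bMap_eq_id, Abelian.Ext.mk₀_id_comp]

lemma rho_trans {U'' U' U : X.Opens} (h' : U'' ≤ U') (h : U' ≤ U)
    (ξ : EtCoh.H (U : Scheme.{u}) ((EtCoh.pull U.ι).obj F) q) :
    rho F q h' (rho F q h ξ) = rho F q (h'.trans h) ξ := by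
  obtain ⟨x, rfl⟩ := (Θ U.ι F q).surjective ξ
  rw [rho_Θ F q h, rho_Θ F q h', rho_Θ F q (h'.trans h), Abelian.Ext.mk₀_comp_mk₀_assoc,
    bMap_homOfLE_comp]

lemma rho_eq_zero_of_Hpull {U' U : X.Opens} (h : U' ≤ U)
    (ξ : EtCoh.H (U : Scheme.{u}) ((EtCoh.pull U.ι).obj F) q)
    (h0 : Hpull (X.homOfLE h) ((EtCoh.pull U.ι).obj F) q ξ = 0) : rho F q h ξ = 0 :=
  (HpullTrans.HpullVia_apply (X.homOfLE h) U.ι U'.ι (X.homOfLE_ι h) F q ξ).trans
    (by rw [h0, Abelian.Ext.zero_comp])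

end Rho

section Empty

lemma isZero_of_isEmpty (Y : Scheme.{u}) [IsEmpty Y] (G : EtCoh.Ab Y) : IsZero G :=
  (isZero_iff_stalks G).2 (fun i => isEmptyElim (i.ξ default))

lemma subsingleton_H_of_isEmpty (Y : Scheme.{u}) [IsEmpty Y] (G : EtCoh.Ab Y) (q : ℕ) :
    Subsingleton (EtCoh.H Y G q) := by
  have hz := isZero_of_isEmpty Y G
  have h0 : ∀ e : Abelian.Ext.{u + 1} (EtCoh.const Y ℤ) G q, e = 0 := by
    intro e
    calc e = Abelian.Ext.comp e (Abelian.Ext.mk₀ (𝟙 G)) (add_zero q) :=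
          (Abelian.Ext.comp_mk₀_id e).symm
      _ = 0 := by rw [hz.eq_of_src (𝟙 G) 0, Abelian.Ext.mk₀_zero, Abelian.Ext.comp_zero]
  exact ⟨fun a b => (h0 a).trans (h0 b).symm⟩

end Empty

section Top

variable {X : Scheme.{u}}

lemma isIso_aMap_of_forall_mem (U : X.Opens) (hU : ∀ x : X, x ∈ U) : IsIso (aMap U.ι) := by
  rw [isIso_iff_stalks]
  intro i
  obtain ⟨v, hv⟩ := exists_lift_of_mem U i.ξ (hU _)
  exact isIso_stalk_of_isIso_pull U.ι v i.ξ hv (aMap U.ι)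

lemma Hpull_injective_of_forall_mem (U : X.Opens) (hU : ∀ x : X, x ∈ U) (F : EtCoh.Ab X) (q : ℕ) :
    Function.Injective (Hpull U.ι F q) := by
  haveI := isIso_aMap_of_forall_mem U hU
  rw [injective_iff_map_eq_zero]
  intro e he
  rw [Hpull_eq, AddEquiv.map_eq_zero_iff] at he
  have h2 : (Abelian.Ext.mk₀ (inv (aMap U.ι))).comp
      ((Abelian.Ext.mk₀ (aMap U.ι)).comp e (zero_add q)) (zero_add q) = e := by
    rw [Abelian.Ext.mk₀_comp_mk₀_assoc, IsIso.inv_hom_id, Abelian.Ext.mk₀_id_comp]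
  rw [← h2, he, Abelian.Ext.comp_zero]

end Top

section MV

variable {X : Scheme.{u}}

/-- Relative Mayer–Vietoris injectivity. -/
theorem rel_mv_inj (F : EtCoh.Ab X) (U V W : X.Opens) (hU : U ≤ W) (hV : V ≤ W)
    (hcov : W ≤ U ⊔ V) (n : ℕ)
    (hsub : Subsingleton (EtCoh.H ((U ⊓ V : X.Opens) : Scheme.{u})
      ((EtCoh.pull (U ⊓ V).ι).obj F) n))
    (ξ : EtCoh.H (W : Scheme.{u}) ((EtCoh.pull W.ι).obj F) (n + 1))
    (h1 : rho F (n + 1) hU ξ = 0) (h2 : rho F (n + 1) hV ξ = 0) : ξ = 0 := by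
  classical
  have hIU : U ⊓ V ≤ U := inf_le_left
  have hIV : U ⊓ V ≤ V := inf_le_right
  have sq : CommSq (bMap (X.homOfLE hIU) U.ι (U ⊓ V).ι (X.homOfLE_ι hIU))
      (bMap (X.homOfLE hIV) V.ι (U ⊓ V).ι (X.homOfLE_ι hIV))
      (bMap (X.homOfLE hU) W.ι U.ι (X.homOfLE_ι hU))
      (bMap (X.homOfLE hV) W.ι V.ι (X.homOfLE_ι hV)) :=
    ⟨(bMap_homOfLE_comp hIU hU).trans (bMap_homOfLE_comp hIV hV).symm⟩
  have hbi := bicartesian_of_jointly (stalk_jointlyReflectIsomorphisms X) sq (by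
    intro i
    by_cases hxU : i.ξ default ∈ U
    · obtain ⟨vU, hvU⟩ := exists_lift_of_mem U i.ξ hxU
      by_cases hxV : i.ξ default ∈ V
      · obtain ⟨vW, hvW⟩ := exists_lift_of_mem (U ⊓ V) i.ξ ⟨hxU, hxV⟩
        obtain ⟨vV, hvV⟩ := exists_lift_of_mem V i.ξ hxV
        left
        exact ⟨isIso_stalk_of_isIso_pull (U ⊓ V).ι vW i.ξ hvW _,
          isIso_stalk_of_isIso_pull V.ι vV i.ξ hvV _⟩
      · right
        refine ⟨IsZero.isIso ?_ ?_ _, isIso_stalk_of_isIso_pull U.ι vU i.ξ hvU _⟩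
        · exact isZero_stalk_extZero (U ⊓ V).ι i.ξ
            (isEmpty_lift_of_not_mem (U ⊓ V) i.ξ (fun h => hxV h.2)) _
        · exact isZero_stalk_extZero V.ι i.ξ (isEmpty_lift_of_not_mem V i.ξ hxV) _
    · left
      refine ⟨IsZero.isIso ?_ ?_ _, ?_⟩
      · exact isZero_stalk_extZero (U ⊓ V).ι i.ξ
          (isEmpty_lift_of_not_mem (U ⊓ V) i.ξ (fun h => hxU h.1)) _
      · exact isZero_stalk_extZero U.ι i.ξ (isEmpty_lift_of_not_mem U i.ξ hxU) _
      · by_cases hxV : i.ξ default ∈ V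
        · obtain ⟨vV, hvV⟩ := exists_lift_of_mem V i.ξ hxV
          exact isIso_stalk_of_isIso_pull V.ι vV i.ξ hvV _
        · have hxW : i.ξ default ∉ W := fun h => by
            rcases hcov h with h' | h'
            · exact hxU h'
            · exact hxV h'
          refine IsZero.isIso ?_ ?_ _
          · exact isZero_stalk_extZero V.ι i.ξ (isEmpty_lift_of_not_mem V i.ξ hxV) _
          · exact isZero_stalk_extZero W.ι i.ξ (isEmpty_lift_of_not_mem W i.ξ hxW) _)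
  have hS := shortExact_of_isPushout_isPullback hbi.1 hbi.2
  obtain ⟨e, rfl⟩ := (Θ W.ι F (n + 1)).surjective ξ
  obtain ⟨δ, -, hδ, -, -⟩ := mv_abstract (mvZero sq) hS F (fun m => Θ U.ι F m)
    (fun m => Θ V.ι F m) (fun m => Θ (U ⊓ V).ι F m)
    (fun m => (rho F m hU).comp (Θ W.ι F m).toAddMonoidHom)
    (fun m => (rho F m hV).comp (Θ W.ι F m).toAddMonoidHom)
    (fun m => rho F m hIU) (fun m => rho F m hIV)
    (fun m e => rho_Θ F m hU e) (fun m e => rho_Θ F m hV e)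
    (fun m x => rho_Θ F m hIU x) (fun m x => rho_Θ F m hIV x)
  have hmem : e ∈ (δ n).range := by
    rw [← hδ n]
    exact AddMonoidHom.mem_ker.2 (Prod.ext h1 h2)
  obtain ⟨y, hy⟩ := hmem
  rw [← hy, Subsingleton.elim y 0, map_zero, map_zero]

end MV

end Groth.Agent.Lib.Helper15.GabberMV
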