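import Groth.Agent.Lib.Helper15.TransferField

/-!
# Helper15: cohomology classes of positive degree die etale-locally (in the `Hpull` formulation);
over a field, on a finite separable extension
-/

set_option autoImplicit false
set_option backward.isDefEq.respectTransparency false
universe u
open CategoryTheory CategoryTheory.Limits AlgebraicGeometry Opposite

namespace Groth.Agent.Lib.Helper15.TransferEfface

open EtCore Groth.Agent.Lib.Helper15.TransferExt Groth.Agent.Lib.Helper13.ExtZeroExact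
  Groth.Agent.Lib.Helper13.EtaleRestr Groth.Agent.Lib.Helper15.TransferTrace

section EFact

variable {V X : Scheme.{u}} (v : V ⟶ X)

lemma step1 (M : AddCommGrpCat.{u+1}) :
    (constAdj V).homEquiv _ _ ((pullConstIso v).inv.app M) =
      (constAdj X).unit.app M ≫ (gsec X).map ((EtCoh.pullPushAdj v).unit.app _) ≫
        (pushGsecIso v).hom.app _ := by
  unfold pullConstIso
  rw [Adjunction.leftAdjointUniq_inv_app, Adjunction.homEquiv_leftAdjointUniq_hom_app]
  simp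
  rfl

variable [Etale v]

lemma step2 (B : EtCoh.Ab X) (W : X.Etale) (s : B.obj.obj (op W)) :
    ((restrPushAdj v).unit.app B).hom.app (op W) s =
      B.obj.map ((adjSites v).counit.app W).op s := by
  unfold restrPushAdj
  simp
  rfl

lemma step3 (B : EtCoh.Ab X) :
    (EtCoh.pullPushAdj v).unit.app B ≫ (EtCoh.push v).map ((pullIsoRestr v).hom.app B) =
      (restrPushAdj v).unit.app B := by
  unfold pullIsoRestr
  exact Adjunction.unit_leftAdjointUniq_hom_app _ _ _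

lemma ev_id_comp {Y : Scheme.{u}} {B : EtCoh.Ab Y} (φ : EtCoh.const Y ℤ ⟶ B) :
    φ.hom.app (op (EtCoh.top Y)) (ev (EtCoh.const Y ℤ) (𝟙 _)) = ev B φ := by
  rw [← ev_naturality, Category.id_comp]

lemma ev_eq {Y : Scheme.{u}} (B : EtCoh.Ab Y) (φ : EtCoh.const Y ℤ ⟶ B) :
    ev B φ = ((constAdj Y).homEquiv _ _ φ) (ULift.up 1) := rfl

/-- The adjunct of the augmentation. -/
lemma theta_eq :
    (EtShriek.extZeroAdj v).homEquiv _ _ (aMapE v) =
      (pullConst v ℤ).inv ≫ (pullIsoRestr v).hom.app (EtCoh.const X ℤ) := by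
  have h := homEquiv_aMapE v
  unfold adjE at h
  rw [Adjunction.homEquiv_ofNatIsoRight_apply] at h
  rw [← h, Category.assoc, Iso.symm_hom, Iso.inv_hom_id_app, Category.comp_id]

/-- **E-fact**: under `Hom(v_! ℤ, B) = B(V)`, the augmentation corresponds to the section `1`. -/
theorem efact (p : P₀ v ⟶ EtCoh.top X) :
    ((EtShriek.extZeroAdj v).homEquiv _ _ (aMapE v)).hom.app (op (EtCoh.top V))
        (ev (EtCoh.const V ℤ) (𝟙 _)) =
      (EtCoh.const X ℤ).obj.map p.op (ev (EtCoh.const X ℤ) (𝟙 _)) := by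
  rw [ev_id_comp, theta_eq, ev_naturality, ev_eq]
  have h1 := step1 v (AddCommGrpCat.of (ULift.{u + 1} ℤ))
  have h1' : ((constAdj V).homEquiv _ _ (pullConst v ℤ).inv) (ULift.up 1) =
      ((EtCoh.pull v).obj (EtCoh.const X ℤ)).obj.map (bcTopIso v).inv.op
        (((EtCoh.pullPushAdj v).unit.app (EtCoh.const X ℤ)).hom.app (op (EtCoh.top X))
          (ev (EtCoh.const X ℤ) (𝟙 _))) := by
    have := congrArg (fun m : AddCommGrpCat.of (ULift.{u + 1} ℤ) ⟶ _ => m (ULift.up 1)) h1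
    exact this
  rw [h1', EtGlue.ab_hom_nat ((pullIsoRestr v).hom.app (EtCoh.const X ℤ)) (bcTopIso v).inv.op]
  have h3 := step3 v (EtCoh.const X ℤ)
  have h3' : ((pullIsoRestr v).hom.app (EtCoh.const X ℤ)).hom.app
      (op ((EtCoh.bc v).obj (EtCoh.top X)))
      (((EtCoh.pullPushAdj v).unit.app (EtCoh.const X ℤ)).hom.app (op (EtCoh.top X))
        (ev (EtCoh.const X ℤ) (𝟙 _))) =
      ((restrPushAdj v).unit.app (EtCoh.const X ℤ)).hom.app (op (EtCoh.top X))
        (ev (EtCoh.const X ℤ) (𝟙 _)) := by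
    rw [← h3]
    rfl
  rw [h3', step2]
  show (EtCoh.const X ℤ).obj.map ((EtShriek.compEtale v).map (bcTopIso v).inv).op _ = _
  refine (EtGlue.ab_map_comp (EtCoh.const X ℤ) ((adjSites v).counit.app (EtCoh.top X)).op
    ((EtShriek.compEtale v).map (bcTopIso v).inv).op _).symm.trans ?_
  have h4 : ((adjSites v).counit.app (EtCoh.top X)).op ≫
      ((EtShriek.compEtale v).map (bcTopIso v).inv).op = p.op := by
    rw [← op_comp]
    congr 1
    exact (EtCore.topIsTerminal X).hom_ext _ _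
  rw [h4]
  rfl

end EFact

section Theta

variable {V X : Scheme.{u}} (v : V ⟶ X) [Etale v]

/-- `Hom(v_! ℤ, B) ≃ B(V)`. -/
noncomputable def Θ (B : EtCoh.Ab X) :
    ((EtShriek.extZero v).obj (EtCoh.const V ℤ) ⟶ B) ≃ B.obj.obj (op (P₀ v)) :=
  ((EtShriek.extZeroAdj v).homEquiv _ B).trans (ev ((EtShriek.restrAlong v).obj B)).toEquiv

lemma Θ_apply (B : EtCoh.Ab X) (φ : (EtShriek.extZero v).obj (EtCoh.const V ℤ) ⟶ B) :
    Θ v B φ = ev ((EtShriek.restrAlong v).obj B) ((EtShriek.extZeroAdj v).homEquiv _ B φ) := rfl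

lemma Θ_naturality {B B' : EtCoh.Ab X}
    (φ : (EtShriek.extZero v).obj (EtCoh.const V ℤ) ⟶ B) (ψ : B ⟶ B') :
    Θ v B' (φ ≫ ψ) = ψ.hom.app (op (P₀ v)) (Θ v B φ) := by
  rw [Θ_apply, Adjunction.homEquiv_naturality_right, ev_naturality]
  rfl

lemma Θ_aMapE (p : P₀ v ⟶ EtCoh.top X) :
    Θ v (EtCoh.const X ℤ) (aMapE v) =
      (EtCoh.const X ℤ).obj.map p.op (ev (EtCoh.const X ℤ) (𝟙 _)) :=
  (ev_id_comp ((EtShriek.extZeroAdj v).homEquiv _ _ (aMapE v))).symm.trans (efact v p)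

lemma Θ_aMapE_comp {Q : EtCoh.Ab X} (q₀ : EtCoh.const X ℤ ⟶ Q) (p : P₀ v ⟶ EtCoh.top X) :
    Θ v Q (aMapE v ≫ q₀) = Q.obj.map p.op (ev Q q₀) := by
  rw [Θ_naturality, Θ_aMapE v p, EtGlue.ab_hom_nat q₀ p.op, ev_id_comp]

lemma exists_lift {J Q : EtCoh.Ab X} (g : J ⟶ Q)
    (ψ : (EtShriek.extZero v).obj (EtCoh.const V ℤ) ⟶ Q) (j : J.obj.obj (op (P₀ v)))
    (hj : g.hom.app (op (P₀ v)) j = Θ v Q ψ) :
    ∃ l : (EtShriek.extZero v).obj (EtCoh.const V ℤ) ⟶ J, l ≫ g = ψ := by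
  refine ⟨(Θ v J).symm j, ?_⟩
  apply (Θ v Q).injective
  rw [Θ_naturality, Equiv.apply_symm_apply, hj]

lemma exists_lift_of_local {J Q : EtCoh.Ab X} (g : J ⟶ Q) (q₀ : EtCoh.const X ℤ ⟶ Q)
    {U : X.Etale} (pU : U ⟶ EtCoh.top X) (j : J.obj.obj (op U))
    (hj : g.hom.app (op U) j = Q.obj.map pU.op (ev Q q₀))
    (h : V ⟶ U.left) (hh : h ≫ U.hom = v) :
    ∃ l : (EtShriek.extZero v).obj (EtCoh.const V ℤ) ⟶ J, l ≫ g = aMapE v ≫ q₀ := by
  obtain ⟨h', -⟩ : ∃ h' : P₀ v ⟶ U, h'.left = h :=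
    ⟨MorphismProperty.Over.homMk h (hh.trans (P₀_hom v).symm) trivial, rfl⟩
  refine exists_lift v g (aMapE v ≫ q₀) (J.obj.map h'.op j) ?_
  rw [Θ_aMapE_comp v q₀ (h' ≫ pU), EtGlue.ab_hom_nat g h'.op j, hj]
  exact (EtGlue.ab_map_comp Q pU.op h'.op _).symm

end Theta

section ExtGen

variable {C : Type*} [Category C] [Abelian C] [HasExt C]

lemma comp_eq_zero_of_lift {A A' : C} {S : ShortComplex C} (hS : S.ShortExact)
    (a : A' ⟶ A) (q₀ : A ⟶ S.X₃) (l : A' ⟶ S.X₂) (hl : l ≫ S.g = a ≫ q₀) :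
    (Abelian.Ext.mk₀ a).comp ((Abelian.Ext.mk₀ q₀).comp hS.extClass (zero_add 1))
      (zero_add 1) = 0 := by
  have h1 := Abelian.Ext.comp_assoc (Abelian.Ext.mk₀ a) (Abelian.Ext.mk₀ q₀) hS.extClass
    (zero_add 0) (zero_add 1) (show 0 + 0 + 1 = 1 by rfl)
  have h2 := Abelian.Ext.comp_assoc (Abelian.Ext.mk₀ l) (Abelian.Ext.mk₀ S.g) hS.extClass
    (zero_add 0) (zero_add 1) (show 0 + 0 + 1 = 1 by rfl)
  refine h1.symm.trans ?_
  rw [Abelian.Ext.mk₀_comp_mk₀, ← hl, ← Abelian.Ext.mk₀_comp_mk₀]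
  refine h2.trans ?_
  rw [hS.comp_extClass, Abelian.Ext.comp_zero]

lemma comp_eq_zero_of_comp_eq_zero {A A' : C} {S : ShortComplex C} (hS : S.ShortExact)
    (a : A' ⟶ A) {i : ℕ} (z : Abelian.Ext A S.X₃ i)
    (hz : (Abelian.Ext.mk₀ a).comp z (zero_add i) = 0) :
    (Abelian.Ext.mk₀ a).comp (z.comp hS.extClass rfl) (zero_add (i + 1)) = 0 := by
  have h1 := Abelian.Ext.comp_assoc (Abelian.Ext.mk₀ a) z hS.extClass
    (zero_add i) rfl (show 0 + i + 1 = i + 1 by omega)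
  refine h1.symm.trans ?_
  rw [hz, Abelian.Ext.zero_comp]

end ExtGen

lemma exists_dimshift {X : Scheme.{u}} (F : EtCoh.Ab X) (i : ℕ)
    (x : Abelian.Ext.{u + 1} (EtCoh.const X ℤ) F (i + 1)) :
    ∃ (J Q : EtCoh.Ab X) (f : F ⟶ J) (g : J ⟶ Q) (w : f ≫ g = 0)
      (hS : (ShortComplex.mk f g w).ShortExact)
      (z : Abelian.Ext.{u + 1} (EtCoh.const X ℤ) Q i), z.comp hS.extClass rfl = x := by
  have hS : (ShortComplex.mk (Injective.ι F) (cokernel.π (Injective.ι F))
      (cokernel.condition _)).ShortExact :=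
    { exact := ShortComplex.exact_cokernel (Injective.ι F)
      mono_f := inferInstanceAs (Mono (Injective.ι F))
      epi_g := inferInstanceAs (Epi (cokernel.π (Injective.ι F))) }
  haveI : Injective (ShortComplex.mk (Injective.ι F) (cokernel.π (Injective.ι F))
      (cokernel.condition _)).X₂ := inferInstanceAs (Injective (Injective.under F))
  obtain ⟨z, hz⟩ := Abelian.Ext.covariant_sequence_exact₁ (EtCoh.const X ℤ) hS x
    (Abelian.Ext.eq_zero_of_injective _) rfl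
  exact ⟨_, _, _, _, _, hS, z, hz⟩

/-- Every cohomology class of positive degree dies etale-locally, in the form: for every point
there is an etale neighbourhood `U` such that for every etale `v : V ⟶ X` factoring through `U`,
the class composed with the augmentation `v_! ℤ ⟶ ℤ` vanishes. -/
theorem exists_nbhd_kill {X : Scheme.{u}} (i : ℕ) :
    ∀ (F : EtCoh.Ab X) (x : EtCoh.H X F (i + 1)) (x₀ : X),
      ∃ (U : X.Etale) (u : U.left), U.hom u = x₀ ∧
        ∀ (V : Scheme.{u}) (v : V ⟶ X) [Etale v] (h : V ⟶ U.left), h ≫ U.hom = v →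
          (Abelian.Ext.mk₀ (aMapE v)).comp x (zero_add (i + 1)) = 0 := by
  induction i with
  | zero =>
    intro F x x₀
    obtain ⟨J, Q, f, g, w, hS, z, hz⟩ := exists_dimshift F 0 x
    obtain ⟨q₀, hq₀⟩ := (Abelian.Ext.mk₀_bijective (EtCoh.const X ℤ) Q).2 z
    haveI hepi : Epi g := hS.epi_g
    haveI hloc : Sheaf.IsLocallySurjective g :=
      (Sheaf.isLocallySurjective_iff_epi' AddCommGrpCat.{u + 1} g).2 hepi
    have hmem := Presheaf.imageSieve_mem X.smallEtaleTopology g.hom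
      (U := op (EtCoh.top X)) (ev Q q₀)
    obtain ⟨U, pU, u, ⟨j, hj⟩, hu⟩ := (EtGlue.mem_iff _ _).1 hmem x₀
    refine ⟨U, u, ?_, fun V v _ h hh => ?_⟩
    · have e : pU.left = U.hom :=
        (Category.comp_id pU.left).symm.trans (MorphismProperty.Over.w pU)
      rw [← e]
      exact hu
    · obtain ⟨l, hl⟩ := exists_lift_of_local v g q₀ pU j hj h hh
      subst hz
      subst hq₀
      exact comp_eq_zero_of_lift hS (aMapE v) q₀ l hl
  | succ i ih =>
    intro F x x₀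
    obtain ⟨J, Q, f, g, w, hS, z, hz⟩ := exists_dimshift F (i + 1) x
    obtain ⟨U, u, hu, hU⟩ := ih Q z x₀
    refine ⟨U, u, hu, fun V v _ h hh => ?_⟩
    subst hz
    exact comp_eq_zero_of_comp_eq_zero hS (aMapE v) z (hU V v h hh)

section FieldPart

/-- A point of an etale `k`-scheme is the image of `Spec K` for a finite separable extension
`K / k`. -/
theorem exists_field_point (k : Type u) [Field k] (U : (Spec (CommRingCat.of k)).Etale)
    (u : U.left) :
    ∃ (K : Type u) (_ : Field K) (_ : Algebra k K) (_ : FiniteDimensional k K)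
      (_ : Algebra.IsSeparable k K) (h : Spec (CommRingCat.of K) ⟶ U.left),
      h ≫ U.hom = Spec.map (CommRingCat.ofHom (algebraMap k K)) := by
  obtain ⟨y, -⟩ := U.left.affineOpenCover.covers u
  obtain ⟨R, fi, hfi, y, -⟩ : ∃ (R : CommRingCat.{u}) (fi : Spec R ⟶ U.left)
      (_ : IsOpenImmersion fi) (_ : Spec R), True :=
    ⟨_, U.left.affineOpenCover.f (U.left.affineOpenCover.idx u), inferInstance, y, trivial⟩
  haveI := hfi
  haveI : Etale U.hom := U.prop
  obtain ⟨ψ, hψ⟩ := Spec.map_surjective (fi ≫ U.hom)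
  have hψe : ψ.hom.Etale := by
    have : Etale (Spec.map ψ) := by rw [hψ]; infer_instance
    exact (HasRingHomProperty.Spec_iff (P := @Etale)).1 this
  letI alg : Algebra k R := ψ.hom.toAlgebra
  haveI het : Algebra.Etale k R := hψe
  obtain ⟨I, hI, Ai, hAf, hAa, e, hA⟩ := (Algebra.Etale.iff_exists_algEquiv_prod k R).1 het
  haveI : Nontrivial R := PrimeSpectrum.nontrivial (show PrimeSpectrum R from y)
  have hne : Nonempty I := by
    by_contra hne
    haveI : IsEmpty I := not_nonempty_iff.1 hne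
    have : Subsingleton R := e.injective.subsingleton
    exact not_subsingleton R this
  obtain ⟨i₀⟩ := hne
  obtain ⟨proj, -⟩ : ∃ proj : R →ₐ[k] Ai i₀, True :=
    ⟨(Pi.evalAlgHom k Ai i₀).comp e.toAlgHom, trivial⟩
  refine ⟨Ai i₀, hAf i₀, hAa i₀, (hA i₀).1, (hA i₀).2,
    Spec.map (CommRingCat.ofHom proj.toRingHom) ≫ fi, ?_⟩
  rw [Category.assoc, ← hψ, ← Spec.map_comp]
  congr 1
  refine CommRingCat.hom_ext (RingHom.ext fun a => ?_)
  show proj (ψ.hom a) = algebraMap k (Ai i₀) a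
  exact proj.commutes a

/-- Over a field, every cohomology class of positive degree is torsion. -/
theorem exists_nsmul_eq_zero (k : Type u) [Field k]
    (F : EtCoh.Ab (Spec (CommRingCat.of k))) (i : ℕ)
    (x : EtCoh.H (Spec (CommRingCat.of k)) F (i + 1)) : ∃ n : ℕ, 0 < n ∧ n • x = 0 := by
  obtain ⟨x₀⟩ : Nonempty (PrimeSpectrum k) := inferInstance
  obtain ⟨U, u, -, hU⟩ := exists_nbhd_kill i F x x₀
  obtain ⟨K, hK1, hK2, hK3, hK4, h, hh⟩ := exists_field_point k U u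
  haveI := TransferField.etale_specMap k K
  haveI := pull_preservesFiniteLimits (Spec.map (CommRingCat.ofHom (algebraMap k K)))
  have hz := hU _ (Spec.map (CommRingCat.ofHom (algebraMap k K))) h hh
  have h0 : EtCore.Hpull (Spec.map (CommRingCat.ofHom (algebraMap k K))) F (i + 1) x = 0 := by
    rw [Hpull_eq, hz, map_zero]
  exact ⟨Module.finrank k K, Module.finrank_pos, TransferField.main_S13842 k K F (i + 1) x h0⟩

/-- S7743. -/
theorem main_S7743 (k : Type u) [Field k]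
    (F : EtCoh.Ab (Spec (CommRingCat.of k))) (i : ℕ) (hi : 0 < i)
    (x : EtCoh.H (Spec (CommRingCat.of k)) F i) : IsOfFinAddOrder x := by
  obtain ⟨j, rfl⟩ : ∃ j, i = j + 1 := ⟨i - 1, by omega⟩
  obtain ⟨n, hn, hx⟩ := exists_nsmul_eq_zero k F j x
  exact isOfFinAddOrder_iff_nsmul_eq_zero.2 ⟨n, hn, hx⟩

/-- S7744. -/
theorem main_S7744 (k : Type u) [Field k]
    (F : EtCoh.Ab (Spec (CommRingCat.of k))) (hdiv : ∀ n : ℕ, 0 < n → IsIso (n • 𝟙 F))
    (i : ℕ) (hi : 0 < i) : Subsingleton (EtCoh.H (Spec (CommRingCat.of k)) F i) := by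
  obtain ⟨j, rfl⟩ : ∃ j, i = j + 1 := ⟨i - 1, by omega⟩
  have h0 : ∀ x : EtCoh.H (Spec (CommRingCat.of k)) F (j + 1), x = 0 := by
    intro x
    obtain ⟨n, hn, hx⟩ := exists_nsmul_eq_zero k F j x
    haveI := hdiv n hn
    exact TransferApps.eq_zero_of_nsmul_eq_zero_of_isIso n (j + 1) x hx
  exact ⟨fun a b => (h0 a).trans (h0 b).symm⟩

end FieldPart

end Groth.Agent.Lib.Helper15.TransferEfface
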