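import Groth.Agent.Lib.Helper15.EtZarAdj
import Groth.Agent.Lib.Helper15.GabberMV
import Groth.Agent.Lib.Helper15.TransferEfface

/-!
# Helper15: Zariski acyclicity from étale acyclicity on affine opens (S17614)

If `G` is an abelian étale sheaf on an affine scheme `S` whose étale cohomology vanishes in positive
degrees on every affine open (and on `S`), then the Zariski cohomology of `G|_Zar` vanishes in positive
degrees.  Dimension shifting with an injective hull `0 → G → I → Q → 0`: the restriction to the Zariski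
site stays exact, `I|_Zar` is injective, and `Q` inherits the hypothesis.
-/

set_option autoImplicit false
set_option backward.isDefEq.respectTransparency false
universe w v' u' u
open CategoryTheory CategoryTheory.Limits AlgebraicGeometry Opposite TopologicalSpace

namespace Groth.Agent.Lib.Helper15.EtZarAcyc

open Groth.Agent.Lib.Helper15.EtZarAdj Groth.Agent.Lib.Helper2.EtMV CategoryTheory.Abelian

attribute [local instance] Groth.Agent.Lib.Helper2.EtMV.pull_preservesFiniteLimits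

section Gen

variable {C : Type u'} [Category.{v'} C] [Abelian C] [HasExt.{w} C]

lemma exists_lift_of_ext_one {A : C} {S : ShortComplex C} (hS : S.ShortExact)
    (h1 : Subsingleton (Ext.{w} A S.X₁ 1)) (ψ : A ⟶ S.X₃) : ∃ l : A ⟶ S.X₂, l ≫ S.g = ψ := by
  obtain ⟨x₂, hx₂⟩ := Ext.covariant_sequence_exact₃ A hS (Ext.mk₀ ψ) (zero_add 1)
    (Subsingleton.elim _ _)
  obtain ⟨l, rfl⟩ := (Ext.mk₀_bijective A S.X₂).2 x₂
  rw [Ext.mk₀_comp_mk₀] at hx₂
  exact ⟨l, (Ext.mk₀_bijective A S.X₃).1 hx₂⟩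

lemma subsingleton_ext_cokernel {A : C} {S : ShortComplex C} (hS : S.ShortExact)
    [Injective S.X₂] (hA : ∀ j : ℕ, Subsingleton (Ext.{w} A S.X₁ (j + 1))) (j : ℕ) :
    Subsingleton (Ext.{w} A S.X₃ (j + 1)) := by
  have h0 : ∀ x : Ext.{w} A S.X₃ (j + 1), x = 0 := by
    intro x
    obtain ⟨x₂, hx₂⟩ := Ext.covariant_sequence_exact₃ A hS x (rfl : j + 1 + 1 = j + 1 + 1)
      ((hA (j + 1)).elim _ _)
    rw [← hx₂, Ext.eq_zero_of_injective x₂, Ext.zero_comp]
  exact ⟨fun a b => (h0 a).trans (h0 b).symm⟩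

end Gen

section Main

variable (S : Scheme.{u}) [EtZar.ZarCont S]

/-- Étale acyclicity on affine opens and globally, in `Ext` form. -/
def Acyc (G : EtCoh.Ab S) : Prop :=
  (∀ U : S.Opens, IsAffineOpen U → ∀ j : ℕ, Subsingleton (Ext.{u + 1}
    ((EtShriek.extZero U.ι).obj (EtCoh.const (U : Scheme.{u}) ℤ)) G (j + 1))) ∧
  (∀ j : ℕ, Subsingleton (Ext.{u + 1} (EtCoh.const S ℤ) G (j + 1)))

variable {S}

lemma acyc_cokernel {G I Q : EtCoh.Ab S} (f : G ⟶ I) (g : I ⟶ Q) (w : f ≫ g = 0)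
    (hS₀ : (ShortComplex.mk f g w).ShortExact) [hI : Injective I] (hG : Acyc S G) : Acyc S Q := by
  haveI : Injective (ShortComplex.mk f g w).X₂ := hI
  exact ⟨fun U hU j => subsingleton_ext_cokernel hS₀ (fun k => hG.1 U hU k) j,
    fun j => subsingleton_ext_cokernel hS₀ (fun k => hG.2 k) j⟩

lemma exists_ses (G : EtCoh.Ab S) : ∃ (I Q : EtCoh.Ab S) (f : G ⟶ I) (g : I ⟶ Q) (w : f ≫ g = 0),
    Injective I ∧ (ShortComplex.mk f g w).ShortExact := by
  have hS : (ShortComplex.mk (Injective.ι G) (cokernel.π (Injective.ι G))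
      (cokernel.condition _)).ShortExact :=
    { exact := ShortComplex.exact_cokernel (Injective.ι G)
      mono_f := inferInstanceAs (Mono (Injective.ι G))
      epi_g := inferInstanceAs (Epi (cokernel.π (Injective.ι G))) }
  exact ⟨_, _, _, _, _, inferInstanceAs (Injective (Injective.under G)), hS⟩

theorem resZar_map_epi_of_acyc {G I Q : EtCoh.Ab S} (f : G ⟶ I) (g : I ⟶ Q) (w : f ≫ g = 0)
    (hS₀ : (ShortComplex.mk f g w).ShortExact) (hG : Acyc S G) :
    Epi ((EtZar.resZar S).map g) := by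
  rw [← Sheaf.isLocallySurjective_iff_epi' AddCommGrpCat.{u + 1}]
  constructor
  intro U' s
  obtain ⟨U₁, rfl⟩ : ∃ U₁ : S.Opens, U₁ = U' := ⟨U', rfl⟩
  refine (Opens.mem_grothendieckTopology _).2 (fun x hx => ?_)
  obtain ⟨U₀, hUaff, hxU, hUU₁⟩ := Opens.isBasis_iff_nbhd.1 S.isBasis_affineOpens hx
  obtain ⟨U, rfl⟩ : ∃ U : S.Opens, U = U₀ := ⟨U₀, rfl⟩
  obtain ⟨i, -⟩ : ∃ i : U ⟶ U₁, True := ⟨homOfLE hUU₁, trivial⟩
  refine ⟨U, i, ?_, hxU⟩
  obtain ⟨α, -⟩ : ∃ α : (EtZar.zarToEt S).obj U ⟶ TransferTrace.P₀ U.ι, True :=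
    ⟨MorphismProperty.Over.homMk (𝟙 _) ((Category.id_comp _).trans (Category.id_comp _)) trivial,
      trivial⟩
  obtain ⟨β, -⟩ : ∃ β : TransferTrace.P₀ U.ι ⟶ (EtZar.zarToEt S).obj U, True :=
    ⟨MorphismProperty.Over.homMk (𝟙 _) rfl trivial, trivial⟩
  have hαβ : α ≫ β = 𝟙 _ := (subsingleton_hom_zarToEt S _ _).elim _ _
  obtain ⟨s_U, hs_U⟩ : ∃ s_U : Q.obj.obj (op ((EtZar.zarToEt S).obj U)),
      s_U = Q.obj.map ((EtZar.zarToEt S).map i).op s := ⟨_, rfl⟩
  obtain ⟨ψ, hψ⟩ : ∃ ψ, TransferEfface.Θ U.ι Q ψ = Q.obj.map β.op s_U :=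
    ⟨(TransferEfface.Θ U.ι Q).symm _, Equiv.apply_symm_apply _ _⟩
  obtain ⟨l, hl⟩ := exists_lift_of_ext_one hS₀ (hG.1 U hUaff 0) ψ
  have hl' : l ≫ g = ψ := hl
  refine ⟨I.obj.map α.op (TransferEfface.Θ U.ι I l), ?_⟩
  show g.hom.app (op ((EtZar.zarToEt S).obj U)) (I.obj.map α.op (TransferEfface.Θ U.ι I l)) =
    Q.obj.map ((EtZar.zarToEt S).map i).op s
  rw [← hs_U, EtGlue.ab_hom_nat g α.op, ← TransferEfface.Θ_naturality, hl', hψ,
    ← EtGlue.ab_map_comp, ← op_comp, hαβ, op_id, CategoryTheory.Functor.map_id]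
  rfl

lemma shortExact_map_resZar {G I Q : EtCoh.Ab S} (f : G ⟶ I) (g : I ⟶ Q) (w : f ≫ g = 0)
    (hS₀ : (ShortComplex.mk f g w).ShortExact) (hG : Acyc S G) :
    ((ShortComplex.mk f g w).map (EtZar.resZar S)).ShortExact := by
  haveI : (EtZar.resZar S).Additive := Functor.additive_of_preserves_binary_products _
  have h1 := (Functor.preservesFiniteLimits_iff_forall_exact_map_and_mono
    (EtZar.resZar S)).1 inferInstance _ hS₀
  exact { exact := h1.1
          mono_f := h1.2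
          epi_g := resZar_map_epi_of_acyc f g w hS₀ hG }

variable (S)

theorem subsingleton_zarH_of_acyc (i : ℕ) : ∀ G : EtCoh.Ab S, Acyc S G →
    Subsingleton (Ext.{u + 1} ((constantSheaf (Opens.grothendieckTopology S)
      AddCommGrpCat.{u + 1}).obj (AddCommGrpCat.of (ULift.{u + 1} ℤ)))
      ((EtZar.resZar S).obj G) (i + 1)) := by
  induction i with
  | zero =>
    intro G hG
    obtain ⟨I, Q, f, g, w, hI, hS₀⟩ := exists_ses G
    haveI := hI
    have hSR := shortExact_map_resZar f g w hS₀ hG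
    haveI : Injective ((ShortComplex.mk f g w).map (EtZar.resZar S)).X₂ := resZar_injective S I
    have hz : (Ext.mk₀ ((EtZar.resZar S).map g)).comp hSR.extClass (zero_add 1) = 0 :=
      hSR.comp_extClass
    refine ⟨fun a b => ?_⟩
    have h0 : ∀ x : Ext.{u + 1} ((constantSheaf (Opens.grothendieckTopology S)
        AddCommGrpCat.{u + 1}).obj (AddCommGrpCat.of (ULift.{u + 1} ℤ)))
        ((EtZar.resZar S).obj G) (0 + 1), x = 0 := by
      intro x
      obtain ⟨x₃, hx₃⟩ := Ext.covariant_sequence_exact₁ _ hSR x (Ext.eq_zero_of_injective _)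
        (zero_add 1)
      obtain ⟨ψ, rfl⟩ := (Ext.mk₀_bijective _ _).2 x₃
      -- lift `ψ` through `resZar g`
      haveI : Subsingleton (Ext.{u + 1} (EtCoh.const S ℤ) G 1) := hG.2 0
      have h1 : Subsingleton (Ext.{u + 1} ((Lz S).obj ((constantSheaf (Opens.grothendieckTopology S)
          AddCommGrpCat.{u + 1}).obj (AddCommGrpCat.of (ULift.{u + 1} ℤ)))) G 1) :=
        (Groth.Agent.Lib.Helper13.ExtAdj.extIsoLeft
          ((LzConstIso S).app (AddCommGrpCat.of (ULift.{u + 1} ℤ))) G 1).symm.toEquiv.subsingleton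
      obtain ⟨χ', hχ'⟩ := exists_lift_of_ext_one hS₀ h1 (((adjZ S).homEquiv _ _).symm ψ)
      have hχ'' : χ' ≫ g = ((adjZ S).homEquiv _ _).symm ψ := hχ'
      have hχ : (adjZ S).homEquiv _ _ χ' ≫ (EtZar.resZar S).map g = ψ := by
        rw [← Adjunction.homEquiv_naturality_right, hχ'', Equiv.apply_symm_apply]
      rw [← hx₃, ← hχ, ← Ext.mk₀_comp_mk₀, Ext.comp_assoc_of_second_deg_zero, hz, Ext.comp_zero]
    rw [h0 a, h0 b]
  | succ i ih =>
    intro G hG
    obtain ⟨I, Q, f, g, w, hI, hS₀⟩ := exists_ses G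
    haveI := hI
    have hSR := shortExact_map_resZar f g w hS₀ hG
    haveI : Injective ((ShortComplex.mk f g w).map (EtZar.resZar S)).X₂ := resZar_injective S I
    have hQs := ih Q (acyc_cokernel f g w hS₀ hG)
    refine ⟨fun a b => ?_⟩
    have h0 : ∀ x : Ext.{u + 1} ((constantSheaf (Opens.grothendieckTopology S)
        AddCommGrpCat.{u + 1}).obj (AddCommGrpCat.of (ULift.{u + 1} ℤ)))
        ((EtZar.resZar S).obj G) (i + 1 + 1), x = 0 := by
      intro x
      obtain ⟨x₃, hx₃⟩ := Ext.covariant_sequence_exact₁ _ hSR x (Ext.eq_zero_of_injective _)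
        (rfl : i + 1 + 1 = i + 1 + 1)
      rw [← hx₃, hQs.elim x₃ 0, Ext.zero_comp]
    rw [h0 a, h0 b]

/-- S17614. -/
theorem main_S17614 [IsAffine S] (G : EtCoh.Ab S)
    (hG : ∀ (T : S.Etale), IsAffine T.left → ∀ i : ℕ, 1 ≤ i →
      Subsingleton (EtCoh.H T.left ((EtCoh.pull T.hom).obj G) i))
    (i : ℕ) (hi : 1 ≤ i) : Subsingleton (EtZar.H ((EtZar.resZar S).obj G) i) := by
  obtain ⟨j, rfl⟩ : ∃ j, i = j + 1 := ⟨i - 1, by omega⟩
  refine subsingleton_zarH_of_acyc S j G ⟨fun U hU k => ?_, fun k => ?_⟩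
  · haveI : Subsingleton (EtCoh.H (U : Scheme.{u}) ((EtCoh.pull U.ι).obj G) (k + 1)) :=
      hG ((EtZar.zarToEt S).obj U) hU (k + 1) (by omega)
    exact (Θ U.ι G (k + 1)).toEquiv.subsingleton
  · haveI : Subsingleton (EtCoh.H ((⊤ : S.Opens) : Scheme.{u})
        ((EtCoh.pull (⊤ : S.Opens).ι).obj G) (k + 1)) :=
      hG ((EtZar.zarToEt S).obj ⊤) (isAffineOpen_top S) (k + 1) (by omega)
    exact (GabberMV.Hpull_injective_of_forall_mem (⊤ : S.Opens) (fun _ => trivial) G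
      (k + 1)).subsingleton

end Main

end Groth.Agent.Lib.Helper15.EtZarAcyc
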