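import Mathlib
import Groth.Prelude.Def_EtCore
import Groth.Agent.Lib.Helper15.HenselSection

/-!
# The small étale site of a strictly henselian local ring

For `R` henselian local with separably closed residue field `k`, `X = Spec R` and `ξ : Spec k → X`
the closed geometric point:
* `exists_section`: every étale neighbourhood `(U, u)` of `ξ` receives a section `s : X → U` with
  `s ∘ ξ = u`.
-/

set_option autoImplicit false
universe u

namespace Groth.Agent.Lib.Helper15.HenselSite

open CategoryTheory Limits AlgebraicGeometry Opposite IsLocalRing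

variable (R : Type u) [CommRing R] [HenselianLocalRing R]

/-- pure: étale `Spec A → Spec R` with a `k`-point lifts to a section -/
lemma exists_section_affine (A : CommRingCat.{u}) (φ : CommRingCat.of R ⟶ A) (hφ : φ.hom.Etale)
    (ε : A ⟶ CommRingCat.of (ResidueField R)) (hε : φ ≫ ε = CommRingCat.ofHom (residue R)) :
    ∃ σ : A ⟶ CommRingCat.of R, φ ≫ σ = 𝟙 _ ∧ σ ≫ CommRingCat.ofHom (residue R) = ε := by
  letI : Algebra R A := φ.hom.toAlgebra
  haveI : Algebra.Etale R A := hφ
  let e' : A →ₐ[R] ResidueField R :=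
    { ε.hom with
      commutes' := fun r => by
        have := congrArg (fun f => f.hom r) hε
        exact this }
  obtain ⟨σ, hσ⟩ := HenselSection.exists_section_alg R A e'
  refine ⟨CommRingCat.ofHom σ.toRingHom, ?_, ?_⟩
  · ext r
    exact σ.commutes r
  · ext a
    exact hσ a

/-- closed geometric point -/
noncomputable abbrev xi : Spec (CommRingCat.of (ResidueField R)) ⟶ Spec (CommRingCat.of R) :=
  Spec.map (CommRingCat.ofHom (residue R))

/-- pure scheme version -/
lemma exists_section_scheme (Y : Scheme.{u}) (p : Y ⟶ Spec (CommRingCat.of R)) [Etale p]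
    (ul : Spec (CommRingCat.of (ResidueField R)) ⟶ Y) (hul : ul ≫ p = xi R) :
    ∃ s : Spec (CommRingCat.of R) ⟶ Y, s ≫ p = 𝟙 _ ∧ xi R ≫ s = ul := by
  obtain ⟨A, j, hj, hyj, -⟩ := Scheme.exists_affine_mem_range_and_range_subset
    (x := ul.base (default : Spec (CommRingCat.of (ResidueField R)))) (U := ⊤) (by simp)
  have hrange : Set.range ul.base ⊆ Set.range j.base := by
    rintro _ ⟨a, rfl⟩
    rwa [Subsingleton.elim a default]
  obtain ⟨u₀, hu₀⟩ : ∃ u₀ : Spec (CommRingCat.of (ResidueField R)) ⟶ Spec A, u₀ ≫ j = ul :=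
    ⟨IsOpenImmersion.lift j ul hrange, IsOpenImmersion.lift_fac _ _ _⟩
  obtain ⟨φ, hφ⟩ := Spec.map_surjective (j ≫ p)
  obtain ⟨ε, hε⟩ := Spec.map_surjective u₀
  have hφet : φ.hom.Etale := by
    haveI : Etale (Spec.map φ) := by rw [hφ]; infer_instance
    exact (HasRingHomProperty.Spec_iff (P := @Etale)).1 inferInstance
  have hcomp : φ ≫ ε = CommRingCat.ofHom (residue R) := by
    apply Spec.map_injective
    rw [Spec.map_comp, hφ, hε, ← Category.assoc, hu₀]
    exact hul
  obtain ⟨σ, hσ1, hσ2⟩ := exists_section_affine R A φ hφet ε hcomp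
  refine ⟨Spec.map σ ≫ j, ?_, ?_⟩
  · rw [Category.assoc, ← hφ, ← Spec.map_comp, hσ1, Spec.map_id]
  · rw [← Category.assoc, ← hu₀, ← hε, ← Spec.map_comp, hσ2]

variable [IsSepClosed (ResidueField R)]

/-- the tautological lift of the closed geometric point to `X` itself -/
noncomputable abbrev wtop :
    (Scheme.pointSmallEtale (xi R)).fiber.obj (EtCoh.top (Spec (CommRingCat.of R))) :=
  Over.homMk (xi R) (Category.comp_id _)

set_option backward.isDefEq.respectTransparency.types false in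
lemma exists_section (U : (Spec (CommRingCat.of R)).Etale)
    (u : (Scheme.pointSmallEtale (xi R)).fiber.obj U) :
    ∃ s : EtCoh.top (Spec (CommRingCat.of R)) ⟶ U,
      (Scheme.pointSmallEtale (xi R)).fiber.map s (wtop R) = u := by
  haveI : Etale U.hom := U.prop
  obtain ⟨s, hs1, hs2⟩ := exists_section_scheme R U.left U.hom u.left (Over.w u)
  refine ⟨MorphismProperty.Over.homMk s hs1 trivial, ?_⟩
  exact Over.OverMorphism.ext hs2

section General

universe w' v' u'

variable {X : Scheme.{u}} (Φ : GrothendieckTopology.Point.{u} X.smallEtaleTopology)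
  (t₀ : Φ.fiber.obj (EtCoh.top X))
  (hsec : ∀ (U : X.Etale) (u : Φ.fiber.obj U), ∃ s : EtCoh.top X ⟶ U, Φ.fiber.map s t₀ = u)

section Concrete

variable {A : Type u'} [Category.{v'} A] [HasColimitsOfSize.{u, u} A]
  {FC : A → A → Type*} {CC : A → Type w'}
  [∀ (X Y : A), FunLike (FC X Y) (CC X) (CC Y)]
  [ConcreteCategory.{w'} A FC] [PreservesFilteredColimitsOfSize.{u, u} (forget A)]

include hsec in
/-- If `(X, t₀)` is weakly initial among neighbourhoods, sections over `X` are the stalk. -/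
lemma toPresheafFiber_bijective (P : X.Etaleᵒᵖ ⥤ A) :
    Function.Bijective (Φ.toPresheafFiber (EtCoh.top X) t₀ P) := by
  constructor
  · intro a b h
    rw [Φ.toPresheafFiber_eq_iff' (P := P)] at h
    obtain ⟨U, g, u, hu, hab⟩ := h
    obtain ⟨s, hs⟩ := hsec U u
    have hid : s ≫ g = 𝟙 _ := (EtCore.topIsTerminal X).hom_ext _ _
    have key : ∀ c : ToType (P.obj (op (EtCoh.top X))), P.map s.op (P.map g.op c) = c := fun c => by
      rw [← ConcreteCategory.comp_apply, ← P.map_comp, ← op_comp, hid, op_id, P.map_id,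
        ConcreteCategory.id_apply]
    rw [← key a, hab, key b]
  · intro q
    obtain ⟨U, u, a, rfl⟩ := Φ.toPresheafFiber_jointly_surjective q
    obtain ⟨s, hs⟩ := hsec U u
    exact ⟨P.map s.op a, by rw [Φ.toPresheafFiber_w_apply, hs]⟩

end Concrete

include hsec in
/-- Global sections preserve epimorphisms. -/
lemma sections_surjective_of_epi {E G : EtCoh.Ab X} (ε : E ⟶ G) [Epi ε] :
    Function.Surjective (ε.hom.app (op (EtCoh.top X))) := by
  intro t
  haveI : Sheaf.IsLocallySurjective ε :=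
    (Sheaf.isLocallySurjective_iff_epi' AddCommGrpCat.{u + 1} ε).2 inferInstance
  have hmem := Presheaf.imageSieve_mem X.smallEtaleTopology ε.hom (U := op (EtCoh.top X)) t
  obtain ⟨U, g, ⟨e₁, he₁⟩, u, hu⟩ := Φ.jointly_surjective _ hmem t₀
  obtain ⟨s, hs⟩ := hsec U u
  have hid : s ≫ g = 𝟙 _ := (EtCore.topIsTerminal X).hom_ext _ _
  refine ⟨E.obj.map s.op e₁, ?_⟩
  have h1 := NatTrans.naturality_apply ε.hom s.op e₁
  rw [h1, he₁, ← ConcreteCategory.comp_apply, ← G.obj.map_comp, ← op_comp, hid, op_id,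
    G.obj.map_id, ConcreteCategory.id_apply]

/-- the hom `ℤ → G` with `1 ↦ g` -/
noncomputable def homOfElt {G : AddCommGrpCat.{u + 1}} (g : G) :
    AddCommGrpCat.of (ULift.{u + 1} ℤ) ⟶ G :=
  AddCommGrpCat.ofHom ((zmultiplesHom G g).comp AddEquiv.ulift.toAddMonoidHom)

lemma homOfElt_one {G : AddCommGrpCat.{u + 1}} (g : G) : homOfElt g ⟨1⟩ = g := by
  simp only [homOfElt, AddCommGrpCat.hom_ofHom, AddMonoidHom.comp_apply, zmultiplesHom_apply]
  exact one_zsmul g

lemma hom_ext_Z {G : AddCommGrpCat.{u + 1}} (φ ψ : AddCommGrpCat.of (ULift.{u + 1} ℤ) ⟶ G)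
    (h : φ ⟨1⟩ = ψ ⟨1⟩) : φ = ψ := by
  refine AddCommGrpCat.hom_ext (AddMonoidHom.ext fun m => ?_)
  obtain ⟨n⟩ := m
  have hn : (⟨n⟩ : ULift.{u + 1} ℤ) = n • (⟨1⟩ : ULift.{u + 1} ℤ) := by
    ext
    simp
  rw [hn, map_zsmul, map_zsmul]
  exact congrArg (n • ·) h

include hsec in
/-- the constant sheaf `ℤ` is projective -/
lemma projective_constZ : Projective ((constantSheaf X.smallEtaleTopology AddCommGrpCat.{u + 1}).obj
    (AddCommGrpCat.of (ULift.{u + 1} ℤ))) := by
  constructor
  intro E G f ε hε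
  obtain ⟨adj, hadj⟩ : ∃ adj : constantSheaf X.smallEtaleTopology AddCommGrpCat.{u + 1} ⊣
      (sheafSections X.smallEtaleTopology AddCommGrpCat.{u + 1}).obj (op (EtCoh.top X)),
      adj = constantSheafAdj X.smallEtaleTopology AddCommGrpCat.{u + 1} (EtCore.topIsTerminal X) :=
    ⟨_, rfl⟩
  obtain ⟨e₀, he₀⟩ := sections_surjective_of_epi Φ t₀ hsec ε ((adj.homEquiv _ _ f) ⟨1⟩)
  refine ⟨(adj.homEquiv _ _).symm (homOfElt e₀), ?_⟩
  apply (adj.homEquiv _ _).injective
  rw [Adjunction.homEquiv_naturality_right, Equiv.apply_symm_apply]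
  apply hom_ext_Z
  refine (ConcreteCategory.comp_apply _ _ _).trans ?_
  rw [homOfElt_one]
  exact he₀

include hsec in
lemma subsingleton_H (F : EtCoh.Ab X) (p : ℕ) (hp : 1 ≤ p) : Subsingleton (EtCoh.H X F p) := by
  haveI := projective_constZ Φ t₀ hsec
  obtain ⟨n, rfl⟩ : ∃ n, p = n + 1 := ⟨p - 1, by omega⟩
  exact subsingleton_of_forall_eq 0 (fun x => Abelian.Ext.eq_zero_of_projective x)

end General

end Groth.Agent.Lib.Helper15.HenselSite
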