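import Groth.Agent.Lib.Helper12.StalkLim
import Groth.Agent.Lib.Helper15.TransferEfface
import Groth.Agent.Lib.Helper15.HenselSite

/-!
# Helper15: Zariski-local sections of étale maps over rings with strictly henselian local rings

* `exists_stalk_section`: an étale `p : Y ⟶ X`, a point `u : Y` and a morphism `c : Spec S ⟶ X` from a
  strictly henselian local ring sending the closed point to `p u`: then `c` lifts to `Y`.
* `exists_zariski_section`: if all localizations of `R` at primes are strictly henselian, every étale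
  `p : Y ⟶ Spec R` has a section on a Zariski neighbourhood of `p u`, for every `u : Y`.
-/

set_option autoImplicit false
set_option backward.isDefEq.respectTransparency false
universe u
open CategoryTheory CategoryTheory.Limits AlgebraicGeometry Opposite

namespace Groth.Agent.Lib.Helper15.ZarSection

open IsLocalRing

theorem exists_stalk_section {X Y : Scheme.{u}} (p : Y ⟶ X) [Etale p] (u : Y)
    (S : Type u) [CommRing S] [HenselianLocalRing S] [IsSepClosed (ResidueField S)]
    (c : Spec (CommRingCat.of S) ⟶ X) (hc : c (closedPoint S) = p u) :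
    ∃ b : Spec (CommRingCat.of S) ⟶ Y, b ≫ p = c := by
  obtain ⟨ck, hck⟩ : ∃ ck : Spec (CommRingCat.of (ResidueField S)) ⟶ X,
      ck = HenselSite.xi S ≫ c := ⟨_, rfl⟩
  have hpt : ∀ pt : Spec (CommRingCat.of (ResidueField S)), ck pt = p u := by
    intro pt
    have h1 : (HenselSite.xi S) pt = closedPoint S :=
      IsLocalRing.PrimeSpectrum.comap_residue S pt
    rw [hck, Scheme.Hom.comp_apply, h1, hc]
  obtain ⟨pt⟩ : Nonempty (Spec (CommRingCat.of (ResidueField S))) := inferInstance
  obtain ⟨z, -, -⟩ :=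
    Scheme.Pullback.exists_preimage_pullback (f := p) (g := ck) u pt (hpt pt).symm
  obtain ⟨K, hK1, hK2, hK3, hK4, h, hh⟩ := TransferEfface.exists_field_point (ResidueField S)
    (Scheme.Etale.mk (pullback.snd p ck)) z
  have hbij : Function.Bijective (algebraMap (ResidueField S) K) :=
    IsSepClosed.algebraMap_bijective (ResidueField S) K
  obtain ⟨e, he⟩ : ∃ e : ResidueField S ≃+* K, ∀ a, e a = algebraMap (ResidueField S) K a :=
    ⟨RingEquiv.ofBijective (algebraMap (ResidueField S) K) hbij, fun _ => rfl⟩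
  have hh' : h ≫ pullback.snd p ck =
      Spec.map (CommRingCat.ofHom (algebraMap (ResidueField S) K)) := hh
  obtain ⟨ul₀, hul₀⟩ : ∃ ul₀ : Spec (CommRingCat.of (ResidueField S)) ⟶ pullback p ck,
      ul₀ ≫ pullback.snd p ck = 𝟙 _ := by
    refine ⟨Spec.map (CommRingCat.ofHom e.symm.toRingHom) ≫ h, ?_⟩
    rw [Category.assoc, hh', ← Spec.map_comp, ← Spec.map_id]
    congr 1
    refine CommRingCat.hom_ext (RingHom.ext fun a => ?_)
    show e.symm (algebraMap (ResidueField S) K a) = a
    rw [← he, e.symm_apply_apply]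
  obtain ⟨ul, hul⟩ : ∃ ul : Spec (CommRingCat.of (ResidueField S)) ⟶ pullback p c,
      ul ≫ pullback.snd p c = HenselSite.xi S := by
    refine ⟨pullback.lift (ul₀ ≫ pullback.fst p ck) (HenselSite.xi S) ?_, pullback.lift_snd _ _ _⟩
    rw [Category.assoc, pullback.condition, ← Category.assoc, hul₀, Category.id_comp, hck]
  obtain ⟨s, hs1, -⟩ :=
    HenselSite.exists_section_scheme S (pullback p c) (pullback.snd p c) ul hul
  refine ⟨s ≫ pullback.fst p c, ?_⟩
  rw [Category.assoc, pullback.condition, ← Category.assoc, hs1, Category.id_comp]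

theorem exists_zariski_section (R : Type u) [CommRing R]
    (hR : ∀ p : PrimeSpectrum R,
      EtCoh.IsStrictlyHenselianLocalRing (Localization.AtPrime p.asIdeal))
    {Y : Scheme.{u}} (p : Y ⟶ Spec (CommRingCat.of R)) [Etale p] (u : Y) :
    ∃ W : (Spec (CommRingCat.of R)).Opens, p u ∈ W ∧
      ∃ g : (W : Scheme.{u}) ⟶ Y, g ≫ p = W.ι := by
  obtain ⟨x, hx⟩ : ∃ x : PrimeSpectrum R, x = p u := ⟨_, rfl⟩
  obtain ⟨hH, hS⟩ := hR x
  haveI := hH
  haveI := hS
  obtain ⟨φ, -⟩ : ∃ φ : (Spec (CommRingCat.of R)).presheaf.stalk x ≅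
      CommRingCat.of (Localization.AtPrime x.asIdeal), True :=
    ⟨Spec.stalkIso (CommRingCat.of R) x, trivial⟩
  have hc : (Spec.map φ.hom ≫ (Spec (CommRingCat.of R)).fromSpecStalk x)
      (closedPoint (Localization.AtPrime x.asIdeal)) = p u := by
    haveI : IsLocalHom φ.hom.hom := isLocalHom_of_iso φ
    have h1 : (Spec.map φ.hom) (closedPoint (Localization.AtPrime x.asIdeal)) =
        closedPoint ((Spec (CommRingCat.of R)).presheaf.stalk x) := Spec_closedPoint
    rw [Scheme.Hom.comp_apply, h1, Scheme.fromSpecStalk_closedPoint, hx]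
  obtain ⟨b', hb'⟩ := exists_stalk_section p u (Localization.AtPrime x.asIdeal)
    (Spec.map φ.hom ≫ (Spec (CommRingCat.of R)).fromSpecStalk x) hc
  obtain ⟨W, g, -, hg⟩ := Groth.Agent.Lib.Helper12.StalkLim.exists_spread
    (𝟙 (Spec (CommRingCat.of R))) p x (Spec.map φ.inv ≫ b') (by
      rw [Category.assoc, hb', ← Category.assoc, ← Spec.map_comp, Iso.hom_inv_id, Spec.map_id,
        Category.id_comp, Category.comp_id])
  refine ⟨W.U, hx ▸ W.mem, g, by rw [hg, Category.comp_id]⟩

end Groth.Agent.Lib.Helper15.ZarSection
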