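import Mathlib
import Groth.Prelude.Def_EtZar
import Groth.Prelude.Def_EtCore
import Groth.Agent.Lib.Helper13.ExtAdj
import Groth.Agent.Lib.Helper15.ZarSection
import Groth.Agent.Lib.Helper15.FinitePushExact

/-!
# Helper15: the adjunction between Zariski and étale abelian sheaves

`imF X : X.Etale ⥤ X.Opens` (image of an étale `X`-scheme) is left adjoint to `EtZar.zarToEt X`.
Hence restriction of presheaves along `zarToEt` has the exact left adjoint "precompose with `imF`",
and `EtZar.resZar X` has a left adjoint `Lz X` which preserves monomorphisms; so `resZar` preserves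
injectives.  `Lz` sends the constant sheaf `ℤ` to the constant sheaf `ℤ`.

If all local rings of `X` are strictly henselian, `resZar X` is exact and
`H^i(X_et, F) ≃ H^i(X_Zar, F|_Zar)` (S0670).
-/

set_option autoImplicit false
set_option backward.isDefEq.respectTransparency false
universe u
open CategoryTheory CategoryTheory.Limits AlgebraicGeometry Opposite TopologicalSpace

namespace Groth.Agent.Lib.Helper15.EtZarAdj

section Im

variable (X : Scheme.{u})

/-- The (open) image of an étale `X`-scheme. -/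
noncomputable def imOpen (V : X.Etale) : X.Opens :=
  haveI : Etale V.hom := V.prop
  ⟨Set.range ⇑V.hom, V.hom.isOpenMap.isOpen_range⟩

lemma mem_imOpen (V : X.Etale) (x : X) : x ∈ imOpen X V ↔ ∃ v : V.left, V.hom v = x := Iff.rfl

lemma imOpen_mono {V V' : X.Etale} (g : V ⟶ V') : imOpen X V ≤ imOpen X V' := by
  intro x hx
  obtain ⟨v, rfl⟩ := (mem_imOpen X V x).1 hx
  exact (mem_imOpen X V' _).2 ⟨g.left v,
    congrArg (fun k : V.left ⟶ X => k v) (MorphismProperty.Over.w g)⟩

/-- The image functor from étale `X`-schemes to opens of `X`. -/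
noncomputable def imF : X.Etale ⥤ X.Opens where
  obj V := imOpen X V
  map g := homOfLE (imOpen_mono X g)
  map_id _ := Subsingleton.elim _ _
  map_comp _ _ := Subsingleton.elim _ _

lemma subsingleton_hom_zarToEt (V : X.Etale) (U : X.Opens) :
    Subsingleton (V ⟶ (EtZar.zarToEt X).obj U) := by
  refine ⟨fun a b => MorphismProperty.Over.Hom.ext ?_⟩
  rw [← cancel_mono U.ι]
  exact (MorphismProperty.Over.w a).trans (MorphismProperty.Over.w b).symm

lemma range_subset_of_hom (V : X.Etale) (U : X.Opens) (g : V ⟶ (EtZar.zarToEt X).obj U) :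
    imOpen X V ≤ U := by
  intro x hx
  obtain ⟨v, rfl⟩ := (mem_imOpen X V x).1 hx
  have e : (g.left ≫ U.ι) v = V.hom v :=
    congrArg (fun k : V.left ⟶ X => k v) (MorphismProperty.Over.w g)
  rw [← e]
  exact (g.left v).2

/-- The morphism `V ⟶ zarToEt U` when the image of `V` lies in `U`. -/
noncomputable def homOfImLE (V : X.Etale) (U : X.Opens) (h : imOpen X V ≤ U) :
    V ⟶ (EtZar.zarToEt X).obj U :=
  MorphismProperty.Over.homMk
    (IsOpenImmersion.lift U.ι V.hom (by
      intro y hy
      have hyU : y ∈ U := h hy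
      exact ⟨⟨y, hyU⟩, rfl⟩)) (IsOpenImmersion.lift_fac _ _ _) trivial

/-- `imF ⊣ zarToEt`. -/
noncomputable def adjIm : imF X ⊣ EtZar.zarToEt X :=
  Adjunction.mkOfHomEquiv
    { homEquiv := fun V U =>
        { toFun := fun h => homOfImLE X V U h.le
          invFun := fun g => homOfLE (range_subset_of_hom X V U g)
          left_inv := fun _ => Subsingleton.elim _ _
          right_inv := fun _ => (subsingleton_hom_zarToEt X V U).elim _ _ }
      homEquiv_naturality_left_symm := fun _ _ => Subsingleton.elim _ _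
      homEquiv_naturality_right := fun _ _ => (subsingleton_hom_zarToEt X _ _).elim _ _ }

/-- `zarToEt ⊤` is terminal. -/
noncomputable def isTerminalZarTop : IsTerminal ((EtZar.zarToEt X).obj ⊤) :=
  IsTerminal.ofUniqueHom (fun V => homOfImLE X V ⊤ le_top)
    (fun V _ => (subsingleton_hom_zarToEt X V ⊤).elim _ _)

/-- Precomposition with `imF` is left adjoint to restriction along `zarToEt`, on presheaves. -/
noncomputable def adjPsh (A : Type*) [Category A] :
    (Functor.whiskeringLeft X.Etaleᵒᵖ X.Opensᵒᵖ A).obj (imF X).op ⊣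
      (Functor.whiskeringLeft X.Opensᵒᵖ X.Etaleᵒᵖ A).obj (EtZar.zarToEt X).op :=
  Adjunction.whiskerLeft A (adjIm X).op

variable [EtZar.ZarCont X]

/-- The left adjoint of `resZar`. -/
noncomputable def Lz : EtZar.Ab X ⥤ EtCoh.Ab X :=
  sheafToPresheaf (Opens.grothendieckTopology X) AddCommGrpCat.{u + 1} ⋙
    (Functor.whiskeringLeft X.Etaleᵒᵖ X.Opensᵒᵖ AddCommGrpCat.{u + 1}).obj (imF X).op ⋙
    presheafToSheaf X.smallEtaleTopology AddCommGrpCat.{u + 1}

/-- `Lz ⊣ resZar`. -/
noncomputable def adjZ : Lz X ⊣ EtZar.resZar X :=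
  ((adjPsh X AddCommGrpCat.{u + 1}).comp
    (sheafificationAdjunction X.smallEtaleTopology AddCommGrpCat.{u + 1})).restrictFullyFaithful
    (fullyFaithfulSheafToPresheaf (Opens.grothendieckTopology X) AddCommGrpCat.{u + 1})
    (Functor.FullyFaithful.id _) (Iso.refl _) (Iso.refl _)

instance Lz_preservesMono : (Lz X).PreservesMonomorphisms := by
  haveI : ((Functor.whiskeringLeft X.Etaleᵒᵖ X.Opensᵒᵖ AddCommGrpCat.{u + 1}).obj
      (imF X).op).PreservesMonomorphisms := ⟨fun f hf => by
    rw [NatTrans.mono_iff_mono_app] at hf ⊢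
    intro V
    exact hf _⟩
  unfold Lz
  infer_instance

lemma resZar_injective (I : EtCoh.Ab X) [Injective I] : Injective ((EtZar.resZar X).obj I) :=
  Injective.injective_of_adjoint (adjZ X) I

instance resZar_preservesFiniteLimits : PreservesFiniteLimits (EtZar.resZar X) := by
  have : PreservesLimitsOfSize.{0, 0} (EtZar.resZar X) := (adjZ X).rightAdjoint_preservesLimits
  exact PreservesLimitsOfSize.preservesFiniteLimits.{0, 0} _

/-- Global sections of the restriction are the sections over `zarToEt ⊤`. -/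
noncomputable def secIso :
    (sheafSections X.smallEtaleTopology AddCommGrpCat.{u + 1}).obj (op ((EtZar.zarToEt X).obj ⊤)) ≅
      EtZar.resZar X ⋙ (sheafSections (Opens.grothendieckTopology X) AddCommGrpCat.{u + 1}).obj
        (op ⊤) :=
  NatIso.ofComponents (fun F => Iso.refl _) (fun {F G} f => by
    first
      | rfl
      | (erw [Category.comp_id]; rfl)
      | (erw [Category.comp_id, Category.id_comp]; rfl))

/-- `Lz` sends constant sheaves to constant sheaves. -/
noncomputable def LzConstIso :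
    constantSheaf (Opens.grothendieckTopology X) AddCommGrpCat.{u + 1} ⋙ Lz X ≅
      constantSheaf X.smallEtaleTopology AddCommGrpCat.{u + 1} :=
  Adjunction.leftAdjointUniq
    ((constantSheafAdj (Opens.grothendieckTopology X) AddCommGrpCat.{u + 1}
      (T := (⊤ : X.Opens)) isTerminalTop).comp (adjZ X))
    ((constantSheafAdj X.smallEtaleTopology AddCommGrpCat.{u + 1}
      (isTerminalZarTop X)).ofNatIsoRight (secIso X))

end Im

section Exact

variable (S : Scheme.{u})
  (hS : ∀ s : S, EtCoh.IsStrictlyHenselianLocalRing (S.presheaf.stalk s))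

include hS in
theorem exists_zariski_section {Y : Scheme.{u}} (p : Y ⟶ S) [Etale p] (y : Y) :
    ∃ W : S.Opens, p y ∈ W ∧ ∃ g : (W : Scheme.{u}) ⟶ Y, g ≫ p = W.ι := by
  obtain ⟨hH, hSep⟩ := hS (p y)
  haveI := hH
  haveI := hSep
  obtain ⟨b, hb⟩ := ZarSection.exists_stalk_section p y (S.presheaf.stalk (p y))
    (S.fromSpecStalk (p y)) Scheme.fromSpecStalk_closedPoint
  obtain ⟨W, g, -, hg⟩ := Groth.Agent.Lib.Helper12.StalkLim.exists_spread (𝟙 S) p (p y) b
    (by rw [hb, Category.comp_id])
  exact ⟨W.U, W.mem, g, by rw [hg, Category.comp_id]⟩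

variable [EtZar.ZarCont S]

instance wEqZar : (Opens.grothendieckTopology S).WEqualsLocallyBijective AddCommGrpCat.{u + 1} :=
  GrothendieckTopology.WEqualsLocallyBijective.ofEssentiallySmall (Opens.grothendieckTopology S)

include hS in
theorem resZar_map_epi {F G : EtCoh.Ab S} (φ : F ⟶ G) [Epi φ] :
    Epi ((EtZar.resZar S).map φ) := by
  rw [← Sheaf.isLocallySurjective_iff_epi' AddCommGrpCat.{u + 1}]
  haveI hloc : Sheaf.IsLocallySurjective φ :=
    (Sheaf.isLocallySurjective_iff_epi' AddCommGrpCat.{u + 1} φ).2 inferInstance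
  constructor
  intro U' s
  obtain ⟨U, rfl⟩ : ∃ U : S.Opens, U = U' := ⟨U', rfl⟩
  refine (Opens.mem_grothendieckTopology _).2 (fun x hx => ?_)
  have hmem := Presheaf.imageSieve_mem S.smallEtaleTopology φ.hom
    (U := op ((EtZar.zarToEt S).obj U)) s
  obtain ⟨V, pV, v, ⟨t₀, ht₀⟩, hv⟩ := (EtGlue.mem_iff _ _).1 hmem (⟨x, hx⟩ : U)
  haveI : Etale V.hom := V.prop
  obtain ⟨W₀, hxW₀, g, hg⟩ := exists_zariski_section S hS V.hom v
  have hVx : V.hom v = x := by
    have e := congrArg (fun k : V.left ⟶ S => k v) (MorphismProperty.Over.w pV)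
    refine e.symm.trans ?_
    show U.ι (pV.left v) = x
    rw [hv]
    rfl
  obtain ⟨i, -⟩ : ∃ i : (W₀ ⊓ U : S.Opens) ⟶ U, True := ⟨homOfLE inf_le_right, trivial⟩
  obtain ⟨γ, -⟩ : ∃ γ : (EtZar.zarToEt S).obj (W₀ ⊓ U) ⟶ V, True :=
    ⟨MorphismProperty.Over.homMk (S.homOfLE inf_le_left ≫ g)
      (by rw [Category.assoc, hg]; exact S.homOfLE_ι _) trivial, trivial⟩
  have e4 : γ ≫ pV = (EtZar.zarToEt S).map i := (subsingleton_hom_zarToEt S _ _).elim _ _
  refine ⟨W₀ ⊓ U, i, ⟨F.obj.map γ.op t₀, ?_⟩, ⟨hVx ▸ hxW₀, hx⟩⟩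
  show φ.hom.app (op ((EtZar.zarToEt S).obj (W₀ ⊓ U))) (F.obj.map γ.op t₀) =
    G.obj.map ((EtZar.zarToEt S).map i).op s
  rw [← e4, op_comp, EtGlue.ab_map_comp, ← ht₀]
  exact EtGlue.ab_hom_nat φ γ.op t₀

include hS in
theorem resZar_preservesFiniteColimits : PreservesFiniteColimits (EtZar.resZar S) :=
  FinitePushExact.preservesFiniteColimits_of_preservesEpi _ (fun φ hφ => by
    haveI := hφ
    exact resZar_map_epi S hS φ)

include hS in
/-- S0670. -/
theorem main_S0670 (F : EtCoh.Ab S) (i : ℕ) :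
    Nonempty (EtCoh.H S F i ≃+ EtZar.H ((EtZar.resZar S).obj F) i) := by
  haveI := resZar_preservesFiniteColimits S hS
  haveI : (EtZar.resZar S).Additive := Functor.additive_of_preserves_binary_products _
  exact ⟨(Groth.Agent.Lib.Helper13.ExtAdj.extIsoLeft
    ((LzConstIso S).app (AddCommGrpCat.of (ULift.{u + 1} ℤ))) F i).trans
    (Groth.Agent.Lib.Helper13.ExtAdj.extAdjEquiv' (adjZ S)
      ((constantSheaf (Opens.grothendieckTopology S) AddCommGrpCat.{u + 1}).obj
        (AddCommGrpCat.of (ULift.{u + 1} ℤ))) F i)⟩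

end Exact

end Groth.Agent.Lib.Helper15.EtZarAdj
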