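import Mathlib

/-!
# Rational points of étale algebras over a point with separably closed residue field

* `exists_algHom_ker_eq`: `B` étale over `R`, `κ` a separably closed field which is a quotient of
  `R`, `𝔮` a prime of `B` over `ker (R → κ)`. Then there is an `R`-algebra map `B → κ` with
  kernel `𝔮`.
-/

set_option autoImplicit false
universe u v

namespace Groth.Agent.Lib.Helper15.EtalePoint

open Polynomial

theorem exists_algHom_ker_eq {R : Type u} [CommRing R] {κ : Type v} [Field κ] [IsSepClosed κ]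
    [Algebra R κ] (hπ : Function.Surjective (algebraMap R κ))
    (B : Type u) [CommRing B] [Algebra R B] [Algebra.Etale R B]
    (𝔮 : Ideal B) [𝔮.IsPrime]
    (h𝔮 : 𝔮.comap (algebraMap R B) = RingHom.ker (algebraMap R κ)) :
    ∃ e' : B →ₐ[R] κ, ∀ b, e' b = 0 ↔ b ∈ 𝔮 := by
  classical
  obtain ⟨g, hg𝔮, hstd⟩ := Algebra.IsEtaleAt.exists_isStandardEtale (R := R) 𝔮
  obtain ⟨P⟩ := hstd.nonempty_standardEtalePresentation
  obtain ⟨θ, hθ⟩ : ∃ θ : B →+* 𝔮.ResidueField, θ = algebraMap B 𝔮.ResidueField := ⟨_, rfl⟩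
  have hθker : ∀ b, θ b = 0 ↔ b ∈ 𝔮 := fun b => by
    rw [hθ, ← RingHom.mem_ker, Ideal.ker_algebraMap_residueField]
  obtain ⟨ρ, hρ⟩ : ∃ ρ : R →+* 𝔮.ResidueField, ρ = θ.comp (algebraMap R B) := ⟨_, rfl⟩
  have hker : ∀ r, ρ r = 0 ↔ algebraMap R κ r = 0 := fun r => by
    rw [hρ, RingHom.comp_apply, hθker, ← Ideal.mem_comap, h𝔮, RingHom.mem_ker]
  have hgu : IsUnit (θ g) := IsUnit.mk0 _ (fun h0 => hg𝔮 ((hθker g).1 h0))
  obtain ⟨e'', he''⟩ : ∃ e'' : Localization.Away g →+* 𝔮.ResidueField,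
      ∀ b, e'' (algebraMap B (Localization.Away g) b) = θ b :=
    ⟨IsLocalization.Away.lift g hgu, fun b => IsLocalization.Away.lift_eq g hgu b⟩
  have hcompρ : e''.comp (algebraMap R (Localization.Away g)) = ρ := by
    ext r
    rw [RingHom.comp_apply, IsScalarTower.algebraMap_apply R B (Localization.Away g), he'', hρ]
    rfl
  have key : ∀ q : R[X], e'' (aeval P.x q) = q.eval₂ ρ (e'' P.x) := fun q => by
    rw [aeval_def, hom_eval₂, hcompρ]
  have hkerle : RingHom.ker (algebraMap R κ) ≤ RingHom.ker ρ := fun r hr => by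
    rw [RingHom.mem_ker] at hr ⊢
    exact (hker r).2 hr
  obtain ⟨ι, hι⟩ : ∃ ι : κ →+* 𝔮.ResidueField, ∀ r, ι (algebraMap R κ r) = ρ r :=
    ⟨RingHom.liftOfSurjective (algebraMap R κ) hπ ⟨ρ, hkerle⟩,
      fun r => RingHom.liftOfRightInverse_comp_apply _ _ _ ⟨ρ, hkerle⟩ r⟩
  have hιπ : ι.comp (algebraMap R κ) = ρ := RingHom.ext hι
  letI : Algebra κ 𝔮.ResidueField := ι.toAlgebra
  have hf0 : aeval (e'' P.x) (P.f.map (algebraMap R κ)) = 0 := by
    rw [aeval_def, RingHom.algebraMap_toAlgebra, eval₂_map, hιπ, ← key, P.hasMap.1, map_zero]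
  have hint : IsIntegral κ (e'' P.x) :=
    ⟨P.f.map (algebraMap R κ), P.monic_f.map (algebraMap R κ), hf0⟩
  have hirr : Irreducible (minpoly κ (e'' P.x)) := minpoly.irreducible hint
  obtain ⟨q, hq⟩ := minpoly.dvd κ (e'' P.x) hf0
  have hder : aeval (e'' P.x) (derivative (P.f.map (algebraMap R κ))) ≠ 0 := by
    rw [derivative_map, aeval_def, RingHom.algebraMap_toAlgebra, eval₂_map, hιπ, ← key]
    exact (P.hasMap.isUnit_derivative_f.map e'').ne_zero
  have hsep : (minpoly κ (e'' P.x)).Separable := by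
    rw [separable_iff_derivative_ne_zero hirr]
    intro h0
    apply hder
    rw [hq, derivative_mul, h0, zero_mul, zero_add, map_mul, minpoly.aeval, zero_mul]
  have hdeg := IsSepClosed.degree_eq_one_of_irreducible κ hirr hsep
  obtain ⟨x₀, hx₀⟩ := minpoly.mem_range_of_degree_eq_one κ (e'' P.x) hdeg
  rw [RingHom.algebraMap_toAlgebra] at hx₀
  have hιinj : Function.Injective ι := ι.injective
  have key3 : ∀ q : R[X], ι (aeval x₀ q) = e'' (aeval P.x q) := fun q => by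
    rw [key, aeval_def, hom_eval₂, hιπ, hx₀]
  have hmap₀ : P.P.HasMap x₀ := by
    constructor
    · apply hιinj
      rw [key3, P.hasMap.1, map_zero, map_zero]
    · refine IsUnit.mk0 _ (fun h0 => (P.hasMap.2.map e'').ne_zero ?_)
      rw [← key3, h0, map_zero]
  obtain ⟨e₁, he₁⟩ : ∃ e₁ : Localization.Away g →ₐ[R] κ, e₁ P.x = x₀ :=
    ⟨(P.P.lift x₀ hmap₀).comp P.equivRing.toAlgHom, by
      show P.P.lift x₀ hmap₀ (P.equivRing P.x) = x₀
      rw [P.equivRing_x, P.P.lift_X]⟩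
  letI : Algebra R 𝔮.ResidueField := ρ.toAlgebra
  obtain ⟨ψ₁, hψ₁⟩ : ∃ ψ₁ : Localization.Away g →ₐ[R] 𝔮.ResidueField, ∀ c, ψ₁ c = ι (e₁ c) :=
    ⟨{ toRingHom := ι.comp e₁.toRingHom
       commutes' := fun r => by
        show ι (e₁ (algebraMap R _ r)) = ρ r
        rw [AlgHom.commutes, hι] }, fun c => rfl⟩
  obtain ⟨ψ₂, hψ₂⟩ : ∃ ψ₂ : Localization.Away g →ₐ[R] 𝔮.ResidueField, ∀ c, ψ₂ c = e'' c :=
    ⟨{ toRingHom := e''
       commutes' := fun r => by
        show e'' (algebraMap R _ r) = ρ r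
        rw [← hcompρ]
        rfl }, fun c => rfl⟩
  have hψ : ψ₁ = ψ₂ := P.hom_ext (by rw [hψ₁, hψ₂, he₁, hx₀])
  refine ⟨e₁.comp (IsScalarTower.toAlgHom R B (Localization.Away g)), fun b => ?_⟩
  have h5 : ι (e₁ (algebraMap B (Localization.Away g) b)) = θ b := by
    rw [← hψ₁, hψ, hψ₂, he'']
  show e₁ (algebraMap B (Localization.Away g) b) = 0 ↔ b ∈ 𝔮
  rw [← hθker, ← h5]
  exact (map_eq_zero ι).symm

end Groth.Agent.Lib.Helper15.EtalePoint
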