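import Mathlib

/-!
# An exact functor which is fully faithful on `Hom(A, -)` and kills higher `Ext` into images of
injectives induces bijections on `Ext^n(A, -)`
-/

set_option autoImplicit false

namespace Groth.Agent.Lib.Helper15.ExtFF

open CategoryTheory Limits Abelian

universe w w' v v' u u'

variable {C : Type u} [Category.{v} C] [Abelian C] [HasExt.{w} C]
  {D : Type u'} [Category.{v'} D] [Abelian D] [HasExt.{w'} D]
  (L : C ⥤ D) [L.Additive] [PreservesFiniteLimits L] [PreservesFiniteColimits L]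

lemma mapExt_comp_mk₀ (A : C) {F G : C} {n : ℕ} (e : Ext.{w} A F n) (φ : F ⟶ G) :
    L.mapExtAddHom A G n (e.comp (Ext.mk₀ φ) (add_zero n)) =
      (L.mapExtAddHom A F n e).comp (Ext.mk₀ (L.map φ)) (add_zero n) := by
  rw [Functor.mapExtAddHom_apply, Functor.mapExtAddHom_apply, Ext.mapExactFunctor_comp,
    Ext.mapExactFunctor_mk₀]

theorem bijective_succ (A : C) (n : ℕ) {S : ShortComplex C} (hS : S.ShortExact) [Injective S.X₂]
    (hvan : ∀ e : Ext.{w'} (L.obj A) (L.obj S.X₂) (n + 1), e = 0)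
    (h₂ : Function.Bijective (L.mapExtAddHom A S.X₂ n))
    (h₃ : Function.Bijective (L.mapExtAddHom A S.X₃ n)) :
    Function.Bijective (L.mapExtAddHom A S.X₁ (n + 1)) := by
  have hS' : (S.map L).ShortExact := hS.map_of_exact L
  have hδ : ∀ z : Ext.{w} A S.X₃ n,
      L.mapExtAddHom A S.X₁ (n + 1) (z.comp hS.extClass rfl) =
        (L.mapExtAddHom A S.X₃ n z).comp hS'.extClass rfl := by
    intro z
    rw [Functor.mapExtAddHom_apply, Functor.mapExtAddHom_apply, Ext.mapExactFunctor_comp,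
      Ext.mapExactFunctor_extClass]
    rfl
  have hg : ∀ z : Ext.{w} A S.X₂ n,
      L.mapExtAddHom A S.X₃ n (z.comp (Ext.mk₀ S.g) (add_zero n)) =
        (L.mapExtAddHom A S.X₂ n z).comp (Ext.mk₀ (S.map L).g) (add_zero n) := by
    intro z
    rw [mapExt_comp_mk₀]
    rfl
  constructor
  · rw [injective_iff_map_eq_zero]
    intro e he
    obtain ⟨z, rfl⟩ := Ext.covariant_sequence_exact₁ _ hS e (Ext.eq_zero_of_injective _) rfl
    rw [hδ] at he
    obtain ⟨y, hy⟩ := Ext.covariant_sequence_exact₃ _ hS' (L.mapExtAddHom A S.X₃ n z) rfl he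
    obtain ⟨y', rfl⟩ := h₂.2 y
    rw [← h₃.1 ((hg y').trans hy), Ext.comp_assoc_of_second_deg_zero, hS.comp_extClass,
      Ext.comp_zero]
  · intro y
    obtain ⟨z, rfl⟩ := Ext.covariant_sequence_exact₁ _ hS' y (hvan _) rfl
    obtain ⟨z', rfl⟩ := h₃.2 z
    exact ⟨z'.comp hS.extClass rfl, hδ z'⟩

theorem mapExt_bijective [EnoughInjectives C] (A : C)
    (h0 : ∀ F : C, Function.Bijective (fun g : A ⟶ F => L.map g))
    (hvan : ∀ (I : C), Injective I → ∀ (n : ℕ) (e : Ext.{w'} (L.obj A) (L.obj I) (n + 1)),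
      e = 0) :
    ∀ (n : ℕ) (F : C), Function.Bijective (L.mapExtAddHom A F n) := by
  intro n
  induction n with
  | zero =>
    intro F
    constructor
    · intro e₁ e₂ h
      obtain ⟨g₁, rfl⟩ := (Ext.mk₀_bijective _ _).2 e₁
      obtain ⟨g₂, rfl⟩ := (Ext.mk₀_bijective _ _).2 e₂
      rw [Functor.mapExtAddHom_apply, Functor.mapExtAddHom_apply, Ext.mapExactFunctor_mk₀,
        Ext.mapExactFunctor_mk₀] at h
      rw [(h0 F).1 ((Ext.mk₀_bijective _ _).1 h)]
    · intro y
      obtain ⟨g, rfl⟩ := (Ext.mk₀_bijective _ _).2 y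
      obtain ⟨g', hg'⟩ := (h0 F).2 g
      refine ⟨Ext.mk₀ g', ?_⟩
      rw [Functor.mapExtAddHom_apply, Ext.mapExactFunctor_mk₀]
      exact congrArg Ext.mk₀ hg'
  | succ n ih =>
    intro F
    let S : ShortComplex C := ShortComplex.mk (Injective.ι F) (cokernel.π (Injective.ι F))
      (cokernel.condition _)
    have hS : S.ShortExact :=
      { exact := ShortComplex.exact_cokernel (Injective.ι F)
        mono_f := inferInstanceAs (Mono (Injective.ι F))
        epi_g := inferInstanceAs (Epi (cokernel.π (Injective.ι F))) }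
    have : Injective S.X₂ := inferInstanceAs (Injective (Injective.under F))
    exact bijective_succ L A n hS (hvan S.X₂ inferInstance n) (ih S.X₂) (ih S.X₃)

end Groth.Agent.Lib.Helper15.ExtFF
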