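import Mathlib

/-!
# Symmetric / exterior squares over `𝔽₂` (helper15)
-/

namespace Helper15.F2Sq

open scoped TensorProduct

universe v w

theorem add_self' {M : Type*} [AddCommGroup M] [Module (ZMod 2) M] (x : M) : x + x = 0 := by
  have h2 : (2 : ZMod 2) = 0 := by decide
  calc x + x = (2 : ZMod 2) • x := (two_smul _ x).symm
    _ = 0 := by rw [h2, zero_smul]

theorem neg_eq' {M : Type*} [AddCommGroup M] [Module (ZMod 2) M] (x : M) : -x = x := by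
  rw [neg_eq_iff_add_eq_zero]; exact add_self' x

section General

variable {V : Type v} [AddCommGroup V] [Module (ZMod 2) V]

variable (V) in
/-- span of the squares `v ⊗ v` -/
abbrev Na : Submodule (ZMod 2) (V ⊗[ZMod 2] V) :=
  Submodule.span (ZMod 2) (Set.range fun v : V => v ⊗ₜ[ZMod 2] v)

variable (V) in
/-- span of the symmetrisations `x ⊗ y + y ⊗ x` -/
abbrev Ns : Submodule (ZMod 2) (V ⊗[ZMod 2] V) :=
  Submodule.span (ZMod 2)
    (Set.range fun p : V × V => p.1 ⊗ₜ[ZMod 2] p.2 + p.2 ⊗ₜ[ZMod 2] p.1)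

theorem sq_mem_Na (x : V) : x ⊗ₜ[ZMod 2] x ∈ Na V := Submodule.subset_span ⟨x, rfl⟩

theorem symm_mem_Ns (x y : V) : x ⊗ₜ[ZMod 2] y + y ⊗ₜ[ZMod 2] x ∈ Ns V :=
  Submodule.subset_span ⟨(x, y), rfl⟩

theorem Ns_le_Na : Ns V ≤ Na V := by
  refine Submodule.span_le.mpr ?_
  rintro _ ⟨⟨x, y⟩, rfl⟩
  have h : x ⊗ₜ[ZMod 2] y + y ⊗ₜ[ZMod 2] x =
      (x + y) ⊗ₜ[ZMod 2] (x + y) - x ⊗ₜ[ZMod 2] x - y ⊗ₜ[ZMod 2] y := by
    simp only [TensorProduct.add_tmul, TensorProduct.tmul_add]; abel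
  show x ⊗ₜ[ZMod 2] y + y ⊗ₜ[ZMod 2] x ∈ Na V
  rw [h]
  exact Submodule.sub_mem _ (Submodule.sub_mem _ (sq_mem_Na _) (sq_mem_Na _)) (sq_mem_Na _)

theorem map_mem_Ns (φ : V →ₗ[ZMod 2] V) {t : V ⊗[ZMod 2] V} (ht : t ∈ Ns V) :
    TensorProduct.map φ φ t ∈ Ns V := by
  have h : Ns V ≤ (Ns V).comap (TensorProduct.map φ φ) := by
    refine Submodule.span_le.mpr ?_
    rintro _ ⟨⟨x, y⟩, rfl⟩
    show TensorProduct.map φ φ (x ⊗ₜ[ZMod 2] y + y ⊗ₜ[ZMod 2] x) ∈ Ns V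
    rw [map_add, TensorProduct.map_tmul, TensorProduct.map_tmul]
    exact symm_mem_Ns _ _
  exact h ht

theorem map_mem_Na (φ : V →ₗ[ZMod 2] V) {t : V ⊗[ZMod 2] V} (ht : t ∈ Na V) :
    TensorProduct.map φ φ t ∈ Na V := by
  have h : Na V ≤ (Na V).comap (TensorProduct.map φ φ) := by
    refine Submodule.span_le.mpr ?_
    rintro _ ⟨x, rfl⟩
    show TensorProduct.map φ φ (x ⊗ₜ[ZMod 2] x) ∈ Na V
    rw [TensorProduct.map_tmul]
    exact sq_mem_Na _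
  exact h ht

/-- a functional killing all squares kills `Na` -/
theorem functional_Na (ω : V ⊗[ZMod 2] V →ₗ[ZMod 2] ZMod 2)
    (hω : ∀ x : V, ω (x ⊗ₜ[ZMod 2] x) = 0) {t : V ⊗[ZMod 2] V} (ht : t ∈ Na V) : ω t = 0 := by
  have h : Na V ≤ LinearMap.ker ω := by
    refine Submodule.span_le.mpr ?_
    rintro _ ⟨x, rfl⟩
    exact LinearMap.mem_ker.mpr (hω x)
  exact LinearMap.mem_ker.mp (h ht)

theorem inf_eq_of_functional (w : V ⊗[ZMod 2] V)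
    (ω : V ⊗[ZMod 2] V →ₗ[ZMod 2] ZMod 2)
    (hω : ∀ x : V, ω (x ⊗ₜ[ZMod 2] x) = 0) (hw : ω w = 1) :
    (Ns V ⊔ Submodule.span (ZMod 2) {w}) ⊓ Na V = Ns V := by
  refine le_antisymm ?_ (le_inf le_sup_left Ns_le_Na)
  rintro t ⟨htW, htNa⟩
  obtain ⟨n, hn, d, hd, rfl⟩ := Submodule.mem_sup.mp htW
  obtain ⟨c, rfl⟩ := Submodule.mem_span_singleton.mp hd
  have h0 : ω (n + c • w) = 0 := functional_Na ω hω htNa
  rw [map_add, functional_Na ω hω (Ns_le_Na hn), zero_add, map_smul, hw, smul_eq_mul,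
    _root_.mul_one] at h0
  rw [h0, zero_smul, add_zero]
  exact hn

/-! ### permutation bases -/

theorem perm_split {ι : Type w} (b : Module.Basis ι (ZMod 2) V)
    (Φ : Set (V →ₗ[ZMod 2] V)) (hinj : ∀ φ ∈ Φ, Function.Injective φ)
    (hperm : ∀ φ ∈ Φ, ∀ i, ∃ j, φ (b i) = b j) :
    ∃ W : Submodule (ZMod 2) (V ⊗[ZMod 2] V),
      (∀ φ ∈ Φ, ∀ t ∈ W, TensorProduct.map φ φ t ∈ W) ∧ W ⊓ Na V = Ns V ∧ W ⊔ Na V = ⊤ := by
  classical
  obtain ⟨B, hB⟩ : ∃ B : Module.Basis (ι × ι) (ZMod 2) (V ⊗[ZMod 2] V),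
      ∀ i j, B (i, j) = b i ⊗ₜ[ZMod 2] b j :=
    ⟨b.tensorProduct b, fun i j => Module.Basis.tensorProduct_apply b b i j⟩
  obtain ⟨W, hW⟩ : ∃ W : Submodule (ZMod 2) (V ⊗[ZMod 2] V),
      W = Submodule.span (ZMod 2) (B '' {p | p.1 ≠ p.2}) := ⟨_, rfl⟩
  obtain ⟨D, hD⟩ : ∃ D : Submodule (ZMod 2) (V ⊗[ZMod 2] V),
      D = Submodule.span (ZMod 2) (B '' {p | p.1 = p.2}) := ⟨_, rfl⟩
  have hBW : ∀ i j, i ≠ j → B (i, j) ∈ W := fun i j h => by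
    rw [hW]; exact Submodule.subset_span ⟨(i, j), h, rfl⟩
  have hdisj : Disjoint W D := by
    rw [hW, hD]
    exact B.linearIndependent.disjoint_span_image
      (Set.disjoint_left.mpr fun p hp hq => hp hq)
  -- Ns ≤ W
  have hS : (W.mkQ ∘ₗ (LinearMap.id + (TensorProduct.comm (ZMod 2) V V).toLinearMap)) = 0 := by
    refine B.ext fun p => ?_
    obtain ⟨i, j⟩ := p
    rw [hB]
    simp only [LinearMap.comp_apply, LinearMap.add_apply, LinearMap.id_apply,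
      LinearEquiv.coe_coe, TensorProduct.comm_tmul, LinearMap.zero_apply, Submodule.mkQ_apply,
      Submodule.Quotient.mk_eq_zero]
    by_cases h : i = j
    · subst h; rw [add_self']; exact W.zero_mem
    · rw [← hB, ← hB]; exact add_mem (hBW i j h) (hBW j i (Ne.symm h))
  have hNsW : Ns V ≤ W := by
    refine Submodule.span_le.mpr ?_
    rintro _ ⟨⟨x, y⟩, rfl⟩
    have := LinearMap.congr_fun hS (x ⊗ₜ[ZMod 2] y)
    have h' : x ⊗ₜ[ZMod 2] y + y ⊗ₜ[ZMod 2] x ∈ W := by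
      simpa only [LinearMap.comp_apply, LinearMap.add_apply, LinearMap.id_apply,
        LinearEquiv.coe_coe, TensorProduct.comm_tmul, LinearMap.zero_apply, Submodule.mkQ_apply,
        Submodule.Quotient.mk_eq_zero] using this
    exact h'
  -- Na ≤ Ns ⊔ D
  have hsq : ∀ x : V, x ⊗ₜ[ZMod 2] x ∈ Ns V ⊔ D := by
    intro x
    have hx : x ∈ Submodule.span (ZMod 2) (Set.range b) := by
      rw [b.span_eq]; exact Submodule.mem_top
    induction hx using Submodule.span_induction with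
    | mem y hy =>
      obtain ⟨i, rfl⟩ := hy
      refine Submodule.mem_sup_right ?_
      rw [hD, ← hB]; exact Submodule.subset_span ⟨(i, i), rfl, rfl⟩
    | zero => rw [TensorProduct.zero_tmul]; exact Submodule.zero_mem _
    | add y z _ _ hy hz =>
      have h : (y + z) ⊗ₜ[ZMod 2] (y + z) =
          y ⊗ₜ[ZMod 2] y + z ⊗ₜ[ZMod 2] z + (y ⊗ₜ[ZMod 2] z + z ⊗ₜ[ZMod 2] y) := by
        simp only [TensorProduct.add_tmul, TensorProduct.tmul_add]; abel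
      rw [h]
      exact add_mem (add_mem hy hz) (Submodule.mem_sup_left (symm_mem_Ns y z))
    | smul c y _ hy =>
      rw [TensorProduct.smul_tmul_smul]
      exact Submodule.smul_mem _ _ hy
  have hNaSD : Na V ≤ Ns V ⊔ D := by
    refine Submodule.span_le.mpr ?_
    rintro _ ⟨x, rfl⟩
    exact hsq x
  refine ⟨W, ?_, ?_, ?_⟩
  · intro φ hφ t ht
    have h : W ≤ W.comap (TensorProduct.map φ φ) := by
      intro u hu
      rw [hW] at hu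
      induction hu using Submodule.span_induction with
      | mem y hy =>
        obtain ⟨⟨i, j⟩, hij, rfl⟩ := hy
        obtain ⟨i', hi'⟩ := hperm φ hφ i
        obtain ⟨j', hj'⟩ := hperm φ hφ j
        have hne : i' ≠ j' := by
          intro h
          apply hij
          show i = j
          apply b.injective
          apply hinj φ hφ
          rw [hi', hj', h]
        show TensorProduct.map φ φ (B (i, j)) ∈ W
        rw [hB, TensorProduct.map_tmul, hi', hj', ← hB]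
        exact hBW i' j' hne
      | zero => exact Submodule.zero_mem _
      | add y z _ _ hy hz => exact Submodule.add_mem _ hy hz
      | smul c y _ hy => exact Submodule.smul_mem _ c hy
    exact h ht
  · refine le_antisymm ?_ (le_inf hNsW Ns_le_Na)
    rintro t ⟨htW, htNa⟩
    obtain ⟨n, hn, d, hd, rfl⟩ := Submodule.mem_sup.mp (hNaSD htNa)
    have hdW : d ∈ W := by
      have := W.sub_mem htW (hNsW hn)
      rwa [add_sub_cancel_left] at this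
    have hd0 : d = 0 := Submodule.disjoint_def.mp hdisj d hdW hd
    rw [hd0, add_zero]; exact hn
  · rw [eq_top_iff, ← B.span_eq]
    refine Submodule.span_le.mpr ?_
    rintro _ ⟨⟨i, j⟩, rfl⟩
    by_cases h : i = j
    · subst h
      refine Submodule.mem_sup_right ?_
      rw [hB]; exact sq_mem_Na _
    · exact Submodule.mem_sup_left (hBW i j h)

/-- an involution of an `𝔽₂`-vector space permutes some basis -/
theorem exists_perm_basis (s : V →ₗ[ZMod 2] V) (hss : ∀ x, s (s x) = x) :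
    ∃ (ι : Type v) (b : Module.Basis ι (ZMod 2) V), ∀ i, ∃ j, s (b i) = b j := by
  obtain ⟨N, hN⟩ : ∃ N : V →ₗ[ZMod 2] V, ∀ x, N x = s x + x :=
    ⟨s + LinearMap.id, fun x => rfl⟩
  have hNN : ∀ x, N (N x) = 0 := by
    intro x
    rw [hN, hN, map_add, hss, add_comm (s x) x]
    exact add_self' _
  have hNs : ∀ x, N (s x) = N x := by
    intro x
    rw [hN, hN, hss, add_comm]
  have hfix : ∀ x, N x = 0 → s x = x := by
    intro x hx
    rw [hN] at hx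
    rw [eq_neg_of_add_eq_zero_left hx, neg_eq']
  obtain ⟨C, hC⟩ := Submodule.exists_isCompl (LinearMap.ker N)
  obtain ⟨Z0, hZ0⟩ := Submodule.exists_isCompl (LinearMap.range N)
  obtain ⟨Z, hZ⟩ : ∃ Z : Submodule (ZMod 2) V, Z = Z0 ⊓ LinearMap.ker N := ⟨_, rfl⟩
  have hCK : ∀ x, x ∈ C → N x = 0 → x = 0 := fun x hx hx0 =>
    Submodule.disjoint_def.mp hC.disjoint x (LinearMap.mem_ker.mpr hx0) hx
  have hZK : ∀ z, z ∈ Z → N z = 0 := fun z hz => by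
    rw [hZ] at hz; exact LinearMap.mem_ker.mp hz.2
  have hZR : ∀ z, z ∈ Z → z ∈ LinearMap.range N → z = 0 := fun z hz hr => by
    rw [hZ] at hz
    exact Submodule.disjoint_def.mp hZ0.disjoint z hr hz.1
  obtain ⟨f, hf⟩ : ∃ f : ((C × C) × Z) →ₗ[ZMod 2] V,
      ∀ p, f p = (p.1.1 : V) + s p.1.2 + p.2 :=
    ⟨LinearMap.coprod (LinearMap.coprod C.subtype (s ∘ₗ C.subtype)) Z.subtype, fun p => by
      simp only [LinearMap.coprod_apply, Submodule.subtype_apply, LinearMap.comp_apply]⟩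
  have hinj : Function.Injective f := by
    rw [injective_iff_map_eq_zero]
    rintro ⟨⟨x, y⟩, z⟩ h
    rw [hf] at h
    simp only at h
    have h1 : N (x : V) + N (y : V) = 0 := by
      have := congrArg N h
      rwa [map_add, map_add, hNs, hZK z z.2, add_zero, map_zero] at this
    have h2 : (x : V) + y = 0 := by
      refine hCK _ (C.add_mem x.2 y.2) ?_
      rw [map_add]; exact h1
    have h3 : (y : V) = x := by
      rw [eq_neg_of_add_eq_zero_left h2, neg_eq']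
    have h4 : N (x : V) + z = 0 := by
      rw [hN, add_comm (s (x : V)) x]
      rw [h3] at h
      exact h
    have h5 : (z : V) = N x := by
      rw [eq_neg_of_add_eq_zero_left h4, neg_eq']
    have h6 : (z : V) = 0 := hZR z z.2 ⟨x, h5.symm⟩
    have h7 : (x : V) = 0 := by
      refine hCK _ x.2 ?_
      rw [← h5, h6]
    have h8 : (y : V) = 0 := h3.trans h7
    refine Prod.ext (Prod.ext (Subtype.ext h7) (Subtype.ext h8)) (Subtype.ext h6)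
  have hdec : ∀ x : V, ∃ κ ∈ LinearMap.ker N, ∃ c ∈ C, κ + c = x := by
    intro x
    have : x ∈ LinearMap.ker N ⊔ C := by rw [hC.sup_eq_top]; exact Submodule.mem_top
    exact Submodule.mem_sup.mp this
  have hsurj : Function.Surjective f := by
    intro x
    obtain ⟨κ, hκ, c, hc, rfl⟩ := hdec x
    have : κ ∈ LinearMap.range N ⊔ Z0 := by rw [hZ0.sup_eq_top]; exact Submodule.mem_top
    obtain ⟨r, hr, z0, hz0, rfl⟩ := Submodule.mem_sup.mp this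
    obtain ⟨x', rfl⟩ := LinearMap.mem_range.mp hr
    obtain ⟨κ', hκ', c', hc', rfl⟩ := hdec x'
    have hz0K : z0 ∈ LinearMap.ker N := by
      have := Submodule.sub_mem _ hκ (LinearMap.mem_ker.mpr (hNN (κ' + c')))
      rwa [add_sub_cancel_left] at this
    have hz0Z : z0 ∈ Z := by rw [hZ]; exact ⟨hz0, hz0K⟩
    refine ⟨((⟨c + c', C.add_mem hc hc'⟩, ⟨c', hc'⟩), ⟨z0, hz0Z⟩), ?_⟩
    rw [hf]
    simp only
    rw [map_add N κ' c', LinearMap.mem_ker.mp hκ', zero_add, hN]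
    abel
  obtain ⟨e, he⟩ : ∃ e : ((C × C) × Z) ≃ₗ[ZMod 2] V,
      ∀ p, e p = (p.1.1 : V) + s p.1.2 + p.2 :=
    ⟨LinearEquiv.ofBijective f ⟨hinj, hsurj⟩, fun p => hf p⟩
  obtain ⟨bC, -⟩ : ∃ bC : Module.Basis (Module.Basis.ofVectorSpaceIndex (ZMod 2) C) (ZMod 2) C,
      True := ⟨Module.Basis.ofVectorSpace _ _, trivial⟩
  obtain ⟨bZ, -⟩ : ∃ bZ : Module.Basis (Module.Basis.ofVectorSpaceIndex (ZMod 2) Z) (ZMod 2) Z,
      True := ⟨Module.Basis.ofVectorSpace _ _, trivial⟩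
  obtain ⟨b, hb⟩ : ∃ b : Module.Basis _ (ZMod 2) V, b = ((bC.prod bC).prod bZ).map e :=
    ⟨_, rfl⟩
  have hb1 : ∀ i, b (Sum.inl (Sum.inl i)) = (bC i : V) := by
    intro i
    rw [hb, Module.Basis.map_apply, he]
    simp [Module.Basis.prod_apply]
  have hb2 : ∀ i, b (Sum.inl (Sum.inr i)) = s (bC i : V) := by
    intro i
    rw [hb, Module.Basis.map_apply, he]
    simp [Module.Basis.prod_apply]
  have hb3 : ∀ j, b (Sum.inr j) = (bZ j : V) := by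
    intro j
    rw [hb, Module.Basis.map_apply, he]
    simp [Module.Basis.prod_apply]
  refine ⟨_, b, ?_⟩
  rintro ((i | i) | j)
  · exact ⟨Sum.inl (Sum.inr i), by rw [hb1, hb2]⟩
  · exact ⟨Sum.inl (Sum.inl i), by rw [hb2, hb1, hss]⟩
  · exact ⟨Sum.inr j, by rw [hb3]; exact hfix _ (hZK _ (bZ j).2)⟩

end General

section Dim2

variable {V : Type v} [AddCommGroup V] [Module (ZMod 2) V]

theorem expand_w (e0 e1 : V) (a1 a2 b1 b2 : ZMod 2) :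
    (a1 • e0 + a2 • e1) ⊗ₜ[ZMod 2] (a1 • e0 + a2 • e1) +
        (b1 • e0 + b2 • e1) ⊗ₜ[ZMod 2] (b1 • e0 + b2 • e1) +
        (a1 • e0 + a2 • e1) ⊗ₜ[ZMod 2] (b1 • e0 + b2 • e1) =
      (a1 * a1 + b1 * b1 + a1 * b1) • (e0 ⊗ₜ[ZMod 2] e0) +
        (a1 * a2 + b1 * b2 + a1 * b2) • (e0 ⊗ₜ[ZMod 2] e1) +
        (a2 * a1 + b2 * b1 + a2 * b1) • (e1 ⊗ₜ[ZMod 2] e0) +
        (a2 * a2 + b2 * b2 + a2 * b2) • (e1 ⊗ₜ[ZMod 2] e1) := by
  simp only [TensorProduct.add_tmul, TensorProduct.tmul_add, TensorProduct.smul_tmul_smul]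
  module

theorem coef_of_det : ∀ a1 a2 b1 b2 : ZMod 2, a1 * b2 + a2 * b1 = 1 →
    ∃ c : ZMod 2, a1 * a1 + b1 * b1 + a1 * b1 = 1 ∧ a1 * a2 + b1 * b2 + a1 * b2 = 1 + c ∧
      a2 * a1 + b2 * b1 + a2 * b1 = c ∧ a2 * a2 + b2 * b2 + a2 * b2 = 1 := by decide

theorem det_of_inj : ∀ a1 a2 b1 b2 : ZMod 2, ¬(a1 = 0 ∧ a2 = 0) → ¬(b1 = 0 ∧ b2 = 0) →
    ¬(a1 = b1 ∧ a2 = b2) → a1 * b2 + a2 * b1 = 1 := by decide

theorem map_w (φ : V →ₗ[ZMod 2] V) (e0 e1 : V) (a1 a2 b1 b2 : ZMod 2)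
    (h0 : φ e0 = a1 • e0 + a2 • e1) (h1 : φ e1 = b1 • e0 + b2 • e1)
    (hdet : a1 * b2 + a2 * b1 = 1) :
    ∃ c : ZMod 2,
      TensorProduct.map φ φ (e0 ⊗ₜ[ZMod 2] e0 + e1 ⊗ₜ[ZMod 2] e1 + e0 ⊗ₜ[ZMod 2] e1) =
        (e0 ⊗ₜ[ZMod 2] e0 + e1 ⊗ₜ[ZMod 2] e1 + e0 ⊗ₜ[ZMod 2] e1) +
          c • (e0 ⊗ₜ[ZMod 2] e1 + e1 ⊗ₜ[ZMod 2] e0) := by
  obtain ⟨c, h00, h01, h10, h11⟩ := coef_of_det a1 a2 b1 b2 hdet
  refine ⟨c, ?_⟩
  rw [map_add, map_add, TensorProduct.map_tmul, TensorProduct.map_tmul, TensorProduct.map_tmul,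
    h0, h1, expand_w, h00, h01, h10, h11]
  module

theorem dim2_split (b : Module.Basis (Fin 2) (ZMod 2) V)
    (Φ : Set (V →ₗ[ZMod 2] V)) (hinj : ∀ φ ∈ Φ, Function.Injective φ) :
    ∃ W : Submodule (ZMod 2) (V ⊗[ZMod 2] V),
      (∀ φ ∈ Φ, ∀ t ∈ W, TensorProduct.map φ φ t ∈ W) ∧ W ⊓ Na V = Ns V ∧ W ⊔ Na V = ⊤ := by
  obtain ⟨e0, he0⟩ : ∃ e0 : V, e0 = b 0 := ⟨_, rfl⟩
  obtain ⟨e1, he1⟩ : ∃ e1 : V, e1 = b 1 := ⟨_, rfl⟩
  have hrepr : ∀ x : V, x = b.repr x 0 • e0 + b.repr x 1 • e1 := by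
    intro x
    have := b.sum_repr x
    rw [Fin.sum_univ_two] at this
    rw [he0, he1]; exact this.symm
  have hne0 : e0 ≠ 0 := by rw [he0]; exact b.ne_zero 0
  have hne1 : e1 ≠ 0 := by rw [he1]; exact b.ne_zero 1
  have hne01 : e0 ≠ e1 := by
    rw [he0, he1]; intro h; exact absurd (b.injective h) (by decide)
  obtain ⟨w, hw⟩ : ∃ w : V ⊗[ZMod 2] V,
      w = e0 ⊗ₜ[ZMod 2] e0 + e1 ⊗ₜ[ZMod 2] e1 + e0 ⊗ₜ[ZMod 2] e1 := ⟨_, rfl⟩
  obtain ⟨B, hB⟩ : ∃ B : Module.Basis (Fin 2 × Fin 2) (ZMod 2) (V ⊗[ZMod 2] V),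
      B = b.tensorProduct b := ⟨_, rfl⟩
  obtain ⟨ω, hω⟩ : ∃ ω : V ⊗[ZMod 2] V →ₗ[ZMod 2] ZMod 2,
      ω = B.coord (0, 1) - B.coord (1, 0) := ⟨_, rfl⟩
  have hωsq : ∀ x : V, ω (x ⊗ₜ[ZMod 2] x) = 0 := by
    intro x
    rw [hω, LinearMap.sub_apply, Module.Basis.coord_apply, Module.Basis.coord_apply, hB,
      Module.Basis.tensorProduct_repr_tmul_apply, Module.Basis.tensorProduct_repr_tmul_apply,
      smul_eq_mul, smul_eq_mul]
    ring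
  have hωw : ω w = 1 := by
    rw [hw, hω, he0, he1, hB]
    simp [Module.Basis.tensorProduct_repr_tmul_apply, Finsupp.single_apply]
  obtain ⟨W, hW⟩ : ∃ W : Submodule (ZMod 2) (V ⊗[ZMod 2] V),
      W = Ns V ⊔ Submodule.span (ZMod 2) {w} := ⟨_, rfl⟩
  have hwW : w ∈ W := by
    rw [hW]; exact Submodule.mem_sup_right (Submodule.mem_span_singleton_self w)
  have hNsW : Ns V ≤ W := by rw [hW]; exact le_sup_left
  refine ⟨W, ?_, ?_, ?_⟩
  · intro φ hφ t ht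
    obtain ⟨a1, ha1⟩ : ∃ a1, a1 = b.repr (φ e0) 0 := ⟨_, rfl⟩
    obtain ⟨a2, ha2⟩ : ∃ a2, a2 = b.repr (φ e0) 1 := ⟨_, rfl⟩
    obtain ⟨b1, hb1⟩ : ∃ b1, b1 = b.repr (φ e1) 0 := ⟨_, rfl⟩
    obtain ⟨b2, hb2⟩ : ∃ b2, b2 = b.repr (φ e1) 1 := ⟨_, rfl⟩
    have h0 : φ e0 = a1 • e0 + a2 • e1 := by rw [ha1, ha2]; exact hrepr (φ e0)
    have h1 : φ e1 = b1 • e0 + b2 • e1 := by rw [hb1, hb2]; exact hrepr (φ e1)
    have hdet : a1 * b2 + a2 * b1 = 1 := by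
      refine det_of_inj a1 a2 b1 b2 ?_ ?_ ?_
      · rintro ⟨h, h'⟩
        rw [h, h', zero_smul, zero_smul, add_zero] at h0
        exact hne0 (hinj φ hφ (h0.trans (map_zero φ).symm))
      · rintro ⟨h, h'⟩
        rw [h, h', zero_smul, zero_smul, add_zero] at h1
        exact hne1 (hinj φ hφ (h1.trans (map_zero φ).symm))
      · rintro ⟨h, h'⟩
        rw [h, h'] at h0
        exact hne01 (hinj φ hφ (h0.trans h1.symm))
    obtain ⟨c, hc⟩ := map_w φ e0 e1 a1 a2 b1 b2 h0 h1 hdet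
    have hφw : TensorProduct.map φ φ w ∈ W := by
      rw [hw, hc, ← hw]
      exact W.add_mem hwW (W.smul_mem c (hNsW (symm_mem_Ns e0 e1)))
    rw [hW] at ht
    obtain ⟨n, hn, d, hd, rfl⟩ := Submodule.mem_sup.mp ht
    obtain ⟨c', rfl⟩ := Submodule.mem_span_singleton.mp hd
    rw [map_add, map_smul]
    exact W.add_mem (hNsW (map_mem_Ns φ hn)) (W.smul_mem c' hφw)
  · rw [hW]; exact inf_eq_of_functional w ω hωsq hωw
  · have h00 : e0 ⊗ₜ[ZMod 2] e0 ∈ W ⊔ Na V := Submodule.mem_sup_right (sq_mem_Na _)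
    have h11 : e1 ⊗ₜ[ZMod 2] e1 ∈ W ⊔ Na V := Submodule.mem_sup_right (sq_mem_Na _)
    have h01 : e0 ⊗ₜ[ZMod 2] e1 ∈ W ⊔ Na V := by
      have : e0 ⊗ₜ[ZMod 2] e1 = w - e0 ⊗ₜ[ZMod 2] e0 - e1 ⊗ₜ[ZMod 2] e1 := by rw [hw]; abel
      rw [this]
      exact Submodule.sub_mem _ (Submodule.sub_mem _ (Submodule.mem_sup_left hwW) h00) h11
    have h10 : e1 ⊗ₜ[ZMod 2] e0 ∈ W ⊔ Na V := by
      have : e1 ⊗ₜ[ZMod 2] e0 =
          (e0 ⊗ₜ[ZMod 2] e1 + e1 ⊗ₜ[ZMod 2] e0) - e0 ⊗ₜ[ZMod 2] e1 := by abel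
      rw [this]
      exact Submodule.sub_mem _ (Submodule.mem_sup_left (hNsW (symm_mem_Ns e0 e1))) h01
    have hall : ∀ i : Fin 2, ∀ j : Fin 2, b i ⊗ₜ[ZMod 2] b j ∈ W ⊔ Na V := by
      refine Fin.forall_fin_two.mpr
        ⟨Fin.forall_fin_two.mpr ⟨?_, ?_⟩, Fin.forall_fin_two.mpr ⟨?_, ?_⟩⟩
      · rw [← he0]; exact h00
      · rw [← he0, ← he1]; exact h01
      · rw [← he1, ← he0]; exact h10
      · rw [← he1]; exact h11
    rw [eq_top_iff, ← B.span_eq]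
    refine Submodule.span_le.mpr ?_
    rintro _ ⟨⟨i, j⟩, rfl⟩
    show B (i, j) ∈ W ⊔ Na V
    rw [hB, Module.Basis.tensorProduct_apply]
    exact hall i j

end Dim2

section LemmaK

variable {V : Type v} [AddCommGroup V] [Module (ZMod 2) V]

/-- the alternating functional attached to two linear forms -/
noncomputable def alt (f g : V →ₗ[ZMod 2] ZMod 2) : V ⊗[ZMod 2] V →ₗ[ZMod 2] ZMod 2 :=
  LinearMap.mul' (ZMod 2) (ZMod 2) ∘ₗ TensorProduct.map f g -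
    LinearMap.mul' (ZMod 2) (ZMod 2) ∘ₗ TensorProduct.map g f

theorem alt_tmul (f g : V →ₗ[ZMod 2] ZMod 2) (p q : V) :
    alt f g (p ⊗ₜ[ZMod 2] q) = f p * g q - g p * f q := by
  simp [alt]

theorem alt_sq (f g : V →ₗ[ZMod 2] ZMod 2) (p : V) : alt f g (p ⊗ₜ[ZMod 2] p) = 0 := by
  rw [alt_tmul]; ring

theorem alt_eq_of_sub_mem (f g : V →ₗ[ZMod 2] ZMod 2) {s t : V ⊗[ZMod 2] V}
    (h : s - t ∈ Na V) : alt f g s = alt f g t := by
  have := functional_Na (alt f g) (alt_sq f g) h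
  rwa [map_sub, sub_eq_zero] at this

theorem mem_span_left {x y u v : V} (hxy : x ⊗ₜ[ZMod 2] y ∉ Na V)
    (h : u ⊗ₜ[ZMod 2] v - x ⊗ₜ[ZMod 2] y ∈ Na V) :
    u ∈ Submodule.span (ZMod 2) ({x, y} : Set V) := by
  by_contra hu
  obtain ⟨f, hfu, hf⟩ := Submodule.exists_dual_map_eq_bot_of_notMem hu inferInstance
  have hfP : ∀ z ∈ Submodule.span (ZMod 2) ({x, y} : Set V), f z = 0 := fun z hz => by
    have : f z ∈ (Submodule.span (ZMod 2) ({x, y} : Set V)).map f :=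
      Submodule.mem_map_of_mem hz
    rw [hf] at this
    exact (Submodule.mem_bot _).mp this
  have hfx : f x = 0 := hfP x (Submodule.subset_span (by simp))
  have hfy : f y = 0 := hfP y (Submodule.subset_span (by simp))
  have hfu1 : f u = 1 := by
    have h01 : ∀ z : ZMod 2, z ≠ 0 → z = 1 := by decide
    exact h01 _ hfu
  have hv : v - f v • u = 0 := by
    rw [← Module.forall_dual_apply_eq_zero_iff (ZMod 2)]
    intro g
    have := alt_eq_of_sub_mem f g h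
    rw [alt_tmul, alt_tmul, hfx, hfy, hfu1] at this
    rw [map_sub, map_smul, smul_eq_mul]
    linear_combination this
  have hv' : v = f v • u := sub_eq_zero.mp hv
  have huv : u ⊗ₜ[ZMod 2] v = f v • (u ⊗ₜ[ZMod 2] u) :=
    calc u ⊗ₜ[ZMod 2] v = u ⊗ₜ[ZMod 2] (f v • u) := by rw [← hv']
      _ = f v • (u ⊗ₜ[ZMod 2] u) := TensorProduct.tmul_smul _ _ _
  have huvNa : u ⊗ₜ[ZMod 2] v ∈ Na V := by
    rw [huv]; exact Submodule.smul_mem _ _ (sq_mem_Na u)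
  apply hxy
  have : x ⊗ₜ[ZMod 2] y = u ⊗ₜ[ZMod 2] v - (u ⊗ₜ[ZMod 2] v - x ⊗ₜ[ZMod 2] y) := by abel
  rw [this]
  exact Submodule.sub_mem _ huvNa h

theorem mem_span_right {x y u v : V} (hxy : x ⊗ₜ[ZMod 2] y ∉ Na V)
    (h : u ⊗ₜ[ZMod 2] v - x ⊗ₜ[ZMod 2] y ∈ Na V) :
    v ∈ Submodule.span (ZMod 2) ({x, y} : Set V) := by
  by_contra hv0
  obtain ⟨f, hfv, hf⟩ := Submodule.exists_dual_map_eq_bot_of_notMem hv0 inferInstance
  have hfP : ∀ z ∈ Submodule.span (ZMod 2) ({x, y} : Set V), f z = 0 := fun z hz => by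
    have : f z ∈ (Submodule.span (ZMod 2) ({x, y} : Set V)).map f :=
      Submodule.mem_map_of_mem hz
    rw [hf] at this
    exact (Submodule.mem_bot _).mp this
  have hfx : f x = 0 := hfP x (Submodule.subset_span (by simp))
  have hfy : f y = 0 := hfP y (Submodule.subset_span (by simp))
  have hfv1 : f v = 1 := by
    have h01 : ∀ z : ZMod 2, z ≠ 0 → z = 1 := by decide
    exact h01 _ hfv
  have hu : u - f u • v = 0 := by
    rw [← Module.forall_dual_apply_eq_zero_iff (ZMod 2)]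
    intro g
    have := alt_eq_of_sub_mem f g h
    rw [alt_tmul, alt_tmul, hfx, hfy, hfv1] at this
    rw [map_sub, map_smul, smul_eq_mul]
    linear_combination -this
  have hu' : u = f u • v := sub_eq_zero.mp hu
  have huv : u ⊗ₜ[ZMod 2] v = f u • (v ⊗ₜ[ZMod 2] v) :=
    calc u ⊗ₜ[ZMod 2] v = (f u • v) ⊗ₜ[ZMod 2] v := by rw [← hu']
      _ = f u • (v ⊗ₜ[ZMod 2] v) := (TensorProduct.smul_tmul' _ _ _).symm
  have huvNa : u ⊗ₜ[ZMod 2] v ∈ Na V := by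
    rw [huv]; exact Submodule.smul_mem _ _ (sq_mem_Na v)
  apply hxy
  have : x ⊗ₜ[ZMod 2] y = u ⊗ₜ[ZMod 2] v - (u ⊗ₜ[ZMod 2] v - x ⊗ₜ[ZMod 2] y) := by abel
  rw [this]
  exact Submodule.sub_mem _ huvNa h

theorem exists_coeffs {x y u v : V} (hxy : x ⊗ₜ[ZMod 2] y ∉ Na V)
    (h : u ⊗ₜ[ZMod 2] v - x ⊗ₜ[ZMod 2] y ∈ Na V) :
    ∃ a1 a2 b1 b2 : ZMod 2, u = a1 • x + a2 • y ∧ v = b1 • x + b2 • y ∧
      a1 * b2 + a2 * b1 = 1 := by
  obtain ⟨a1, a2, hu⟩ := Submodule.mem_span_pair.mp (mem_span_left hxy h)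
  obtain ⟨b1, b2, hv⟩ := Submodule.mem_span_pair.mp (mem_span_right hxy h)
  refine ⟨a1, a2, b1, b2, hu.symm, hv.symm, ?_⟩
  by_contra hd
  have h01 : ∀ p q : ZMod 2, p + q ≠ 1 → p = q := by decide
  have hm := h01 _ _ hd
  apply hxy
  have huv : u ⊗ₜ[ZMod 2] v ∈ Na V := by
    rw [← hu, ← hv]
    have : (a1 • x + a2 • y) ⊗ₜ[ZMod 2] (b1 • x + b2 • y) =
        (a1 * b1) • (x ⊗ₜ[ZMod 2] x) + (a2 * b1) • (x ⊗ₜ[ZMod 2] y + y ⊗ₜ[ZMod 2] x) +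
          (a2 * b2) • (y ⊗ₜ[ZMod 2] y) := by
      simp only [TensorProduct.add_tmul, TensorProduct.tmul_add, TensorProduct.smul_tmul_smul,
        hm]
      module
    rw [this]
    exact add_mem (add_mem (Submodule.smul_mem _ _ (sq_mem_Na x))
      (Submodule.smul_mem _ _ (Ns_le_Na (symm_mem_Ns x y))))
      (Submodule.smul_mem _ _ (sq_mem_Na y))
  have : x ⊗ₜ[ZMod 2] y = u ⊗ₜ[ZMod 2] v - (u ⊗ₜ[ZMod 2] v - x ⊗ₜ[ZMod 2] y) := by abel
  rw [this]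
  exact Submodule.sub_mem _ huv h

theorem dim3_decomp (b : Module.Basis (Fin 3) (ZMod 2) V) (t : V ⊗[ZMod 2] V) :
    ∃ x y : V, t - x ⊗ₜ[ZMod 2] y ∈ Na V := by
  obtain ⟨e0, he0⟩ : ∃ e0 : V, e0 = b 0 := ⟨_, rfl⟩
  obtain ⟨e1, he1⟩ : ∃ e1 : V, e1 = b 1 := ⟨_, rfl⟩
  obtain ⟨e2, he2⟩ : ∃ e2 : V, e2 = b 2 := ⟨_, rfl⟩
  obtain ⟨M, hM⟩ : ∃ M : Submodule (ZMod 2) (V ⊗[ZMod 2] V),
      M = Na V ⊔ Submodule.span (ZMod 2)
        {e0 ⊗ₜ[ZMod 2] e1, e0 ⊗ₜ[ZMod 2] e2, e1 ⊗ₜ[ZMod 2] e2} := ⟨_, rfl⟩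
  have hNaM : Na V ≤ M := by rw [hM]; exact le_sup_left
  have h01 : e0 ⊗ₜ[ZMod 2] e1 ∈ M := by
    rw [hM]; exact Submodule.mem_sup_right (Submodule.subset_span (by simp))
  have h02 : e0 ⊗ₜ[ZMod 2] e2 ∈ M := by
    rw [hM]; exact Submodule.mem_sup_right (Submodule.subset_span (by simp))
  have h12 : e1 ⊗ₜ[ZMod 2] e2 ∈ M := by
    rw [hM]; exact Submodule.mem_sup_right (Submodule.subset_span (by simp))
  have hswap : ∀ p q : V, p ⊗ₜ[ZMod 2] q ∈ M → q ⊗ₜ[ZMod 2] p ∈ M := by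
    intro p q hpq
    have : q ⊗ₜ[ZMod 2] p = (p ⊗ₜ[ZMod 2] q + q ⊗ₜ[ZMod 2] p) - p ⊗ₜ[ZMod 2] q := by abel
    rw [this]
    exact Submodule.sub_mem _ (hNaM (Ns_le_Na (symm_mem_Ns p q))) hpq
  have h3 : ∀ i : Fin 3, i = 0 ∨ i = 1 ∨ i = 2 := by decide
  have hall : ∀ i : Fin 3, ∀ j : Fin 3, b i ⊗ₜ[ZMod 2] b j ∈ M := by
    intro i j
    rcases h3 i with rfl | rfl | rfl
    · rcases h3 j with rfl | rfl | rfl
      · rw [← he0]; exact hNaM (sq_mem_Na _)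
      · rw [← he0, ← he1]; exact h01
      · rw [← he0, ← he2]; exact h02
    · rcases h3 j with rfl | rfl | rfl
      · rw [← he1, ← he0]; exact hswap _ _ h01
      · rw [← he1]; exact hNaM (sq_mem_Na _)
      · rw [← he1, ← he2]; exact h12
    · rcases h3 j with rfl | rfl | rfl
      · rw [← he2, ← he0]; exact hswap _ _ h02
      · rw [← he2, ← he1]; exact hswap _ _ h12
      · rw [← he2]; exact hNaM (sq_mem_Na _)
  have hMtop : M = ⊤ := by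
    rw [eq_top_iff, ← (b.tensorProduct b).span_eq]
    refine Submodule.span_le.mpr ?_
    rintro _ ⟨⟨i, j⟩, rfl⟩
    show (b.tensorProduct b) (i, j) ∈ M
    rw [Module.Basis.tensorProduct_apply]
    exact hall i j
  have htM : t ∈ Na V ⊔ Submodule.span (ZMod 2)
      {e0 ⊗ₜ[ZMod 2] e1, e0 ⊗ₜ[ZMod 2] e2, e1 ⊗ₜ[ZMod 2] e2} := by
    rw [← hM, hMtop]; exact Submodule.mem_top
  obtain ⟨n, hn, m, hm, rfl⟩ := Submodule.mem_sup.mp htM
  obtain ⟨α, β, γ, rfl⟩ := Submodule.mem_span_triple.mp hm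
  have h2 : ∀ z : ZMod 2, z = 0 ∨ z = 1 := by decide
  rcases h2 α with rfl | rfl
  · refine ⟨β • e0 + γ • e1, e2, ?_⟩
    have : n + ((0 : ZMod 2) • e0 ⊗ₜ[ZMod 2] e1 + β • e0 ⊗ₜ[ZMod 2] e2 + γ • e1 ⊗ₜ[ZMod 2] e2) -
        (β • e0 + γ • e1) ⊗ₜ[ZMod 2] e2 = n := by
      simp only [TensorProduct.add_tmul, ← TensorProduct.smul_tmul']
      module
    rw [this]; exact hn
  · refine ⟨e0 + γ • e2, e1 + β • e2, ?_⟩
    have : n + ((1 : ZMod 2) • e0 ⊗ₜ[ZMod 2] e1 + β • e0 ⊗ₜ[ZMod 2] e2 + γ • e1 ⊗ₜ[ZMod 2] e2) -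
        (e0 + γ • e2) ⊗ₜ[ZMod 2] (e1 + β • e2) =
        n + γ • (e1 ⊗ₜ[ZMod 2] e2 + e2 ⊗ₜ[ZMod 2] e1) - (γ * β) • (e2 ⊗ₜ[ZMod 2] e2) -
          (γ + γ) • (e2 ⊗ₜ[ZMod 2] e1) := by
      simp only [TensorProduct.add_tmul, TensorProduct.tmul_add, TensorProduct.tmul_smul,
        ← TensorProduct.smul_tmul']
      module
    rw [this, add_self' γ, zero_smul, sub_zero]
    exact Submodule.sub_mem _ (Submodule.add_mem _ hn
      (Submodule.smul_mem _ _ (Ns_le_Na (symm_mem_Ns e1 e2))))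
      (Submodule.smul_mem _ _ (sq_mem_Na e2))

theorem dim3_lift (b : Module.Basis (Fin 3) (ZMod 2) V) (Φ : Set (V →ₗ[ZMod 2] V))
    (t : V ⊗[ZMod 2] V) (ht : ∀ φ ∈ Φ, TensorProduct.map φ φ t - t ∈ Na V) :
    ∃ t' : V ⊗[ZMod 2] V, t' - t ∈ Na V ∧ ∀ φ ∈ Φ, TensorProduct.map φ φ t' - t' ∈ Ns V := by
  obtain ⟨x, y, hxy⟩ := dim3_decomp b t
  by_cases hNa : x ⊗ₜ[ZMod 2] y ∈ Na V
  · refine ⟨0, ?_, fun φ _ => ?_⟩
    · have : (0 : V ⊗[ZMod 2] V) - t = -((t - x ⊗ₜ[ZMod 2] y) + x ⊗ₜ[ZMod 2] y) := by abel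
      rw [this]
      exact Submodule.neg_mem _ (Submodule.add_mem _ hxy hNa)
    · rw [map_zero, sub_zero]; exact Submodule.zero_mem _
  · refine ⟨x ⊗ₜ[ZMod 2] x + y ⊗ₜ[ZMod 2] y + x ⊗ₜ[ZMod 2] y, ?_, fun φ hφ => ?_⟩
    · have : x ⊗ₜ[ZMod 2] x + y ⊗ₜ[ZMod 2] y + x ⊗ₜ[ZMod 2] y - t =
          x ⊗ₜ[ZMod 2] x + y ⊗ₜ[ZMod 2] y - (t - x ⊗ₜ[ZMod 2] y) := by abel
      rw [this]
      exact Submodule.sub_mem _ (Submodule.add_mem _ (sq_mem_Na x) (sq_mem_Na y)) hxy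
    · have h1 : TensorProduct.map φ φ (t - x ⊗ₜ[ZMod 2] y) ∈ Na V := map_mem_Na φ hxy
      have h2 : φ x ⊗ₜ[ZMod 2] φ y - x ⊗ₜ[ZMod 2] y ∈ Na V := by
        have : φ x ⊗ₜ[ZMod 2] φ y - x ⊗ₜ[ZMod 2] y =
            (TensorProduct.map φ φ t - t) - TensorProduct.map φ φ (t - x ⊗ₜ[ZMod 2] y) +
              (t - x ⊗ₜ[ZMod 2] y) := by
          rw [map_sub, TensorProduct.map_tmul]; abel
        rw [this]
        exact Submodule.add_mem _ (Submodule.sub_mem _ (ht φ hφ) h1) hxy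
      obtain ⟨a1, a2, b1, b2, hu, hv, hdet⟩ := exists_coeffs hNa h2
      obtain ⟨c, hc⟩ := map_w φ x y a1 a2 b1 b2 hu hv hdet
      rw [hc, add_sub_cancel_left]
      exact Submodule.smul_mem _ c (symm_mem_Ns x y)

end LemmaK

end Helper15.F2Sq
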