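import Groth.Agent.Lib.Helper15.NoethDescent
import Groth.Agent.Lib.Helper16.Points
import Groth.Agent.Lib.Helper16.EtLocal
import Groth.Agent.Lib.Helper16.FibreProduct
import Groth.Agent.Lib.Helper16.Charts
import Mathlib.AlgebraicGeometry.Morphisms.QuasiFinite
import Mathlib.AlgebraicGeometry.Morphisms.UniversallyOpen

/-!
# Helper library (helper15): locally Noetherian algebraic spaces under base change of field valued points
-/

set_option autoImplicit false
universe u
open CategoryTheory CategoryTheory.Limits AlgebraicGeometry Opposite MorphismProperty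

namespace Groth.Agent.Lib.Helper15

open AlgSp Groth.Agent.Lib.Helper16

variable {S : Scheme.{u}}

/-- Every etale chart of a locally Noetherian sheaf is locally Noetherian. -/
theorem isLocallyNoetherian_of_chart {F : Sp S} (hF : IsLocNoethSp F) {U : Over S}
    (a : (yon S).obj U ⟶ F) (ha : RepWith @Etale a) : IsLocallyNoetherian U.left := by
  obtain ⟨U₀, p₀, hp₀e, hp₀s, hN⟩ := hF
  obtain ⟨U₃, π, k', sq⟩ := hp₀e.rep a
  obtain ⟨k, rfl⟩ := (yon S).map_surjective k'
  have hπe : Etale π.left := hp₀e.property _ _ _ sq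
  have hπs : Surjective π.left := hp₀s.property _ _ _ sq
  have hke : Etale k.left := ha.property _ _ _ sq.flip
  haveI : IsLocallyNoetherian U₀.left := hN
  haveI : IsLocallyNoetherian U₃.left := LocallyOfFiniteType.isLocallyNoetherian k.left
  exact isLocallyNoetherian_of_flat_of_surjective π.left π.left.isOpenMap

/-- Descent of local Noetherianity along the base change of a flat, surjective, universally open morphism of schemes. -/
theorem isLocNoethSp_of_isPullback_of_flat_surjective_open {G G' : Sp S} {E K : Over S} (d : E ⟶ K)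
    (hd1 : Flat d.left) (hd2 : Surjective d.left) (hd3 : UniversallyOpen d.left)
    (hG : IsAlgSpace G) (gs : G ⟶ (yon S).obj K) (m : G' ⟶ G) (gs' : G' ⟶ (yon S).obj E)
    (sq : IsPullback m gs' gs ((yon S).map d)) (hG' : IsLocNoethSp G') : IsLocNoethSp G := by
  obtain ⟨UQ, aQ, hae, has⟩ := hG.atlas
  have h1 : RepWith @Flat ((yon S).map d) := (repWith_yon_map_iff _ _).2 hd1
  have h2 : RepWith @Surjective ((yon S).map d) := (repWith_yon_map_iff _ _).2 hd2
  have h3 : RepWith @UniversallyOpen ((yon S).map d) := (repWith_yon_map_iff _ _).2 hd3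
  obtain ⟨U₂, pr₂, fst₂, sq₂⟩ := h1.rep (aQ ≫ gs)
  have hfl : Flat pr₂.left := h1.property _ _ _ sq₂
  have hsu : Surjective pr₂.left := h2.property _ _ _ sq₂
  have hop : UniversallyOpen pr₂.left := h3.property _ _ _ sq₂
  let a₂ : (yon S).obj U₂ ⟶ G' := sq.lift ((yon S).map pr₂ ≫ aQ) fst₂ (by rw [Category.assoc, sq₂.w])
  have ha₂ : a₂ ≫ gs' = fst₂ := sq.lift_snd _ _ _
  have ha₂' : a₂ ≫ m = (yon S).map pr₂ ≫ aQ := sq.lift_fst _ _ _
  have sq₃ : IsPullback a₂ ((yon S).map pr₂) m aQ := by
    refine IsPullback.of_right ?_ ha₂' sq.flip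
    rw [ha₂]
    exact sq₂
  have ha₂e : RepWith @Etale a₂ := (RepWith @Etale).of_isPullback sq₃.flip hae
  haveI : IsLocallyNoetherian U₂.left := isLocallyNoetherian_of_chart hG' a₂ ha₂e
  exact ⟨UQ, aQ, hae, has, isLocallyNoetherian_of_flat_of_surjective pr₂.left pr₂.left.isOpenMap⟩

/-- Local Noetherianity ascends along the base change of a morphism of schemes locally of finite type. -/
theorem isLocNoethSp_of_isPullback_of_locallyOfFiniteType {G G' : Sp S} {E K : Over S} (e : E ⟶ K)
    (he : LocallyOfFiniteType e.left)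
    (gs : G ⟶ (yon S).obj K) (m : G' ⟶ G) (gs' : G' ⟶ (yon S).obj E)
    (sq : IsPullback m gs' gs ((yon S).map e)) (hG : IsLocNoethSp G) : IsLocNoethSp G' := by
  obtain ⟨U₀, a₀, hae, has, hN⟩ := hG
  have h1 : RepWith @LocallyOfFiniteType ((yon S).map e) := (repWith_yon_map_iff _ _).2 he
  obtain ⟨U₁, pr, fst₁, sq₁⟩ := h1.rep (a₀ ≫ gs)
  have hlft : LocallyOfFiniteType pr.left := h1.property _ _ _ sq₁
  let a₁ : (yon S).obj U₁ ⟶ G' := sq.lift ((yon S).map pr ≫ a₀) fst₁ (by rw [Category.assoc, sq₁.w])
  have ha₁ : a₁ ≫ gs' = fst₁ := sq.lift_snd _ _ _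
  have ha₁' : a₁ ≫ m = (yon S).map pr ≫ a₀ := sq.lift_fst _ _ _
  have sq₃ : IsPullback a₁ ((yon S).map pr) m a₀ := by
    refine IsPullback.of_right ?_ ha₁' sq.flip
    rw [ha₁]
    exact sq₁
  haveI : IsLocallyNoetherian U₀.left := hN
  exact ⟨U₁, a₁, (RepWith @Etale).of_isPullback sq₃.flip hae,
    (RepWith @Surjective).of_isPullback sq₃.flip has, LocallyOfFiniteType.isLocallyNoetherian pr.left⟩

/-- A morphism from the spectrum of a field to a scheme factors through the residue field of the point it hits. -/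
theorem exists_factor_fromSpecResidueField {V : Scheme.{u}} {K : Type u} [Field K]
    (m : Spec (CommRingCat.of K) ⟶ V) (v : V) (h : m (IsLocalRing.closedPoint K) = v) :
    ∃ d : Spec (CommRingCat.of K) ⟶ Spec (V.residueField v), d ≫ V.fromSpecResidueField v = m := by
  subst h
  exact ⟨Spec.map (V.descResidueField (Scheme.stalkClosedPointTo m)),
    Scheme.descResidueField_stalkClosedPointTo_fromSpecResidueField K V m⟩

/-- The residue field of a point of a scheme etale over a field is finite over that field. -/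
theorem locallyOfFiniteType_fromSpecResidueField_comp {T : Scheme.{u}} {k : Type u} [Field k]
    (s : T ⟶ Spec (CommRingCat.of k)) [Etale s] (t : T) :
    LocallyOfFiniteType (T.fromSpecResidueField t ≫ s) := by
  haveI : LocallyQuasiFinite s := locallyQuasiFinite_of_unramified s
  haveI : LocallyQuasiFinite (T.fromSpecResidueField t ≫ s) := inferInstance
  haveI : IsLocallyArtinian (Spec (CommRingCat.of k)) := Scheme.isLocallyArtinianScheme_Spec.mpr inferInstance
  haveI : QuasiCompact (T.fromSpecResidueField t ≫ s) :=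
    (HasAffineProperty.iff_of_isAffine (P := @QuasiCompact)).2 inferInstance
  haveI : IsFinite (T.fromSpecResidueField t ≫ s) := IsFinite.of_locallyQuasiFinite _
  infer_instance

end Groth.Agent.Lib.Helper15
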