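import Groth.Agent.Lib.Helper15.FibreNoeth
import Mathlib.AlgebraicGeometry.Morphisms.FlatMono
import Mathlib.AlgebraicGeometry.Morphisms.UniversallyInjective

/-!
# Helper library (helper15): locally Noetherian fibres, independence of the representing field valued point
-/

set_option autoImplicit false
universe u
open CategoryTheory CategoryTheory.Limits AlgebraicGeometry Opposite MorphismProperty

namespace Groth.Agent.Lib.Helper15

open AlgSp Groth.Agent.Lib.Helper16

variable {S : Scheme.{u}}

/-- Given an etale chart `b : h_V ⟶ Y` and a point `v` of `V` over the point of a field valued point `p`, the point of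
the fibre of `V` over `p` lying over `v`: its residue field is finite over the field of `p` and contains `κ(v)`. -/
theorem exists_finite_residue_ext {Y : Sp S} (p : FieldPt Y) {V : Over S} (b : (yon S).obj V ⟶ Y)
    (hb : RepWith @Etale b) (v : ↥V.left) (hv : Points.ofPt b v = Points.mk p) :
    ∃ (E : Over S) (e : E ⟶ p.pt) (d : E ⟶ (FieldPt.ofPt b v).pt), LocallyOfFiniteType e.left ∧
      Nonempty ↥E.left ∧ (yon S).map e ≫ p.toHom = (yon S).map d ≫ (FieldPt.ofPt b v).toHom := by
  have hrel : FieldPt.Rel p (FieldPt.ofPt b v) := Points.mk_eq_mk_iff.1 hv.symm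
  rw [rel_iff_toHom] at hrel
  obtain ⟨Ω, _, w, a, c, hac⟩ := hrel
  obtain ⟨T, snd, fst', sqT⟩ := hb.rep p.toHom
  obtain ⟨t₁, rfl⟩ := (yon S).map_surjective fst'
  haveI hsnd : Etale snd.left := hb.property _ _ _ sqT
  let ιv : (FieldPt.ofPt b v).pt ⟶ V := Over.homMk (V.left.fromSpecResidueField v) rfl
  have hq' : (FieldPt.ofPt b v).toHom = (yon S).map ιv ≫ b := FieldPt.toHom_ofPt b v
  obtain ⟨ℓ, hℓ⟩ := (yon S).map_surjective
    (sqT.lift ((yon S).map (c ≫ ιv)) ((yon S).map a)
      (by rw [Functor.map_comp, Category.assoc, ← hq', hac]))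
  have hℓ1 : ℓ ≫ t₁ = c ≫ ιv := (yon S).map_injective (by
    rw [Functor.map_comp, hℓ, sqT.lift_fst])
  let t : ↥T.left := ℓ.left (IsLocalRing.closedPoint Ω)
  have ht : t₁.left t = v := by
    have h0 : (ℓ ≫ t₁).left = (c ≫ ιv).left := congrArg CommaMorphism.left hℓ1
    have h := congrArg (fun φ : Spec (CommRingCat.of Ω) ⟶ V.left => φ (IsLocalRing.closedPoint Ω)) h0
    simp only [Over.comp_left, Scheme.Hom.comp_apply] at h
    rw [h]
    exact Scheme.fromSpecResidueField_apply _ _
  let E : Over S := Over.mk (T.left.fromSpecResidueField t ≫ T.hom)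
  let ιt : E ⟶ T := Over.homMk (T.left.fromSpecResidueField t) rfl
  let e : E ⟶ p.pt := ιt ≫ snd
  have he : LocallyOfFiniteType e.left :=
    locallyOfFiniteType_fromSpecResidueField_comp (k := p.K) snd.left t
  obtain ⟨d₀, hd₀⟩ := exists_factor_fromSpecResidueField
    (K := ↥(T.left.residueField t)) (T.left.fromSpecResidueField t ≫ t₁.left) v (by
      rw [Scheme.Hom.comp_apply, Scheme.fromSpecResidueField_apply]
      exact ht)
  let d : E ⟶ (FieldPt.ofPt b v).pt := Over.homMk d₀ (by
    show d₀ ≫ (V.left.fromSpecResidueField v ≫ V.hom) = T.left.fromSpecResidueField t ≫ T.hom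
    rw [← Category.assoc, hd₀, Category.assoc, Over.w t₁])
  have hd : d ≫ ιv = ιt ≫ t₁ := Over.OverMorphism.ext hd₀
  refine ⟨E, e, d, he,
    ⟨(IsLocalRing.closedPoint ↥(T.left.residueField t) : ↥(Spec (T.left.residueField t)))⟩, ?_⟩
  rw [hq', ← Category.assoc, ← Functor.map_comp, hd, Functor.map_comp, Functor.map_comp,
    Category.assoc, Category.assoc, sqT.w]

/-- If two field valued points `p`, `q` of `Y` are dominated by a scheme `E`, locally of finite type over the field of
`p`, and the fibre of `f` over `p` is locally Noetherian, then so is the fibre over `q`. -/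
theorem isLocNoethSp_fibre_of_common_ext {X Y : Sp S} (hX : IsAlgSpace X) (hY : IsAlgSpace Y) (f : X ⟶ Y)
    (p q : FieldPt Y) (E : Over S) (e : E ⟶ p.pt) (d : E ⟶ q.pt) (he : LocallyOfFiniteType e.left)
    (hE : Nonempty ↥E.left) (hed : (yon S).map e ≫ p.toHom = (yon S).map d ≫ q.toHom)
    (hP : IsLocNoethSp (pullback f p.toHom))
    {Q : Sp S} (qfst : Q ⟶ X) (qsnd : Q ⟶ (yon S).obj q.pt) (hQ : IsPullback qfst qsnd f q.toHom) :
    IsLocNoethSp Q := by
  have sqP := IsPullback.of_hasPullback f p.toHom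
  have sqPE := IsPullback.of_hasPullback (pullback.snd f p.toHom) ((yon S).map e)
  have hPE : IsLocNoethSp (pullback (pullback.snd f p.toHom) ((yon S).map e)) :=
    isLocNoethSp_of_isPullback_of_locallyOfFiniteType e he _ _ _ sqPE hP
  have hbig := sqPE.paste_horiz sqP
  rw [hed] at hbig
  let m : pullback (pullback.snd f p.toHom) ((yon S).map e) ⟶ Q :=
    hQ.lift (pullback.fst (pullback.snd f p.toHom) ((yon S).map e) ≫ pullback.fst f p.toHom)
      (pullback.snd (pullback.snd f p.toHom) ((yon S).map e) ≫ (yon S).map d)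
      (by simpa only [Category.assoc] using hbig.w)
  have hm1 : m ≫ qfst = pullback.fst (pullback.snd f p.toHom) ((yon S).map e) ≫
      pullback.fst f p.toHom := hQ.lift_fst _ _ _
  have hm2 : m ≫ qsnd = pullback.snd (pullback.snd f p.toHom) ((yon S).map e) ≫
      (yon S).map d := hQ.lift_snd _ _ _
  have sqQ : IsPullback m (pullback.snd (pullback.snd f p.toHom) ((yon S).map e)) qsnd
      ((yon S).map d) := by
    refine IsPullback.of_right ?_ hm2 hQ
    rw [hm1]
    exact hbig
  have hQalg : IsAlgSpace Q :=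
    isAlgSpace_of_isPullback hX hY.diag (IsAlgSpace.yon_obj _) hQ
  haveI : IsIntegral q.pt.left := inferInstanceAs (IsIntegral (Spec (CommRingCat.of q.K)))
  haveI : Subsingleton ↥q.pt.left := inferInstanceAs (Subsingleton (PrimeSpectrum q.K))
  have hsurj : Surjective d.left := ⟨fun x => ⟨hE.some, Subsingleton.elim _ _⟩⟩
  exact isLocNoethSp_of_isPullback_of_flat_surjective_open d inferInstance hsurj inferInstance
    hQalg qsnd m _ sqQ hPE

/-- If `p₀` is a field valued point of `Y` whose morphism is a monomorphism, then the residue field point of an etale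
chart at a point over the point of `p₀` factors through `p₀`. -/
theorem exists_factor_of_mono {Y : Sp S} {V : Over S} (b : (yon S).obj V ⟶ Y) (hb : RepWith @Etale b)
    (v : ↥V.left) (p₀ : FieldPt Y) [Mono p₀.toHom] (hv : Points.ofPt b v = Points.mk p₀) :
    ∃ g : (FieldPt.ofPt b v).pt ⟶ p₀.pt, (yon S).map g ≫ p₀.toHom = (FieldPt.ofPt b v).toHom := by
  have hrel : FieldPt.Rel (FieldPt.ofPt b v) p₀ := Points.mk_eq_mk_iff.1 hv
  rw [rel_iff_toHom] at hrel
  obtain ⟨Ω, _, w, a, c, hac⟩ := hrel
  obtain ⟨T, snd, fst', sqT⟩ := hb.rep p₀.toHom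
  obtain ⟨t₁, rfl⟩ := (yon S).map_surjective fst'
  let ιv : (FieldPt.ofPt b v).pt ⟶ V := Over.homMk (V.left.fromSpecResidueField v) rfl
  have hq' : (FieldPt.ofPt b v).toHom = (yon S).map ιv ≫ b := FieldPt.toHom_ofPt b v
  obtain ⟨ℓ, hℓ⟩ := (yon S).map_surjective
    (sqT.lift ((yon S).map (a ≫ ιv)) ((yon S).map c)
      (by rw [Functor.map_comp, Category.assoc, ← hq', hac]))
  have hℓ1 : ℓ ≫ t₁ = a ≫ ιv := (yon S).map_injective (by
    rw [Functor.map_comp, hℓ, sqT.lift_fst])
  let t : ↥T.left := ℓ.left (IsLocalRing.closedPoint Ω)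
  have ht : t₁.left t = v := by
    have h0 : (ℓ ≫ t₁).left = (a ≫ ιv).left := congrArg CommaMorphism.left hℓ1
    have h := congrArg (fun φ : Spec (CommRingCat.of Ω) ⟶ V.left => φ (IsLocalRing.closedPoint Ω)) h0
    simp only [Over.comp_left, Scheme.Hom.comp_apply] at h
    rw [h]
    exact Scheme.fromSpecResidueField_apply _ _
  -- `t₁` is a monomorphism
  haveI : Mono ((yon S).map t₁) := ⟨fun {W} g₁ g₂ h => by
    apply sqT.hom_ext h
    rw [← cancel_mono p₀.toHom, Category.assoc, Category.assoc, ← sqT.w, ← Category.assoc, h,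
      Category.assoc]⟩
  haveI : Mono t₁ := (yon S).mono_of_mono_map inferInstance
  haveI : Mono t₁.left := inferInstance
  -- the fibre of `T` over `v`
  let pr₁ := pullback.fst (V.left.fromSpecResidueField v) t₁.left
  let pr₂ := pullback.snd (V.left.fromSpecResidueField v) t₁.left
  haveI : Mono pr₁ := inferInstance
  obtain ⟨z, hz1, hz2⟩ := Scheme.Pullback.exists_preimage_pullback
    (f := V.left.fromSpecResidueField v) (g := t₁.left)
    (IsLocalRing.closedPoint ↥(V.left.residueField v) : ↥(Spec (V.left.residueField v))) t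
    (by rw [Scheme.fromSpecResidueField_apply, ht])
  haveI : Subsingleton ↥(Spec (V.left.residueField v)) :=
    inferInstanceAs (Subsingleton (PrimeSpectrum ↥(V.left.residueField v)))
  haveI : Surjective pr₁ := ⟨fun x => ⟨z, Subsingleton.elim _ _⟩⟩
  haveI : Subsingleton ↥(pullback (V.left.fromSpecResidueField v) t₁.left) :=
    pr₁.injective.subsingleton
  haveI : QuasiCompact pr₁ := (HasAffineProperty.iff_of_isAffine (P := @QuasiCompact)).2 inferInstance
  have hiso : IsIso pr₁ := Flat.isIso_of_surjective_of_mono pr₁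
  obtain ⟨s, hs⟩ : ∃ s : Spec (V.left.residueField v) ⟶ pullback (V.left.fromSpecResidueField v) t₁.left,
      s ≫ pr₁ = 𝟙 _ := ⟨@inv _ _ _ _ pr₁ hiso, @IsIso.inv_hom_id _ _ _ _ pr₁ hiso⟩
  have hcond : pr₁ ≫ V.left.fromSpecResidueField v = pr₂ ≫ t₁.left := pullback.condition
  have hs2 : (s ≫ pr₂) ≫ t₁.left = V.left.fromSpecResidueField v := by
    rw [Category.assoc, ← hcond, ← Category.assoc, hs, Category.id_comp]
  let ζ : (FieldPt.ofPt b v).pt ⟶ T :=
    CategoryTheory.Over.homMk (U := (FieldPt.ofPt b v).pt) (V := T) (s ≫ pr₂) (by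
      show (s ≫ pr₂) ≫ T.hom = V.left.fromSpecResidueField v ≫ V.hom
      rw [← Over.w t₁, ← Category.assoc, hs2])
  have hζ : ζ ≫ t₁ = ιv := Over.OverMorphism.ext hs2
  refine ⟨ζ ≫ snd, ?_⟩
  rw [Functor.map_comp, Category.assoc, ← sqT.w, ← Category.assoc, ← Functor.map_comp, hζ, hq']

end Groth.Agent.Lib.Helper15
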