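import Mathlib

/-!
# Helper library (helper15): an open point of a scheme étale over a field is the spectrum of a field
-/

set_option autoImplicit false
universe u
open CategoryTheory CategoryTheory.Limits AlgebraicGeometry Opposite Topology

namespace Groth.Agent.Lib.Helper15

/-- An open point of a scheme étale over a field is the spectrum of a field. -/
theorem exists_field_chart_of_isOpen_singleton {k : Type u} [Field k] {Y : Scheme.{u}}
    (m : Y ⟶ Spec (CommRingCat.of k)) [Etale m] (y : Y) (hy : IsOpen ({y} : Set Y)) :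
    ∃ (k' : Type u) (_ : Field k') (i : Spec (CommRingCat.of k') ⟶ Y),
      IsOpenImmersion i ∧ Set.range i = {y} := by
  obtain ⟨W, hW⟩ : ∃ W : Y.Opens, (W : Set Y) = {y} := ⟨⟨{y}, hy⟩, rfl⟩
  have hmemW : ∀ z : (W : Scheme.{u}), W.ι z = y := by
    intro z
    have h1 : W.ι z ∈ Set.range W.ι := ⟨z, rfl⟩
    rw [Scheme.Opens.range_ι, hW] at h1
    exact h1
  haveI : Subsingleton ↥(W : Scheme.{u}) :=
    ⟨fun a b => W.ι.isOpenEmbedding.injective ((hmemW a).trans (hmemW b).symm)⟩
  obtain ⟨w0, hw0⟩ : ∃ w0 : (W : Scheme.{u}), W.ι w0 = y := by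
    have : y ∈ Set.range W.ι := by rw [Scheme.Opens.range_ι, hW]; rfl
    exact this
  haveI : Nonempty ↥(W : Scheme.{u}) := ⟨w0⟩
  have hRet : ((W.ι ≫ m).appTop).hom.Etale :=
    HasRingHomProperty.appTop (P := @Etale) (W.ι ≫ m) inferInstance
  obtain ⟨φ, hφdef⟩ : ∃ φ : CommRingCat.of k ⟶ Γ((W : Scheme.{u}), ⊤),
      φ = (Scheme.ΓSpecIso (CommRingCat.of k)).inv ≫ (W.ι ≫ m).appTop := ⟨_, rfl⟩
  have hφ : φ.hom.Etale := by
    rw [hφdef, CommRingCat.hom_comp]
    exact RingHom.Etale.stableUnderComposition _ _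
      (RingHom.Etale.of_bijective (ConcreteCategory.bijective_of_isIso _)) hRet
  haveI hred : _root_.IsReduced Γ((W : Scheme.{u}), ⊤) := by
    algebraize [φ.hom]
    exact Algebra.FormallyUnramified.isReduced_of_field k Γ((W : Scheme.{u}), ⊤)
  haveI : IsReduced (W : Scheme.{u}) := isReduced_of_isAffine_isReduced _
  haveI : IrreducibleSpace ↥(W : Scheme.{u}) :=
    { toPreirreducibleSpace := inferInstance, toNonempty := inferInstance }
  haveI : IsIntegral (W : Scheme.{u}) := isIntegral_of_irreducibleSpace_of_isReduced _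
  have hF : IsField Γ((W : Scheme.{u}), ⊤) := isField_of_isIntegral_of_subsingleton _
  letI : Field ↑Γ((W : Scheme.{u}), ⊤) := hF.toField
  refine ⟨↑Γ((W : Scheme.{u}), ⊤), inferInstance, (W : Scheme.{u}).isoSpec.inv ≫ W.ι, inferInstance, ?_⟩
  ext z
  constructor
  · rintro ⟨s, rfl⟩
    exact hmemW _
  · intro hz
    refine ⟨(W : Scheme.{u}).isoSpec.hom w0, ?_⟩
    have h1 : ((W : Scheme.{u}).isoSpec.hom ≫ (W : Scheme.{u}).isoSpec.inv) w0 = w0 := by
      rw [Iso.hom_inv_id]; rfl
    rw [Scheme.Hom.comp_apply] at h1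
    rw [Scheme.Hom.comp_apply, h1, hw0]
    exact hz.symm

end Groth.Agent.Lib.Helper15
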