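import Mathlib
import Groth.Prelude.Def_GSzGalSym
import Groth.Agent.Lib.Helper15.Hilbert90Et

/-!
# Helper15: relative Galois descent on `(Spec F)_et` and Hilbert 90 over every etale `Spec F`-scheme

* `descentRel`: Galois descent of sections along `Spec L ⟶ Spec K` (`L/F` Galois, `K ⊆ L`).
* `exists_lift_section_rel`: sections of `Q` over `Spec K` lift to `I` for `0 → G_m → I → Q → 0`.
* `exists_lift_section_all`: the same over every object of the small etale site of `Spec F`.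
* `epi_push_map`: hence `u_* I → u_* Q` is an epimorphism for every `u : Spec F ⟶ X₀`.
-/

set_option autoImplicit false
set_option backward.isDefEq.respectTransparency false
universe u
open CategoryTheory CategoryTheory.Limits AlgebraicGeometry Opposite
open Groth.Agent.Lib.Helper13

namespace Groth.Agent.Lib.Helper15
namespace FieldSiteRel
open FieldSite Hilbert90Et

section Basic
variable {F : Type u} [Field F]

lemma sp_subsingleton (K : Type u) [Field K] [Algebra F K] [FiniteDimensional F K]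
    [Algebra.IsSeparable F K] (x y : (sp F K).left) : x = y :=
  (inferInstance : Subsingleton (PrimeSpectrum K)).elim x y

lemma spHom_injective {K K' : Type u} [Field K] [Algebra F K] [FiniteDimensional F K]
    [Algebra.IsSeparable F K] [Field K'] [Algebra F K'] [FiniteDimensional F K']
    [Algebra.IsSeparable F K'] : Function.Injective (spHom : (K →ₐ[F] K') → (sp F K' ⟶ sp F K)) := by
  intro φ ψ h
  have h1 : Spec.map (CommRingCat.ofHom φ.toRingHom) = Spec.map (CommRingCat.ofHom ψ.toRingHom) :=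
    congrArg (fun a => a.left) h
  have h2 := Spec.map_injective h1
  apply AlgHom.ext
  intro x
  exact congrArg (fun a : CommRingCat.of K ⟶ CommRingCat.of K' => a.hom x) h2

end Basic

section Rel
variable (F : Type u) [Field F]
variable (K L : Type u) [Field K] [Algebra F K] [FiniteDimensional F K] [Algebra.IsSeparable F K]
  [Field L] [Algebra F L] [FiniteDimensional F L] [Algebra.IsSeparable F L]
  [Algebra K L] [IsScalarTower F K L]

/-- The structure map `Spec L ⟶ Spec K`. -/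
noncomputable def vKL : sp F L ⟶ sp F K := spHom (IsScalarTower.toAlgHom F K L)

/-- The action of `Gal(L/K)` on `Spec L`. -/
noncomputable def actK (τ : L ≃ₐ[K] L) : sp F L ⟶ sp F L := act (τ.restrictScalars F)

lemma actK_mul (τ₁ τ₂ : L ≃ₐ[K] L) : actK F K L (τ₁ * τ₂) = actK F K L τ₁ ≫ actK F K L τ₂ :=
  act_mul (τ₁.restrictScalars F) (τ₂.restrictScalars F)

lemma actK_v (τ : L ≃ₐ[K] L) : actK F K L τ ≫ vKL F K L = vKL F K L := by
  unfold actK vKL act
  rw [← spHom_comp]
  congr 1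
  apply AlgHom.ext
  intro x
  exact τ.commutes x

variable {F}

lemma toU_mapK (τ : L ≃ₐ[K] L) (b : (EtCoh.Gm (X F)).obj.obj (op (sp F L))) :
    toU F L ((EtCoh.Gm (X F)).obj.map (actK F K L τ).op b) = τ • toU F L b := by
  have h := toU_map F L (τ.restrictScalars F) b
  rw [AlgEquiv.smul_units_def] at h ⊢
  exact h.trans (Units.ext rfl)

theorem eq_of_sp_rel (P : EtDesc.Sh (X F)) (s t : P.obj.obj (op (sp F K)))
    (h : P.obj.map (vKL F K L).op s = P.obj.map (vKL F K L).op t) : s = t :=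
  EtGlue.eq_of_locally P s t
    (fun x => ⟨sp F L, vKL F K L, pt F L, sp_subsingleton K _ _, h⟩)

/-- Relative Galois descent of sections. -/
theorem descentRel [Normal F L] (P : EtDesc.Sh (X F)) (t : P.obj.obj (op (sp F L)))
    (ht : ∀ τ : L ≃ₐ[K] L, P.obj.map (actK F K L τ).op t = t) :
    ∃ t₀ : P.obj.obj (op (sp F K)), P.obj.map (vKL F K L).op t₀ = t := by
  have hcov : Sieve.ofArrows (fun _ : Unit => sp F L) (fun _ => vKL F K L) ∈
      (X F).smallEtaleTopology (sp F K) :=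
    EtGlue.ofArrows_mem _ _ (fun x => ⟨(), pt F L, sp_subsingleton K _ _⟩)
  have hsh : Presieve.IsSheafFor P.obj
      (Presieve.ofArrows (fun _ : Unit => sp F L) (fun _ => vKL F K L)) :=
    (Presieve.isSheafFor_iff_generate _).mpr (NonAbTorsor.isSheaf_type P _ hcov)
  rw [Presieve.isSheafFor_arrows_iff] at hsh
  have hcompat : Presieve.Arrows.Compatible P.obj (fun _ : Unit => vKL F K L) (fun _ => t) := by
    intro i j W h₁ h₂ hh
    show P.obj.map h₁.op t = P.obj.map h₂.op t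
    refine EtGlue.eq_of_locally P _ _ (fun w => ?_)
    obtain ⟨K', _, _, _, _, κ, p, hp⟩ := exists_field_point F W w
    refine ⟨sp F K', κ, p, hp, ?_⟩
    obtain ⟨φ₁, hφ₁⟩ := exists_spHom (κ ≫ h₁)
    obtain ⟨φ₂, hφ₂⟩ := exists_spHom (κ ≫ h₂)
    obtain ⟨σ, hσ⟩ := normal_factor φ₁ φ₂
    have hι : φ₁.comp (IsScalarTower.toAlgHom F K L) =
        φ₂.comp (IsScalarTower.toAlgHom F K L) := by
      apply spHom_injective
      rw [spHom_comp, spHom_comp, ← hφ₁, ← hφ₂]
      show (κ ≫ h₁) ≫ vKL F K L = (κ ≫ h₂) ≫ vKL F K L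
      rw [Category.assoc, Category.assoc]
      exact congrArg (fun a => κ ≫ a) hh
    have hσK : ∀ r : K, σ.toRingEquiv (algebraMap K L r) = algebraMap K L r := by
      intro r
      apply φ₁.toRingHom.injective
      have h3 : φ₁ (algebraMap K L r) = φ₂ (algebraMap K L r) :=
        congrArg (fun ψ : K →ₐ[F] K' => ψ r) hι
      have h4 : φ₂ (algebraMap K L r) = φ₁ (σ (algebraMap K L r)) := by rw [hσ]; rfl
      exact (h3.trans h4).symm
    obtain ⟨τ, hτ⟩ : ∃ τ : L ≃ₐ[K] L, τ.restrictScalars F = σ :=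
      ⟨AlgEquiv.ofRingEquiv (f := σ.toRingEquiv) hσK, AlgEquiv.ext (fun _ => rfl)⟩
    have h21 : κ ≫ h₂ = (κ ≫ h₁) ≫ actK F K L τ :=
      calc κ ≫ h₂ = spHom φ₂ := hφ₂
        _ = spHom (φ₁.comp (σ : L →ₐ[F] L)) := by rw [hσ]
        _ = spHom φ₁ ≫ act σ := spHom_comp _ _
        _ = (κ ≫ h₁) ≫ actK F K L τ := by rw [hφ₁]; unfold actK; rw [hτ]
    rw [res_res, res_res, h21, ← res_res P (κ ≫ h₁) (actK F K L τ), ht τ]
  obtain ⟨t₀, ht₀, -⟩ := hsh (fun _ => t) hcompat
  exact ⟨t₀, ht₀ ()⟩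

end Rel

section KL
variable {F : Type u} [Field F]

theorem exists_lift_section_rel {I Q : EtCoh.Ab (X F)} (f : EtCoh.Gm (X F) ⟶ I) (g : I ⟶ Q)
    (w : f ≫ g = 0) (hS : (ShortComplex.mk f g w).ShortExact)
    (K : Type u) [Field K] [Algebra F K] [FiniteDimensional F K] [Algebra.IsSeparable F K]
    (s : Q.obj.obj (op (sp F K))) :
    ∃ t : I.obj.obj (op (sp F K)), g.hom.app (op (sp F K)) t = s := by
  haveI : Epi g := hS.epi_g
  haveI : Sheaf.IsLocallySurjective g :=
    (Sheaf.isLocallySurjective_iff_epi' AddCommGrpCat.{u+1} g).mpr inferInstance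
  have hexact : ∀ (V : (X F).Etale) (y : I.obj.obj (op V)), g.hom.app (op V) y = 0 →
      ∃ b : (EtCoh.Gm (X F)).obj.obj (op V), f.hom.app (op V) b = y :=
    fun V y hy => sect_exact _ hS V y hy
  have hinj : ∀ V : (X F).Etale, Function.Injective (f.hom.app (op V)) :=
    fun V => sect_inj _ hS V
  have hfg : ∀ (V : (X F).Etale) (b : (EtCoh.Gm (X F)).obj.obj (op V)),
      g.hom.app (op V) (f.hom.app (op V) b) = 0 := by
    intro V b
    have := congrArg (fun φ : EtCoh.Gm (X F) ⟶ Q => φ.hom.app (op V) b) w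
    exact this
  -- a local lift
  have hmem := Presheaf.imageSieve_mem (X F).smallEtaleTopology g.hom s
  rw [EtGlue.mem_iff] at hmem
  obtain ⟨Z, gZ, z, ⟨tZ, htZ⟩, -⟩ := hmem (pt F K)
  obtain ⟨K₁, _, _, _, _, k, p, -⟩ := exists_field_point F Z z
  obtain ⟨L, _, _, _, _, _, ⟨ι₁⟩⟩ := exists_galois_closure F K₁
  obtain ⟨ι, hι⟩ := exists_spHom ((spHom ι₁ ≫ k) ≫ gZ)
  letI : Algebra K L := ι.toRingHom.toAlgebra
  haveI : IsScalarTower F K L :=
    IsScalarTower.of_algebraMap_eq (fun r => (ι.commutes r).symm)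
  haveI : FiniteDimensional K L := FiniteDimensional.right F K L
  have hv : (spHom ι₁ ≫ k) ≫ gZ = vKL F K L := by
    rw [hι]
    unfold vKL
    congr 1
  obtain ⟨t, ht⟩ : ∃ t : I.obj.obj (op (sp F L)),
      g.hom.app (op (sp F L)) t = Q.obj.map (vKL F K L).op s := by
    refine ⟨I.obj.map (spHom ι₁ ≫ k).op tZ, ?_⟩
    rw [NatTrans.naturality_apply, htZ, ← hv, ← Functor.map_comp_apply, ← op_comp]
  -- the cocycle
  have hA_mul : ∀ (σ τ : L ≃ₐ[K] L) (y : I.obj.obj (op (sp F L))),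
      I.obj.map (actK F K L (σ * τ)).op y =
        I.obj.map (actK F K L σ).op (I.obj.map (actK F K L τ).op y) := by
    intro σ τ y
    rw [actK_mul, op_comp, Functor.map_comp_apply]
  have hgA : ∀ σ : L ≃ₐ[K] L, g.hom.app (op (sp F L)) (I.obj.map (actK F K L σ).op t) =
      g.hom.app (op (sp F L)) t := by
    intro σ
    rw [NatTrans.naturality_apply, ht, ← Functor.map_comp_apply, ← op_comp, actK_v F K L σ]
  have hgc : ∀ σ : L ≃ₐ[K] L,
      g.hom.app (op (sp F L)) (I.obj.map (actK F K L σ).op t - t) = 0 := by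
    intro σ
    rw [map_sub, hgA σ, sub_self]
  choose b hb using fun σ : L ≃ₐ[K] L => hexact (sp F L) _ (hgc σ)
  have hfnat : ∀ (σ : L ≃ₐ[K] L) (x : (EtCoh.Gm (X F)).obj.obj (op (sp F L))),
      f.hom.app (op (sp F L)) ((EtCoh.Gm (X F)).obj.map (actK F K L σ).op x) =
        I.obj.map (actK F K L σ).op (f.hom.app (op (sp F L)) x) :=
    fun σ x => NatTrans.naturality_apply f.hom (actK F K L σ).op x
  have hcoc : ∀ σ τ : L ≃ₐ[K] L,
      b (σ * τ) = (EtCoh.Gm (X F)).obj.map (actK F K L σ).op (b τ) + b σ := by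
    intro σ τ
    apply hinj (sp F L)
    rw [map_add, hfnat, hb, hb, hb, hA_mul, map_sub]
    abel
  have hβ : groupCohomology.IsMulCocycle₁ (fun σ : L ≃ₐ[K] L => toU F L (b σ)) := by
    intro σ τ
    show toU F L (b (σ * τ)) = σ • toU F L (b τ) * toU F L (b σ)
    rw [hcoc, toU_add, toU_mapK]
  obtain ⟨β₀, hβ₀⟩ :=
    groupCohomology.isMulCoboundary₁_of_isMulCocycle₁_of_aut_to_units _ hβ
  have hb₀ : ∀ σ : L ≃ₐ[K] L,
      (EtCoh.Gm (X F)).obj.map (actK F K L σ).op (ofU F L β₀) - ofU F L β₀ = b σ := by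
    intro σ
    apply toU_injective F L
    rw [toU_sub, toU_mapK, toU_ofU]
    exact hβ₀ σ
  obtain ⟨t', ht'⟩ : ∃ t' : I.obj.obj (op (sp F L)),
      t' = t - f.hom.app (op (sp F L)) (ofU F L β₀) := ⟨_, rfl⟩
  have ht'inv : ∀ σ : L ≃ₐ[K] L, I.obj.map (actK F K L σ).op t' = t' := by
    intro σ
    have h1 : (EtCoh.Gm (X F)).obj.map (actK F K L σ).op (ofU F L β₀) = b σ + ofU F L β₀ :=
      eq_add_of_sub_eq (hb₀ σ)
    rw [ht', map_sub, ← hfnat, h1, map_add, hb]
    abel
  have hgt' : g.hom.app (op (sp F L)) t' = Q.obj.map (vKL F K L).op s := by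
    rw [ht', map_sub, hfg, sub_zero, ht]
  -- descent
  obtain ⟨t₀, ht₀⟩ := descentRel K L
    ((sheafCompose (X F).smallEtaleTopology (forget AddCommGrpCat.{u+1})).obj I) t' ht'inv
  refine ⟨t₀, ?_⟩
  refine eq_of_sp_rel K L
    ((sheafCompose (X F).smallEtaleTopology (forget AddCommGrpCat.{u+1})).obj Q) _ _ ?_
  show Q.obj.map (vKL F K L).op (g.hom.app (op (sp F K)) t₀) = Q.obj.map (vKL F K L).op s
  rw [← NatTrans.naturality_apply]
  have : I.obj.map (vKL F K L).op t₀ = t' := ht₀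
  rw [this, hgt']

theorem exists_field_point_mono (F : Type u) [Field F] (W : (X F).Etale) (w : W.left) :
    ∃ (K : Type u) (_ : Field K) (_ : Algebra F K) (_ : FiniteDimensional F K)
      (_ : Algebra.IsSeparable F K) (k : sp F K ⟶ W) (p : (sp F K).left),
      k.left p = w ∧ Mono k.left := by
  obtain ⟨R, j, hjo, ⟨p', hp'⟩, -⟩ :=
    Scheme.exists_affine_mem_range_and_range_subset (x := w) (U := ⊤) trivial
  haveI := hjo
  obtain ⟨ψ, hψ⟩ : ∃ ψ : CommRingCat.of F ⟶ R, Spec.map ψ = j ≫ W.hom :=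
    ⟨Spec.preimage _, Spec.map_preimage _⟩
  have hψe : ψ.hom.Etale :=
    (HasRingHomProperty.Spec_iff (P := @Etale) (φ := ψ)).mp (by rw [hψ]; infer_instance)
  letI : Algebra F R := ψ.hom.toAlgebra
  have hEt : Algebra.Etale F R := hψe
  obtain ⟨I, _, Ai, _, _, e, hA⟩ := (Algebra.Etale.iff_exists_algEquiv_prod F R).mp hEt
  obtain ⟨q', hq'⟩ : ∃ q' : PrimeSpectrum R, q' = p' := ⟨p', rfl⟩
  obtain ⟨⟨i, pi⟩, hpi⟩ := (PrimeSpectrum.sigmaToPi_bijective Ai).surjective
    (PrimeSpectrum.comap (e.symm : (∀ i, Ai i) →+* R) q')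
  haveI := (hA i).1
  haveI := (hA i).2
  obtain ⟨φ, hφ⟩ : ∃ φ : R →+* Ai i,
    φ = (Pi.evalRingHom Ai i).comp (e : R →+* (∀ i, Ai i)) := ⟨_, rfl⟩
  have hφs : Function.Surjective φ := by
    rw [hφ]
    exact (Function.surjective_eval i).comp e.surjective
  have hcomp : ψ ≫ CommRingCat.ofHom φ = CommRingCat.ofHom (algebraMap F (Ai i)) := by
    apply CommRingCat.hom_ext
    apply RingHom.ext
    intro r
    show φ (ψ.hom r) = algebraMap F (Ai i) r
    rw [hφ]
    show (e (algebraMap F R r)) i = algebraMap F (Ai i) r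
    rw [e.commutes]
    rfl
  have hpt : PrimeSpectrum.comap φ pi = q' := by
    apply PrimeSpectrum.ext
    ext x
    have h2 := congrArg (fun q : PrimeSpectrum (∀ i, Ai i) => e x ∈ q.asIdeal) hpi
    rw [hφ]
    simpa using h2
  haveI : IsClosedImmersion (Spec.map (CommRingCat.ofHom φ)) :=
    IsClosedImmersion.spec_of_surjective _ hφs
  haveI : Mono (Spec.map (CommRingCat.ofHom φ) ≫ j) := mono_comp _ _
  refine ⟨Ai i, inferInstance, inferInstance, inferInstance, inferInstance,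
    MorphismProperty.Over.homMk (Spec.map (CommRingCat.ofHom φ) ≫ j) ?_ trivial, pi, ?_, ?_⟩
  · show (Spec.map (CommRingCat.ofHom φ) ≫ j) ≫ W.hom =
      Spec.map (CommRingCat.ofHom (algebraMap F (Ai i)))
    rw [Category.assoc, ← hψ, ← Spec.map_comp, hcomp]
  · show j.base ((Spec.map (CommRingCat.ofHom φ)).base pi) = w
    rw [← hp', ← hq']
    exact congrArg j.base hpt
  · show Mono (Spec.map (CommRingCat.ofHom φ) ≫ j)
    infer_instance

theorem exists_lift_section_all {I Q : EtCoh.Ab (X F)} (f : EtCoh.Gm (X F) ⟶ I) (g : I ⟶ Q)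
    (w : f ≫ g = 0) (hS : (ShortComplex.mk f g w).ShortExact)
    (W : (X F).Etale) (s : Q.obj.obj (op W)) :
    ∃ t : I.obj.obj (op W), g.hom.app (op W) t = s := by
  classical
  choose K hK1 hK2 hK3 hK4 k p hp hmono using fun x : W.left => exists_field_point_mono F W x
  choose tw htw using fun x : W.left =>
    exists_lift_section_rel f g w hS (K x) (Q.obj.map (k x).op s)
  have hcov : ∀ x : W.left, ∃ a q, (k a).left q = x := fun x => ⟨x, p x, hp x⟩
  have hdisj : ∀ a b : W.left, a ≠ b → ∀ (q : (sp F (K a)).left) (q' : (sp F (K b)).left),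
      (k a).left q ≠ (k b).left q' := by
    intro a b hab q q'
    rw [sp_subsingleton (K a) q (p a), sp_subsingleton (K b) q' (p b), hp a, hp b]
    exact hab
  obtain ⟨t, ht, -⟩ := EtGlue.glue
    ((sheafCompose (X F).smallEtaleTopology (forget AddCommGrpCat.{u+1})).obj I)
    (fun x : W.left => sp F (K x)) k hmono hdisj hcov tw
  refine ⟨t, ?_⟩
  refine EtGlue.eq_of_ofArrows
    ((sheafCompose (X F).smallEtaleTopology (forget AddCommGrpCat.{u+1})).obj Q)
    (fun x : W.left => sp F (K x)) k hcov _ _ (fun x => ?_)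
  show Q.obj.map (k x).op (g.hom.app (op W) t) = Q.obj.map (k x).op s
  rw [← NatTrans.naturality_apply]
  have h1 : I.obj.map (k x).op t = tw x := ht x
  rw [h1, htw x]

theorem epi_push_map {X₀ : Scheme.{u}} (u : X F ⟶ X₀) {I Q : EtCoh.Ab (X F)}
    (f : EtCoh.Gm (X F) ⟶ I) (g : I ⟶ Q)
    (w : f ≫ g = 0) (hS : (ShortComplex.mk f g w).ShortExact) :
    Epi ((EtCoh.push u).map g) := by
  rw [← Sheaf.isLocallySurjective_iff_epi' AddCommGrpCat.{u+1}]
  constructor
  intro U s
  obtain ⟨t, ht⟩ := exists_lift_section_all f g w hS ((EtCoh.bc u).obj U) s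
  rw [EtGlue.mem_iff]
  intro x
  refine ⟨U, 𝟙 U, x, ⟨t, ?_⟩, rfl⟩
  refine Eq.trans ht ?_
  rw [op_id, CategoryTheory.Functor.map_id]
  rfl

end KL

end FieldSiteRel
end Groth.Agent.Lib.Helper15
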