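import Mathlib
import Groth.Agent.Lib.Helper15.ClosedStalk

/-!
# Helper15: one step of the filtration of a sheaf by extensions by zero along a chain of opens

For opens `U ≤ V` of `X` and a closed immersion `c : W ⟶ V` with range the complement of `U` in `V`:
`0 → U_! F|U → V_! F|V → V_! c_* c^* F|V → 0` is short exact (checked on stalks).
-/

set_option autoImplicit false
set_option backward.isDefEq.respectTransparency false
universe u

namespace Helper15.Filt

open CategoryTheory CategoryTheory.Limits AlgebraicGeometry Opposite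
open Groth.Agent.Lib.Helper15 Groth.Agent.Lib.Helper13 Groth.Agent.Lib.Helper13.StalkPull
  Groth.Agent.Lib.Helper13.StalkConservative Groth.Agent.Lib.Helper13.EtaleRestr
  Groth.Agent.Lib.Helper13.ExtZeroExact

variable {X : Scheme.{u}}

section Lifts

variable {Ω : Type u} [Field Ω] [IsSepClosed Ω]

lemma exists_lift (U : X.Opens) (ξ : Spec (CommRingCat.of Ω) ⟶ X)
    (hp : ξ.base default ∈ (U : Set X)) :
    ∃ v : Spec (CommRingCat.of Ω) ⟶ U.toScheme, v ≫ U.ι = ξ := by
  have hrange : Set.range ξ.base ⊆ Set.range U.ι.base := by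
    rintro _ ⟨s, rfl⟩
    rw [Scheme.Opens.range_ι, Subsingleton.elim s default]
    exact hp
  exact ⟨IsOpenImmersion.lift U.ι ξ hrange, IsOpenImmersion.lift_fac _ _ _⟩

lemma base_lift (V : X.Opens) (ξ : Spec (CommRingCat.of Ω) ⟶ X)
    (v : Spec (CommRingCat.of Ω) ⟶ V.toScheme) (hv : v ≫ V.ι = ξ) :
    V.ι.base (v.base default) = ξ.base default := by
  rw [← hv]; rfl

lemma lift_mem (U : X.Opens) (ξ : Spec (CommRingCat.of Ω) ⟶ X)
    (v : Spec (CommRingCat.of Ω) ⟶ U.toScheme) (hv : v ≫ U.ι = ξ) :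
    ξ.base default ∈ (U : Set X) := by
  rw [← base_lift U ξ v hv]
  exact (v.base default).2

lemma no_lift (U : X.Opens) (ξ : Spec (CommRingCat.of Ω) ⟶ X)
    (hp : ξ.base default ∉ (U : Set X)) :
    IsEmpty {v : Spec (CommRingCat.of Ω) ⟶ U.toScheme // v ≫ U.ι = ξ} :=
  ⟨fun v => hp (lift_mem U ξ v.1 v.2)⟩

end Lifts

/-- `U_! (F|U)`. -/
noncomputable def EU (F : EtCoh.Ab X) (U : X.Opens) : EtCoh.Ab X :=
  (EtShriek.extZero U.ι).obj ((EtShriek.restrAlong U.ι).obj F)

/-- The counit `U_! (F|U) ⟶ F`. -/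
noncomputable def eps (F : EtCoh.Ab X) (U : X.Opens) : EU F U ⟶ F :=
  (EtShriek.extZeroAdj U.ι).counit.app F

section StalkBasic

variable {Ω : Type u} [Field Ω] [IsSepClosed Ω] (ξ : Spec (CommRingCat.of Ω) ⟶ X)

lemma isIso_stalk_eps (F : EtCoh.Ab X) (U : X.Opens) (hp : ξ.base default ∈ (U : Set X)) :
    IsIso ((EtCoh.stalk ξ).map (eps F U)) := by
  obtain ⟨v, hv⟩ := exists_lift U ξ hp
  exact ClosedStalk.isIso_stalk_counit U.ι F ξ v hv

lemma isZero_stalk_ext (U : X.Opens) (H : EtCoh.Ab U.toScheme)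
    (hp : ξ.base default ∉ (U : Set X)) :
    IsZero ((EtCoh.stalk ξ).obj ((EtShriek.extZero U.ι).obj H)) :=
  isZero_stalk_extZero U.ι ξ (no_lift U ξ hp) H

end StalkBasic

instance mono_eps (F : EtCoh.Ab X) (U : X.Opens) : Mono (eps F U) := by
  rw [(stalk_jointlyReflectIsomorphisms X).jointlyReflectMonomorphisms.mono_iff]
  intro p
  by_cases hp : p.ξ.base default ∈ (U : Set X)
  · haveI := isIso_stalk_eps p.ξ F U hp
    show Mono ((EtCoh.stalk p.ξ).map (eps F U))
    infer_instance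
  · exact ⟨fun a b _ => (isZero_stalk_ext p.ξ U _ hp).eq_of_tgt a b⟩

lemma eps_comp_cokernel (F : EtCoh.Ab X) {U V : X.Opens} (h : U ≤ V) :
    eps F U ≫ cokernel.π (eps F V) = 0 := by
  apply (stalk_jointlyReflectIsomorphisms X).jointlyFaithful.map_injective
  intro p
  by_cases hp : p.ξ.base default ∈ (U : Set X)
  · have hV : p.ξ.base default ∈ (V : Set X) := h hp
    haveI := isIso_stalk_eps p.ξ F V hV
    have h0 : (EtCoh.stalk p.ξ).map (cokernel.π (eps F V)) = 0 := by
      rw [← cancel_epi ((EtCoh.stalk p.ξ).map (eps F V)), ← Functor.map_comp,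
        cokernel.condition, Functor.map_zero, comp_zero]
    show (EtCoh.stalk p.ξ).map (eps F U ≫ cokernel.π (eps F V)) = (EtCoh.stalk p.ξ).map 0
    rw [Functor.map_comp, h0, comp_zero, Functor.map_zero]
  · exact (isZero_stalk_ext p.ξ U _ hp).eq_of_src _ _

/-- The inclusion `U_! (F|U) ⟶ V_! (F|V)` for `U ≤ V`. -/
noncomputable def iota (F : EtCoh.Ab X) {U V : X.Opens} (h : U ≤ V) : EU F U ⟶ EU F V :=
  Abelian.monoLift (eps F V) (eps F U) (eps_comp_cokernel F h)

lemma iota_eps (F : EtCoh.Ab X) {U V : X.Opens} (h : U ≤ V) : iota F h ≫ eps F V = eps F U :=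
  Abelian.monoLift_comp _ _ _

section Q

variable (F : EtCoh.Ab X) (V : X.Opens) {W : Scheme.{u}} (c : W ⟶ V.toScheme)

/-- `F|V`. -/
noncomputable def HV : EtCoh.Ab V.toScheme := (EtShriek.restrAlong V.ι).obj F

/-- `c^* (F|V)`. -/
noncomputable def GW : EtCoh.Ab W := (EtCoh.pull c).obj (HV F V)

/-- `V_! c_* c^* (F|V)`. -/
noncomputable def QV : EtCoh.Ab X := (EtShriek.extZero V.ι).obj ((EtCoh.push c).obj (GW F V c))

/-- `V_!` of the unit of `c`. -/
noncomputable def piV : EU F V ⟶ QV F V c :=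
  (EtShriek.extZero V.ι).map ((EtCoh.pullPushAdj c).unit.app (HV F V))

variable [IsClosedImmersion c] {Ω : Type u} [Field Ω] [IsSepClosed Ω]

lemma isZero_stalk_QV (v : Spec (CommRingCat.of Ω) ⟶ V.toScheme)
    (hv : v.base default ∉ Set.range c.base) :
    IsZero ((EtCoh.stalk (v ≫ V.ι)).obj (QV F V c)) := by
  have h1 : IsZero ((EtCoh.stalk v).obj ((EtCoh.push c).obj (GW F V c))) :=
    ClosedStalk.isZero_stalk_of_vanish c _
      (fun T hT => ClosedStalk.isZero_push_sections c _ T hT) v hv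
  have e1 : (EtCoh.stalk v).obj ((EtCoh.push c).obj (GW F V c)) ≅
      (EtCoh.stalk v).obj ((EtShriek.restrAlong V.ι).obj (QV F V c)) :=
    (EtCoh.stalk v).mapIso (asIso ((EtShriek.extZeroAdj V.ι).unit.app _))
  have e2 := (stalkRestrIso V.ι v).app (QV F V c)
  exact h1.of_iso (e2.symm ≪≫ e1.symm)

lemma isIso_stalk_piV (v : Spec (CommRingCat.of Ω) ⟶ V.toScheme)
    (hv : v.base default ∈ Set.range c.base) :
    IsIso ((EtCoh.stalk (v ≫ V.ι)).map (piV F V c)) := by
  obtain ⟨ζ, hζ⟩ := ClosedStalk.exists_factor c v hv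
  haveI h0 : IsIso ((EtCoh.stalk v).map ((EtCoh.pullPushAdj c).unit.app (HV F V))) :=
    ClosedStalk.isIso_stalk_unit c (HV F V) v ζ hζ
  have e : (EtShriek.restrAlong V.ι).map (piV F V c) =
      inv ((EtShriek.extZeroAdj V.ι).unit.app (HV F V)) ≫
        (EtCoh.pullPushAdj c).unit.app (HV F V) ≫
        (EtShriek.extZeroAdj V.ι).unit.app ((EtCoh.push c).obj (GW F V c)) := by
    rw [IsIso.eq_inv_comp]
    exact ((EtShriek.extZeroAdj V.ι).unit.naturality
      ((EtCoh.pullPushAdj c).unit.app (HV F V))).symm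
  refine (NatIso.isIso_map_iff (stalkRestrIso V.ι v) (piV F V c)).1 ?_
  show IsIso ((EtCoh.stalk v).map ((EtShriek.restrAlong V.ι).map (piV F V c)))
  rw [e, Functor.map_comp, Functor.map_comp]
  infer_instance

end Q

theorem step (F : EtCoh.Ab X) {U V : X.Opens} (h : U ≤ V) {W : Scheme.{u}}
    (c : W ⟶ V.toScheme) [IsClosedImmersion c]
    (hc : Set.range c.base = (V.ι.base ⁻¹' (U : Set X))ᶜ) :
    ∃ hz : iota F h ≫ piV F V c = 0, (ShortComplex.mk _ _ hz).ShortExact := by
  have hQU : ∀ p : GeomPt X, p.ξ.base default ∈ (U : Set X) →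
      IsZero ((EtCoh.stalk p.ξ).obj (QV F V c)) := by
    intro p hp
    obtain ⟨v, hv⟩ := exists_lift V p.ξ (h hp)
    have hvc : v.base default ∉ Set.range c.base := by
      rw [hc]
      intro hn
      apply hn
      show V.ι.base (v.base default) ∈ (U : Set X)
      rw [base_lift V p.ξ v hv]
      exact hp
    have h2 := isZero_stalk_QV F V c v hvc
    rwa [hv] at h2
  have hz : iota F h ≫ piV F V c = 0 := by
    apply (stalk_jointlyReflectIsomorphisms X).jointlyFaithful.map_injective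
    intro p
    by_cases hp : p.ξ.base default ∈ (U : Set X)
    · exact (hQU p hp).eq_of_tgt _ _
    · exact (isZero_stalk_ext p.ξ U _ hp).eq_of_src _ _
  refine ⟨hz, ?_⟩
  rw [(stalk_jointlyReflectIsomorphisms X).shortExact_iff]
  intro p
  by_cases hp : p.ξ.base default ∈ (U : Set X)
  · have hV : p.ξ.base default ∈ (V : Set X) := h hp
    haveI i1 := isIso_stalk_eps p.ξ F U hp
    haveI i2 := isIso_stalk_eps p.ξ F V hV
    have hcomp : (EtCoh.stalk p.ξ).map (iota F h) ≫ (EtCoh.stalk p.ξ).map (eps F V) =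
        (EtCoh.stalk p.ξ).map (eps F U) := by
      rw [← Functor.map_comp, iota_eps]
    haveI : IsIso ((EtCoh.stalk p.ξ).map (iota F h) ≫ (EtCoh.stalk p.ξ).map (eps F V)) := by
      rw [hcomp]; exact i1
    have i3 : IsIso ((EtCoh.stalk p.ξ).map (iota F h)) :=
      IsIso.of_isIso_comp_right _ ((EtCoh.stalk p.ξ).map (eps F V))
    exact ClosedStalk.shortExact_of_isZero_X₃ _ (hQU p hp) i3
  · by_cases hpV : p.ξ.base default ∈ (V : Set X)
    · obtain ⟨v, hv⟩ := exists_lift V p.ξ hpV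
      have hvc : v.base default ∈ Set.range c.base := by
        rw [hc]
        intro hn
        apply hp
        rw [← base_lift V p.ξ v hv]
        exact hn
      have i4 := isIso_stalk_piV F V c v hvc
      rw [hv] at i4
      exact ClosedStalk.shortExact_of_isZero_X₁ _ (isZero_stalk_ext p.ξ U _ hp) i4
    · have z1 := isZero_stalk_ext p.ξ U ((EtShriek.restrAlong U.ι).obj F) hp
      have z2 := isZero_stalk_ext p.ξ V ((EtShriek.restrAlong V.ι).obj F) hpV
      have z3 := isZero_stalk_ext p.ξ V ((EtCoh.push c).obj (GW F V c)) hpV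
      exact ClosedStalk.shortExact_of_isZero_X₁ _ z1 (z2.isIso z3 _)

end Helper15.Filt
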