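import Mathlib
import Groth.Agent.Lib.Helper15.FiltStep
import Groth.Agent.Lib.Helper15.Constr2

/-!
# Helper15: filtration of a constructible sheaf by extensions by zero of f.l.c. sheaves (S8561)
-/

set_option autoImplicit false
set_option backward.isDefEq.respectTransparency false
universe u

namespace Helper15.Filt

open CategoryTheory CategoryTheory.Limits AlgebraicGeometry Opposite Topology
open Groth.Agent.Lib.Helper15 Groth.Agent.Lib.Helper13 Groth.Agent.Lib.Helper13.StalkPull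
  Groth.Agent.Lib.Helper13.StalkConservative Groth.Agent.Lib.Helper13.EtaleRestr
  Groth.Agent.Lib.Helper13.ExtZeroExact Helper15.Constr

section Top

variable {T : Type*} [TopologicalSpace T]

/-- `A` is a union of atoms of the family `l`. -/
def Sat (l : List (Set T)) (A : Set T) : Prop :=
  ∀ x y, (∀ W ∈ l, x ∈ W ↔ y ∈ W) → (x ∈ A ↔ y ∈ A)

lemma Sat.mono {l l' : List (Set T)} {A : Set T} (h : Sat l A) (hl : ∀ W ∈ l, W ∈ l') :
    Sat l' A :=
  fun x y hxy => h x y (fun W hW => hxy W (hl W hW))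

lemma exists_sat {A : Set T} (hA : IsConstructible A) :
    ∃ l : List (Set T), (∀ W ∈ l, IsOpen W ∧ IsRetrocompact W) ∧ Sat l A := by
  induction hA using IsConstructible.empty_union_induction with
  | open_retrocompact U hUo hUc =>
    refine ⟨[U], ?_, fun x y h => h U (List.mem_singleton.mpr rfl)⟩
    intro W hW
    rw [List.mem_singleton.mp hW]
    exact ⟨hUo, hUc⟩
  | union s hs t ht ihs iht =>
    obtain ⟨l₁, h1, s1⟩ := ihs
    obtain ⟨l₂, h2, s2⟩ := iht
    refine ⟨l₁ ++ l₂, ?_, ?_⟩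
    · intro W hW
      rcases List.mem_append.mp hW with h | h
      · exact h1 W h
      · exact h2 W h
    · intro x y hxy
      have e1 := s1 x y (fun W hW => hxy W (List.mem_append_left _ hW))
      have e2 := s2 x y (fun W hW => hxy W (List.mem_append_right _ hW))
      simp only [Set.mem_union, e1, e2]
  | compl s hs ih =>
    obtain ⟨l, h1, s1⟩ := ih
    exact ⟨l, h1, fun x y hxy => by simp only [Set.mem_compl_iff, s1 x y hxy]⟩

lemma exists_sat_family {κ : Type*} [Finite κ] (A : κ → Set T)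
    (hA : ∀ k, IsConstructible (A k)) :
    ∃ l : List (Set T), (∀ W ∈ l, IsOpen W ∧ IsRetrocompact W) ∧ ∀ k, Sat l (A k) := by
  classical
  haveI := Fintype.ofFinite κ
  choose l h1 h2 using fun k => exists_sat (hA k)
  refine ⟨(Finset.univ.toList.map l).flatten, ?_, ?_⟩
  · intro W hW
    obtain ⟨l', hl', hW'⟩ := List.mem_flatten.mp hW
    obtain ⟨k, -, rfl⟩ := List.mem_map.mp hl'
    exact h1 k W hW'
  · intro k
    exact (h2 k).mono (fun W hW => List.mem_flatten.mpr
      ⟨l k, List.mem_map.mpr ⟨k, Finset.mem_toList.mpr (Finset.mem_univ k), rfl⟩, hW⟩)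

/-- A chain of retrocompact opens whose successive differences are contained in atoms of `l`. -/
def IsChainFor (l : List (Set T)) (n : ℕ) (U : ℕ → Set T) : Prop :=
  1 ≤ n ∧ U 0 = ∅ ∧ U n = Set.univ ∧ (∀ k, k < n → U k ⊆ U (k + 1)) ∧
  (∀ k, IsOpen (U k) ∧ IsRetrocompact (U k)) ∧
  (∀ k, k < n → ∀ x, x ∈ U (k + 1) → x ∉ U k → ∀ y, y ∈ U (k + 1) → y ∉ U k →
    ∀ W ∈ l, (x ∈ W ↔ y ∈ W))

lemma exists_chain (l : List (Set T)) (hl : ∀ W ∈ l, IsOpen W ∧ IsRetrocompact W) :
    ∃ (n : ℕ) (U : ℕ → Set T), IsChainFor l n U := by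
  induction l with
  | nil =>
    obtain ⟨U', hU'⟩ : ∃ U' : ℕ → Set T, ∀ k, U' k = if k = 0 then ∅ else Set.univ :=
      ⟨_, fun _ => rfl⟩
    refine ⟨1, U', le_rfl, ?_, ?_, ?_, ?_, ?_⟩
    · rw [hU']; simp
    · rw [hU']; simp
    · intro k hk
      rw [hU' (k + 1)]
      simp
    · intro k
      rw [hU']
      by_cases hk : k = 0
      · rw [if_pos hk]; exact ⟨isOpen_empty, IsRetrocompact.empty⟩
      · rw [if_neg hk]; exact ⟨isOpen_univ, IsRetrocompact.univ⟩
    · intro k hk x _ _ y _ _ W hW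
      exact absurd hW (List.not_mem_nil)
  | cons W l ih =>
    obtain ⟨n, U, hn, h0, h1, hmono, hop, hlay⟩ :=
      ih (fun W' hW' => hl W' (List.mem_cons_of_mem _ hW'))
    obtain ⟨hWo, hWr⟩ := hl W List.mem_cons_self
    obtain ⟨U', hU'⟩ : ∃ U' : ℕ → Set T,
        ∀ k, U' k = if k ≤ n then U k ∩ W else W ∪ U (k - n) := ⟨_, fun _ => rfl⟩
    -- the lower part of the new chain
    have hlow : ∀ k, k ≤ n → U' k = U k ∩ W := fun k hk => by rw [hU', if_pos hk]
    -- the upper part, including the middle index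
    have hup : ∀ m, U' (n + m) = W ∪ U m := by
      intro m
      rw [hU']
      by_cases hm : n + m ≤ n
      · have hm0 : m = 0 := by omega
        subst hm0
        rw [if_pos hm, Nat.add_zero, h1, h0, Set.univ_inter, Set.union_empty]
      · rw [if_neg hm, Nat.add_sub_cancel_left]
    refine ⟨n + n, U', by omega, ?_, ?_, ?_, ?_, ?_⟩
    · rw [hlow 0 (Nat.zero_le _), h0, Set.empty_inter]
    · rw [hup n, h1, Set.union_univ]
    · intro k hk
      by_cases hk1 : k + 1 ≤ n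
      · rw [hlow k (by omega), hlow (k + 1) hk1]
        exact Set.inter_subset_inter_left _ (hmono k (by omega))
      · obtain ⟨m, rfl⟩ : ∃ m, k = n + m := ⟨k - n, by omega⟩
        rw [hup m, Nat.add_assoc, hup (m + 1)]
        exact Set.union_subset_union_right _ (hmono m (by omega))
    · intro k
      by_cases hk : k ≤ n
      · rw [hlow k hk]
        exact ⟨(hop k).1.inter hWo, (hop k).2.inter_isOpen hWr hWo⟩
      · obtain ⟨m, rfl⟩ : ∃ m, k = n + m := ⟨k - n, by omega⟩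
        rw [hup m]
        exact ⟨hWo.union (hop m).1, hWr.union (hop m).2⟩
    · intro k hk x hx1 hx0 y hy1 hy0 W' hW'
      by_cases hk1 : k + 1 ≤ n
      · rw [hlow (k + 1) hk1] at hx1 hy1
        rw [hlow k (by omega)] at hx0 hy0
        have hxU : x ∉ U k := fun hh => hx0 ⟨hh, hx1.2⟩
        have hyU : y ∉ U k := fun hh => hy0 ⟨hh, hy1.2⟩
        rcases List.mem_cons.mp hW' with hWW | hW''
        · rw [hWW]; exact ⟨fun _ => hy1.2, fun _ => hx1.2⟩
        · exact hlay k (by omega) x hx1.1 hxU y hy1.1 hyU W' hW''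
      · obtain ⟨m, rfl⟩ : ∃ m, k = n + m := ⟨k - n, by omega⟩
        rw [Nat.add_assoc, hup (m + 1)] at hx1 hy1
        rw [hup m] at hx0 hy0
        have hxW : x ∉ W := fun hh => hx0 (Or.inl hh)
        have hyW : y ∉ W := fun hh => hy0 (Or.inl hh)
        have hxU : x ∉ U m := fun hh => hx0 (Or.inr hh)
        have hyU : y ∉ U m := fun hh => hy0 (Or.inr hh)
        have hx1' : x ∈ U (m + 1) := hx1.resolve_left hxW
        have hy1' : y ∈ U (m + 1) := hy1.resolve_left hyW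
        rcases List.mem_cons.mp hW' with hWW | hW''
        · rw [hWW]; exact ⟨fun hh => absurd hh hxW, fun hh => absurd hh hyW⟩
        · exact hlay m (by omega) x hx1' hxU y hy1' hyU W' hW''

lemma layer_subset {κ : Type*} (A : κ → Set T) (hcov : (⋃ k, A k) = Set.univ)
    {l : List (Set T)} (hsat : ∀ k, Sat l (A k)) {n : ℕ} {U : ℕ → Set T}
    (hch : IsChainFor l n U) (k : ℕ) (hk : k < n) :
    U (k + 1) ⊆ U k ∨ ∃ i, U (k + 1) \ U k ⊆ A i := by
  by_cases hne : ∃ x, x ∈ U (k + 1) ∧ x ∉ U k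
  · obtain ⟨x, hx1, hx0⟩ := hne
    have hx : x ∈ ⋃ k, A k := hcov ▸ Set.mem_univ x
    obtain ⟨i, hi⟩ := Set.mem_iUnion.mp hx
    refine Or.inr ⟨i, fun y hy => ?_⟩
    exact (hsat i x y (hch.2.2.2.2.2 k hk x hx1 hx0 y hy.1 hy.2)).mp hi
  · left
    intro x hx
    by_contra hx0
    exact hne ⟨x, hx, hx0⟩

end Top

section Sch

variable {X : Scheme.{u}} (F : EtCoh.Ab X)

lemma flc_of_isEmpty {C : Scheme.{u}} (hC : IsEmpty C) (G : EtCoh.Ab C) :
    EtCoh.IsFiniteLocallyConstant G :=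
  ⟨PEmpty, fun i => i.elim, fun x => (hC.false x).elim, fun i => i.elim⟩

/-- The closed stratum data for one step. -/
lemma exists_closed_data {U V : X.Opens}
    (hUc : IsRetrocompact (U : Set X)) (hVc : IsRetrocompact (V : Set X))
    (hlayer : (V : Set X) ⊆ U ∨ ∃ (T : Scheme.{u}) (g : T ⟶ X), IsImmersion g ∧
      (V : Set X) \ U ⊆ Set.range g ∧ EtCoh.IsFiniteLocallyConstant ((EtCoh.pull g).obj F)) :
    ∃ (W : Scheme.{u}) (c : W ⟶ V.toScheme) (_ : IsClosedImmersion c),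
      Set.range c = (V.ι ⁻¹' (U : Set X))ᶜ ∧
      IsConstructible (Set.range (c ≫ V.ι)) ∧
      EtCoh.IsFiniteLocallyConstant
        ((EtCoh.pull c).obj ((EtShriek.restrAlong V.ι).obj F)) := by
  have key : ∀ (W : Scheme.{u}) (c : W ⟶ V.toScheme),
      Set.range c = (V.ι ⁻¹' (U : Set X))ᶜ → IsConstructible (Set.range (c ≫ V.ι)) := by
    intro W c hcr'
    have hcfun : ∀ z, (c ≫ V.ι) z = V.ι (c z) := fun z => Scheme.Hom.comp_apply _ _ _
    have hcr : Set.range (c ≫ V.ι) = (V : Set X) \ U := by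
      ext x; constructor
      · rintro ⟨z, rfl⟩
        have hz : c z ∈ (V.ι ⁻¹' (U : Set X))ᶜ := hcr' ▸ ⟨z, rfl⟩
        rw [hcfun]
        exact ⟨(c z).2, hz⟩
      · rintro ⟨hx1, hx2⟩
        have hx : (⟨x, hx1⟩ : V.toScheme) ∈ Set.range c := by rw [hcr']; exact hx2
        obtain ⟨z, hz⟩ := hx
        exact ⟨z, by rw [hcfun, hz]; rfl⟩
    rw [hcr]
    exact (IsRetrocompact.isConstructible V.2 hVc).sdiff (IsRetrocompact.isConstructible U.2 hUc)
  rcases hlayer with hVU | ⟨T, g, hg, hsub, hflc⟩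
  · obtain ⟨C, c, hc, hcr⟩ := exists_closedImmersion_compl V (U : Set X) U.2
    refine ⟨C, c, hc, hcr, key C c hcr, flc_of_isEmpty ⟨fun z => ?_⟩ _⟩
    have hz : c z ∈ (V.ι ⁻¹' (U : Set X))ᶜ := hcr ▸ ⟨z, rfl⟩
    exact hz (hVU (c z).2)
  · haveI := hg
    obtain ⟨Z, hZ⟩ : ∃ Z : TopologicalSpace.Closeds ↥(pullback g V.ι),
        (Z : Set ↥(pullback g V.ι)) = (pullback.snd g V.ι) ⁻¹' (V.ι ⁻¹' (U : Set X))ᶜ :=
      ⟨⟨_, ((U.2.preimage V.ι.continuous).isClosed_compl).preimage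
        (pullback.snd g V.ι).continuous⟩, rfl⟩
    obtain ⟨c, hcdef⟩ : ∃ c : (Scheme.IdealSheafData.vanishingIdeal Z).subscheme ⟶ V.toScheme,
        c = (Scheme.IdealSheafData.vanishingIdeal Z).subschemeι ≫ pullback.snd g V.ι :=
      ⟨_, rfl⟩
    have hιr : Set.range (Scheme.IdealSheafData.vanishingIdeal Z).subschemeι = (Z : Set _) := by
      rw [Scheme.IdealSheafData.range_subschemeι,
        Scheme.IdealSheafData.coe_support_vanishingIdeal]
    have hcfun : ∀ w, c w = (pullback.snd g V.ι)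
        ((Scheme.IdealSheafData.vanishingIdeal Z).subschemeι w) := by
      intro w; rw [hcdef]; exact Scheme.Hom.comp_apply _ _ _
    have hrange : Set.range c = (V.ι ⁻¹' (U : Set X))ᶜ := by
      ext z; constructor
      · rintro ⟨w, rfl⟩
        have hw : (Scheme.IdealSheafData.vanishingIdeal Z).subschemeι w ∈ (Z : Set _) :=
          hιr ▸ ⟨w, rfl⟩
        rw [hZ] at hw
        rw [hcfun]
        exact hw
      · intro hz
        have hzV : V.ι z ∈ (V : Set X) \ U := ⟨z.2, hz⟩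
        obtain ⟨t, ht⟩ := hsub hzV
        obtain ⟨q, -, hq⟩ := Scheme.Pullback.exists_preimage_pullback t z ht
        have hqZ : q ∈ (Z : Set _) := by
          rw [hZ]
          show (pullback.snd g V.ι) q ∈ (V.ι ⁻¹' (U : Set X))ᶜ
          rw [hq]; exact hz
        rw [← hιr] at hqZ
        obtain ⟨w, hw⟩ := hqZ
        exact ⟨w, by rw [hcfun, hw, hq]⟩
    haveI : IsImmersion c := by rw [hcdef]; infer_instance
    have hclosed : IsClosed (Set.range c) := by
      rw [hrange]; exact (U.2.preimage V.ι.continuous).isClosed_compl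
    have hci : IsClosedImmersion c := IsClosedImmersion.of_isPreimmersion c hclosed
    refine ⟨_, c, hci, hrange, key _ c hrange, ?_⟩
    have e0 : c ≫ V.ι = ((Scheme.IdealSheafData.vanishingIdeal Z).subschemeι ≫
        pullback.fst g V.ι) ≫ g := by
      rw [hcdef, Category.assoc, Category.assoc, pullback.condition]
    have f1 : EtCoh.IsFiniteLocallyConstant ((EtCoh.pull
        (((Scheme.IdealSheafData.vanishingIdeal Z).subschemeι ≫ pullback.fst g V.ι) ≫ g)).obj F) :=
      flc_pull_comp _ g F hflc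
    have f2 : EtCoh.IsFiniteLocallyConstant ((EtCoh.pull (c ≫ V.ι)).obj F) :=
      flc_pull_congr e0.symm F f1
    have f3 : EtCoh.IsFiniteLocallyConstant ((EtCoh.pull c).obj ((EtCoh.pull V.ι).obj F)) :=
      flc_of_iso ((EtCore.pullComp c V.ι).app F) f2
    exact flc_of_iso ((EtCoh.pull c).mapIso ((pullIsoRestr V.ι).app F)) f3

theorem S8561 {X : Scheme.{u}} [CompactSpace X]
    [QuasiSeparatedSpace X] (F : EtCoh.Ab X) (hF : EtPBC.IsConstructible F) :
    ∃ (n : ℕ) (E : Fin (n + 1) → EtCoh.Ab X) (ι : ∀ k : Fin n, E k.castSucc ⟶ E k.succ),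
      IsZero (E 0) ∧ Nonempty (E (Fin.last n) ≅ F) ∧
      ∀ k : Fin n, ∃ (U W : Scheme.{u}) (j : U ⟶ X) (_ : IsOpenImmersion j) (c : W ⟶ U)
        (_ : IsClosedImmersion c) (G : EtCoh.Ab W)
        (π : E k.succ ⟶ (EtShriek.extZero j).obj ((EtCoh.push c).obj G)) (hz : ι k ≫ π = 0),
        Topology.IsConstructible (Set.range (c ≫ j)) ∧ EtCoh.IsFiniteLocallyConstant G ∧
        (ShortComplex.mk (ι k) π hz).ShortExact := by
  obtain ⟨κ, hκ, Tk, g, h1, h2, h3, h4, h5⟩ := adapted'_of_adapted ((S0128 X F).mp hF)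
  haveI := hκ
  have hA : ∀ k, IsConstructible (Set.range (g k)) := fun k => cin_univ (h2 k)
  obtain ⟨l, hl, hsat⟩ := exists_sat_family (fun k => Set.range (g k)) hA
  obtain ⟨n, U, hch⟩ := exists_chain l hl
  obtain ⟨hn, hU0, hUn, hmono, hop, hlay⟩ := id hch
  obtain ⟨Uo, hUo⟩ : ∃ Uo : ℕ → X.Opens, ∀ k, (Uo k : Set X) = U k :=
    ⟨fun k => ⟨U k, (hop k).1⟩, fun _ => rfl⟩
  have hle : ∀ k, k < n → Uo k ≤ Uo (k + 1) := by
    intro k hk
    rw [← SetLike.coe_subset_coe, hUo, hUo]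
    exact hmono k hk
  have hz0 : IsZero (EU F (Uo 0)) := by
    rw [isZero_iff_stalks]
    intro p
    refine isZero_stalk_ext p.ξ (Uo 0) _ ?_
    rw [hUo 0, hU0]
    exact Set.notMem_empty _
  haveI hiso : IsIso (eps F (Uo n)) := by
    rw [isIso_iff_stalks]
    intro p
    exact isIso_stalk_eps p.ξ F (Uo n) (by rw [hUo n, hUn]; exact Set.mem_univ _)
  refine ⟨n, fun k => EU F (Uo k.val), fun k => iota F (hle k.val k.isLt), hz0,
    ⟨asIso (eps F (Uo n))⟩, ?_⟩
  intro k
  have hk := k.isLt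
  have hlayer : ((Uo (k.val + 1) : X.Opens) : Set X) ⊆ (Uo k.val : Set X) ∨
      ∃ (T : Scheme.{u}) (g : T ⟶ X), IsImmersion g ∧
        ((Uo (k.val + 1) : X.Opens) : Set X) \ (Uo k.val : Set X) ⊆ Set.range g ∧
        EtCoh.IsFiniteLocallyConstant ((EtCoh.pull g).obj F) := by
    rw [hUo, hUo]
    rcases layer_subset (fun k => Set.range (g k)) h4 hsat hch k.val hk with h | ⟨i, hi⟩
    · exact Or.inl h
    · exact Or.inr ⟨Tk i, g i, h1 i, hi, h5 i⟩
  obtain ⟨W, c, hc, hrange, hcons, hflc⟩ := exists_closed_data F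
    (by rw [hUo]; exact (hop _).2) (by rw [hUo]; exact (hop _).2) hlayer
  haveI := hc
  obtain ⟨hz, hSE⟩ := step F (hle k.val hk) c hrange
  exact ⟨(Uo (k.val + 1)).toScheme, W, (Uo (k.val + 1)).ι, inferInstance, c, hc,
    GW F (Uo (k.val + 1)) c, piV F (Uo (k.val + 1)) c, hz, hcons, hflc, hSE⟩

end Sch

end Helper15.Filt
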