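import Mathlib
import Groth.Agent.Lib.Helper15.ExtFlc
import Groth.Agent.Lib.Helper15.EtGlue
import Groth.Agent.Lib.Helper13.EtaleRestr

/-!
# Helper15: finite local constancy is local for the etale topology
-/

set_option autoImplicit false
set_option backward.isDefEq.respectTransparency false
universe u
open CategoryTheory CategoryTheory.Limits AlgebraicGeometry Opposite

namespace Helper15.FlcLocal

open Groth.Agent.Lib.Helper15 Groth.Agent.Lib.Helper13.EtaleRestr Helper15.LcStruct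

variable {O Q : Scheme.{u}} (j : O ⟶ Q) [Etale j]

theorem exists_lift_obj (W : O.Etale) {Y' : Q.Etale} (h : Y' ⟶ (EtShriek.compEtale j).obj W) :
    ∃ (Y'' : O.Etale) (h'' : Y'' ⟶ W) (e : (EtShriek.compEtale j).obj Y'' ⟶ Y'),
      e ≫ h = (EtShriek.compEtale j).map h'' ∧ Function.Surjective e.left := by
  have hW : Etale W.hom := W.prop
  obtain ⟨hl, hhl⟩ : ∃ hl : Y'.left ⟶ W.left, hl = h.left := ⟨h.left, rfl⟩
  have hle : Etale hl := by rw [hhl]; infer_instance
  have hw : Y'.hom = (hl ≫ W.hom) ≫ j := by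
    rw [hhl]
    exact (MorphismProperty.Over.w h).symm.trans (Category.assoc _ _ _).symm
  refine ⟨Scheme.Etale.mk (hl ≫ W.hom), MorphismProperty.Over.homMk hl rfl trivial,
    MorphismProperty.Over.homMk (𝟙 Y'.left) (by
      show 𝟙 Y'.left ≫ Y'.hom = (hl ≫ W.hom) ≫ j
      rw [Category.id_comp, hw]) trivial, ?_, ?_⟩
  · apply MorphismProperty.Over.Hom.ext
    show 𝟙 Y'.left ≫ h.left = hl
    rw [Category.id_comp, hhl]
  · intro y
    exact ⟨y, rfl⟩

theorem isConstVia_compEtale (G : EtCoh.Ab Q) (W : O.Etale) (M : Type (u+1)) [AddCommGroup M]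
    (c : M →+ G.obj.obj (op ((EtShriek.compEtale j).obj W)))
    (hc : IsConstVia ((EtShriek.restrAlong j).obj G) W M c) :
    IsConstVia G ((EtShriek.compEtale j).obj W) M c := by
  refine ⟨?_, ?_⟩
  · intro Y' h s
    obtain ⟨Y'', h'', e, he, hsurj⟩ := exists_lift_obj j W h
    have hS := hc.surj h'' (G.obj.map e.op s)
    rw [EtGlue.mem_iff]
    intro y
    obtain ⟨y'', hy''⟩ := hsurj y
    obtain ⟨Z'', k'', z, hk'', hz⟩ := (EtGlue.mem_iff _ _).1 hS y''
    obtain ⟨m, hm⟩ := hk''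
    refine ⟨(EtShriek.compEtale j).obj Z'', (EtShriek.compEtale j).map k'' ≫ e, z, ⟨m, ?_⟩, ?_⟩
    · have hm' : G.obj.map ((EtShriek.compEtale j).map k'').op (G.obj.map e.op s) =
          G.obj.map ((EtShriek.compEtale j).map (k'' ≫ h'')).op (c m) := hm
      rw [map_comp_app G, hm', Category.assoc, he, ← Functor.map_comp]
    · show e.left (k''.left z) = y
      rw [hz]
      exact hy''
  · intro Y' h m hY' hm
    obtain ⟨Y'', h'', e, he, hsurj⟩ := exists_lift_obj j W h
    refine hc.inj h'' m (fun hb => hY' ?_) ?_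
    · apply EtGlue.bot_mem_of_isEmpty
      refine ⟨fun y => ?_⟩
      obtain ⟨y'', -⟩ := hsurj y
      obtain ⟨Z, g, z, hg, -⟩ := (EtGlue.mem_iff _ _).1 hb y''
      exact (Sieve.bot_apply g).1 hg
    · show G.obj.map ((EtShriek.compEtale j).map h'').op (c m) = 0
      rw [← he, map_comp_app G, hm, map_zero]

theorem flc_of_etale_cover {Q : Scheme.{u}} (G : EtCoh.Ab Q) {A : Type u} (O : A → Scheme.{u})
    (j : ∀ a, O a ⟶ Q) [∀ a, Etale (j a)] (hcov : ∀ x : Q, ∃ (a : A) (o : O a), j a o = x)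
    (h : ∀ a, EtCoh.IsFiniteLocallyConstant ((EtCoh.pull (j a)).obj G)) :
    EtCoh.IsFiniteLocallyConstant G := by
  choose ι U hU hc using h
  choose M iM fM α using hc
  refine ⟨Σ a, ι a, fun p => (EtShriek.compEtale (j p.1)).obj (U p.1 p.2), ?_, ?_⟩
  · intro x
    obtain ⟨a, o, ho⟩ := hcov x
    obtain ⟨i, y, hy⟩ := hU a o
    refine ⟨⟨a, i⟩, y, ?_⟩
    show ((U a i).hom ≫ j a) y = x
    rw [Scheme.Hom.comp_apply]
    exact (congrArg (fun t => j a t) hy).trans ho
  · rintro ⟨a, i⟩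
    have hfin : Finite (AddCommGrpCat.of (ULift.{u+1} (M a i))) := by
      have := fM a i
      show Finite (ULift.{u+1} (M a i))
      infer_instance
    obtain ⟨β⟩ := α a i
    have β' : ((EtShriek.restrAlong (j a)).obj G).over (U a i) ≅
        (cst (O a) (AddCommGrpCat.of (ULift.{u+1} (M a i)))).over (U a i) :=
      (((O a).smallEtaleTopology.overPullback AddCommGrpCat.{u+1} (U a i)).mapIso
        ((pullIsoRestr (j a)).app G).symm) ≪≫ β ≪≫ ((kappa (U a i)).app _).symm
    have k1 := isConstVia_of_iso _ β'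
    have k2 := isConstVia_compEtale (j a) G (U a i) _ _ k1
    obtain ⟨e⟩ := constIso_of_isConstVia k2
    obtain ⟨M', iM', fM', ⟨em⟩⟩ :=
      exists_small_finite (AddCommGrpCat.of (ULift.{u+1} (M a i)))
    exact ⟨M', iM', fM', ⟨e ≪≫ (constantSheaf _ _).mapIso em⟩⟩

end Helper15.FlcLocal
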