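import Mathlib
import Groth.Agent.Lib.Helper7.RedLib

/-! Reduced induced subscheme structure on a locally closed subset. -/

namespace Groth.Agent.Lib.Helper15.RI

open CategoryTheory AlgebraicGeometry Limits Scheme

universe u

/-- A morphism from a reduced scheme whose image lies in the image of an immersion factors
through it. -/
theorem exists_lift_of_isReduced_of_range_subset_immersion {X Y Z : Scheme.{u}} [IsReduced X]
    (f : X ⟶ Y) (j : Z ⟶ Y) [IsImmersion j] (h : Set.range f ⊆ Set.range j) :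
    ∃ g : X ⟶ Z, g ≫ j = f := by
  have h1 : Set.range f ⊆ Set.range j.coborderRange.ι := by
    rw [Scheme.Opens.range_ι]
    exact h.trans subset_coborder
  set a := IsOpenImmersion.lift j.coborderRange.ι f h1 with ha
  have hfac : a ≫ j.coborderRange.ι = f := IsOpenImmersion.lift_fac _ _ _
  have h2 : Set.range a ⊆ Set.range j.liftCoborder := by
    rintro _ ⟨x, rfl⟩
    obtain ⟨z, hz⟩ := h ⟨x, rfl⟩
    refine ⟨z, ?_⟩
    apply j.coborderRange.ι.isEmbedding.injective
    rw [← Scheme.Hom.comp_apply, ← Scheme.Hom.comp_apply, hfac, j.liftCoborder_ι, hz]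
  obtain ⟨g, hg⟩ := Groth.Agent.Lib.Helper7.exists_lift_of_isReduced_of_range_subset a
    j.liftCoborder h2
  refine ⟨g, ?_⟩
  rw [← j.liftCoborder_ι, ← Category.assoc, hg, hfac]

theorem exists_iso_of_isReduced_of_range_eq {X Y Y' : Scheme.{u}} (i : Y ⟶ X) (i' : Y' ⟶ X)
    [IsImmersion i] [IsReduced Y] [IsImmersion i'] [IsReduced Y']
    (h : Set.range i = Set.range i') : ∃ e : Y ≅ Y', e.hom ≫ i' = i := by
  obtain ⟨g, hg⟩ := exists_lift_of_isReduced_of_range_subset_immersion i i' h.le
  obtain ⟨g', hg'⟩ := exists_lift_of_isReduced_of_range_subset_immersion i' i h.ge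
  refine ⟨⟨g, g', ?_, ?_⟩, hg⟩
  · rw [← cancel_mono i, Category.assoc, hg', hg, Category.id_comp]
  · rw [← cancel_mono i', Category.assoc, hg, hg', Category.id_comp]

theorem exists_reduced_immersion_of_isLocallyClosed (X : Scheme.{u}) (Z : Set X)
    (hZ : IsLocallyClosed Z) :
    ∃ (Y : Scheme.{u}) (i : Y ⟶ X), IsImmersion i ∧ IsReduced Y ∧ Set.range i = Z := by
  let U : X.Opens := ⟨coborder Z, hZ.isOpen_coborder⟩
  let C : TopologicalSpace.Closeds U := ⟨U.ι ⁻¹' Z, isClosed_preimage_val_coborder⟩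
  refine ⟨(IdealSheafData.vanishingIdeal C).subscheme,
    (IdealSheafData.vanishingIdeal C).subschemeι ≫ U.ι, inferInstance,
    Groth.Agent.Lib.Helper7.isReduced_vanishingIdeal_subscheme C, ?_⟩
  rw [Scheme.Hom.comp_base, TopCat.coe_comp, Set.range_comp, IdealSheafData.range_subschemeι]
  have : ((IdealSheafData.vanishingIdeal C).support : Set U) = U.ι ⁻¹' Z := by
    simp [C]
  rw [this, Set.image_preimage_eq_inter_range, Scheme.Opens.range_ι]
  exact Set.inter_eq_left.mpr subset_coborder

end Groth.Agent.Lib.Helper15.RI
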