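import Mathlib
import Groth.Agent.Lib.Helper15.FlcLocal
import Groth.Agent.Lib.Helper15.FinEtPush
import Groth.Agent.Lib.Helper15.Constr3
import Groth.Agent.Lib.Helper15.SubConst
import Groth.Agent.Lib.Helper15.RedInd
import Groth.Agent.Lib.Helper15.FinitePushBC
import Groth.Agent.Lib.Helper22.SmoothRed
import Groth.Agent.S0169

/-!
# Helper15: pushforward of constructible sheaves along finite etale morphisms
-/

set_option autoImplicit false
set_option backward.isDefEq.respectTransparency false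
universe u
open CategoryTheory CategoryTheory.Limits AlgebraicGeometry Opposite Topology

namespace Helper15.FinEtPushConstr

open Helper15.Constr

section Top

variable {X Y : Type*} [TopologicalSpace X] [TopologicalSpace Y]

/-- `E ∩ A` is open and closed in `A`. -/
def RelClopen (E A : Set X) : Prop :=
  ∃ O O' : Set X, IsOpen O ∧ IsOpen O' ∧ ∀ x ∈ A, (x ∈ E ↔ x ∈ O) ∧ (x ∉ E ↔ x ∈ O')

theorem RelClopen.mono {E A A' : Set X} (h : RelClopen E A) (hA : A' ⊆ A) : RelClopen E A' := by
  obtain ⟨O, O', hO, hO', hx⟩ := h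
  exact ⟨O, O', hO, hO', fun x hxA => hx x (hA hxA)⟩

theorem RelClopen.union {E E' A : Set X} (h : RelClopen E A) (h' : RelClopen E' A) :
    RelClopen (E ∪ E') A := by
  obtain ⟨O, O', hO, hO', hx⟩ := h
  obtain ⟨P, P', hP, hP', hy⟩ := h'
  refine ⟨O ∪ P, O' ∩ P', hO.union hP, hO'.inter hP', fun x hxA => ?_⟩
  have h1 := hx x hxA
  have h2 := hy x hxA
  simp only [Set.mem_union, Set.mem_inter_iff]
  constructor
  · rw [h1.1, h2.1]
  · rw [← h1.2, ← h2.2]; tauto

theorem RelClopen.sdiff {E E' A : Set X} (h : RelClopen E A) (h' : RelClopen E' A) :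
    RelClopen (E \ E') A := by
  obtain ⟨O, O', hO, hO', hx⟩ := h
  obtain ⟨P, P', hP, hP', hy⟩ := h'
  refine ⟨O ∩ P', O' ∪ P, hO.inter hP', hO'.union hP, fun x hxA => ?_⟩
  have h1 := hx x hxA
  have h2 := hy x hxA
  simp only [Set.mem_union, Set.mem_inter_iff, Set.mem_diff]
  constructor
  · rw [h1.1, h2.2]
  · rw [← h1.2, ← h2.1]; tauto

/-- A finite cover of `Y` by locally closed constructible pieces over each of which every member
of `𝒮` is relatively clopen. -/
def Good (f : X → Y) (𝒮 : Set (Set X)) : Prop :=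
  ∃ (κ : Type) (_ : Finite κ) (B : κ → Set Y),
    (∀ k, IsConstructible (B k)) ∧ (∀ k, IsLocallyClosed (B k)) ∧ (⋃ k, B k) = Set.univ ∧
    ∀ k, ∀ E ∈ 𝒮, RelClopen E (f ⁻¹' B k)

theorem good_empty (f : X → Y) : Good f ∅ :=
  ⟨Unit, inferInstance, fun _ => Set.univ, fun _ => IsConstructible.univ,
    fun _ => isOpen_univ.isLocallyClosed, Set.iUnion_const _, fun _ E hE => hE.elim⟩

theorem good_mono {f : X → Y} {𝒮 𝒮' : Set (Set X)} (h : Good f 𝒮') (hs : 𝒮 ⊆ 𝒮') :
    Good f 𝒮 := by
  obtain ⟨κ, hκ, B, h1, h2, h3, h4⟩ := h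
  exact ⟨κ, hκ, B, h1, h2, h3, fun k E hE => h4 k E (hs hE)⟩

theorem good_union {f : X → Y} {𝒮 𝒮' : Set (Set X)} (h : Good f 𝒮) (h' : Good f 𝒮') :
    Good f (𝒮 ∪ 𝒮') := by
  obtain ⟨κ, hκ, B, h1, h2, h3, h4⟩ := h
  obtain ⟨κ', hκ', B', h1', h2', h3', h4'⟩ := h'
  refine ⟨κ × κ', inferInstance, fun p => B p.1 ∩ B' p.2, fun p => (h1 p.1).inter (h1' p.2),
    fun p => (h2 p.1).inter (h2' p.2), ?_, ?_⟩
  · ext y
    simp only [Set.mem_iUnion, Set.mem_inter_iff, Set.mem_univ, iff_true]
    have hy : y ∈ ⋃ k, B k := by rw [h3]; exact Set.mem_univ y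
    have hy' : y ∈ ⋃ k, B' k := by rw [h3']; exact Set.mem_univ y
    obtain ⟨k, hk⟩ := Set.mem_iUnion.1 hy
    obtain ⟨k', hk'⟩ := Set.mem_iUnion.1 hy'
    exact ⟨(k, k'), hk, hk'⟩
  · rintro ⟨k, k'⟩ E (hE | hE)
    · exact (h4 k E hE).mono (Set.preimage_mono Set.inter_subset_left)
    · exact (h4' k' E hE).mono (Set.preimage_mono Set.inter_subset_right)

theorem good_binop {f : X → Y} {E E' : Set X} (h : Good f {E}) (h' : Good f {E'}) (G : Set X)
    (hG : ∀ A, RelClopen E A → RelClopen E' A → RelClopen G A) : Good f {G} := by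
  obtain ⟨κ, hκ, B, h1, h2, h3, h4⟩ := good_union h h'
  refine ⟨κ, hκ, B, h1, h2, h3, fun k G' hG' => ?_⟩
  rw [Set.mem_singleton_iff] at hG'
  rw [hG']
  exact hG _ (h4 k E (Set.mem_union_left _ (Set.mem_singleton E)))
    (h4 k E' (Set.mem_union_right _ (Set.mem_singleton E')))

theorem good_finite {f : X → Y} {ι : Type*} [Finite ι] (Es : ι → Set X)
    (h : ∀ i, Good f {Es i}) : Good f (Set.range Es) := by
  classical
  haveI := Fintype.ofFinite ι
  have key : ∀ s : Finset ι, Good f (Es '' (s : Set ι)) := by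
    intro s
    induction s using Finset.induction_on with
    | empty =>
      rw [Finset.coe_empty, Set.image_empty]; exact good_empty f
    | insert a s ha ih =>
      rw [Finset.coe_insert, Set.image_insert_eq, Set.insert_eq]
      exact good_union (h a) ih
  have := key Finset.univ
  rwa [Finset.coe_univ, Set.image_univ] at this

end Top

section Sch

variable {X Y : Scheme.{u}} (f : X ⟶ Y)

theorem exists_closed_of_finite [IsFinite f] (U : X.Opens) {T : Scheme.{u}} (g : T ⟶ Y)
    [IsImmersion g] [IsFinite (pullback.snd (U.ι ≫ f) g)] :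
    ∃ K : Set X, IsClosed K ∧ ∀ x : X, f x ∈ Set.range g → (x ∈ (U : Set X) ↔ x ∈ K) := by
  obtain ⟨p, hp⟩ : ∃ p : pullback U.ι (pullback.fst f g) ⟶ pullback f g,
    p = pullback.snd U.ι (pullback.fst f g) := ⟨_, rfl⟩
  have hfin : IsFinite (p ≫ pullback.snd f g) := by
    have e : p ≫ pullback.snd f g =
        (pullbackRightPullbackFstIso f g U.ι).hom ≫ pullback.snd (U.ι ≫ f) g := by
      rw [hp]; exact (pullbackRightPullbackFstIso_hom_snd f g U.ι).symm
    rw [e]; infer_instance
  have huc0 : UniversallyClosed (p ≫ pullback.snd f g) := inferInstance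
  have hsep : IsSeparated (pullback.snd f g) := inferInstance
  have huc : UniversallyClosed p := UniversallyClosed.of_comp_of_isSeparated p (pullback.snd f g)
  have hcl : IsClosed (Set.range p) := p.isClosedMap.isClosed_range
  have hrange : Set.range p = (pullback.fst f g) ⁻¹' (U : Set X) := by
    rw [hp, Scheme.Pullback.range_snd, Scheme.Opens.range_ι]
  have hind : IsInducing (pullback.fst f g) := (pullback.fst f g).isEmbedding.isInducing
  obtain ⟨K, hK, hKp⟩ := hind.isClosed_iff.mp hcl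
  refine ⟨K, hK, fun x hx => ?_⟩
  have hx' : x ∈ Set.range (pullback.fst f g) := by
    rw [Scheme.Pullback.range_fst]; exact hx
  obtain ⟨z, rfl⟩ := hx'
  have h1 : z ∈ (pullback.fst f g) ⁻¹' K ↔ z ∈ Set.range p := by rw [hKp]
  rw [hrange] at h1
  exact h1.symm

theorem good_open [IsFinite f] [Etale f] [CompactSpace X] [QuasiSeparatedSpace X]
    [CompactSpace Y] [QuasiSeparatedSpace Y] (U : X.Opens) (hU : IsCompact (U : Set X)) :
    Good (f : X → Y) {(U : Set X)} := by
  haveI : CompactSpace U := isCompact_iff_compactSpace.mp hU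
  haveI : QuasiSeparatedSpace U := quasiSeparatedSpace_of_quasiSeparated U.ι
  obtain ⟨n, T, g, himm, hcon, -, hcov, hfin⟩ := Groth.Agent.S0169.result (U.ι ≫ f)
  refine ⟨Fin n, inferInstance, fun m => Set.range (g m), hcon, fun m => ?_, hcov, ?_⟩
  · haveI := himm m
    exact (g m).isLocallyClosed_range
  · intro m E hE
    rw [Set.mem_singleton_iff] at hE
    rw [hE]
    haveI := himm m
    haveI := hfin m
    obtain ⟨K, hK, hKU⟩ := exists_closed_of_finite f U (g m)
    refine ⟨U, Kᶜ, U.isOpen, hK.isOpen_compl, fun x hx => ⟨Iff.rfl, ?_⟩⟩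
    rw [Set.mem_compl_iff]
    exact not_congr (hKU x hx)

theorem good_of_constructible [IsFinite f] [Etale f] [CompactSpace X] [QuasiSeparatedSpace X]
    [CompactSpace Y] [QuasiSeparatedSpace Y] {E : Set X} (hE : IsConstructible E) :
    Good (f : X → Y) {E} := by
  induction E, hE using BooleanSubalgebra.closure_sdiff_sup_induction with
  | isSublattice =>
    exact ⟨fun s hs t ht ↦ ⟨hs.1.union ht.1, hs.2.union ht.2⟩,
      fun s hs t ht ↦ ⟨hs.1.inter ht.1, hs.2.inter_isOpen ht.2 ht.1⟩⟩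
  | bot_mem => exact ⟨isOpen_empty, .empty⟩
  | top_mem => exact ⟨isOpen_univ, .univ⟩
  | sdiff U hU V hV =>
    have hUc : IsCompact U := by simpa using hU.2 isCompact_univ isOpen_univ
    have hVc : IsCompact V := by simpa using hV.2 isCompact_univ isOpen_univ
    have h1 := good_open f ⟨U, hU.1⟩ hUc
    have h2 := good_open f ⟨V, hV.1⟩ hVc
    exact good_binop h1 h2 (U \ V) (fun A a b => a.sdiff b)
  | sup s _ t _ hs' ht' =>
    exact good_binop hs' ht' (s ∪ t) (fun A a b => a.union b)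

theorem flc_on_stratum [IsFinite f] [Etale f] (F : EtCoh.Ab X) {T : Scheme.{u}} (g : T ⟶ Y)
    [IsImmersion g] [IsReduced T] {κ : Type} (S : κ → Scheme.{u}) (h : ∀ k, S k ⟶ X)
    (himm : ∀ k, IsImmersion (h k))
    (hcov : (⋃ k, Set.range (h k)) = Set.univ)
    (hflc : ∀ k, EtCoh.IsFiniteLocallyConstant ((EtCoh.pull (h k)).obj F))
    (hrc : ∀ k, RelClopen (Set.range (h k)) ((f : X → Y) ⁻¹' Set.range g)) :
    EtCoh.IsFiniteLocallyConstant ((EtCoh.pull (pullback.fst f g)).obj F) := by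
  haveI : IsReduced (pullback f g) :=
    Groth.Agent.Lib.Helper22.SmoothRed.isReduced_of_smooth (pullback.snd f g)
  choose O O' hO hO' hOx using hrc
  have hk : ∀ z : (pullback f g : Scheme.{u}), ∃ k, (pullback.fst f g) z ∈ Set.range (h k) := by
    intro z
    have : (pullback.fst f g) z ∈ ⋃ k, Set.range (h k) := by rw [hcov]; exact Set.mem_univ _
    exact Set.mem_iUnion.1 this
  choose kz hkz using hk
  have hA : ∀ z : (pullback f g : Scheme.{u}), (pullback.fst f g) z ∈ (f : X → Y) ⁻¹' Set.range g := by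
    intro z
    rw [← Scheme.Pullback.range_fst]; exact ⟨z, rfl⟩
  obtain ⟨C, hC⟩ : ∃ C : κ → (pullback f g).Opens,
      ∀ k, ((C k : (pullback f g).Opens) : Set (pullback f g : Scheme.{u})) = (pullback.fst f g) ⁻¹' (O k) :=
    ⟨fun k => (pullback.fst f g) ⁻¹ᵁ ⟨O k, hO k⟩, fun _ => rfl⟩
  refine FlcLocal.flc_of_etale_cover _ (fun z : (pullback f g : Scheme.{u}) => (C (kz z)).toScheme)
    (fun z => (C (kz z)).ι) ?_ ?_
  · intro x
    have hx : x ∈ Set.range (C (kz x)).ι := by
      rw [Scheme.Opens.range_ι, hC]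
      exact ((hOx (kz x) _ (hA x)).1).1 (hkz x)
    obtain ⟨o, ho⟩ := hx
    exact ⟨x, o, ho⟩
  · intro z
    have hsub : Set.range ((C (kz z)).ι ≫ pullback.fst f g) ⊆ Set.range (h (kz z)) := by
      rintro _ ⟨c, rfl⟩
      have hc : (C (kz z)).ι c ∈ ((C (kz z) : (pullback f g).Opens) : Set (pullback f g : Scheme.{u})) := by
        rw [← Scheme.Opens.range_ι]; exact ⟨c, rfl⟩
      have hc' : (C (kz z)).ι c ∈ (pullback.fst f g) ⁻¹' (O (kz z)) := by
        rw [← hC]; exact hc
      rw [Scheme.Hom.comp_apply]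
      exact ((hOx (kz z) _ (hA _)).1).2 hc'
    haveI := himm (kz z)
    haveI : IsReduced (C (kz z)).toScheme := isReduced_of_isOpenImmersion (C (kz z)).ι
    obtain ⟨l, hl⟩ :=
      Groth.Agent.Lib.Helper15.RI.exists_lift_of_isReduced_of_range_subset_immersion _
        (h (kz z)) hsub
    have h1 := flc_pull_comp l (h (kz z)) F (hflc (kz z))
    have h2 := flc_pull_congr hl F h1
    exact flc_of_iso ((EtCore.pullComp (C (kz z)).ι (pullback.fst f g)).app F) h2

theorem constructible_push_qcqs [IsFinite f] [Etale f] [CompactSpace Y] [QuasiSeparatedSpace Y]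
    (F : EtCoh.Ab X) (hF : EtPBC.IsConstructible F) :
    EtPBC.IsConstructible ((EtCoh.push f).obj F) := by
  haveI : CompactSpace X := QuasiCompact.compactSpace_of_compactSpace f
  haveI : QuasiSeparatedSpace X := quasiSeparatedSpace_of_quasiSeparated f
  obtain ⟨κ₀, hκ₀, S, h, himm, hcin, hdisj, hcov, hflc⟩ :=
    adapted'_of_adapted ((S0128 X F).mp hF)
  have hgood : Good (f : X → Y) (Set.range fun k => Set.range (h k)) :=
    good_finite _ (fun k => good_of_constructible f (cin_univ (hcin k)))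
  obtain ⟨κ, hκ, B, hB1, hB2, hB3, hB4⟩ := hgood
  have key : ∀ b, Adapted2 ((EtCoh.push f).obj F) (B b) := by
    intro b
    obtain ⟨T, g, hg1, hg2, hg3⟩ :=
      Groth.Agent.Lib.Helper15.RI.exists_reduced_immersion_of_isLocallyClosed Y (B b) (hB2 b)
    haveI := hg1
    haveI := hg2
    have hflcQ : EtCoh.IsFiniteLocallyConstant ((EtCoh.pull (pullback.fst f g)).obj F) :=
      flc_on_stratum f F g S h himm hcov hflc (fun k => by rw [hg3]; exact hB4 b _ ⟨k, rfl⟩)
    have hpush := Helper15.FinEtPush.S0106 (pullback.snd f g) _ hflcQ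
    haveI := Groth.Agent.Lib.Helper15.FinitePushBC.isIso_baseChange0 f g (pullback.snd f g)
      (pullback.fst f g) (IsPullback.of_hasPullback f g) F
    have hpull := flc_of_iso (asIso (EtCoh.baseChange0 f g (pullback.snd f g) (pullback.fst f g)
      (IsPullback.of_hasPullback f g).w F)).symm hpush
    have h3 := adapted2_single ((EtCoh.push f).obj F) g (by rw [hg3]; exact hB1 b) hpull
    rwa [hg3] at h3
  haveI := Fintype.ofFinite κ
  have h1 := adapted2_biUnion ((EtCoh.push f).obj F) Finset.univ B (fun b _ => key b)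
  have h2 : (⋃ b ∈ (Finset.univ : Finset κ), B b) = Set.univ := by
    rw [← hB3]; simp
  rw [h2] at h1
  exact (S0128 Y _).mpr (adapted_of_adapted' (adapted'_of_adapted2_univ h1))

theorem S0136 {X Y : Scheme.{u}} (f : X ⟶ Y) [IsFinite f] [Etale f] [EtCoh.BCCont f]
    (F : EtCoh.Ab X) (hF : EtPBC.IsConstructible F) :
    EtPBC.IsConstructible ((EtCoh.push f).obj F) := by
  refine S0129 _ (fun V : Y.affineOpens => (V : Y.Opens)) (iSup_affineOpens_eq_top Y)
    (fun V => ?_)
  haveI : IsAffine ((V : Y.Opens) : Scheme.{u}) := V.2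
  have hF' := S0127 (pullback.fst f (V : Y.Opens).ι) F hF
  have h1 := constructible_push_qcqs (pullback.snd f (V : Y.Opens).ι) _ hF'
  haveI := Groth.Agent.Lib.Helper15.FinitePushBC.isIso_baseChange0 f (V : Y.Opens).ι
    (pullback.snd f (V : Y.Opens).ι) (pullback.fst f (V : Y.Opens).ι)
    (IsPullback.of_hasPullback f (V : Y.Opens).ι) F
  exact constructible_of_iso (asIso (EtCoh.baseChange0 f (V : Y.Opens).ι
    (pullback.snd f (V : Y.Opens).ι) (pullback.fst f (V : Y.Opens).ι)
    (IsPullback.of_hasPullback f (V : Y.Opens).ι).w F)).symm h1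

end Sch

end Helper15.FinEtPushConstr
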