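import Mathlib
import Groth.Agent.Lib.Helper15.FinKL

/-!
# Étale coverings of integral algebras are refined by étale neighbourhoods of the base

The integral version of `FinKL.exists_etale_nbhd_lift`: reduce to the finite case by descending
the étale algebra to a finitely generated (hence finite) subalgebra.
-/

set_option autoImplicit false
set_option backward.isDefEq.respectTransparency false
universe u

namespace Groth.Agent.Lib.Helper15.IntKL

open TensorProduct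

theorem exists_etale_nbhd_lift_integral {A B T : Type u} [CommRing A] [CommRing B] [Algebra A B]
    [Algebra.IsIntegral A B] [CommRing T] [Algebra B T] [Algebra.Etale B T] (p : Ideal A)
    [p.IsPrime]
    (hT : ∀ q : Ideal B, q.IsPrime → q.comap (algebraMap A B) = p →
      ∃ r : Ideal T, r.IsPrime ∧ r.comap (algebraMap B T) = q) :
    ∃ (E : Type u) (_ : CommRing E) (_ : Algebra A E) (_ : Algebra.Etale A E) (P : Ideal E)
      (_ : P.IsPrime), P.comap (algebraMap A E) = p ∧ Nonempty (T →ₐ[B] B ⊗[A] E) := by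
  obtain ⟨B₀, T₀, _, _, hfg, hEt, ⟨e⟩⟩ := Algebra.Etale.exists_subalgebra_fg A B T
  haveI : Algebra.IsIntegral A B₀ := Algebra.IsIntegral.of_injective B₀.val Subtype.val_injective
  haveI : Algebra.FiniteType A B₀ := (Subalgebra.fg_iff_finiteType B₀).1 hfg
  haveI : Module.Finite A B₀ := Algebra.IsIntegral.finite
  haveI : Algebra.IsIntegral B₀ B := Algebra.IsIntegral.tower_top A
  -- the map `T₀ → T`
  obtain ⟨ι₀, hι₀⟩ : ∃ ι₀ : T₀ →+* T, ∀ t, ι₀ t = e.symm ((1 : B) ⊗ₜ[B₀] t) :=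
    ⟨(e.symm : B ⊗[B₀] T₀ →+* T).comp
      (Algebra.TensorProduct.includeRight : T₀ →ₐ[B₀] B ⊗[B₀] T₀).toRingHom, fun t => rfl⟩
  have hcomm : ∀ b₀ : B₀, ι₀ (algebraMap B₀ T₀ b₀) = algebraMap B T (b₀ : B) := by
    intro b₀
    rw [hι₀]
    have h1 : ((1 : B) ⊗ₜ[B₀] (algebraMap B₀ T₀ b₀) : B ⊗[B₀] T₀) =
        algebraMap B (B ⊗[B₀] T₀) (b₀ : B) := by
      rw [Algebra.TensorProduct.algebraMap_apply, Algebra.algebraMap_eq_smul_one b₀,
        TensorProduct.tmul_smul, TensorProduct.smul_tmul']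
      congr 1
      exact (mul_one _)
    rw [h1, AlgEquiv.commutes]
  have hT₀ : ∀ q₀ : Ideal B₀, q₀.IsPrime → q₀.comap (algebraMap A B₀) = p →
      ∃ r₀ : Ideal T₀, r₀.IsPrime ∧ r₀.comap (algebraMap B₀ T₀) = q₀ := by
    intro q₀ hq₀ hq₀p
    haveI := hq₀
    have hker : (⊥ : Ideal B).comap (algebraMap B₀ B) ≤ q₀ := by
      intro x hx
      have hx0 : x = 0 := by
        apply Subtype.val_injective
        exact hx
      rw [hx0]
      exact zero_mem _
    obtain ⟨q, -, hq, hqq₀⟩ := Ideal.exists_ideal_over_prime_of_isIntegral q₀ (⊥ : Ideal B) hker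
    have hqp : q.comap (algebraMap A B) = p := by
      rw [← hq₀p, ← hqq₀, Ideal.comap_comap]
      rfl
    obtain ⟨r, hr, hrq⟩ := hT q hq hqp
    haveI := hr
    refine ⟨r.comap ι₀, Ideal.comap_isPrime ι₀ r, ?_⟩
    rw [← hqq₀, ← hrq]
    ext b₀
    simp only [Ideal.mem_comap]
    rw [hcomm]
    rfl
  obtain ⟨E, _, _, _, P, hP, hPp, ⟨σ₀⟩⟩ := FinKL.exists_etale_nbhd_lift (A := A) (B := B₀)
    (T := T₀) p hT₀
  refine ⟨E, inferInstance, inferInstance, inferInstance, P, hP, hPp, ⟨?_⟩⟩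
  -- the map `B₀ ⊗ E → B ⊗ E`
  let φ : B₀ ⊗[A] E →ₐ[B₀] B ⊗[A] E :=
    Algebra.TensorProduct.map (IsScalarTower.toAlgHom B₀ B₀ B) (AlgHom.id A E)
  let g₁ : T₀ →ₐ[B₀] B ⊗[A] E := φ.comp σ₀
  let L : B ⊗[B₀] T₀ →ₐ[B] B ⊗[A] E :=
    Algebra.TensorProduct.lift (Algebra.ofId B (B ⊗[A] E)) g₁ (fun _ _ => Commute.all _ _)
  exact L.comp e.toAlgHom

end Groth.Agent.Lib.Helper15.IntKL
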