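import Mathlib
import Groth.Prelude.Def_EtBase
import Groth.Agent.Lib.Helper15.IntKL
import Groth.Agent.Lib.Helper15.FinKLGeom
import Groth.Agent.Lib.Helper15.FinitePushExact

/-!
# Étale coverings of `X ×_Y V` for integral `f : X ⟶ Y` are refined by clopen decompositions

`exists_nbhd_of_covering_int`: the integral version of `FinitePushExact.exists_nbhd_of_covering`.
Consequences: `f_*` is exact for integral `f` and `R^q f_* = 0` for `q > 0`.
-/

set_option autoImplicit false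
set_option backward.isDefEq.respectTransparency false
universe u

namespace Groth.Agent.Lib.Helper15.IntKLGeom

open CategoryTheory Limits AlgebraicGeometry Opposite TensorProduct
open Groth.Agent.Lib.Helper15 Groth.Agent.Lib.Helper15.FinKLGeom

set_option maxHeartbeats 1600000 in
theorem exists_nbhd_of_covering_int {X Y : Scheme.{u}} (f : X ⟶ Y) [IsIntegralHom f]
    (V : Y.Etale) (R : Sieve ((EtCoh.bc f).obj V))
    (hR : R ∈ X.smallEtaleTopology ((EtCoh.bc f).obj V)) (y : V.left) :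
    ∃ (V' : Scheme.{u}) (vh : V' ⟶ Y) (_ : Etale vh) (a : Scheme.Etale.mk vh ⟶ V) (y' : V'),
      a.left y' = y ∧ ∃ (κ : Type u) (_ : Finite κ) (W : κ → (pullback f vh).Opens),
      (∀ k l, k ≠ l → Disjoint (W k) (W l)) ∧ (∀ x, ∃ k, x ∈ W k) ∧
      ∀ k, R (EtGlue.pieceι f vh (W k) ≫ (EtCoh.bc f).map a) := by
  classical
  haveI : Etale V.hom := V.prop
  obtain ⟨A, j, hj, y₀, hy₀⟩ := Scheme.exists_Spec_apply_eq y
  haveI := hj
  haveI : IsAffine (pullback (j ≫ V.hom) f) :=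
    isAffine_of_isAffineHom (pullback.fst (j ≫ V.hom) f)
  obtain ⟨B, ⟨iso⟩⟩ : ∃ (B : CommRingCat.{u}), Nonempty (Spec B ≅ pullback (j ≫ V.hom) f) :=
    ⟨_, ⟨(Scheme.isoSpec _).symm⟩⟩
  obtain ⟨φ, hφ⟩ := Spec.map_surjective (iso.hom ≫ pullback.fst (j ≫ V.hom) f)
  have hφint : φ.hom.IsIntegral := by
    rw [← IsIntegralHom.SpecMap_iff, hφ]
    infer_instance
  letI algAB : Algebra A B := φ.hom.toAlgebra
  haveI : Algebra.IsIntegral A B := ⟨hφint⟩
  obtain ⟨c, hc⟩ : ∃ c : pullback (j ≫ V.hom) f ⟶ ((EtCoh.bc f).obj V).left,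
      c = pullback.map (j ≫ V.hom) f V.hom f j (𝟙 X) (𝟙 Y) (by simp) (by simp) := ⟨_, rfl⟩
  have hc1 : c ≫ pullback.fst V.hom f = pullback.fst (j ≫ V.hom) f ≫ j := by
    rw [hc]
    exact pullback.lift_fst _ _ _
  have hc2 : c ≫ pullback.snd V.hom f = pullback.snd (j ≫ V.hom) f := by
    rw [hc]
    exact (pullback.lift_snd _ _ _).trans (Category.comp_id _)
  -- per-point affine refinements
  have key : ∀ q : Spec B, ∃ (Z : X.Etale) (g : Z ⟶ (EtCoh.bc f).obj V) (_ : R g)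
      (T : CommRingCat.{u}) (β : B ⟶ T) (mU : Spec T ⟶ Z.left) (r : Spec T), β.hom.Etale ∧
      mU ≫ g.left = Spec.map β ≫ iso.hom ≫ c ∧ Spec.map β r = q := by
    intro q
    obtain ⟨Z, g, z, hg, hz⟩ := (EtGlue.mem_iff _ R).1 hR ((iso.hom ≫ c) q)
    haveI : Etale g.left := FinitePushExact.etale_left g
    obtain ⟨z', hz'1, hz'2⟩ := Scheme.Pullback.exists_preimage_pullback (f := g.left)
      (g := iso.hom ≫ c) z q hz
    obtain ⟨T, k, hk, t, ht⟩ := Scheme.exists_Spec_apply_eq z'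
    haveI := hk
    obtain ⟨β, hβ⟩ := Spec.map_surjective (k ≫ pullback.snd g.left (iso.hom ≫ c))
    refine ⟨Z, g, hg, T, β, k ≫ pullback.fst _ _, t, ?_, ?_, ?_⟩
    · have : Etale (Spec.map β) := by
        rw [hβ]
        infer_instance
      exact (HasRingHomProperty.Spec_iff (P := @Etale)).1 this
    · rw [Category.assoc, pullback.condition, ← Category.assoc, ← hβ]
    · rw [hβ, Scheme.Hom.comp_apply, ht, hz'2]
  choose Zq gq hgq Tq β mU rq hβet hmU hrq using key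
  have hopen : ∀ q, IsOpen (Set.range (Spec.map (β q))) := fun q => by
    haveI : Etale (Spec.map (β q)) :=
      (HasRingHomProperty.Spec_iff (P := @Etale)).2 (hβet q)
    exact (Spec.map (β q)).isOpenMap.isOpen_range
  have hcompact : IsCompact ((Spec.map φ) ⁻¹' {y₀}) :=
    Scheme.Hom.isCompact_preimage_singleton _ _
  obtain ⟨s, hs⟩ := hcompact.elim_finite_subcover
    (fun q : Spec B => Set.range (Spec.map (β q))) hopen
    (fun q _ => Set.mem_iUnion.2 ⟨q, rq q, hrq q⟩)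
  letI algBT : ∀ q, Algebra B (Tq q) := fun q => (β q).hom.toAlgebra
  haveI : ∀ q, Algebra.Etale B (Tq q) := fun q => RingHom.etale_algebraMap.1 (hβet q)
  haveI : y₀.asIdeal.IsPrime := y₀.isPrime
  have hT : ∀ q : Ideal B, q.IsPrime → q.comap (algebraMap A B) = y₀.asIdeal →
      ∃ r : Ideal (∀ i : s, (Tq i.1 : Type u)), r.IsPrime ∧
        r.comap (algebraMap B (∀ i : s, (Tq i.1 : Type u))) = q := by
    intro q hq hqp
    have hmem : (⟨q, hq⟩ : PrimeSpectrum B) ∈ (Spec.map φ) ⁻¹' {y₀} := by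
      show Spec.map φ ⟨q, hq⟩ = y₀
      apply PrimeSpectrum.ext
      rw [Spec.map_apply, PrimeSpectrum.comap_asIdeal]
      exact hqp
    obtain ⟨i, hi, r, hr⟩ : ∃ i ∈ s, ∃ r, Spec.map (β i) r = ⟨q, hq⟩ := by
      have := hs hmem
      simp only [Set.mem_iUnion, Set.mem_range] at this
      obtain ⟨i, hi, r, hr⟩ := this
      exact ⟨i, hi, r, hr⟩
    haveI := r.isPrime
    refine ⟨r.asIdeal.comap (Pi.evalRingHom (fun i : s => (Tq i.1 : Type u)) ⟨i, hi⟩),
      Ideal.comap_isPrime _ _, ?_⟩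
    rw [Ideal.comap_comap]
    have h1 : (Pi.evalRingHom (fun i : s => (Tq i.1 : Type u)) ⟨i, hi⟩).comp
        (algebraMap B (∀ i : s, (Tq i.1 : Type u))) = (β i).hom := rfl
    rw [h1]
    have h2 := congrArg PrimeSpectrum.asIdeal hr
    rw [Spec.map_apply, PrimeSpectrum.comap_asIdeal] at h2
    exact h2
  obtain ⟨E, _, _, _, P, hP, hPp, ⟨σ⟩⟩ := IntKL.exists_etale_nbhd_lift_integral
    (A := (A : Type u)) (B := (B : Type u)) (T := ∀ i : s, (Tq i.1 : Type u)) y₀.asIdeal hT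
  -- the new neighbourhood
  obtain ⟨EA, hEA⟩ : ∃ EA : Spec (CommRingCat.of E) ⟶ Spec A,
      EA = Spec.map (CommRingCat.ofHom (algebraMap A E)) := ⟨_, rfl⟩
  haveI : Etale EA := by
    rw [hEA]
    exact (HasRingHomProperty.Spec_iff (P := @Etale)).2 (RingHom.etale_algebraMap.2 inferInstance)
  obtain ⟨vh, hvh⟩ : ∃ vh : Spec (CommRingCat.of E) ⟶ Y, vh = EA ≫ j ≫ V.hom := ⟨_, rfl⟩
  haveI : Etale vh := by
    rw [hvh]
    infer_instance
  obtain ⟨a, ha⟩ : ∃ a : Scheme.Etale.mk vh ⟶ V, a.left = EA ≫ j :=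
    ⟨MorphismProperty.Over.homMk (EA ≫ j) (by rw [Category.assoc]; exact hvh.symm), rfl⟩
  obtain ⟨y', hy'⟩ : ∃ y' : Spec (CommRingCat.of E), y' = (⟨P, hP⟩ : PrimeSpectrum E) :=
    ⟨_, rfl⟩
  have hy'a : a.left y' = y := by
    have hEAy : EA y' = y₀ := by
      apply PrimeSpectrum.ext
      subst hEA hy'
      exact hPp
    rw [ha, Scheme.Hom.comp_apply]
    exact (congrArg (fun t => j t) hEAy).trans hy₀
  -- the identification of `X ×_Y V'` with `Spec (B ⊗ E)`
  obtain ⟨iL, hiL⟩ : ∃ iL : Spec (CommRingCat.of (B ⊗[A] E)) ⟶ Spec B, iL = Spec.map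
      (CommRingCat.ofHom (Algebra.TensorProduct.includeLeftRingHom : B →+* B ⊗[A] E)) :=
    ⟨_, rfl⟩
  obtain ⟨iR, hiR⟩ : ∃ iR : Spec (CommRingCat.of (B ⊗[A] E)) ⟶ Spec (CommRingCat.of E),
      iR = Spec.map (CommRingCat.ofHom
        (Algebra.TensorProduct.includeRight : E →ₐ[A] B ⊗[A] E).toRingHom) := ⟨_, rfl⟩
  have pb1 : IsPullback iL iR (Spec.map φ) EA := by
    rw [hiL, hiR, hEA]
    exact isPullback_SpecMap_of_isPushout _ _ _ _ (CommRingCat.isPushout_tensorProduct A B E)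
  have pb2 : IsPullback (iso.hom ≫ pullback.snd (j ≫ V.hom) f) (Spec.map φ) f (j ≫ V.hom) := by
    refine (IsPullback.of_iso_pullback ⟨?_⟩ iso hφ.symm rfl).flip
    rw [hφ, Category.assoc, pullback.condition, Category.assoc]
  have pbig : IsPullback (iL ≫ iso.hom ≫ pullback.snd (j ≫ V.hom) f) iR f vh := by
    rw [hvh]
    exact pb1.paste_horiz pb2
  obtain ⟨θ, hθ1, hθ2⟩ : ∃ θ : Spec (CommRingCat.of (B ⊗[A] E)) ≅ pullback f vh,
      θ.hom ≫ pullback.fst f vh = iL ≫ iso.hom ≫ pullback.snd (j ≫ V.hom) f ∧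
      θ.hom ≫ pullback.snd f vh = iR :=
    ⟨pbig.isoPullback, pbig.isoPullback_hom_fst, pbig.isoPullback_hom_snd⟩
  have hθ1' : θ.inv ≫ iL ≫ iso.hom ≫ pullback.snd (j ≫ V.hom) f = pullback.fst f vh := by
    rw [← hθ1, Iso.inv_hom_id_assoc]
  have hθ2' : θ.inv ≫ iR = pullback.snd f vh := by
    rw [← hθ2, Iso.inv_hom_id_assoc]
  -- the pieces
  obtain ⟨W, hW⟩ : ∃ W : s → (pullback f vh).Opens,
      ∀ i x, x ∈ W i ↔ σ (Pi.single i 1) ∉ (θ.inv x).asIdeal :=
    ⟨fun i => ⟨(θ.inv : _ → _) ⁻¹' (PrimeSpectrum.basicOpen (σ (Pi.single i 1)) :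
        Set (PrimeSpectrum (B ⊗[A] E))),
      (PrimeSpectrum.basicOpen (σ (Pi.single i 1))).isOpen.preimage θ.inv.continuous⟩,
      fun i x => Iff.rfl⟩
  have hdisj : ∀ k l : s, k ≠ l → Disjoint (W k) (W l) := by
    intro k l hkl
    rw [disjoint_iff_inf_le]
    rintro x ⟨h1, h2⟩
    rw [SetLike.mem_coe, hW] at h1 h2
    have h3 : σ (Pi.single k 1) * σ (Pi.single l 1) ∈ (θ.inv x).asIdeal := by
      rw [← map_mul, single_mul_single (fun i : s => (Tq i.1 : Type u)) k l hkl, map_zero]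
      exact zero_mem _
    rcases (θ.inv x).isPrime.mem_or_mem h3 with h4 | h4
    · exact h1 h4
    · exact h2 h4
  have hcov : ∀ x, ∃ k, x ∈ W k := by
    intro x
    by_contra hne
    push_neg at hne
    have h1 : ∀ k, σ (Pi.single k 1) ∈ (θ.inv x).asIdeal := fun k => by
      have := hne k
      rw [hW, not_not] at this
      exact this
    have h2 : (1 : B ⊗[A] E) ∈ (θ.inv x).asIdeal := by
      have h3 : (∑ k, Pi.single k (1 : Tq k.1) : ∀ i : s, Tq i.1) = 1 :=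
        Finset.univ_sum_single (1 : ∀ i : s, Tq i.1)
      rw [← map_one σ, ← h3, map_sum]
      exact Ideal.sum_mem _ (fun k _ => h1 k)
    exact (θ.inv x).isPrime.ne_top ((Ideal.eq_top_iff_one _).2 h2)
  -- maps from the pieces to the affine refinements
  obtain ⟨sσ, hsσ⟩ : ∃ sσ : Spec (CommRingCat.of (B ⊗[A] E)) ⟶
      Spec (CommRingCat.of (∀ i : s, (Tq i.1 : Type u))),
      sσ = Spec.map (CommRingCat.ofHom σ.toRingHom) := ⟨_, rfl⟩
  obtain ⟨ev, hev⟩ : ∃ ev : ∀ i : s, Spec (Tq i.1) ⟶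
      Spec (CommRingCat.of (∀ i : s, (Tq i.1 : Type u))),
      ∀ i, ev i = Spec.map (CommRingCat.ofHom
        (Pi.evalRingHom (fun i : s => (Tq i.1 : Type u)) i)) := ⟨_, fun _ => rfl⟩
  haveI : ∀ i, IsOpenImmersion (ev i) := fun i => by
    rw [hev]
    exact isOpenImmersion_eval (fun i : s => Tq i.1) i
  have hrange : ∀ i, Set.range ((W i).ι ≫ θ.inv ≫ sσ) ⊆ Set.range (ev i) := by
    rintro i _ ⟨p, rfl⟩
    have hp : (W i).ι p ∈ W i := EtGlue.ι_mem f vh (W i) p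
    rw [hW] at hp
    obtain ⟨t, ht⟩ := mem_range_comap_eval (fun i : s => (Tq i.1 : Type u)) i
      (PrimeSpectrum.comap σ.toRingHom (θ.inv ((W i).ι p))) hp
    refine ⟨t, ?_⟩
    rw [Scheme.Hom.comp_apply, Scheme.Hom.comp_apply, hev, hsσ]
    exact ht
  obtain ⟨lf, hlf⟩ : ∃ lf : ∀ i : s, ((W i : (pullback f vh).Opens) : Scheme.{u}) ⟶
      Spec (Tq i.1), ∀ i, lf i ≫ ev i = (W i).ι ≫ θ.inv ≫ sσ :=
    ⟨fun i => IsOpenImmersion.lift (ev i) _ (hrange i),
      fun i => IsOpenImmersion.lift_fac _ _ _⟩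
  have hβeval : ∀ i : s, β i.1 =
      CommRingCat.ofHom (algebraMap B (∀ i : s, (Tq i.1 : Type u))) ≫
      CommRingCat.ofHom (Pi.evalRingHom (fun i : s => (Tq i.1 : Type u)) i) := fun i => by
    ext b
    rfl
  have hσincl : CommRingCat.ofHom (algebraMap B (∀ i : s, (Tq i.1 : Type u))) ≫
      CommRingCat.ofHom σ.toRingHom =
      CommRingCat.ofHom (Algebra.TensorProduct.includeLeftRingHom : B →+* B ⊗[A] E) := by
    ext b
    refine (σ.commutes b).trans ?_
    rw [Algebra.TensorProduct.algebraMap_apply]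
    rfl
  have E1 : ∀ i : s, lf i ≫ Spec.map (β i.1) = (W i).ι ≫ θ.inv ≫ iL := fun i => by
    rw [hβeval, Spec.map_comp, ← hev, ← Category.assoc, hlf, hsσ, Category.assoc, Category.assoc,
      ← Spec.map_comp, hσincl, hiL]
  have E2 : ∀ i : s, (lf i ≫ mU i.1) ≫ (gq i.1).left =
      (W i).ι ≫ θ.inv ≫ iL ≫ iso.hom ≫ c := fun i => by
    rw [Category.assoc, hmU, ← Category.assoc, E1]
    simp only [Category.assoc]
  have E3 : ∀ i : s, (lf i ≫ mU i.1) ≫ (Zq i.1).hom = (EtGlue.piece f vh (W i)).hom := fun i => by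
    rw [← MorphismProperty.Over.w (gq i.1), ← Category.assoc, E2]
    show ((W i).ι ≫ θ.inv ≫ iL ≫ iso.hom ≫ c) ≫ pullback.snd V.hom f = (W i).ι ≫ pullback.fst f vh
    simp only [Category.assoc]
    rw [hc2, hθ1']
  obtain ⟨m, hm⟩ : ∃ m : ∀ i : s, EtGlue.piece f vh (W i) ⟶ Zq i.1,
      ∀ i, (m i).left = lf i ≫ mU i.1 :=
    ⟨fun i => MorphismProperty.Over.homMk (lf i ≫ mU i.1) (E3 i), fun i => rfl⟩
  refine ⟨Spec (CommRingCat.of E), vh, inferInstance, a, y', hy'a, s, inferInstance, W, hdisj,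
    hcov, fun i => ?_⟩
  have hcompat : m i ≫ gq i.1 = EtGlue.pieceι f vh (W i) ≫ (EtCoh.bc f).map a := by
    apply MorphismProperty.Over.Hom.ext
    show (m i).left ≫ (gq i.1).left =
      (EtGlue.pieceι f vh (W i)).left ≫ ((EtCoh.bc f).map a).left
    rw [hm, E2, EtGlue.pieceι_left]
    apply pullback.hom_ext
    · have e1 : ((W i).ι ≫ θ.inv ≫ iL ≫ iso.hom ≫ c) ≫ pullback.fst V.hom f =
          (W i).ι ≫ θ.inv ≫ iR ≫ EA ≫ j := by
        simp only [Category.assoc]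
        rw [hc1, ← Category.assoc iso.hom, ← hφ, ← Category.assoc iL, pb1.w]
        simp only [Category.assoc]
      have e2 : (((W i).ι ≫ (pullbackSymmetry vh f).inv) ≫ ((EtCoh.bc f).map a).left) ≫
          pullback.fst V.hom f = (W i).ι ≫ θ.inv ≫ iR ≫ EA ≫ j := by
        rw [Category.assoc, Category.assoc, FinitePushVanish.bc_map_fst f a, ha]
        show (W i).ι ≫ (pullbackSymmetry vh f).inv ≫ pullback.fst vh f ≫ EA ≫ j = _
        rw [← Category.assoc (pullbackSymmetry vh f).inv, pullbackSymmetry_inv_comp_fst, ← hθ2']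
        simp only [Category.assoc]
      exact e1.trans e2.symm
    · have e1 : ((W i).ι ≫ θ.inv ≫ iL ≫ iso.hom ≫ c) ≫ pullback.snd V.hom f =
          (W i).ι ≫ pullback.fst f vh := by
        simp only [Category.assoc]
        rw [hc2, hθ1']
      have e2 : (((W i).ι ≫ (pullbackSymmetry vh f).inv) ≫ ((EtCoh.bc f).map a).left) ≫
          pullback.snd V.hom f = (W i).ι ≫ pullback.fst f vh := by
        rw [Category.assoc, Category.assoc, FinitePushVanish.bc_map_snd f a]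
        show (W i).ι ≫ (pullbackSymmetry vh f).inv ≫ pullback.snd vh f = _
        rw [pullbackSymmetry_inv_comp_snd]
      exact e1.trans e2.symm
  rw [← hcompat]
  exact R.downward_closed (hgq i.1) (m i)

end Groth.Agent.Lib.Helper15.IntKLGeom
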