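import Mathlib
import Groth.Prelude.Def_EtBase
import Groth.Prelude.Def_SGA4b
import Groth.Agent.Lib.Helper15.FinKLGeom
import Groth.Agent.Lib.Helper15.FinitePushExact
import Groth.Agent.Lib.Helper15.FinitePushStalk

/-!
# The stalk of `f_* F` for a finite morphism `f` and a sheaf of sets `F`

For finite `f : X ⟶ Y` and a geometric point `η` of `Y` with values in an algebraically closed
field, the functor `F ↦ (f_* F)_η` on étale sheaves of sets is the product of the fibre functors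
at the geometric points of `X` over `η`.
-/

set_option autoImplicit false
set_option backward.isDefEq.respectTransparency false
universe u

namespace Groth.Agent.Lib.Helper15.FinitePushStalkSet

open CategoryTheory Limits AlgebraicGeometry Opposite
open Groth.Agent.Lib.Helper15 Groth.Agent.Lib.Helper15.FinitePushStalk

section maps

variable {X Y : Scheme.{u}} (f : X ⟶ Y) {Ω : Type u} [Field Ω] [IsSepClosed Ω]
  (η : Spec (CommRingCat.of Ω) ⟶ Y) (ξ : Spec (CommRingCat.of Ω) ⟶ X) (hξ : ξ ≫ f = η)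

/-- The comparison map `(f_* F)_η ⟶ F_ξ` for sheaves of sets. -/
noncomputable def toStalkS (F : EtDesc.Sh X) :
    (Scheme.pointSmallEtale η).presheafFiber.obj ((EtDesc.pushSh f).obj F).obj ⟶
      (Scheme.pointSmallEtale ξ).presheafFiber.obj F.obj :=
  (Scheme.pointSmallEtale η).presheafFiberDesc
    (P := ((EtDesc.pushSh f).obj F).obj)
    (fun V v => (Scheme.pointSmallEtale ξ).toPresheafFiber ((EtCoh.bc f).obj V)
      (liftPt f η ξ hξ V v) F.obj) (by
    intro V V' g v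
    show F.obj.map ((EtCoh.bc f).map g).op ≫ _ = _
    rw [GrothendieckTopology.Point.toPresheafFiber_w, liftPt_map])

lemma toPresheafFiber_toStalkS (F : EtDesc.Sh X) (V : Y.Etale)
    (v : (Scheme.pointSmallEtale η).fiber.obj V) :
    (Scheme.pointSmallEtale η).toPresheafFiber V v ((EtDesc.pushSh f).obj F).obj ≫
      toStalkS f η ξ hξ F =
    (Scheme.pointSmallEtale ξ).toPresheafFiber ((EtCoh.bc f).obj V) (liftPt f η ξ hξ V v)
      F.obj := by
  unfold toStalkS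
  exact GrothendieckTopology.Point.toPresheafFiber_presheafFiberDesc _ _ _ V v

lemma toStalkS_apply (F : EtDesc.Sh X) (V : Y.Etale) (v : (Scheme.pointSmallEtale η).fiber.obj V)
    (s : F.obj.obj (op ((EtCoh.bc f).obj V))) :
    toStalkS f η ξ hξ F ((Scheme.pointSmallEtale η).toPresheafFiber V v
      ((EtDesc.pushSh f).obj F).obj s) =
    (Scheme.pointSmallEtale ξ).toPresheafFiber ((EtCoh.bc f).obj V) (liftPt f η ξ hξ V v)
      F.obj s :=
  (ConcreteCategory.comp_apply _ _ _).symm.trans (ConcreteCategory.congr_hom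
    (toPresheafFiber_toStalkS f η ξ hξ F V v) s)

lemma toStalkS_naturality {F G : EtDesc.Sh X} (φ : F ⟶ G) :
    (Scheme.pointSmallEtale η).presheafFiber.map ((EtDesc.pushSh f).map φ).hom ≫
      toStalkS f η ξ hξ G =
    toStalkS f η ξ hξ F ≫ (Scheme.pointSmallEtale ξ).presheafFiber.map φ.hom := by
  refine GrothendieckTopology.Point.presheafFiber_hom_ext _ (fun V v => ?_)
  rw [GrothendieckTopology.Point.toPresheafFiber_naturality_assoc, toPresheafFiber_toStalkS,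
    reassoc_of% (toPresheafFiber_toStalkS f η ξ hξ F V v),
    GrothendieckTopology.Point.toPresheafFiber_naturality]
  rfl

/-- The comparison as a natural transformation. -/
noncomputable def τ :
    EtDesc.pushSh f ⋙ (Scheme.pointSmallEtale η).sheafFiber (A := Type (u + 1)) ⟶
      ((Scheme.pointSmallEtale ξ).sheafFiber (A := Type (u + 1)) : EtDesc.Sh X ⥤ Type (u + 1)) where
  app F := toStalkS f η ξ hξ F
  naturality _ _ φ := toStalkS_naturality f η ξ hξ φ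

end maps

section main

variable {X Y : Scheme.{u}} (f : X ⟶ Y) [IsFinite f] {Ω : Type u} [Field Ω] [IsAlgClosed Ω]
  (η : Spec (CommRingCat.of Ω) ⟶ Y) (F : EtDesc.Sh X)

lemma set_map_comp {U V W : X.Etaleᵒᵖ} (a : U ⟶ V) (b : V ⟶ W)
    (x : F.obj.obj U) : F.obj.map (a ≫ b) x = F.obj.map b (F.obj.map a x) := by
  rw [Functor.map_comp]; rfl

set_option maxHeartbeats 1600000 in
theorem toStalkS_injective (x x' : ToType ((Scheme.pointSmallEtale η).presheafFiber.obj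
      ((EtDesc.pushSh f).obj F).obj))
    (hx : ∀ (ξ : Spec (CommRingCat.of Ω) ⟶ X) (hξ : ξ ≫ f = η),
      toStalkS f η ξ hξ F x = toStalkS f η ξ hξ F x') :
    x = x' := by
  classical
  obtain ⟨V, v, s, s', rfl, rfl⟩ :=
    (Scheme.pointSmallEtale η).toPresheafFiber_jointly_surjective₂ x x'
  have h0 : ∀ ξ : {ξ : Spec (CommRingCat.of Ω) ⟶ X // ξ ≫ f = η},
      ∃ (Z : X.Etale) (g : Z ⟶ (EtCoh.bc f).obj V)
        (z : (Scheme.pointSmallEtale ξ.1).fiber.obj Z),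
        (Scheme.pointSmallEtale ξ.1).fiber.map g z = liftPt f η ξ.1 ξ.2 V v ∧
        F.obj.map g.op s = F.obj.map g.op s' := by
    intro ξ
    have h1 := hx ξ.1 ξ.2
    rw [toStalkS_apply, toStalkS_apply] at h1
    exact ((Scheme.pointSmallEtale ξ.1).toPresheafFiber_eq_iff' _ _ s s').1 h1
  choose Z g z hz hs using h0
  obtain ⟨vl, hvl⟩ : ∃ vl : Spec (CommRingCat.of Ω) ⟶ V.left, vl = v.left := ⟨_, rfl⟩
  have hvη : vl ≫ V.hom = η := hvl ▸ Over.w v
  have hΞ : ∀ ξt : Spec (CommRingCat.of Ω) ⟶ ((EtCoh.bc f).obj V).left,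
      ξt ≫ pullback.fst V.hom f = vl → (ξt ≫ pullback.snd V.hom f) ≫ f = η := by
    intro ξt h
    rw [Category.assoc, ← pullback.condition, ← Category.assoc, h, hvη]
  obtain ⟨D, hD⟩ : ∃ D : (Spec (CommRingCat.of Ω) ⟶ ((EtCoh.bc f).obj V).left) →
      Σ Z : X.Etale, (Z ⟶ (EtCoh.bc f).obj V) × (Spec (CommRingCat.of Ω) ⟶ Z.left),
      ∀ ξt (h : ξt ≫ pullback.fst V.hom f = vl),
        D ξt = ⟨Z ⟨_, hΞ ξt h⟩, g ⟨_, hΞ ξt h⟩, (z ⟨_, hΞ ξt h⟩).left⟩ :=
    ⟨fun ξt => if h : ξt ≫ pullback.fst V.hom f = vl then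
        ⟨Z ⟨_, hΞ ξt h⟩, g ⟨_, hΞ ξt h⟩, (z ⟨_, hΞ ξt h⟩).left⟩
      else ⟨(EtCoh.bc f).obj V, 𝟙 _, ξt⟩, fun ξt h => dif_pos h⟩
  have hDa : ∀ ξt, ξt ≫ pullback.fst V.hom f = vl → (D ξt).2.2 ≫ (D ξt).2.1.left = ξt := by
    intro ξt h
    rw [hD ξt h]
    have e1 := congrArg (fun w => w.left) (hz ⟨_, hΞ ξt h⟩)
    have e2 : (z ⟨_, hΞ ξt h⟩).left ≫ (g ⟨_, hΞ ξt h⟩).left =
        (liftPt f η _ (hΞ ξt h) V v).left := e1
    refine e2.trans ?_
    apply pullback.hom_ext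
    · rw [liftPt_left_fst, h, hvl]
    · rw [liftPt_left_snd]
  have hDb : ∀ ξt, ξt ≫ pullback.fst V.hom f = vl →
      F.obj.map (D ξt).2.1.op s = F.obj.map (D ξt).2.1.op s' := by
    intro ξt h
    rw [hD ξt h]
    exact hs _
  obtain ⟨V', vh, hvh, a, v', κ, hκ, pt, W, m, wp, h1, h2, h3, h4, h5, h6, h7, h8⟩ :=
    FinKLGeom.exists_refinement f V vl (fun ξt => (D ξt).1) (fun ξt => (D ξt).2.1)
      (fun ξt => (D ξt).2.2) hDa
  have hv'η : v' ≫ vh = η := by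
    have e1 : a.left ≫ V.hom = vh := MorphismProperty.Over.w a
    rw [← e1, ← Category.assoc, h1, hvη]
  obtain ⟨v'pt, hv'pt⟩ : ∃ v'pt : (Scheme.pointSmallEtale η).fiber.obj (Scheme.Etale.mk vh),
      v'pt.left = v' := ⟨Over.homMk v' hv'η, rfl⟩
  have hmapv : (Scheme.pointSmallEtale η).fiber.map a v'pt = v := by
    apply Over.OverMorphism.ext
    show v'pt.left ≫ a.left = v.left
    rw [hv'pt, h1, hvl]
  have heq : ((EtDesc.pushSh f).obj F).obj.map a.op s =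
      ((EtDesc.pushSh f).obj F).obj.map a.op s' := by
    show F.obj.map ((EtCoh.bc f).map a).op s = F.obj.map ((EtCoh.bc f).map a).op s'
    apply EtGlue.eq_of_locally F
    intro p
    obtain ⟨k, hk⟩ := h5 ((pullbackSymmetry vh f).hom p)
    obtain ⟨q, hq⟩ := EtGlue.exists_pieceι_eq f vh (W k) p hk
    refine ⟨_, EtGlue.pieceι f vh (W k), q, hq, ?_⟩
    rw [← set_map_comp, ← set_map_comp, ← op_comp, ← h6 k, op_comp, set_map_comp, set_map_comp,
      hDb (pt k) (h3 k)]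
  rw [← hmapv, ← GrothendieckTopology.Point.toPresheafFiber_w_apply,
    ← GrothendieckTopology.Point.toPresheafFiber_w_apply, heq]

set_option maxHeartbeats 1600000 in
theorem toStalkS_surjective
    (y : ∀ ξ : {ξ : Spec (CommRingCat.of Ω) ⟶ X // ξ ≫ f = η},
      ToType ((Scheme.pointSmallEtale ξ.1).presheafFiber.obj F.obj)) :
    ∃ x : ToType ((Scheme.pointSmallEtale η).presheafFiber.obj ((EtDesc.pushSh f).obj F).obj),
      ∀ ξ : {ξ : Spec (CommRingCat.of Ω) ⟶ X // ξ ≫ f = η}, toStalkS f η ξ.1 ξ.2 F x = y ξ := by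
  classical
  have h0 : ∀ ξ : {ξ : Spec (CommRingCat.of Ω) ⟶ X // ξ ≫ f = η},
      ∃ (U : X.Etale) (u : (Scheme.pointSmallEtale ξ.1).fiber.obj U) (t : F.obj.obj (op U)),
        (Scheme.pointSmallEtale ξ.1).toPresheafFiber U u F.obj t = y ξ := fun ξ =>
    (Scheme.pointSmallEtale ξ.1).toPresheafFiber_jointly_surjective (y ξ)
  choose U u t ht using h0
  have hΞ : ∀ ξt : Spec (CommRingCat.of Ω) ⟶ ((EtCoh.bc f).obj (EtCoh.top Y)).left,
      ξt ≫ pullback.fst (EtCoh.top Y).hom f = η →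
        (ξt ≫ pullback.snd (EtCoh.top Y).hom f) ≫ f = η := by
    intro ξt h
    rw [Category.assoc, ← pullback.condition, ← Category.assoc, h]
    exact Category.comp_id η
  obtain ⟨D, hD⟩ : ∃ D : (Spec (CommRingCat.of Ω) ⟶
      ((EtCoh.bc f).obj (EtCoh.top Y)).left) →
      Σ Z : X.Etale, (Z ⟶ (EtCoh.bc f).obj (EtCoh.top Y)) ×
        (Spec (CommRingCat.of Ω) ⟶ Z.left) × Option (F.obj.obj (op Z) : Type (u + 1)),
      ∀ ξt (h : ξt ≫ pullback.fst (EtCoh.top Y).hom f = η),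
        D ξt = ⟨U ⟨_, hΞ ξt h⟩, gcan f (U ⟨_, hΞ ξt h⟩), (u ⟨_, hΞ ξt h⟩).left,
          some (t ⟨_, hΞ ξt h⟩)⟩ :=
    ⟨fun ξt => if h : ξt ≫ pullback.fst (EtCoh.top Y).hom f = η then
        ⟨U ⟨_, hΞ ξt h⟩, gcan f (U ⟨_, hΞ ξt h⟩), (u ⟨_, hΞ ξt h⟩).left,
          some (t ⟨_, hΞ ξt h⟩)⟩
      else ⟨(EtCoh.bc f).obj (EtCoh.top Y), 𝟙 _, ξt, none⟩, fun ξt h => dif_pos h⟩
  have hDa : ∀ ξt, ξt ≫ pullback.fst (EtCoh.top Y).hom f = η →
      (D ξt).2.2.1 ≫ (D ξt).2.1.left = ξt := by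
    intro ξt h
    rw [hD ξt h]
    have e1 : (u ⟨_, hΞ ξt h⟩).left ≫ (U ⟨_, hΞ ξt h⟩).hom = ξt ≫ pullback.snd _ _ :=
      Over.w (u ⟨_, hΞ ξt h⟩)
    apply pullback.hom_ext
    · show ((u ⟨_, hΞ ξt h⟩).left ≫ (gcan f (U ⟨_, hΞ ξt h⟩)).left) ≫ _ = _
      rw [Category.assoc, gcan_left_fst, ← Category.assoc, e1, hΞ ξt h, h]
    · show ((u ⟨_, hΞ ξt h⟩).left ≫ (gcan f (U ⟨_, hΞ ξt h⟩)).left) ≫ _ = _
      rw [Category.assoc, gcan_left_snd, e1]
  obtain ⟨V', vh, hvh, a, v', κ, hκ, pt, W, m, wp, h1, h2, h3, h4, h5, h6, h7, h8⟩ :=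
    FinKLGeom.exists_refinement f (EtCoh.top Y) η (fun ξt => (D ξt).1) (fun ξt => (D ξt).2.1)
      (fun ξt => (D ξt).2.2.1) hDa
  have hv'η : v' ≫ vh = η := by
    have e1 : a.left ≫ (EtCoh.top Y).hom = vh := MorphismProperty.Over.w a
    rw [← e1, ← Category.assoc, h1]
    exact Category.comp_id η
  obtain ⟨v'pt, hv'pt⟩ : ∃ v'pt : (Scheme.pointSmallEtale η).fiber.obj (Scheme.Etale.mk vh),
      v'pt.left = v' := ⟨Over.homMk v' hv'η, rfl⟩
  have hcov' : ∀ p : ((EtCoh.bc f).obj (Scheme.Etale.mk vh)).left, ∃ k q,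
      (EtGlue.pieceι f vh (W k)).left q = p := fun p => by
    obtain ⟨k, hk⟩ := h5 ((pullbackSymmetry vh f).hom p)
    obtain ⟨q, hq⟩ := EtGlue.exists_pieceι_eq f vh (W k) p hk
    exact ⟨k, q, hq⟩
  have hsome : ∀ k, ((D (pt k)).2.2.2).isSome = true := by
    intro k
    rw [hD (pt k) (h3 k)]
    rfl
  obtain ⟨tt, htt, -⟩ := EtGlue.glue F (fun k => EtGlue.piece f vh (W k))
    (fun k => EtGlue.pieceι f vh (W k)) (fun k => inferInstance)
    (fun k l hkl p q => EtGlue.pieceι_ne f vh (h4 k l hkl) p q) hcov'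
    (fun k => F.obj.map (m k).op (Option.get _ (hsome k)))
  refine ⟨(Scheme.pointSmallEtale η).toPresheafFiber (Scheme.Etale.mk vh) v'pt
    ((EtDesc.pushSh f).obj F).obj tt, ?_⟩
  intro ξ
  rw [toStalkS_apply]
  obtain ⟨ξt, hξt1, hξt2⟩ : ∃ ξt : Spec (CommRingCat.of Ω) ⟶
      ((EtCoh.bc f).obj (EtCoh.top Y)).left,
      ξt ≫ pullback.fst (EtCoh.top Y).hom f = η ∧
      ξt ≫ pullback.snd (EtCoh.top Y).hom f = ξ.1 :=
    ⟨pullback.lift η ξ.1 (by rw [ξ.2]; exact Category.comp_id η), pullback.lift_fst _ _ _,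
      pullback.lift_snd _ _ _⟩
  obtain ⟨k, hk⟩ := h2 ξt hξt1
  have hξeq : (⟨_, hΞ ξt hξt1⟩ : {ξ : Spec (CommRingCat.of Ω) ⟶ X // ξ ≫ f = η}) = ξ :=
    Subtype.ext hξt2
  have hDk : D (pt k) = ⟨U ξ, gcan f (U ξ), (u ξ).left, some (t ξ)⟩ := by
    rw [hk, hD ξt hξt1]
    exact congrArg (fun ξ' : {ξ : Spec (CommRingCat.of Ω) ⟶ X // ξ ≫ f = η} =>
      (⟨U ξ', gcan f (U ξ'), (u ξ').left, some (t ξ')⟩ : Σ Z : X.Etale,
        (Z ⟶ (EtCoh.bc f).obj (EtCoh.top Y)) ×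
        (Spec (CommRingCat.of Ω) ⟶ Z.left) × Option (F.obj.obj (op Z) : Type (u + 1)))) hξeq
  have key : ∀ (d : Σ Z : X.Etale, (Z ⟶ (EtCoh.bc f).obj (EtCoh.top Y)) ×
      (Spec (CommRingCat.of Ω) ⟶ Z.left) × Option (F.obj.obj (op Z) : Type (u + 1)))
      (hd : d.2.2.2.isSome = true),
      d = ⟨U ξ, gcan f (U ξ), (u ξ).left, some (t ξ)⟩ →
      ∀ (P : X.Etale) (mm : P ⟶ d.1) (wl : Spec (CommRingCat.of Ω) ⟶ P.left),
        wl ≫ mm.left = d.2.2.1 →
        ∃ w : (Scheme.pointSmallEtale ξ.1).fiber.obj P, w.left = wl ∧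
          (Scheme.pointSmallEtale ξ.1).toPresheafFiber P w F.obj
            (F.obj.map mm.op (Option.get d.2.2.2 hd)) = y ξ := by
    rintro d hd rfl P mm wl hwl
    have e1 : wl ≫ P.hom = ξ.1 := by
      have e2 : mm.left ≫ (U ξ).hom = P.hom := MorphismProperty.Over.w mm
      have e3 : (u ξ).left ≫ (U ξ).hom = ξ.1 := Over.w (u ξ)
      rw [← e2, ← Category.assoc, hwl, e3]
    refine ⟨Over.homMk wl e1, rfl, ?_⟩
    rw [GrothendieckTopology.Point.toPresheafFiber_w_apply]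
    have e4 : (Scheme.pointSmallEtale ξ.1).fiber.map mm (Over.homMk wl e1) = u ξ := by
      apply Over.OverMorphism.ext
      exact hwl
    rw [e4]
    exact ht ξ
  obtain ⟨w, hw1, hw2⟩ := key (D (pt k)) (hsome k) hDk (EtGlue.piece f vh (W k)) (m k) (wp k)
    (h7 k)
  have hwmap : (Scheme.pointSmallEtale ξ.1).fiber.map (EtGlue.pieceι f vh (W k)) w =
      liftPt f η ξ.1 ξ.2 (Scheme.Etale.mk vh) v'pt := by
    apply Over.OverMorphism.ext
    show w.left ≫ (EtGlue.pieceι f vh (W k)).left = _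
    apply pullback.hom_ext
    · have h8' : wp k ≫ (EtGlue.pieceι f vh (W k)).left ≫
          pullback.fst (Scheme.Etale.mk vh).hom f = v' := h8 k
      rw [liftPt_left_fst, hw1, Category.assoc, h8', hv'pt]
    · rw [liftPt_left_snd, Category.assoc]
      have e5 : (EtGlue.pieceι f vh (W k)).left ≫ pullback.snd (Scheme.Etale.mk vh).hom f =
          (EtGlue.piece f vh (W k)).hom := MorphismProperty.Over.w (EtGlue.pieceι f vh (W k))
      rw [e5]
      exact Over.w w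
  rw [← hwmap, ← GrothendieckTopology.Point.toPresheafFiber_w_apply, htt k]
  exact hw2

/-- For finite `f`, the functor `F ↦ (f_* F)_η` on étale sheaves of sets is the product of the
fibre functors at the geometric points over `η`. -/
theorem stalk_pushSh_iso :
    Nonempty (EtDesc.pushSh f ⋙ (Scheme.pointSmallEtale η).sheafFiber (A := Type (u + 1)) ≅
      ∏ᶜ fun ξ : {ξ : Spec (CommRingCat.of Ω) ⟶ X // ξ ≫ f = η} =>
        ((Scheme.pointSmallEtale ξ.1).sheafFiber (A := Type (u + 1)) :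
          EtDesc.Sh X ⥤ Type (u + 1))) := by
  have hc : IsLimit (Fan.mk (f := fun ξ : {ξ : Spec (CommRingCat.of Ω) ⟶ X // ξ ≫ f = η} =>
        ((Scheme.pointSmallEtale ξ.1).sheafFiber (A := Type (u + 1)) :
          EtDesc.Sh X ⥤ Type (u + 1)))
      (EtDesc.pushSh f ⋙ (Scheme.pointSmallEtale η).sheafFiber (A := Type (u + 1)))
      (fun ξ => τ f η ξ.1 ξ.2)) := by
    refine evaluationJointlyReflectsLimits _ (fun F => ?_)
    refine ((Types.isLimit_iff _).2 ?_).some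
    intro s hs
    obtain ⟨x, hx⟩ := toStalkS_surjective f η F (fun ξ => s ⟨ξ⟩)
    refine ⟨x, fun j => hx j.as, fun x' hx' => ?_⟩
    apply toStalkS_injective f η F
    intro ξ hξ
    exact (hx' ⟨⟨ξ, hξ⟩⟩).trans (hx ⟨ξ, hξ⟩).symm
  exact ⟨hc.conePointUniqueUpToIso (limit.isLimit _)⟩

end main

end Groth.Agent.Lib.Helper15.FinitePushStalkSet
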