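import Groth.Agent.Lib.Helper15.ToposQuot
import Mathlib.CategoryTheory.Monoidal.Cartesian.Grp

/-!
# Helper library (helper15): actions of group sheaves on points
-/

set_option autoImplicit false
universe u
open CategoryTheory CategoryTheory.Limits AlgebraicGeometry Opposite MonoidalCategory CartesianMonoidalCategory MonObj

namespace Groth.Agent.Lib.Helper15

open AlgSp

variable {S : Scheme.{u}} {B : Sp S} {G X : Over B} [GrpObj G] (a : GAction G X)

theorem GAction.lift_one_act {Y : Over B} (x : Y ⟶ X) : lift (1 : Y ⟶ G) x ≫ a.act = x := by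
  rw [Hom.one_def, ← lift_whiskerRight, Category.assoc, a.one_act, lift_leftUnitor_hom]

theorem GAction.lift_mul_act {Y : Over B} (h k : Y ⟶ G) (x : Y ⟶ X) :
    lift (h * k) x ≫ a.act = lift h (lift k x ≫ a.act) ≫ a.act := by
  rw [Hom.mul_def, ← lift_whiskerRight, Category.assoc, a.mul_act, lift_lift_associator_hom_assoc,
    lift_whiskerLeft_assoc]

variable {a} in
theorem GAction.IsFree.eq_of_act_eq (ha : a.IsFree) {T : Over S} (β : (yon S).obj T ⟶ B)
    (g₁ g₂ : Over.mk β ⟶ G) (x : Over.mk β ⟶ X) (h : lift g₁ x ≫ a.act = lift g₂ x ≫ a.act) : g₁ = g₂ := by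
  have h1 : lift (g₂⁻¹ * g₁) x ≫ a.act = x := by
    rw [GAction.lift_mul_act, h, ← GAction.lift_mul_act, inv_mul_cancel, GAction.lift_one_act]
  have h2 := ha β (g₂⁻¹ * g₁) x h1
  rw [← Hom.one_def] at h2
  exact (inv_mul_eq_one.1 h2).symm

variable {a} in
theorem GAction.IsFree.mono_shear (ha : a.IsFree) : Mono (lift a.act (snd G X)).left := by
  have key : ∀ (T : Over S) (u v : (yon S).obj T ⟶ (G ⊗ X).left),
      u ≫ (lift a.act (snd G X)).left = v ≫ (lift a.act (snd G X)).left → u = v := by
    intro T u v huv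
    have hβ : v ≫ (G ⊗ X).hom = u ≫ (G ⊗ X).hom := by
      rw [← Over.w (lift a.act (snd G X)), ← Category.assoc, ← huv, Category.assoc]
    let u' : Over.mk (u ≫ (G ⊗ X).hom) ⟶ G ⊗ X := Over.homMk u rfl
    let v' : Over.mk (u ≫ (G ⊗ X).hom) ⟶ G ⊗ X := Over.homMk v hβ
    have hm : u' ≫ lift a.act (snd G X) = v' ≫ lift a.act (snd G X) :=
      Over.OverMorphism.ext (by exact huv)
    rw [comp_lift, comp_lift] at hm
    have hx : u' ≫ snd G X = v' ≫ snd G X := by
      have := congrArg (· ≫ snd X X) hm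
      simpa using this
    have hact : u' ≫ a.act = v' ≫ a.act := by
      have := congrArg (· ≫ fst X X) hm
      simpa using this
    have hu : lift (u' ≫ fst G X) (u' ≫ snd G X) = u' := by ext <;> simp
    have hv : lift (v' ≫ fst G X) (u' ≫ snd G X) = v' := by rw [hx]; ext <;> simp
    have hg := GAction.IsFree.eq_of_act_eq ha _ (u' ≫ fst G X) (v' ≫ fst G X) (u' ≫ snd G X) (by rw [hu, hv, hact])
    have huv' : u' = v' := by rw [← hu, ← hv, hg]
    exact congrArg (·.left) huv'
  constructor
  intro Z u v huv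
  apply sp_hom_ext'
  intro T z
  apply key
  rw [Category.assoc, Category.assoc, huv]

end Groth.Agent.Lib.Helper15
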