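import Groth.Agent.Lib.Helper15.GabberMV
import Groth.Agent.Lib.Helper15.ZarSection

/-!
# Helper15: Gabber's criterion (S0661)

If all local rings of `R` are strictly henselian and the `H^1` Mayer–Vietoris kernel condition holds for
all pairs of functions, the étale cohomology of `Spec R` vanishes in positive degrees.
-/

set_option autoImplicit false
set_option backward.isDefEq.respectTransparency false
universe u
open CategoryTheory CategoryTheory.Limits AlgebraicGeometry Opposite EtCore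

namespace Groth.Agent.Lib.Helper15.GabberMain

open Groth.Agent.Lib.Helper2.EtMV Groth.Agent.Lib.Helper15.GabberMV

attribute [local instance] Groth.Agent.Lib.Helper2.EtMV.pull_preservesFiniteLimits

/-- Every étale map to `X` has Zariski-local sections through every point. -/
def ZarProp (X : Scheme.{u}) : Prop :=
  ∀ (Y : Scheme.{u}) (p : Y ⟶ X) [Etale p] (u : Y),
    ∃ W : X.Opens, p u ∈ W ∧ ∃ g : (W : Scheme.{u}) ⟶ Y, g ≫ p = W.ι

section Spec

variable (A : CommRingCat.{u})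

lemma mem_basicOpen_iff (f : Γ(Spec A, ⊤)) (x : Spec A) :
    x ∈ (Spec A).basicOpen f ↔ (Scheme.ΓSpecIso A).hom.hom f ∉ PrimeSpectrum.asIdeal x := by
  rw [basicOpen_eq_of_affine']
  exact PrimeSpectrum.mem_basicOpen _ _

lemma mem_or_of_mem_add (f g : Γ(Spec A, ⊤)) (x : Spec A)
    (hx : x ∈ (Spec A).basicOpen (f + g)) :
    x ∈ (Spec A).basicOpen f ∨ x ∈ (Spec A).basicOpen g := by
  rw [mem_basicOpen_iff] at hx
  rw [mem_basicOpen_iff, mem_basicOpen_iff]
  by_contra hcon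
  push_neg at hcon
  apply hx
  rw [map_add]
  exact Ideal.add_mem _ hcon.1 hcon.2

lemma exists_pow_mem (J : Ideal Γ(Spec A, ⊤)) (h : Γ(Spec A, ⊤))
    (hJ : ∀ x : Spec A, x ∈ (Spec A).basicOpen h → ∃ a ∈ J, x ∈ (Spec A).basicOpen a) :
    ∃ k : ℕ, h ^ k ∈ J := by
  suffices hrad : h ∈ J.radical from Ideal.mem_radical_iff.1 hrad
  rw [Ideal.radical_eq_sInf, Ideal.mem_sInf]
  rintro P ⟨hJP, hP⟩
  haveI := hP
  by_contra hhP
  obtain ⟨x, hxdef⟩ : ∃ x : PrimeSpectrum A,
      x = ⟨P.comap (Scheme.ΓSpecIso A).inv.hom, inferInstance⟩ := ⟨_, rfl⟩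
  have key : ∀ f : Γ(Spec A, ⊤), (x : Spec A) ∈ (Spec A).basicOpen f ↔ f ∉ P := by
    intro f
    rw [mem_basicOpen_iff, hxdef]
    show ¬ ((Scheme.ΓSpecIso A).inv.hom ((Scheme.ΓSpecIso A).hom.hom f) ∈ P) ↔ _
    have e : (Scheme.ΓSpecIso A).inv.hom ((Scheme.ΓSpecIso A).hom.hom f) = f :=
      Iso.hom_inv_id_apply (Scheme.ΓSpecIso A) f
    rw [e]
  obtain ⟨a, haJ, hxa⟩ := hJ x ((key h).2 hhP)
  exact (key a).1 hxa (hJP haJ)

end Spec

section Kill

variable {X : Scheme.{u}} (F : EtCoh.Ab X) (q : ℕ) {D : X.Opens}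
  (ξ : EtCoh.H (D : Scheme.{u}) ((EtCoh.pull D.ι).obj F) q)

/-- `ξ` dies on the open `O ≤ D`. -/
def Kill (O : X.Opens) : Prop := ∃ hle : O ≤ D, rho F q hle ξ = 0

variable {F q ξ}

lemma Kill.mono {O O' : X.Opens} (hK : Kill F q ξ O) (h : O' ≤ O) : Kill F q ξ O' := by
  obtain ⟨hle, h0⟩ := hK
  exact ⟨h.trans hle, by rw [← rho_trans F q h hle ξ, h0, map_zero]⟩

lemma Kill.eq_zero (hK : Kill F q ξ D) : ξ = 0 := by
  obtain ⟨hle, h0⟩ := hK
  rwa [rho_refl] at h0

lemma kill_bot : Kill F q ξ ⊥ := by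
  haveI : IsEmpty ((⊥ : X.Opens) : Scheme.{u}) :=
    ⟨fun y => (TopologicalSpace.Opens.mem_bot (x := y.1)).1 y.2⟩
  haveI := subsingleton_H_of_isEmpty ((⊥ : X.Opens) : Scheme.{u})
    ((EtCoh.pull (⊥ : X.Opens).ι).obj F) q
  exact ⟨bot_le, Subsingleton.elim _ _⟩

end Kill

section Core

variable (A : CommRingCat.{u}) (hZ : ZarProp (Spec A)) (F : EtCoh.Ab (Spec A))

include hZ in
theorem exists_kill (i : ℕ) (D : (Spec A).Opens)
    (ξ : EtCoh.H (D : Scheme.{u}) ((EtCoh.pull D.ι).obj F) (i + 1))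
    (x : Spec A) (hx : x ∈ D) :
    ∃ a : Γ(Spec A, ⊤), x ∈ (Spec A).basicOpen a ∧
      ∀ (O : (Spec A).Opens) (_ : O ≤ (Spec A).basicOpen a) (hle : O ≤ D),
        rho F (i + 1) hle ξ = 0 := by
  obtain ⟨U, u, hu, hU⟩ := TransferEfface.exists_nbhd_kill i ((EtCoh.pull D.ι).obj F) ξ
    (⟨x, hx⟩ : D)
  haveI : Etale U.hom := U.prop
  obtain ⟨W, hxW, g, hg⟩ := hZ U.left (U.hom ≫ D.ι) u
  have e : (U.hom ≫ D.ι) u = x :=
    (Scheme.Hom.comp_apply _ _ _).trans (by rw [hu]; rfl)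
  have hxW' : x ∈ W := e ▸ hxW
  obtain ⟨_, ⟨a, rfl⟩, hxa, haW⟩ :=
    TopologicalSpace.Opens.isBasis_iff_nbhd.1 (isBasis_basicOpen (Spec A)) hxW'
  refine ⟨a, hxa, fun O hO hle => ?_⟩
  obtain ⟨k, hk⟩ : ∃ k : (O : Scheme.{u}) ⟶ U.left, k ≫ U.hom = (Spec A).homOfLE hle := by
    refine ⟨(Spec A).homOfLE (hO.trans haW) ≫ g, ?_⟩
    rw [← cancel_mono D.ι, Category.assoc, Category.assoc, hg, Scheme.homOfLE_ι,
      Scheme.homOfLE_ι]
  have h0 := hU (O : Scheme.{u}) ((Spec A).homOfLE hle) k hk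
  refine rho_eq_zero_of_Hpull F (i + 1) hle ξ ?_
  rw [TransferExt.Hpull_eq, h0, map_zero]

include hZ in
theorem subsingleton_of_inj (i : ℕ)
    (hinj : ∀ (f g : Γ(Spec A, ⊤))
      (ξ : EtCoh.H ((Spec A).basicOpen (f + g) : Scheme.{u})
        ((EtCoh.pull ((Spec A).basicOpen (f + g)).ι).obj F) (i + 1))
      (hle1 : (Spec A).basicOpen (f * (f + g)) ≤ (Spec A).basicOpen (f + g))
      (hle2 : (Spec A).basicOpen (g * (f + g)) ≤ (Spec A).basicOpen (f + g)),
      rho F (i + 1) hle1 ξ = 0 → rho F (i + 1) hle2 ξ = 0 → ξ = 0)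
    (h : Γ(Spec A, ⊤)) :
    Subsingleton (EtCoh.H ((Spec A).basicOpen h : Scheme.{u})
      ((EtCoh.pull ((Spec A).basicOpen h).ι).obj F) (i + 1)) := by
  suffices h0 : ∀ ξ : EtCoh.H ((Spec A).basicOpen h : Scheme.{u})
      ((EtCoh.pull ((Spec A).basicOpen h).ι).obj F) (i + 1), ξ = 0 from
    ⟨fun a b => (h0 a).trans (h0 b).symm⟩
  intro ξ
  obtain ⟨J, hJ⟩ : ∃ J : Ideal Γ(Spec A, ⊤),
      ∀ a, a ∈ J ↔ Kill F (i + 1) ξ ((Spec A).basicOpen (a * h)) := by
    refine ⟨{ carrier := {a | Kill F (i + 1) ξ ((Spec A).basicOpen (a * h))}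
              add_mem' := ?_
              zero_mem' := ?_
              smul_mem' := ?_ }, fun a => Iff.rfl⟩
    · intro a b ha hb
      show Kill F (i + 1) ξ ((Spec A).basicOpen ((a + b) * h))
      rw [add_mul]
      have hle : (Spec A).basicOpen (a * h + b * h) ≤ (Spec A).basicOpen h := by
        rw [← add_mul]
        exact ((Spec A).basicOpen_mul (a + b) h).trans_le inf_le_right
      have hle1 : (Spec A).basicOpen (a * h * (a * h + b * h)) ≤
          (Spec A).basicOpen (a * h + b * h) :=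
        ((Spec A).basicOpen_mul (a * h) (a * h + b * h)).trans_le inf_le_right
      have hle2 : (Spec A).basicOpen (b * h * (a * h + b * h)) ≤
          (Spec A).basicOpen (a * h + b * h) :=
        ((Spec A).basicOpen_mul (b * h) (a * h + b * h)).trans_le inf_le_right
      refine ⟨hle, hinj (a * h) (b * h) (rho F (i + 1) hle ξ) hle1 hle2 ?_ ?_⟩
      · rw [rho_trans]
        obtain ⟨_, h0⟩ := Kill.mono ha
          (((Spec A).basicOpen_mul (a * h) (a * h + b * h)).trans_le inf_le_left)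
        exact h0
      · rw [rho_trans]
        obtain ⟨_, h0⟩ := Kill.mono hb
          (((Spec A).basicOpen_mul (b * h) (a * h + b * h)).trans_le inf_le_left)
        exact h0
    · show Kill F (i + 1) ξ ((Spec A).basicOpen (0 * h))
      rw [zero_mul, Scheme.basicOpen_zero]
      exact kill_bot
    · intro c a ha
      show Kill F (i + 1) ξ ((Spec A).basicOpen (c * a * h))
      refine Kill.mono ha ?_
      rw [mul_assoc]
      exact ((Spec A).basicOpen_mul c (a * h)).trans_le inf_le_right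
  have hloc : ∀ x : Spec A, x ∈ (Spec A).basicOpen h → ∃ a ∈ J, x ∈ (Spec A).basicOpen a := by
    intro x hx
    obtain ⟨a, hxa, hkill⟩ := exists_kill A hZ F i ((Spec A).basicOpen h) ξ x hx
    refine ⟨a, (hJ a).2 ⟨((Spec A).basicOpen_mul a h).trans_le inf_le_right, ?_⟩, hxa⟩
    exact hkill _ (((Spec A).basicOpen_mul a h).trans_le inf_le_left) _
  obtain ⟨k, hk⟩ := exists_pow_mem A J h hloc
  have hk1 : h ^ (k + 1) ∈ J := by
    rw [pow_succ']
    exact J.mul_mem_left h hk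
  have hK := (hJ _).1 hk1
  have e : (Spec A).basicOpen (h ^ (k + 1) * h) = (Spec A).basicOpen h := by
    rw [Scheme.basicOpen_mul, Scheme.basicOpen_pow _ _ (Nat.succ_pos k), inf_idem]
  rw [e] at hK
  exact hK.eq_zero

theorem inj_of_subsingleton (n : ℕ)
    (hsub : ∀ h : Γ(Spec A, ⊤), Subsingleton (EtCoh.H ((Spec A).basicOpen h : Scheme.{u})
      ((EtCoh.pull ((Spec A).basicOpen h).ι).obj F) n))
    (f g : Γ(Spec A, ⊤))
    (ξ : EtCoh.H ((Spec A).basicOpen (f + g) : Scheme.{u})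
      ((EtCoh.pull ((Spec A).basicOpen (f + g)).ι).obj F) (n + 1))
    (hle1 : (Spec A).basicOpen (f * (f + g)) ≤ (Spec A).basicOpen (f + g))
    (hle2 : (Spec A).basicOpen (g * (f + g)) ≤ (Spec A).basicOpen (f + g))
    (h1 : rho F (n + 1) hle1 ξ = 0) (h2 : rho F (n + 1) hle2 ξ = 0) : ξ = 0 := by
  have hcov : (Spec A).basicOpen (f + g) ≤
      (Spec A).basicOpen (f * (f + g)) ⊔ (Spec A).basicOpen (g * (f + g)) := by
    intro x hx
    rcases mem_or_of_mem_add A f g x hx with h' | h'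
    · exact Or.inl (show x ∈ (Spec A).basicOpen (f * (f + g)) by
        rw [Scheme.basicOpen_mul]; exact ⟨h', hx⟩)
    · exact Or.inr (show x ∈ (Spec A).basicOpen (g * (f + g)) by
        rw [Scheme.basicOpen_mul]; exact ⟨h', hx⟩)
  have hs : Subsingleton (EtCoh.H
      (((Spec A).basicOpen (f * (f + g)) ⊓ (Spec A).basicOpen (g * (f + g)) : (Spec A).Opens) :
        Scheme.{u})
      ((EtCoh.pull ((Spec A).basicOpen (f * (f + g)) ⊓ (Spec A).basicOpen (g * (f + g))).ι).obj F)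
      n) := by
    rw [← Scheme.basicOpen_mul]
    exact hsub _
  exact rel_mv_inj F _ _ _ hle1 hle2 hcov n hs ξ h1 h2

end Core

theorem main (R : Type u) [CommRing R]
    (hR : ∀ p : PrimeSpectrum R, EtCoh.IsStrictlyHenselianLocalRing (Localization.AtPrime p.asIdeal))
    (F : EtCoh.Ab (Spec (CommRingCat.of R)))
    (hker : ∀ (f g : Γ((Spec (CommRingCat.of R)), ⊤))
      [PreservesFiniteLimits (EtCoh.pull ((Spec (CommRingCat.of R)).homOfLE (((Spec (CommRingCat.of R)).basicOpen_mul f (f + g)).trans_le inf_le_right)))]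
      [PreservesFiniteLimits (EtCoh.pull ((Spec (CommRingCat.of R)).homOfLE (((Spec (CommRingCat.of R)).basicOpen_mul g (f + g)).trans_le inf_le_right)))]
      (ξ : EtCoh.H ↑((Spec (CommRingCat.of R)).basicOpen (f + g)) ((EtCoh.pull ((Spec (CommRingCat.of R)).basicOpen (f + g)).ι).obj F) 1),
      EtCore.HpullVia ((Spec (CommRingCat.of R)).homOfLE (((Spec (CommRingCat.of R)).basicOpen_mul f (f + g)).trans_le inf_le_right)) ((Spec (CommRingCat.of R)).basicOpen (f + g)).ι ((Spec (CommRingCat.of R)).basicOpen (f * (f + g))).ι ((Spec (CommRingCat.of R)).homOfLE_ι (((Spec (CommRingCat.of R)).basicOpen_mul f (f + g)).trans_le inf_le_right)) F 1 ξ = 0 →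
      EtCore.HpullVia ((Spec (CommRingCat.of R)).homOfLE (((Spec (CommRingCat.of R)).basicOpen_mul g (f + g)).trans_le inf_le_right)) ((Spec (CommRingCat.of R)).basicOpen (f + g)).ι ((Spec (CommRingCat.of R)).basicOpen (g * (f + g))).ι ((Spec (CommRingCat.of R)).homOfLE_ι (((Spec (CommRingCat.of R)).basicOpen_mul g (f + g)).trans_le inf_le_right)) F 1 ξ = 0 →
      ξ = 0)
    (q : ℕ) (hq : 1 ≤ q) : Subsingleton (EtCoh.H (Spec (CommRingCat.of R)) F q) := by
  have hZ : ZarProp (Spec (CommRingCat.of R)) :=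
    fun Y p _ u => ZarSection.exists_zariski_section R hR p u
  have hA : ∀ (i : ℕ) (h : Γ(Spec (CommRingCat.of R), ⊤)),
      Subsingleton (EtCoh.H ((Spec (CommRingCat.of R)).basicOpen h : Scheme.{u})
        ((EtCoh.pull ((Spec (CommRingCat.of R)).basicOpen h).ι).obj F) (i + 1)) := by
    intro i
    induction i with
    | zero =>
      intro h
      refine subsingleton_of_inj _ hZ F 0 (fun f g ξ hle1 hle2 h1 h2 => ?_) h
      exact @hker f g (Groth.Agent.Lib.Helper2.EtMV.pull_preservesFiniteLimits _)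
        (Groth.Agent.Lib.Helper2.EtMV.pull_preservesFiniteLimits _) ξ h1 h2
    | succ i ih =>
      intro h
      exact subsingleton_of_inj _ hZ F (i + 1) (inj_of_subsingleton _ F (i + 1) ih) h
  obtain ⟨i, rfl⟩ : ∃ i, q = i + 1 := ⟨q - 1, by omega⟩
  haveI := hA i 1
  have hinj := Hpull_injective_of_forall_mem
    ((Spec (CommRingCat.of R)).basicOpen (1 : Γ(Spec (CommRingCat.of R), ⊤)))
    (fun x => by rw [Scheme.basicOpen_one]; trivial) F (i + 1)
  exact hinj.subsingleton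

end Groth.Agent.Lib.Helper15.GabberMain
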