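import Mathlib
import Groth.Prelude.Def_EtCore
import Groth.Agent.Lib.Helper15.HenselSite

/-!
# If global sections preserve epimorphisms, higher étale cohomology vanishes
-/

set_option autoImplicit false
universe u

namespace Groth.Agent.Lib.Helper15.GammaExact

open CategoryTheory Limits AlgebraicGeometry Opposite HenselSite

variable {X : Scheme.{u}}
  (hsurj : ∀ (E G : EtCoh.Ab X) (ε : E ⟶ G), Epi ε →
    Function.Surjective (ε.hom.app (op (EtCoh.top X))))

include hsurj in
/-- the constant sheaf `ℤ` is projective -/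
lemma projective_constZ : Projective ((constantSheaf X.smallEtaleTopology AddCommGrpCat.{u + 1}).obj
    (AddCommGrpCat.of (ULift.{u + 1} ℤ))) := by
  constructor
  intro E G f ε hε
  obtain ⟨adj, hadj⟩ : ∃ adj : constantSheaf X.smallEtaleTopology AddCommGrpCat.{u + 1} ⊣
      (sheafSections X.smallEtaleTopology AddCommGrpCat.{u + 1}).obj (op (EtCoh.top X)),
      adj = constantSheafAdj X.smallEtaleTopology AddCommGrpCat.{u + 1} (EtCore.topIsTerminal X) :=
    ⟨_, rfl⟩
  obtain ⟨e₀, he₀⟩ := hsurj E G ε hε ((adj.homEquiv _ _ f) ⟨1⟩)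
  refine ⟨(adj.homEquiv _ _).symm (homOfElt e₀), ?_⟩
  apply (adj.homEquiv _ _).injective
  rw [Adjunction.homEquiv_naturality_right, Equiv.apply_symm_apply]
  apply hom_ext_Z
  refine (ConcreteCategory.comp_apply _ _ _).trans ?_
  rw [homOfElt_one]
  exact he₀

include hsurj in
lemma subsingleton_H (F : EtCoh.Ab X) (p : ℕ) (hp : 1 ≤ p) : Subsingleton (EtCoh.H X F p) := by
  haveI := projective_constZ hsurj
  obtain ⟨n, rfl⟩ : ∃ n, p = n + 1 := ⟨p - 1, by omega⟩
  exact subsingleton_of_forall_eq 0 (fun x => Abelian.Ext.eq_zero_of_projective x)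

end Groth.Agent.Lib.Helper15.GammaExact
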