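import Mathlib
import Groth.Prelude.Def_EtDual
import Groth.Prelude.Def_EtCore
import Groth.Agent.Lib.Helper13.EtaleRestr
import Groth.Agent.Lib.Helper13.FlatPullback
import Groth.Agent.Lib.Helper13.DerivedCommute
import Groth.Agent.S0728

/-!
# Global sections with support, concretely (helper15)

For an open immersion `j : U ⟶ X`, the functor `EtDual.gammaSupp j` (global sections of
`ker (F ⟶ j_* j^* F)`) is naturally isomorphic to `kerSec (rho j)`, the kernel of the restriction map
`F(X) ⟶ F(U)`.
-/

set_option autoImplicit false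
universe u

namespace Groth.Agent.Lib.Helper15.GammaSupp

open CategoryTheory Limits AlgebraicGeometry Opposite Groth.Agent.Lib.Helper13

set_option backward.isDefEq.respectTransparency.types false

variable {X : Scheme.{u}}

/-- The kernel of a restriction map, as a functor of the sheaf. -/
noncomputable def kerSec {V W : X.Etale} (ρ : V ⟶ W) : EtCoh.Ab X ⥤ AddCommGrpCat.{u + 1} where
  obj F := AddCommGrpCat.of (F.obj.map ρ.op).hom.ker
  map {F G} α := AddCommGrpCat.ofHom
    (((α.hom.app (op W)).hom.comp (F.obj.map ρ.op).hom.ker.subtype).codRestrict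
      (G.obj.map ρ.op).hom.ker (fun s => by
        rw [AddMonoidHom.mem_ker]
        have h := congrArg (fun ψ => ψ.hom s.1) (α.hom.naturality ρ.op)
        simp only [AddCommGrpCat.hom_comp, AddMonoidHom.coe_comp, Function.comp_apply] at h
        show (G.obj.map ρ.op).hom ((α.hom.app (op W)).hom s.1) = 0
        rw [← h, (AddMonoidHom.mem_ker).1 s.2, map_zero]))
  map_id F := by
    ext ⟨s, hs⟩
    rfl
  map_comp α β := by
    ext ⟨s, hs⟩
    rfl

/-- An isomorphism of sheaves is bijective on sections. -/
lemma bijective_app_of_isIso {F G : EtCoh.Ab X} (φ : F ⟶ G) [IsIso φ] (V : X.Etale) :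
    Function.Bijective (φ.hom.app (op V)) := by
  have : IsIso ((sheafToPresheaf X.smallEtaleTopology AddCommGrpCat.{u + 1} ⋙
      (evaluation _ _).obj (op V)).map φ) := inferInstance
  exact ConcreteCategory.bijective_of_isIso ((sheafToPresheaf X.smallEtaleTopology
    AddCommGrpCat.{u + 1} ⋙ (evaluation _ _).obj (op V)).map φ)

section open_piece

variable {U : Scheme.{u}} (j : U ⟶ X) [IsOpenImmersion j]

/-- The open piece `U` as an object of the small etale site mapping to the terminal object. -/
noncomputable def rho : Scheme.Etale.mk j ⟶ EtCoh.top X :=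
  MorphismProperty.Over.homMk j (Category.comp_id j) trivial

lemma rho_left : (rho j).left = j := rfl

/-- The unit of `j^{-1} ⊣ j_*` vanishes on a global section iff the section restricts to zero on `U`. -/
lemma unit_app_eq_zero_iff (F : EtCoh.Ab X) (s : F.obj.obj (op (EtCoh.top X))) :
    ((EtCoh.pullPushAdj j).unit.app F).hom.app (op (EtCoh.top X)) s = 0 ↔
      F.obj.map (rho j).op s = 0 := by
  have h1 := Adjunction.unit_leftAdjointUniq_hom_app (EtCoh.pullPushAdj j)
    (EtaleRestr.restrPushAdj j) F
  have h2 : ((EtaleRestr.restrPushAdj j).unit.app F).hom.app (op (EtCoh.top X)) =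
      F.obj.map ((EtaleRestr.adjSites j).counit.app (EtCoh.top X)).op := by
    simp [EtaleRestr.restrPushAdj]
  have h3 := congrArg (fun m => m.hom.app (op (EtCoh.top X)) s) h1
  have hbij := bijective_app_of_isIso ((EtCoh.push j).map
    (((EtCoh.pullPushAdj j).leftAdjointUniq (EtaleRestr.restrPushAdj j)).hom.app F)) (EtCoh.top X)
  -- the comparison maps between `U` and `X ×_X U`
  obtain ⟨a, -⟩ : ∃ a : (EtShriek.compEtale j).obj ((EtCoh.bc j).obj (EtCoh.top X)) ⟶
      Scheme.Etale.mk j, a.left = pullback.snd (EtCoh.top X).hom j :=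
    ⟨MorphismProperty.Over.homMk (pullback.snd (EtCoh.top X).hom j) rfl trivial, rfl⟩
  obtain ⟨b, -⟩ : ∃ b : Scheme.Etale.mk j ⟶
      (EtShriek.compEtale j).obj ((EtCoh.bc j).obj (EtCoh.top X)),
      b.left = pullback.lift j (𝟙 U) ((Category.comp_id j).trans (Category.id_comp j).symm) :=
    ⟨MorphismProperty.Over.homMk
      (pullback.lift j (𝟙 U) ((Category.comp_id j).trans (Category.id_comp j).symm)) (by
        show pullback.lift j (𝟙 U) _ ≫ pullback.snd (EtCoh.top X).hom j ≫ j = j
        exact (Category.assoc _ _ _).symm.trans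
          ((congrArg (· ≫ j) (pullback.lift_snd _ _ _)).trans (Category.id_comp j))) trivial, rfl⟩
  have ha : a ≫ rho j = (EtaleRestr.adjSites j).counit.app (EtCoh.top X) :=
    (EtCore.topIsTerminal X).hom_ext _ _
  have hb : b ≫ (EtaleRestr.adjSites j).counit.app (EtCoh.top X) = rho j :=
    (EtCore.topIsTerminal X).hom_ext _ _
  have h4 : ((EtCoh.push j).map
      (((EtCoh.pullPushAdj j).leftAdjointUniq (EtaleRestr.restrPushAdj j)).hom.app F)).hom.app
        (op (EtCoh.top X)) (((EtCoh.pullPushAdj j).unit.app F).hom.app (op (EtCoh.top X)) s) =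
      F.obj.map ((EtaleRestr.adjSites j).counit.app (EtCoh.top X)).op s := by
    rw [← h2]
    exact h3
  constructor
  · intro h0
    have h5 : F.obj.map ((EtaleRestr.adjSites j).counit.app (EtCoh.top X)).op s = 0 := by
      rw [← h4, h0]
      exact map_zero _
    rw [← hb, Groth.Agent.S0728.map_comp_apply, h5]
    exact map_zero _
  · intro h0
    have h5 : F.obj.map ((EtaleRestr.adjSites j).counit.app (EtCoh.top X)).op s = 0 := by
      rw [← ha, Groth.Agent.S0728.map_comp_apply, h0]
      exact map_zero _
    apply hbij.1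
    rw [h4, h5]
    exact (map_zero _).symm

end open_piece


section natIso

variable {U : Scheme.{u}} (j : U ⟶ X) [IsOpenImmersion j]

/-- The inclusion of the global sections with support into the global sections. -/
noncomputable def incl (F : EtCoh.Ab X) :
    (EtDual.gammaSupp j).obj F ⟶ F.obj.obj (op (EtCoh.top X)) :=
  (kernel.ι (EtDual.unitApp j F)).hom.app (op (EtCoh.top X))

lemma incl_injective (F : EtCoh.Ab X) : Function.Injective (incl j F) := by
  haveI : Mono ((sheafToPresheaf X.smallEtaleTopology AddCommGrpCat.{u + 1} ⋙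
      (evaluation _ _).obj (op (EtCoh.top X))).map (kernel.ι (EtDual.unitApp j F))) :=
    inferInstance
  exact (AddCommGrpCat.mono_iff_injective _).1 this

lemma incl_unit (F : EtCoh.Ab X) (x : (EtDual.gammaSupp j).obj F) :
    (EtDual.unitApp j F).hom.app (op (EtCoh.top X)) (incl j F x) = 0 := by
  have h := congrArg (fun m => m.hom.app (op (EtCoh.top X)) x)
    (kernel.condition (EtDual.unitApp j F))
  exact h

lemma exists_incl_eq (F : EtCoh.Ab X) (t : F.obj.obj (op (EtCoh.top X)))
    (ht : (EtDual.unitApp j F).hom.app (op (EtCoh.top X)) t = 0) :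
    ∃ x : (EtDual.gammaSupp j).obj F, incl j F x = t := by
  have hS : (ShortComplex.mk (kernel.ι (EtDual.unitApp j F)) (EtDual.unitApp j F)
      (kernel.condition _)).Exact :=
    ShortComplex.exact_of_f_is_kernel _ (kernelIsKernel (EtDual.unitApp j F))
  have hS' := hS.map_of_mono_of_preservesKernel
    (sheafToPresheaf X.smallEtaleTopology AddCommGrpCat.{u + 1} ⋙
      (evaluation _ _).obj (op (EtCoh.top X))) inferInstance inferInstance
  rw [ShortComplex.ab_exact_iff] at hS'
  exact hS' t ht

lemma incl_natural {F G : EtCoh.Ab X} (α : F ⟶ G) (x : (EtDual.gammaSupp j).obj F) :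
    incl j G ((EtDual.gammaSupp j).map α x) = α.hom.app (op (EtCoh.top X)) (incl j F x) := by
  have hnat : (EtDual.secSupp j).map α ≫ kernel.ι (EtDual.unitApp j G) =
      kernel.ι (EtDual.unitApp j F) ≫ α := kernel.lift_ι _ _ _
  exact congrArg (fun m => m.hom.app (op (EtCoh.top X)) x) hnat

/-- The comparison from global sections with support to the kernel of restriction to `U`. -/
noncomputable def toKerSec : EtDual.gammaSupp j ⟶ kerSec (rho j) where
  app F := AddCommGrpCat.ofHom ((incl j F).hom.codRestrict (F.obj.map (rho j).op).hom.ker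
    (fun x => (AddMonoidHom.mem_ker).2 ((unit_app_eq_zero_iff j F _).1 (incl_unit j F x))))
  naturality F G α := by
    ext x
    apply Subtype.ext
    exact incl_natural j α x

instance (F : EtCoh.Ab X) : IsIso ((toKerSec j).app F) := by
  rw [ConcreteCategory.isIso_iff_bijective]
  constructor
  · intro x y hxy
    apply incl_injective j F
    exact congrArg Subtype.val hxy
  · rintro ⟨t, ht⟩
    obtain ⟨x, hx⟩ := exists_incl_eq j F t
      ((unit_app_eq_zero_iff j F t).2 ((AddMonoidHom.mem_ker).1 ht))
    exact ⟨x, Subtype.ext hx⟩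

instance : IsIso (toKerSec j) := NatIso.isIso_of_isIso_app _

/-- `Γ_Z(X, -)` is the kernel of restriction to the open complement. -/
noncomputable def gammaSuppIso : EtDual.gammaSupp j ≅ kerSec (rho j) := asIso (toKerSec j)

end natIso


section excision

/-- A section restricts to zero along `ρ` iff its support misses the image of `ρ`. -/
lemma map_eq_zero_iff_sectSupp (F : EtCoh.Ab X) {V W : X.Etale} (ρ : V ⟶ W)
    (s : F.obj.obj (op W)) :
    F.obj.map ρ.op s = 0 ↔ EtShriek.sectSupp F W s ⊆ (Set.range ρ.left.base)ᶜ := by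
  constructor
  · rintro h0 x hx ⟨v, rfl⟩
    exact hx V ρ ⟨v, rfl⟩ h0
  · intro hs
    exact Groth.Agent.S0728.map_eq_zero_of_forall_not_mem F s _ hs ρ
      (fun t h => h ⟨t, rfl⟩)

variable {X' U U' : Scheme.{u}} (f : X' ⟶ X) [Etale f] (j : U ⟶ X) [IsOpenImmersion j]
  (j' : U' ⟶ X') [IsOpenImmersion j']

/-- The map `(X' → X) ⟶ (X = X)` of the small etale site of `X`. -/
noncomputable def phi : (EtShriek.compEtale f).obj (EtCoh.top X') ⟶ EtCoh.top X :=
  MorphismProperty.Over.homMk f ((Category.comp_id f).trans (Category.id_comp f).symm) trivial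

lemma phi_left : (phi f).left = f := rfl

variable (hpre : f.base ⁻¹' (Set.range j.base)ᶜ = (Set.range j'.base)ᶜ)
  (hbij : Set.BijOn f.base (f.base ⁻¹' (Set.range j.base)ᶜ) (Set.range j.base)ᶜ)
  (hres : ∀ x ∈ f.base ⁻¹' (Set.range j.base)ᶜ, Function.Bijective (f.residueFieldMap x))

include hpre hbij hres

lemma excision_bijOn (F : EtCoh.Ab X) :
    Set.BijOn (F.obj.map (phi f).op)
      {s | F.obj.map (rho j).op s = 0}
      {s' | F.obj.map ((EtShriek.compEtale f).map (rho j')).op s' = 0} := by
  have h := Groth.Agent.S0728.result F (phi f) (Set.range j.base)ᶜ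
    j.isOpenEmbedding.isOpen_range.isClosed_compl hbij hres
  have e1 : {s : F.obj.obj (op (EtCoh.top X)) | F.obj.map (rho j).op s = 0} =
      {s | EtShriek.sectSupp F (EtCoh.top X) s ⊆ (Set.range j.base)ᶜ} := by
    ext s
    exact map_eq_zero_iff_sectSupp F (rho j) s
  have e2 : {s' : F.obj.obj (op ((EtShriek.compEtale f).obj (EtCoh.top X'))) |
        F.obj.map ((EtShriek.compEtale f).map (rho j')).op s' = 0} =
      {s' | EtShriek.sectSupp F ((EtShriek.compEtale f).obj (EtCoh.top X')) s' ⊆
        (phi f).left.base ⁻¹' (Set.range j.base)ᶜ} := by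
    ext s'
    have h2 := map_eq_zero_iff_sectSupp F ((EtShriek.compEtale f).map (rho j')) s'
    have e3 : (phi f).left.base ⁻¹' (Set.range j.base)ᶜ =
        (Set.range ((EtShriek.compEtale f).map (rho j')).left.base)ᶜ := hpre
    show _ ↔ _ ⊆ (phi f).left.base ⁻¹' (Set.range j.base)ᶜ
    rw [e3]
    exact h2
  rw [e1, e2]
  exact h

/-- Restriction along `f` from sections supported off `U` to sections supported off `U'`. -/
noncomputable def excisionHom : kerSec (rho j) ⟶ kerSec ((EtShriek.compEtale f).map (rho j')) where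
  app F := AddCommGrpCat.ofHom
    (((F.obj.map (phi f).op).hom.comp (F.obj.map (rho j).op).hom.ker.subtype).codRestrict
      (F.obj.map ((EtShriek.compEtale f).map (rho j')).op).hom.ker
      (fun s => (AddMonoidHom.mem_ker).2
        ((excision_bijOn f j j' hpre hbij hres F).mapsTo ((AddMonoidHom.mem_ker).1 s.2))))
  naturality F G α := by
    ext ⟨s, hs⟩
    apply Subtype.ext
    have h := congrArg (fun ψ => ψ.hom s) (α.hom.naturality (phi f).op)
    exact h.symm

instance (F : EtCoh.Ab X) : IsIso ((excisionHom f j j' hpre hbij hres).app F) := by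
  rw [ConcreteCategory.isIso_iff_bijective]
  have hB := excision_bijOn f j j' hpre hbij hres F
  constructor
  · rintro ⟨x, hx⟩ ⟨y, hy⟩ hxy
    apply Subtype.ext
    exact hB.injOn ((AddMonoidHom.mem_ker).1 hx) ((AddMonoidHom.mem_ker).1 hy)
      (congrArg Subtype.val hxy)
  · rintro ⟨t, ht⟩
    obtain ⟨s, hs, hst⟩ := hB.surjOn ((AddMonoidHom.mem_ker).1 ht)
    exact ⟨⟨s, (AddMonoidHom.mem_ker).2 hs⟩, Subtype.ext hst⟩

instance : IsIso (excisionHom f j j' hpre hbij hres) := NatIso.isIso_of_isIso_app _

omit hpre hbij hres in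
/-- Restriction along the etale map followed by the kernel of restriction, concretely. -/
noncomputable def restrKerSecIso :
    EtShriek.restrAlong f ⋙ kerSec (rho j') ≅ kerSec ((EtShriek.compEtale f).map (rho j')) :=
  NatIso.ofComponents (fun F => Iso.refl _) (by
    intro F G α
    ext ⟨s, hs⟩
    rfl)

/-- **Excision** for global sections with support: `Γ_Z(X, -) ≅ Γ_{Z'}(X', f^{-1} -)`. -/
noncomputable def gammaSuppExcisionIso :
    EtDual.gammaSupp j ≅ EtCoh.pull f ⋙ EtDual.gammaSupp j' :=
  gammaSuppIso j ≪≫ asIso (excisionHom f j j' hpre hbij hres) ≪≫ (restrKerSecIso f j').symm ≪≫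
    (Functor.isoWhiskerLeft (EtShriek.restrAlong f) (gammaSuppIso j')).symm ≪≫
    (Functor.isoWhiskerRight (EtaleRestr.pullIsoRestr f) (EtDual.gammaSupp j')).symm

end excision

end Groth.Agent.Lib.Helper15.GammaSupp
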