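import Mathlib
import Groth.Prelude
import Groth.Agent.Lib.Helper23.AmpleCurve3
import Groth.Agent.Lib.Helper23.Sat
import Groth.Agent.Lib.Helper23.DegTensor
import Groth.Agent.Lib.Helper23.CurveF
import Groth.Agent.Lib.Helper3.InvGen

/-!
# A section of an invertible module of positive degree on a proper integral curve has a closed zero

`exists_closed_notMem_genLocus` (sub-lemma R6 for S16302).
-/

set_option autoImplicit false
set_option linter.style.haveILetI false
universe u
open CategoryTheory CategoryTheory.Limits AlgebraicGeometry TopologicalSpace Opposite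
open Scheme.Modules
open Groth.Agent.Lib.Helper3 Groth.Agent.Lib.Helper3.QCSec Groth.Agent.Lib.Helper3.InvGen
open Groth.Agent.Lib.Helper23.T2 Groth.Agent.Lib.Helper23.Curve

namespace Groth.Agent.Lib.Helper15.GenLocusDeg

variable (k : Type u) [Field k] {X : Scheme.{u}} [X.Over (Spec (CommRingCat.of k))] [IsIntegral X]
  [IsProper (X ↘ Spec (CommRingCat.of k))]

theorem exists_closed_notMem_genLocus (hdim : topologicalKrullDim X = 1) {L : X.Modules}
    (hL : PicF.IsInvertible L) (hdeg : 0 < Curv2.deg k X L 1) (s : Coh.structureModule X ⟶ L) :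
    ∃ Q : X, IsClosed ({Q} : Set X) ∧ Q ∉ CohB1.genLocus L s := by
  haveI : CompactSpace X :=
    QuasiCompact.compactSpace_of_compactSpace (X ↘ Spec (CommRingCat.of k))
  -- a zero of `s`
  obtain ⟨x, hxs⟩ : ∃ x : X, x ∉ CohB1.genLocus L s := by
    by_contra hcon
    push Not at hcon
    have htop : CohB1.genLocus L s = ⊤ := by
      ext y
      simp only [Opens.coe_top, Set.mem_univ, iff_true]
      exact hcon y
    haveI := Groth.Agent.Lib.Helper23.AmpleCurve.isIso_of_genLocus_eq_top s htop
    have hdeg0 := Groth.Agent.Lib.Helper23.Sat.deg_eq_of_iso k hdim.le (asIso s)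
      (isFinLocFreeOfRank_one_of_isInvertible (isInvertible_structureModule X))
    rw [Groth.Agent.Lib.Helper23.DegTensor.deg_structureModule_one] at hdeg0
    omega
  -- a closed point in the closed complement
  have hZ : IsClosed ((CohB1.genLocus L s : Set X)ᶜ) := (CohB1.genLocus L s).isOpen.isClosed_compl
  obtain ⟨Q, hQ, hQc⟩ := hZ.exists_closed_singleton ⟨x, hxs⟩
  exact ⟨Q, hQc, hQ⟩

end Groth.Agent.Lib.Helper15.GenLocusDeg
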