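import Mathlib
import Groth.Agent.Lib.Helper15.SpecNear
import Groth.Prelude.Def_EtShriek2

/-!
# Helper15: a constructible sheaf is finite locally constant near `x` iff all specialization maps
into a geometric point over `x` are isomorphisms (S8530)
-/

set_option autoImplicit false
set_option backward.isDefEq.respectTransparency false

universe u

open CategoryTheory CategoryTheory.Limits AlgebraicGeometry Opposite Topology

namespace Helper15.Constr

open Helper15.LcStruct Helper15.SpecArrow Groth.Agent.Lib.Helper13.StalkPull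
open Groth.Agent.Lib.Helper15.StalkPullGerm Groth.Agent.Lib.Helper15

theorem sheafFiber_germ_hom {X : Scheme.{u}} {Ω Ω' : Type u} [Field Ω] [IsSepClosed Ω] [Field Ω']
    [IsSepClosed Ω'] {ξ : Spec (CommRingCat.of Ω) ⟶ X} {ε : Spec (CommRingCat.of Ω') ⟶ X}
    (φ : Scheme.pointSmallEtale ε ⟶ Scheme.pointSmallEtale ξ) (F : EtCoh.Ab X) (W : X.Etale)
    (z : (Scheme.pointSmallEtale ξ).fiber.obj W) :
    (Scheme.pointSmallEtale ξ).toPresheafFiber W z F.obj ≫
      ((GrothendieckTopology.Point.Hom.sheafFiber (A := AddCommGrpCat.{u + 1}) φ).app F) =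
      (Scheme.pointSmallEtale ε).toPresheafFiber W (φ.hom.app W z) F.obj := by
  show (Scheme.pointSmallEtale ξ).toPresheafFiber W z F.obj ≫
    (GrothendieckTopology.Point.Hom.presheafFiber (A := AddCommGrpCat.{u + 1}) φ).app F.obj = _
  rw [GrothendieckTopology.Point.Hom.presheafFiber_app]
  exact (Scheme.pointSmallEtale ξ).toPresheafFiber_presheafFiberDesc _ _ W z

theorem not_mem_closure_of_constructible {Y : Scheme.{u}} [IsAffine Y] {E : Set Y}
    (hE : IsConstructible E) (y₀ : Y) (h : ∀ η : Y, η ⤳ y₀ → η ∉ E) : y₀ ∉ closure E := by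
  intro hy₀
  obtain ⟨e, -⟩ : ∃ e : Y ≃ₜ PrimeSpectrum Γ(Y, ⊤), True :=
    ⟨Y.isoSpec.hom.homeomorph, trivial⟩
  have hE' : IsConstructible (e.symm ⁻¹' E) :=
    hE.preimage_of_isOpenEmbedding e.symm.isOpenEmbedding
  obtain ⟨S, _, f, hf⟩ := PrimeSpectrum.exists_range_eq_of_isConstructible hE'
  have h1 : e y₀ ∈ closure (e.symm ⁻¹' E) := by
    rw [← e.symm.preimage_closure]
    show e.symm (e y₀) ∈ closure E
    rw [e.symm_apply_apply]
    exact hy₀
  rw [← hf, PrimeSpectrum.closure_range_comap] at h1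
  have h2 : (⊥ : Ideal S).comap f ≤ (e y₀).asIdeal := by
    rw [← RingHom.ker_eq_comap_bot]
    exact (PrimeSpectrum.mem_zeroLocus _ _).1 h1
  obtain ⟨Q, -, hQ, hQle⟩ := Ideal.exists_ideal_comap_le_prime (e y₀).asIdeal (⊥ : Ideal S) h2
  have h3 : PrimeSpectrum.comap f ⟨Q, hQ⟩ ∈ e.symm ⁻¹' E := by
    rw [← hf]; exact ⟨_, rfl⟩
  have h4 : PrimeSpectrum.comap f ⟨Q, hQ⟩ ⤳ e y₀ :=
    (PrimeSpectrum.le_iff_specializes _ _).1 hQle
  have h5 : e.symm (PrimeSpectrum.comap f ⟨Q, hQ⟩) ⤳ y₀ := by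
    have := h4.map e.symm.continuous
    rwa [e.symm_apply_apply] at this
  exact h _ h5 h3

theorem badSet_constructible {X : Scheme.{u}} (F : EtCoh.Ab X) (U₀ : X.Opens)
    (hA : Adapted' F (U₀ : Set X)) (W : X.Etale) [IsAffine W.left]
    (hW : Set.range W.hom.base ⊆ (U₀ : Set X))
    {M : Type (u+1)} [AddCommGroup M] [Finite M] (c : M →+ F.obj.obj (op W)) :
    IsConstructible (badSet F W c) := by
  obtain ⟨κ, hκ, T, g, h1, h2, h3, h4, h5⟩ := hA
  obtain ⟨j, hj⟩ : ∃ j : W.left ⟶ U₀.toScheme, j ≫ U₀.ι = W.hom :=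
    ⟨IsOpenImmersion.lift U₀.ι W.hom (by rw [Scheme.Opens.range_ι]; exact hW),
      IsOpenImmersion.lift_fac _ _ _⟩
  have hpiece : ∀ k, IsConstructible
      (badSet F W c ∩ W.hom.base ⁻¹' Set.range (g k).base) := by
    intro k
    haveI := h1 k
    have hZ : IsConstructible (W.hom.base ⁻¹' Set.range (g k).base) := by
      have hk' : IsConstructible (U₀.ι.base ⁻¹' Set.range (g k).base) := h2 k
      have := j.isConstructible_preimage hk'
      have e : W.hom.base ⁻¹' Set.range (g k).base =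
          j.base ⁻¹' (U₀.ι.base ⁻¹' Set.range (g k).base) := by
        rw [← hj]; rfl
      rw [e]; exact this
    obtain ⟨cT, hcT⟩ : ∃ cT : M →+
        ((EtCoh.pull (g k)).obj F).obj.obj (op ((EtCoh.bc (g k)).obj W)),
        ∀ m, cT m = ((EtCoh.pullPushAdj (g k)).unit.app F).hom.app (op W) (c m) :=
      ⟨(((EtCoh.pullPushAdj (g k)).unit.app F).hom.app (op W)).hom.comp c, fun m => rfl⟩
    have hclopen := badSet_isClopen_of_flc _ (h5 k) ((EtCoh.bc (g k)).obj W) cT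
    have hpre : (pullback.fst W.hom (g k)).base ⁻¹' badSet F W c =
        badSet ((EtCoh.pull (g k)).obj F) ((EtCoh.bc (g k)).obj W) cT := by
      ext t'; exact badSet_pull (g k) F W c cT hcT t'
    obtain ⟨O, hO, hO'⟩ :=
      (pullback.fst W.hom (g k)).isEmbedding.isInducing.isOpen_iff.1 hclopen.isOpen
    obtain ⟨K, hK, hK'⟩ :=
      (pullback.fst W.hom (g k)).isEmbedding.isInducing.isClosed_iff.1 hclopen.isClosed
    have hrange : Set.range (pullback.fst W.hom (g k)).base =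
        W.hom.base ⁻¹' Set.range (g k).base := Scheme.Pullback.range_fst W.hom (g k)
    have hmemO : ∀ p ∈ W.hom.base ⁻¹' Set.range (g k).base,
        (p ∈ badSet F W c ↔ p ∈ O) := by
      intro p hp
      rw [← hrange] at hp
      obtain ⟨t', rfl⟩ := hp
      have e1 : (pullback.fst W.hom (g k)).base t' ∈ badSet F W c ↔
          t' ∈ (pullback.fst W.hom (g k)).base ⁻¹' badSet F W c := Iff.rfl
      rw [e1, hpre, ← hO']
      rfl
    have hmemK : ∀ p ∈ W.hom.base ⁻¹' Set.range (g k).base,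
        (p ∈ badSet F W c ↔ p ∈ K) := by
      intro p hp
      rw [← hrange] at hp
      obtain ⟨t', rfl⟩ := hp
      have e1 : (pullback.fst W.hom (g k)).base t' ∈ badSet F W c ↔
          t' ∈ (pullback.fst W.hom (g k)).base ⁻¹' badSet F W c := Iff.rfl
      rw [e1, hpre, ← hK']
      rfl
    refine isConstructible_of_rel_clopen hZ hO hK ?_ ?_
    · ext p
      constructor
      · rintro ⟨hb, hp⟩; exact ⟨hp, (hmemO p hp).1 hb⟩
      · rintro ⟨hp, hpO⟩; exact ⟨(hmemO p hp).2 hpO, hp⟩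
    · ext p
      constructor
      · rintro ⟨hb, hp⟩; exact ⟨hp, (hmemK p hp).1 hb⟩
      · rintro ⟨hp, hpK⟩; exact ⟨(hmemK p hp).2 hpK, hp⟩
  have hcover : badSet F W c =
      ⋃ k, (badSet F W c ∩ W.hom.base ⁻¹' Set.range (g k).base) := by
    ext p
    constructor
    · intro hp
      have : W.hom.base p ∈ ⋃ k, Set.range (g k) := by rw [h4]; exact hW ⟨p, rfl⟩
      obtain ⟨k, hk⟩ := Set.mem_iUnion.1 this
      exact Set.mem_iUnion.2 ⟨k, hp, hk⟩
    · intro hp
      obtain ⟨k, hb, -⟩ := Set.mem_iUnion.1 hp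
      exact hb
  rw [hcover]
  exact IsConstructible.iUnion hpiece

theorem constVia_of_good {X : Scheme.{u}} (F : EtCoh.Ab X) (W : X.Etale) {M : Type (u+1)}
    [AddCommGroup M] (c : M →+ F.obj.obj (op W)) (N : Set W.left) (hNo : IsOpen N)
    (hP : ∀ (Ω : Type u) [Field Ω] [IsSepClosed Ω] (ζ : Spec (CommRingCat.of Ω) ⟶ X)
        (z' : (Scheme.pointSmallEtale ζ).fiber.obj W), pt ζ z' ∈ N →
        Function.Bijective (fun m : M =>
          ((Scheme.pointSmallEtale ζ).toPresheafFiber W z' F.obj (c m) :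
            (EtCoh.stalk ζ).obj F))) :
    ∃ (V : X.Etale) (f : V ⟶ W), Set.range f.left.base = N ∧
      IsConstVia F V M ((F.obj.map f.op).hom.comp c) := by
  obtain ⟨V, f, hVf⟩ : ∃ (V : X.Etale) (f : V ⟶ W), Set.range f.left.base = N := by
    obtain ⟨No, hNoe⟩ : ∃ No : W.left.Opens, (No : Set W.left) = N := ⟨⟨N, hNo⟩, rfl⟩
    haveI : Etale W.hom := W.prop
    refine ⟨Scheme.Etale.mk (No.ι ≫ W.hom),
      MorphismProperty.Over.homMk No.ι rfl trivial, ?_⟩
    rw [← hNoe]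
    exact Scheme.Opens.range_ι _
  refine ⟨V, f, hVf, ?_⟩
  obtain ⟨c', hc'⟩ : ∃ c' : M →+ F.obj.obj (op V),
      c' = (F.obj.map f.op).hom.comp c := ⟨_, rfl⟩
  rw [← hc']
  have hgerm : ∀ (Ω : Type u) [Field Ω] [IsSepClosed Ω] (ζ : Spec (CommRingCat.of Ω) ⟶ X)
      (z'' : (Scheme.pointSmallEtale ζ).fiber.obj V),
      Function.Bijective (fun m : M =>
        ((Scheme.pointSmallEtale ζ).toPresheafFiber V z'' F.obj (c' m) :
          (EtCoh.stalk ζ).obj F)) := by
    intro Ω _ _ ζ z''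
    have hmem : pt ζ ((Scheme.pointSmallEtale ζ).fiber.map f z'') ∈ N := by
      rw [pt_map, ← hVf]; exact ⟨_, rfl⟩
    have hb := hP Ω ζ _ hmem
    have heq : ∀ m : M,
        (Scheme.pointSmallEtale ζ).toPresheafFiber V z'' F.obj (c' m) =
        (Scheme.pointSmallEtale ζ).toPresheafFiber W
          ((Scheme.pointSmallEtale ζ).fiber.map f z'') F.obj (c m) := by
      intro m
      rw [hc']
      exact (Scheme.pointSmallEtale ζ).toPresheafFiber_w_apply f z'' F.obj (c m)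
    constructor
    · intro m m' hmm
      apply hb.1
      show (Scheme.pointSmallEtale ζ).toPresheafFiber W _ F.obj (c m) =
        (Scheme.pointSmallEtale ζ).toPresheafFiber W _ F.obj (c m')
      rw [← heq, ← heq]
      exact hmm
    · intro p
      obtain ⟨m, hm⟩ := hb.2 p
      exact ⟨m, (heq m).trans hm⟩
  have hinj : ∀ {Y : X.Etale} (k : Y ⟶ V) (m : M),
      (⊥ : Sieve Y) ∉ X.smallEtaleTopology Y → F.obj.map k.op (c' m) = 0 → m = 0 := by
    intro Y k m hY hm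
    obtain ⟨y₁⟩ := nonempty_of_bot_not_mem Y hY
    obtain ⟨Ω, iF, iS, ζ, hr⟩ := exists_geomPt (T := X) (Y.hom.base y₁)
    have hb : ζ.base default = Y.hom.base y₁ := base_default_of_range ζ hr
    obtain ⟨y', -⟩ :=
      Scheme.pointSmallEtaleFiberObjToPreimage_surjective ζ hb Y ⟨y₁, by simp⟩
    have e1 := (Scheme.pointSmallEtale ζ).toPresheafFiber_w_apply k y' F.obj (c' m)
    rw [hm, map_zero] at e1
    apply (hgerm Ω ζ ((Scheme.pointSmallEtale ζ).fiber.map k y')).1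
    show (Scheme.pointSmallEtale ζ).toPresheafFiber V _ F.obj (c' m) =
      (Scheme.pointSmallEtale ζ).toPresheafFiber V _ F.obj (c' 0)
    rw [← e1, map_zero, map_zero]
  have hsurj : ∀ {Y : X.Etale} (h : Y ⟶ V) (s : F.obj.obj (op Y)),
      cSieve F c' h s ∈ X.smallEtaleTopology Y := by
    intro Y h s
    apply cover_of_points
    intro y
    obtain ⟨Ω, iF, iS, ζ, hr⟩ := exists_geomPt (T := X) (Y.hom.base y)
    have hb : ζ.base default = Y.hom.base y := base_default_of_range ζ hr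
    obtain ⟨y', hy'⟩ :=
      Scheme.pointSmallEtaleFiberObjToPreimage_surjective ζ hb Y ⟨y, by simp⟩
    obtain ⟨yl, hyl⟩ : ∃ yl : Spec (CommRingCat.of Ω) ⟶ Y.left, yl = y'.left := ⟨y'.left, rfl⟩
    have hy'' : yl.base default = y := by
      rw [hyl]; exact congrArg Subtype.val hy'
    have hbij := hgerm Ω ζ ((Scheme.pointSmallEtale ζ).fiber.map h y')
    obtain ⟨a, ha⟩ := hbij.2 ((Scheme.pointSmallEtale ζ).toPresheafFiber Y y' F.obj s)
    have ha' : (Scheme.pointSmallEtale ζ).toPresheafFiber Y y' F.obj (F.obj.map h.op (c' a)) =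
        (Scheme.pointSmallEtale ζ).toPresheafFiber Y y' F.obj s :=
      ((Scheme.pointSmallEtale ζ).toPresheafFiber_w_apply h y' F.obj (c' a)).trans ha
    obtain ⟨Z, k, z, hz, hk⟩ :=
      ((Scheme.pointSmallEtale ζ).toPresheafFiber_eq_iff' Y y' _ _).1 ha'
    obtain ⟨zl, hzl⟩ : ∃ zl : Spec (CommRingCat.of Ω) ⟶ Z.left, zl = z.left := ⟨z.left, rfl⟩
    have hz' : zl ≫ k.left = yl := by
      rw [hzl, hyl]; exact congrArg (fun q => q.left) hz
    refine ⟨Z, k, ⟨a, ?_⟩, ⟨zl.base default, ?_⟩⟩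
    · rw [map_comp_app F k h (c' a)]
      exact hk.symm
    · have e2 : (zl ≫ k.left).base default = yl.base default := by rw [hz']
      exact e2.trans hy''
  exact ⟨hsurj, hinj⟩

theorem flc_near_of_spec_iso {X : Scheme.{u}} (F : EtCoh.Ab X) (hF : EtPBC.IsConstructible F)
    {Ω : Type u} [Field Ω] [IsSepClosed Ω] (ξ : Spec (CommRingCat.of Ω) ⟶ X)
    (hiso : ∀ (Ω' : Type u) [Field Ω'] [IsSepClosed Ω'] (ξ' : Spec (CommRingCat.of Ω') ⟶ X)
        (φ : Scheme.pointSmallEtale ξ' ⟶ Scheme.pointSmallEtale ξ),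
        IsIso ((GrothendieckTopology.Point.Hom.sheafFiber (A := AddCommGrpCat.{u + 1}) φ).app F)) :
    ∃ U : X.Opens, ξ.base default ∈ U ∧
      EtCoh.IsFiniteLocallyConstant ((EtCoh.pull U.ι).obj F) := by
  obtain ⟨U₀, hU₀, hxU₀, -⟩ :=
    exists_isAffineOpen_mem_and_subset (x := ξ.base default) (U := ⊤) trivial
  have hA := adapted'_of_adapted (hF U₀ hU₀)
  haveI hfinξ : Finite ((EtCoh.stalk ξ).obj F) := finite_stalk_of_adapted F U₀ hA ξ hxU₀
  obtain ⟨W₁, w₁, c₁, hc₁⟩ := exists_additive_sections ξ F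
  obtain ⟨W, w, c, hWaff, hWU, hc⟩ : ∃ (W : X.Etale)
      (w : (Scheme.pointSmallEtale ξ).fiber.obj W)
      (c : ((EtCoh.stalk ξ).obj F) →+ F.obj.obj (op W)), IsAffine W.left ∧
      Set.range W.hom.base ⊆ (U₀ : Set X) ∧
      ∀ m, (Scheme.pointSmallEtale ξ).toPresheafFiber W w F.obj (c m) = m := by
    haveI : Etale W₁.hom := W₁.prop
    have hmem : pt ξ w₁ ∈ (W₁.hom ⁻¹ᵁ U₀ : W₁.left.Opens) := by
      show W₁.hom.base (pt ξ w₁) ∈ U₀
      rw [pt_hom]; exact hxU₀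
    obtain ⟨A, hA', hwA, hAsub⟩ :=
      exists_isAffineOpen_mem_and_subset (x := pt ξ w₁) (U := W₁.hom ⁻¹ᵁ U₀) hmem
    obtain ⟨wl, hwl⟩ : ∃ wl : Spec (CommRingCat.of Ω) ⟶ W₁.left, wl = w₁.left := ⟨_, rfl⟩
    have hwW : wl ≫ W₁.hom = ξ := hwl ▸ Over.w w₁
    have hsubA : Set.range wl.base ⊆ Set.range A.ι.base := by
      rintro _ ⟨a, rfl⟩
      rw [Subsingleton.elim a default, Scheme.Opens.range_ι, ← pt_eq ξ w₁ wl hwl]
      exact hwA
    obtain ⟨l, hl⟩ : ∃ l : Spec (CommRingCat.of Ω) ⟶ A.toScheme, l ≫ A.ι = wl :=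
      ⟨IsOpenImmersion.lift A.ι wl hsubA, IsOpenImmersion.lift_fac _ _ _⟩
    obtain ⟨fA, hfA⟩ : ∃ fA : Scheme.Etale.mk (A.ι ≫ W₁.hom) ⟶ W₁, fA.left = A.ι :=
      ⟨MorphismProperty.Over.homMk A.ι rfl trivial, rfl⟩
    obtain ⟨wA, hwA'⟩ : ∃ wA : (Scheme.pointSmallEtale ξ).fiber.obj
        (Scheme.Etale.mk (A.ι ≫ W₁.hom)), (Scheme.pointSmallEtale ξ).fiber.map fA wA = w₁ := by
      refine ⟨Over.homMk l (by
        show l ≫ (A.ι ≫ W₁.hom) = ξ
        rw [← Category.assoc, hl, hwW]), ?_⟩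
      apply Over.OverMorphism.ext
      show l ≫ fA.left = w₁.left
      rw [hfA, hl, hwl]
    refine ⟨Scheme.Etale.mk (A.ι ≫ W₁.hom), wA, (F.obj.map fA.op).hom.comp c₁, hA', ?_, ?_⟩
    · rintro _ ⟨a, rfl⟩
      exact hAsub a.2
    · intro m
      show (Scheme.pointSmallEtale ξ).toPresheafFiber _ wA F.obj (F.obj.map fA.op (c₁ m)) = m
      rw [(Scheme.pointSmallEtale ξ).toPresheafFiber_w_apply fA wA F.obj (c₁ m), hwA']
      exact hc₁ m
  haveI := hWaff
  have hBc : IsConstructible (badSet F W c) := badSet_constructible F U₀ hA W hWU c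
  have hgen : ∀ η : W.left, η ⤳ pt ξ w → η ∉ badSet F W c := by
    rintro η hη ⟨Ω', iF, iS, ζ, z, hpt, hnb⟩
    apply hnb
    obtain ⟨φ, hφ, -⟩ := exists_point_hom' ξ ζ W w z (by rw [hpt]; exact hη)
    have hsp := (ConcreteCategory.isIso_iff_bijective _).1 (hiso Ω' ζ φ)
    have heq : ∀ m : (EtCoh.stalk ξ).obj F,
        (Scheme.pointSmallEtale ζ).toPresheafFiber W z F.obj (c m) =
        (GrothendieckTopology.Point.Hom.sheafFiber (A := AddCommGrpCat.{u + 1}) φ).app F m := by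
      intro m
      have := sheafFiber_germ φ F W w (c m)
      rw [hc m, hφ] at this
      exact this.symm
    refine ⟨fun a b hab => hsp.1 ?_, fun p => ?_⟩
    · rw [← heq, ← heq]; exact hab
    · obtain ⟨m, hm⟩ := hsp.2 p
      exact ⟨m, (heq m).trans hm⟩
  have hw₀ : pt ξ w ∉ closure (badSet F W c) :=
    not_mem_closure_of_constructible hBc _ hgen
  obtain ⟨N, hN⟩ : ∃ N : Set W.left, N = (closure (badSet F W c))ᶜ := ⟨_, rfl⟩
  have hNo : IsOpen N := by rw [hN]; exact isClosed_closure.isOpen_compl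
  have hwN : pt ξ w ∈ N := by rw [hN]; exact hw₀
  have hP : ∀ (Ω' : Type u) [Field Ω'] [IsSepClosed Ω'] (ζ : Spec (CommRingCat.of Ω') ⟶ X)
      (z' : (Scheme.pointSmallEtale ζ).fiber.obj W), pt ζ z' ∈ N →
      Function.Bijective (fun m : (EtCoh.stalk ξ).obj F =>
        ((Scheme.pointSmallEtale ζ).toPresheafFiber W z' F.obj (c m) :
          (EtCoh.stalk ζ).obj F)) := by
    intro Ω' iF iS ζ z' hz'
    by_contra hnb
    rw [hN] at hz'
    exact hz' (subset_closure ⟨Ω', iF, iS, ζ, z', rfl, hnb⟩)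
  obtain ⟨V, f, hVf, hCV⟩ := constVia_of_good F W c N hNo hP
  obtain ⟨e⟩ := constIso_of_isConstVia hCV
  obtain ⟨M', iM', fM', ⟨em⟩⟩ := exists_small_finite ((EtCoh.stalk ξ).obj F)
  haveI : Etale V.hom := V.prop
  obtain ⟨O, hO⟩ : ∃ O : X.Opens, (O : Set X) = Set.range V.hom.base :=
    ⟨⟨_, V.hom.isOpenMap.isOpen_range⟩, rfl⟩
  refine ⟨O, ?_, flc_pull_of_over O.ι F V (by rw [Scheme.Opens.range_ι, hO]) M'
    (e ≪≫ (constantSheaf _ _).mapIso em)⟩
  have hwr : pt ξ w ∈ Set.range f.left.base := by rw [hVf]; exact hwN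
  obtain ⟨v, hv⟩ := hwr
  show ξ.base default ∈ (O : Set X)
  rw [hO]
  refine ⟨v, ?_⟩
  have hfw : f.left ≫ W.hom = V.hom := MorphismProperty.Over.w f
  rw [← hfw, ← pt_hom ξ w, ← hv]
  rfl

end Helper15.Constr
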