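import Mathlib
import Groth.Agent.Lib.Helper15.SpecNear2
import Groth.Agent.Lib.Helper14.NormalSmoothAsc

/-!
# Helper15: locally constant functions on dense quasi-compact opens of schemes with integral local
rings are locally constant near every point; étale schemes over normal schemes have integral
local rings
-/

set_option autoImplicit false
set_option backward.isDefEq.respectTransparency false

universe u

open CategoryTheory CategoryTheory.Limits AlgebraicGeometry Opposite Topology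

namespace Helper15.NormalExt

theorem exists_common_generization {Y : Scheme.{u}} (y : Y) [IsDomain (Y.presheaf.stalk y)] :
    ∃ ζ : Y, ∀ η : Y, η ⤳ y → ζ ⤳ η := by
  obtain ⟨z, hz⟩ : ∃ z : PrimeSpectrum (Y.presheaf.stalk y), z = ⟨⊥, Ideal.bot_prime⟩ :=
    ⟨_, rfl⟩
  refine ⟨(Y.fromSpecStalk y) z, ?_⟩
  intro η hη
  obtain ⟨q, rfl⟩ : η ∈ Set.range (Y.fromSpecStalk y) := by
    rw [Scheme.range_fromSpecStalk]
    exact hη
  have h1 : z ⤳ q := (PrimeSpectrum.le_iff_specializes z q).mp (by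
    rw [hz]
    exact (bot_le : (⊥ : Ideal _) ≤ q.asIdeal))
  exact h1.map (Y.fromSpecStalk y).continuous

theorem exists_specializes_of_mem_closure {Y : Scheme.{u}} (N₀ : Y.Opens)
    (hN₀ : IsAffineOpen N₀) (E : Set Y) (hEo : IsOpen E) (hEc : IsCompact E)
    (hEN : E ⊆ (N₀ : Set Y)) (y : Y) (hy : y ∈ N₀) (hcl : y ∈ closure E) :
    ∃ η ∈ E, η ⤳ y := by
  haveI : IsAffine N₀.toScheme := hN₀
  obtain ⟨yA, hyA⟩ : ∃ yA : N₀.toScheme, N₀.ι.base yA = y := by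
    have : y ∈ Set.range N₀.ι.base := by rw [Scheme.Opens.range_ι]; exact hy
    exact this
  by_contra hne
  push_neg at hne
  have ho : IsOpen (N₀.ι.base ⁻¹' E) := hEo.preimage N₀.ι.continuous
  have hE' : IsConstructible (N₀.ι.base ⁻¹' E) := by
    refine IsRetrocompact.isConstructible ho ?_
    rw [QuasiSeparatedSpace.isRetrocompact_iff_isCompact ho]
    exact (N₀.ι.isOpenEmbedding.isInducing.isCompact_preimage_iff (by
      rw [Scheme.Opens.range_ι]; exact hEN)).2 hEc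
  have h1 := Helper15.Constr.not_mem_closure_of_constructible hE' yA
    (fun η hη hηE => hne _ hηE (by rw [← hyA]; exact hη.map N₀.ι.continuous))
  apply h1
  rw [← N₀.ι.isOpenMap.preimage_closure_eq_closure_preimage N₀.ι.continuous]
  show N₀.ι.base yA ∈ closure E
  rw [hyA]
  exact hcl

theorem exists_nhd_const {Y : Scheme.{u}} (hdom : ∀ y : Y, IsDomain (Y.presheaf.stalk y))
    {M : Type*} (N₀ : Y.Opens) (hN₀ : IsAffineOpen N₀) (O' : Set Y) (hO'o : IsOpen O')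
    (hO'c : IsCompact O') (hO'N : O' ⊆ (N₀ : Set Y)) (hdense : (N₀ : Set Y) ⊆ closure O')
    (g₀ : Y → M) (hg : ∀ x ∈ O', ∃ T : Set Y, IsOpen T ∧ x ∈ T ∧ ∀ x' ∈ T, g₀ x' = g₀ x)
    (y : Y) (hy : y ∈ N₀) :
    ∃ N : Set Y, IsOpen N ∧ y ∈ N ∧ (∀ a ∈ N ∩ O', ∀ b ∈ N ∩ O', g₀ a = g₀ b) ∧
      N ⊆ closure (N ∩ O') := by
  classical
  obtain ⟨E, hE⟩ : ∃ E : M → Set Y, ∀ m x, x ∈ E m ↔ x ∈ O' ∧ g₀ x = m :=
    ⟨fun m => {x | x ∈ O' ∧ g₀ x = m}, fun m x => Iff.rfl⟩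
  have hEo : ∀ m, IsOpen (E m) := by
    intro m
    rw [isOpen_iff_forall_mem_open]
    intro x hx
    obtain ⟨hxO, hxm⟩ := (hE m x).1 hx
    obtain ⟨T, hTo, hxT, hT⟩ := hg x hxO
    refine ⟨T ∩ O', ?_, hTo.inter hO'o, ⟨hxT, hxO⟩⟩
    rintro x' ⟨hx'T, hx'O⟩
    exact (hE m x').2 ⟨hx'O, (hT x' hx'T).trans hxm⟩
  obtain ⟨t, ht⟩ := hO'c.elim_finite_subcover E hEo (by
    intro x hx
    exact Set.mem_iUnion.2 ⟨g₀ x, (hE _ x).2 ⟨hx, rfl⟩⟩)
  have hgt : ∀ x ∈ O', g₀ x ∈ t := by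
    intro x hx
    obtain ⟨m, hm⟩ := Set.mem_iUnion.1 (ht hx)
    obtain ⟨hmt, hxm⟩ := Set.mem_iUnion.1 hm
    rw [((hE m x).1 hxm).2]
    exact hmt
  have hEsub : ∀ m, E m ⊆ O' := fun m x hx => ((hE m x).1 hx).1
  have hEc : ∀ m, IsCompact (E m) := by
    intro m
    have : E m = O' \ ⋃ m' ∈ t.erase m, E m' := by
      ext x
      constructor
      · intro hx
        refine ⟨hEsub m hx, ?_⟩
        intro hx'
        obtain ⟨m', hm'⟩ := Set.mem_iUnion.1 hx'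
        obtain ⟨hm't, hxm'⟩ := Set.mem_iUnion.1 hm'
        have e1 := ((hE m x).1 hx).2
        have e2 := ((hE m' x).1 hxm').2
        exact (Finset.mem_erase.1 hm't).1 (e2.symm.trans e1)
      · rintro ⟨hxO, hx'⟩
        refine (hE m x).2 ⟨hxO, ?_⟩
        by_contra hne
        apply hx'
        refine Set.mem_iUnion.2 ⟨g₀ x, Set.mem_iUnion.2 ⟨?_, (hE _ x).2 ⟨hxO, rfl⟩⟩⟩
        exact Finset.mem_erase.2 ⟨hne, hgt x hxO⟩
    rw [this]
    exact hO'c.diff (isOpen_biUnion (fun m' _ => hEo m'))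
  have hcover : (N₀ : Set Y) ⊆ ⋃ m ∈ t, closure (E m) := by
    rw [← Finset.closure_biUnion]
    exact hdense.trans (closure_mono ht)
  have hdisj : ∀ (y' : Y), y' ∈ N₀ → ∀ m m', y' ∈ closure (E m) → y' ∈ closure (E m') →
      m = m' := by
    intro y' hy' m m' h1 h2
    obtain ⟨η, hηE, hη⟩ := exists_specializes_of_mem_closure N₀ hN₀ (E m) (hEo m) (hEc m)
      ((hEsub m).trans hO'N) y' hy' h1
    obtain ⟨η', hη'E, hη'⟩ := exists_specializes_of_mem_closure N₀ hN₀ (E m') (hEo m') (hEc m')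
      ((hEsub m').trans hO'N) y' hy' h2
    haveI := hdom y'
    obtain ⟨ζ, hζ⟩ := exists_common_generization y'
    have z1 := (hζ η hη).mem_open (hEo m) hηE
    have z2 := (hζ η' hη').mem_open (hEo m') hη'E
    exact ((hE m ζ).1 z1).2.symm.trans ((hE m' ζ).1 z2).2
  obtain ⟨m₀, hm₀⟩ := Set.mem_iUnion.1 (hcover hy)
  obtain ⟨hm₀t, hym₀⟩ := Set.mem_iUnion.1 hm₀
  have hbadc : IsClosed (⋃ m ∈ t.erase m₀, closure (E m)) :=
    isClosed_biUnion_finset (fun m _ => isClosed_closure)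
  have hnotbad : ∀ x : Y, x ∈ N₀ → x ∈ closure (E m₀) → x ∉ ⋃ m ∈ t.erase m₀, closure (E m) := by
    intro x hxN hx hx'
    obtain ⟨m, hm⟩ := Set.mem_iUnion.1 hx'
    obtain ⟨hmt, hxm⟩ := Set.mem_iUnion.1 hm
    exact (Finset.mem_erase.1 hmt).1 (hdisj x hxN m m₀ hxm hx)
  have hN_in : ∀ x : Y, x ∈ (N₀ : Set Y) ∩ (⋃ m ∈ t.erase m₀, closure (E m))ᶜ →
      x ∈ closure (E m₀) := by
    rintro x ⟨hxN, hxb⟩
    obtain ⟨m, hm⟩ := Set.mem_iUnion.1 (hcover hxN)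
    obtain ⟨hmt, hxm⟩ := Set.mem_iUnion.1 hm
    by_cases hmm : m = m₀
    · rw [← hmm]; exact hxm
    · exact (hxb (Set.mem_iUnion.2 ⟨m, Set.mem_iUnion.2 ⟨Finset.mem_erase.2 ⟨hmm, hmt⟩,
        hxm⟩⟩)).elim
  have hval : ∀ a ∈ ((N₀ : Set Y) ∩ (⋃ m ∈ t.erase m₀, closure (E m))ᶜ) ∩ O', g₀ a = m₀ := by
    rintro a ⟨⟨haN, hab⟩, haO⟩
    by_contra hne
    apply hab
    refine Set.mem_iUnion.2 ⟨g₀ a, Set.mem_iUnion.2 ⟨Finset.mem_erase.2 ⟨hne, hgt a haO⟩, ?_⟩⟩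
    exact subset_closure ((hE _ a).2 ⟨haO, rfl⟩)
  refine ⟨(N₀ : Set Y) ∩ (⋃ m ∈ t.erase m₀, closure (E m))ᶜ,
    N₀.isOpen.inter hbadc.isOpen_compl, ⟨hy, hnotbad y hy hym₀⟩, ?_, ?_⟩
  · intro a ha b hb
    rw [hval a ha, hval b hb]
  · intro x hx
    have hxc := hN_in x hx
    rw [mem_closure_iff]
    intro o ho hxo
    have hopen : IsOpen (o ∩ ((N₀ : Set Y) ∩ (⋃ m ∈ t.erase m₀, closure (E m))ᶜ)) :=
      ho.inter (N₀.isOpen.inter hbadc.isOpen_compl)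
    obtain ⟨p, ⟨hpo, hpN⟩, hpE⟩ := (mem_closure_iff.1 hxc) _ hopen ⟨hxo, hx⟩
    exact ⟨p, hpo, hpN, hEsub m₀ hpE⟩

theorem isDomain_stalk_of_etale {X Y : Scheme.{u}} (f : Y ⟶ X) [Etale f]
    (hX : Pi1.IsNormalScheme X) (y : Y) : IsDomain (Y.presheaf.stalk y) := by
  obtain ⟨U, hU, hfy, -⟩ := TopologicalSpace.Opens.isBasis_iff_nbhd.mp X.isBasis_affineOpens
    (TopologicalSpace.Opens.mem_top (f y))
  obtain ⟨V, hV, hyV, hVU⟩ := TopologicalSpace.Opens.isBasis_iff_nbhd.mp Y.isBasis_affineOpens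
    (show y ∈ f ⁻¹ᵁ U from hfy)
  have het : (f.appLE U V hVU).hom.Etale :=
    HasRingHomProperty.appLE (P := @Etale) f inferInstance ⟨U, hU⟩ ⟨V, hV⟩ hVU
  letI : Algebra Γ(X, U) Γ(Y, V) := (f.appLE U V hVU).hom.toAlgebra
  haveI : Algebra.Etale Γ(X, U) Γ(Y, V) := het
  have hU' : IsAffineOpen U := hU
  have hA : EGA4.IsNormalRing Γ(X, U) := by
    intro p hp
    have hy : hU'.fromSpec ⟨p, hp⟩ ∈ U := (hU'.isoSpec.inv _).2
    letI : Algebra Γ(X, U) (X.presheaf.stalk (hU'.fromSpec ⟨p, hp⟩)) :=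
      TopCat.Presheaf.algebra_section_stalk X.presheaf ⟨hU'.fromSpec ⟨p, hp⟩, hy⟩
    haveI : IsLocalization.AtPrime (X.presheaf.stalk (hU'.fromSpec ⟨p, hp⟩)) p :=
      hU'.isLocalization_stalk' ⟨p, hp⟩ hy
    obtain ⟨hd, hc⟩ := hX (hU'.fromSpec ⟨p, hp⟩)
    exact ⟨MulEquiv.isDomain _ (IsLocalization.algEquiv p.primeCompl
        (X.presheaf.stalk (hU'.fromSpec ⟨p, hp⟩))
        (Localization.AtPrime p)).symm.toRingEquiv.toMulEquiv,
      IsIntegrallyClosed.of_equiv (IsLocalization.algEquiv p.primeCompl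
        (X.presheaf.stalk (hU'.fromSpec ⟨p, hp⟩)) (Localization.AtPrime p)).toRingEquiv⟩
  have hB := Groth.Agent.Lib.Helper14.NormalSmoothAsc.isNormalRing_of_smooth Γ(X, U) Γ(Y, V) hA
  have hV' : IsAffineOpen V := hV
  letI := Y.presheaf.algebra_section_stalk ⟨y, hyV⟩
  haveI := hV'.isLocalization_stalk ⟨y, hyV⟩
  obtain ⟨hd, -⟩ := hB (hV'.primeIdealOf ⟨y, hyV⟩).asIdeal
  exact MulEquiv.isDomain _ (IsLocalization.algEquiv
    (hV'.primeIdealOf ⟨y, hyV⟩).asIdeal.primeCompl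
    (Localization.AtPrime (hV'.primeIdealOf ⟨y, hyV⟩).asIdeal)
    (Y.presheaf.stalk y)).symm.toRingEquiv.toMulEquiv

end Helper15.NormalExt
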