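import Mathlib
import Groth.Agent.Lib.Helper15.ConstSec
import Groth.Agent.Lib.Helper15.NormalExt
import Groth.Agent.Lib.Helper15.TransferEfface
import Groth.Agent.Lib.Helper16.SchemeTop

/-!
# Helper15: on a normal integral scheme, `M_X ⟶ g_* g^* M_X` is an isomorphism for the inclusion
`g` of the generic point (S0626, S3105)
-/

set_option autoImplicit false
set_option backward.isDefEq.respectTransparency false

universe u

open CategoryTheory CategoryTheory.Limits AlgebraicGeometry Opposite Topology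

namespace Helper15.GenericPush

open Helper15.LcStruct Helper15.ConstSec Helper15.NormalExt Groth.Agent.Lib.Helper15

section General

variable {T X : Scheme.{u}} (g : T ⟶ X) [EtCoh.BCCont g] (Mg : AddCommGrpCat.{u+1})

/-- The comparison map `M_X ⟶ g_* M_T`. -/
noncomputable def rho : cst X Mg ⟶ (EtCoh.push g).obj (cst T Mg) :=
  (EtCoh.pullPushAdj g).unit.app (cst X Mg) ≫
    (EtCoh.push g).map ((EtCore.pullConstIso g).hom.app Mg)

theorem isIso_unit_of_isIso_rho (h : IsIso (rho g Mg)) :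
    IsIso ((EtCoh.pullPushAdj g).unit.app (cst X Mg)) := by
  haveI : IsIso ((EtCoh.pullPushAdj g).unit.app (cst X Mg) ≫
    (EtCoh.push g).map ((EtCore.pullConstIso g).hom.app Mg)) := h
  exact IsIso.of_isIso_comp_right _ ((EtCoh.push g).map ((EtCore.pullConstIso g).hom.app Mg))

theorem unit_constAdj (Y : Scheme.{u}) :
    (EtCore.constAdj Y).unit.app Mg = eta Mg (EtCoh.top Y) := by
  simp [EtCore.constAdj, constantSheafAdj, eta]

theorem rho_eta_top (m : Mg) :
    (rho g Mg).hom.app (op (EtCoh.top X)) (eta Mg (EtCoh.top X) m) =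
      eta Mg ((EtCoh.bc g).obj (EtCoh.top X)) m := by
  have h1 := TransferEfface.step1 g Mg
  rw [Adjunction.homEquiv_unit, unit_constAdj, unit_constAdj] at h1
  have E1 : ((EtCore.pullConstIso g).inv.app Mg).hom.app (op (EtCoh.top T))
      (eta Mg (EtCoh.top T) m) =
      ((EtCoh.pull g).obj (cst X Mg)).obj.map (EtCore.bcTopIso g).inv.op
        (((EtCoh.pullPushAdj g).unit.app (cst X Mg)).hom.app (op (EtCoh.top X))
          (eta Mg (EtCoh.top X) m)) :=
    ConcreteCategory.congr_hom h1 m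
  have E2 := congrArg
    (fun x => ((EtCore.pullConstIso g).hom.app Mg).hom.app (op (EtCoh.top T)) x) E1
  have E3 : ((EtCore.pullConstIso g).hom.app Mg).hom.app (op (EtCoh.top T))
      (((EtCore.pullConstIso g).inv.app Mg).hom.app (op (EtCoh.top T))
        (eta Mg (EtCoh.top T) m)) = eta Mg (EtCoh.top T) m := by
    have := congrArg (fun φ : (cst T Mg) ⟶ (cst T Mg) =>
      φ.hom.app (op (EtCoh.top T)) (eta Mg (EtCoh.top T) m))
      ((EtCore.pullConstIso g).inv_hom_id_app Mg)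
    exact this
  have E4 := EtGlue.ab_hom_nat ((EtCore.pullConstIso g).hom.app Mg) (EtCore.bcTopIso g).inv.op
    (((EtCoh.pullPushAdj g).unit.app (cst X Mg)).hom.app (op (EtCoh.top X))
      (eta Mg (EtCoh.top X) m))
  have E5 : eta Mg (EtCoh.top T) m = (cst T Mg).obj.map (EtCore.bcTopIso g).inv.op
      ((rho g Mg).hom.app (op (EtCoh.top X)) (eta Mg (EtCoh.top X) m)) :=
    E3.symm.trans (E2.trans E4)
  have E6 : (cst T Mg).obj.map (EtCore.bcTopIso g).hom.op (eta Mg (EtCoh.top T) m) =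
      (cst T Mg).obj.map (EtCore.bcTopIso g).hom.op
        ((cst T Mg).obj.map (EtCore.bcTopIso g).inv.op
          ((rho g Mg).hom.app (op (EtCoh.top X)) (eta Mg (EtCoh.top X) m))) :=
    congrArg (fun x => (cst T Mg).obj.map (EtCore.bcTopIso g).hom.op x) E5
  rw [eta_map_apply] at E6
  rw [E6, ← EtGlue.ab_map_comp, ← op_comp, Iso.hom_inv_id, op_id,
    CategoryTheory.Functor.map_id]
  rfl

theorem rho_eta (V : X.Etale) (m : Mg) :
    (rho g Mg).hom.app (op V) (eta Mg V m) = eta Mg ((EtCoh.bc g).obj V) m := by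
  obtain ⟨p, -⟩ : ∃ p : V ⟶ EtCoh.top X, True := ⟨(EtCore.topIsTerminal X).from V, trivial⟩
  have h1 := EtGlue.ab_hom_nat (rho g Mg) p.op (eta Mg (EtCoh.top X) m)
  rw [eta_map_apply, rho_eta_top] at h1
  rw [h1]
  exact eta_map_apply Mg ((EtCoh.bc g).map p) m

theorem val_rho (V : X.Etale) (s : (cst X Mg).obj.obj (op V))
    (p : ((EtCoh.bc g).obj V).left) :
    val Mg (V := (EtCoh.bc g).obj V) ((rho g Mg).hom.app (op V) s) p =
      val Mg s ((pullback.fst V.hom g).base p) := by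
  obtain ⟨Z, k, z, hz, hk⟩ := val_spec Mg s ((pullback.fst V.hom g).base p)
  have sq := EtCoh.isPullback_bc_map g k
  obtain ⟨q, hq1, -⟩ := Scheme.Pullback.exists_preimage_pullback
    (f := (pullback.fst V.hom g : ((EtCoh.bc g).obj V).left ⟶ V.left)) (g := k.left) p z
    hz.symm
  refine val_eq Mg ⟨(EtCoh.bc g).obj Z, (EtCoh.bc g).map k, sq.isoPullback.inv q, ?_, ?_⟩
  · rw [← hq1, ← Scheme.Hom.comp_apply, IsPullback.isoPullback_inv_fst]
    rfl
  · have h1 := EtGlue.ab_hom_nat (rho g Mg) k.op s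
    rw [hk, rho_eta] at h1
    exact h1.symm

theorem bijective_of_val {V : X.Etale} {V' : T.Etale}
    (R : (cst X Mg).obj.obj (op V) → (cst T Mg).obj.obj (op V'))
    (π : V'.left → V.left) (hR : ∀ s p, val Mg (R s) p = val Mg s (π p)) (hd : DenseRange π)
    (H : ∀ g' : V'.left → Mg, IsLocallyConstant g' → ∀ y : V.left, ∃ N : Set V.left,
      IsOpen N ∧ y ∈ N ∧ ∀ a b : V'.left, π a ∈ N → π b ∈ N → g' a = g' b) :
    Function.Bijective R := by
  constructor
  · intro s s' hss
    apply ext_of_val Mg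
    intro v
    have h1 := (val_locallyConstant Mg s).isOpen_fiber (val Mg s v)
    have h2 := (val_locallyConstant Mg s').isOpen_fiber (val Mg s' v)
    obtain ⟨a, ha⟩ := hd.exists_mem_open (h1.inter h2) ⟨v, rfl, rfl⟩
    have e1 : val Mg s (π a) = val Mg s v := ha.1
    have e2 : val Mg s' (π a) = val Mg s' v := ha.2
    have e3 := hR s a
    have e4 := hR s' a
    rw [hss] at e3
    exact e1.symm.trans (e3.symm.trans (e4.trans e2))
  · intro t
    have hg := val_locallyConstant Mg t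
    choose N hNo hyN hN using H (val Mg t) hg
    have hex : ∀ y : V.left, ∃ a : V'.left, π a ∈ N y := fun y =>
      hd.exists_mem_open (hNo y) ⟨y, hyN y⟩
    choose a ha using hex
    have hf : IsLocallyConstant (fun y => val Mg t (a y)) := by
      rw [IsLocallyConstant.iff_exists_open]
      intro y
      refine ⟨N y, hNo y, hyN y, ?_⟩
      intro y' hy'
      obtain ⟨b, hb⟩ := hd.exists_mem_open ((hNo y).inter (hNo y')) ⟨y', hy', hyN y'⟩
      exact (hN y' _ _ (ha y') hb.2).trans (hN y _ _ hb.1 (ha y))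
    obtain ⟨s, hs⟩ := exists_of_locallyConstant Mg _ hf
    refine ⟨s, ext_of_val Mg _ _ (fun b => ?_)⟩
    rw [hR s b, hs]
    exact hN _ _ _ (ha _) (hyN _)

end General

section Geometric

theorem finite_fibre_affine {X : Scheme.{u}} (V : X.Etale) (x : X) (X₀ : X.Opens)
    (hX₀ : IsAffineOpen X₀) (hx : x ∈ X₀) (N₀ : V.left.Opens) (hN₀ : IsAffineOpen N₀)
    (hle : (N₀ : Set V.left) ⊆ V.hom.base ⁻¹' (X₀ : Set X)) :
    {ζ : V.left | ζ ∈ N₀ ∧ V.hom.base ζ = x}.Finite := by
  haveI : Etale V.hom := V.prop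
  haveI : IsAffine X₀.toScheme := hX₀
  haveI : IsAffine N₀.toScheme := hN₀
  have hmem : ∀ a : N₀.toScheme, N₀.ι.base a ∈ N₀ := by
    intro a
    have h : N₀.ι.base a ∈ Set.range N₀.ι.base := ⟨a, rfl⟩
    rw [Scheme.Opens.range_ι] at h
    exact h
  obtain ⟨j, hj⟩ : ∃ j : N₀.toScheme ⟶ X₀.toScheme, j ≫ X₀.ι = N₀.ι ≫ V.hom :=
    ⟨IsOpenImmersion.lift X₀.ι (N₀.ι ≫ V.hom) (by
        rw [Scheme.Opens.range_ι]
        rintro _ ⟨a, rfl⟩
        exact hle (hmem a)), IsOpenImmersion.lift_fac _ _ _⟩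
  haveI : Etale j := MorphismProperty.of_postcomp (W := @Etale) (W' := @Etale) j X₀.ι
    inferInstance (by rw [hj]; infer_instance)
  haveI : LocallyQuasiFinite j := Groth.Agent.Lib.Helper16.locallyQuasiFinite_of_etale j
  haveI : QuasiCompact j := @quasiCompact_of_compactSpace _ _ j _ _
  obtain ⟨x₀, hx₀⟩ : ∃ x₀ : X₀.toScheme, X₀.ι.base x₀ = x := by
    have : x ∈ Set.range X₀.ι.base := by rw [Scheme.Opens.range_ι]; exact hx
    exact this
  refine ((j.finite_preimage_singleton x₀).image N₀.ι.base).subset ?_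
  rintro ζ ⟨hζN, hζx⟩
  obtain ⟨ζ', rfl⟩ : ζ ∈ Set.range N₀.ι.base := by rw [Scheme.Opens.range_ι]; exact hζN
  refine ⟨ζ', ?_, rfl⟩
  apply X₀.ι.isOpenEmbedding.injective
  have h1 : (j ≫ X₀.ι).base ζ' = (N₀.ι ≫ V.hom).base ζ' :=
    congrArg (fun φ : N₀.toScheme ⟶ X => φ.base ζ') hj
  exact h1.trans (hζx.trans hx₀.symm)

theorem H_generic {T X : Scheme.{u}} [IsIntegral X] (hX : Pi1.IsNormalScheme X) (g : T ⟶ X)
    (hrange : Set.range g.base = {genericPoint X}) (V : X.Etale)
    (hinj : Function.Injective (pullback.fst V.hom g).base)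
    {M : Type*} (g' : ↥(pullback V.hom g) → M) (y : V.left) :
    ∃ N : Set V.left, IsOpen N ∧ y ∈ N ∧ ∀ a b, (pullback.fst V.hom g).base a ∈ N →
      (pullback.fst V.hom g).base b ∈ N → g' a = g' b := by
  haveI : Etale V.hom := V.prop
  obtain ⟨X₀, hX₀, hxX₀, -⟩ : ∃ X₀ : X.Opens, IsAffineOpen X₀ ∧ V.hom.base y ∈ X₀ ∧
      X₀.1 ⊆ ((⊤ : X.Opens) : Set X) :=
    exists_isAffineOpen_mem_and_subset (X := X) (x := V.hom.base y) (U := ⊤) trivial
  obtain ⟨N₀, hN₀, hyN₀, hle⟩ :=
    exists_isAffineOpen_mem_and_subset (x := y) (U := V.hom ⁻¹ᵁ X₀) hxX₀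
  obtain ⟨x, hx⟩ : ∃ x : X, x = V.hom.base y := ⟨_, rfl⟩
  have hspec : genericPoint X ⤳ V.hom.base y := hx ▸ genericPoint_specializes x
  have hηX₀ : genericPoint X ∈ X₀ := hspec.mem_open X₀.isOpen hxX₀
  haveI : LocallyQuasiFinite V.hom := Groth.Agent.Lib.Helper16.locallyQuasiFinite_of_etale V.hom
  have hFfin := finite_fibre_affine V (genericPoint X) X₀ hX₀ hηX₀ N₀ hN₀ hle
  have hdom : ∀ v : V.left, IsDomain (V.left.presheaf.stalk v) :=
    fun v => isDomain_stalk_of_etale V.hom hX v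
  have hdisc := V.hom.isDiscrete_preimage_singleton (genericPoint X)
  have hgen : ∀ ζ ζ' : V.left, V.hom.base ζ = genericPoint X → ζ' ⤳ ζ → ζ' = ζ := by
    intro ζ ζ' hζ hsp
    have h3 : V.hom.base ζ' = genericPoint X := by
      have h4 : V.hom.base ζ' ⤳ genericPoint X := by
        have := hsp.map V.hom.continuous
        rwa [hζ] at this
      obtain ⟨x', hx'⟩ : ∃ x' : X, x' = V.hom.base ζ' := ⟨_, rfl⟩
      rw [← hx'] at h4 ⊢
      exact (h4.antisymm (genericPoint_specializes x')).eq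
    haveI : DiscreteTopology ↥(V.hom.base ⁻¹' {genericPoint X}) := hdisc.to_subtype
    have hab : (⟨ζ', h3⟩ : ↥(V.hom.base ⁻¹' {genericPoint X})) ⤳ ⟨ζ, hζ⟩ :=
      (Topology.IsInducing.subtypeVal.specializes_iff).mp hsp
    exact congrArg Subtype.val hab.eq
  have huniq : ∀ ζ ζ' : V.left, V.hom.base ζ = genericPoint X →
      V.hom.base ζ' = genericPoint X → ζ ⤳ y → ζ' ⤳ y → ζ = ζ' := by
    intro ζ ζ' hζ hζ' h1 h2
    haveI := hdom y
    obtain ⟨ζ'', hζ''⟩ := exists_common_generization y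
    rw [← hgen ζ ζ'' hζ (hζ'' ζ h1), ← hgen ζ' ζ'' hζ' (hζ'' ζ' h2)]
  obtain ⟨ζ₀, hζ₀y, hζ₀η⟩ : ∃ ζ₀ : V.left, ζ₀ ⤳ y ∧ V.hom.base ζ₀ = genericPoint X :=
    (Flat.generalizingMap V.hom) hspec
  have hbadc : IsClosed (⋃ ζ ∈ {ζ : V.left | ζ ∈ N₀ ∧ V.hom.base ζ = genericPoint X} \ {ζ₀},
      closure ({ζ} : Set V.left)) :=
    (hFfin.subset Set.sdiff_subset).isClosed_biUnion (fun _ _ => isClosed_closure)
  refine ⟨(N₀ : Set V.left) ∩ (⋃ ζ ∈ {ζ : V.left | ζ ∈ N₀ ∧
      V.hom.base ζ = genericPoint X} \ {ζ₀}, closure ({ζ} : Set V.left))ᶜ,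
    N₀.isOpen.inter hbadc.isOpen_compl, ⟨hyN₀, ?_⟩, ?_⟩
  · intro hy
    obtain ⟨ζ, hζ⟩ := Set.mem_iUnion.1 hy
    obtain ⟨⟨⟨-, hζη⟩, hne⟩, hyc⟩ := Set.mem_iUnion.1 hζ
    exact hne (huniq ζ ζ₀ hζη hζ₀η (specializes_iff_mem_closure.2 hyc) hζ₀y)
  · have key : ∀ a : ↥(pullback V.hom g), (pullback.fst V.hom g).base a ∈
        (N₀ : Set V.left) ∩ (⋃ ζ ∈ {ζ : V.left | ζ ∈ N₀ ∧
          V.hom.base ζ = genericPoint X} \ {ζ₀}, closure ({ζ} : Set V.left))ᶜ →
        (pullback.fst V.hom g).base a = ζ₀ := by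
      rintro a ⟨haN, hab⟩
      by_contra hne
      apply hab
      have haη : V.hom.base ((pullback.fst V.hom g).base a) = genericPoint X := by
        have h1 : (pullback.fst V.hom g ≫ V.hom).base a = (pullback.snd V.hom g ≫ g).base a :=
          congrArg (fun φ : pullback V.hom g ⟶ X => φ.base a) pullback.condition
        have h2 : g.base ((pullback.snd V.hom g).base a) ∈ Set.range g.base := ⟨_, rfl⟩
        rw [hrange] at h2
        exact h1.trans h2
      exact Set.mem_iUnion.2 ⟨_, Set.mem_iUnion.2 ⟨⟨⟨haN, haη⟩, hne⟩, subset_closure rfl⟩⟩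
    intro a b ha hb
    rw [hinj ((key a ha).trans (key b hb).symm)]

end Geometric

section Final

theorem isIso_rho_generic {T X : Scheme.{u}} [IsIntegral X] (hX : Pi1.IsNormalScheme X)
    (g : T ⟶ X) [EtCoh.BCCont g] [IsPreimmersion g]
    (hrange : Set.range g.base = {genericPoint X}) (Mg : AddCommGrpCat.{u+1}) :
    IsIso (rho g Mg) := by
  have hV : ∀ V : X.Etaleᵒᵖ, IsIso ((rho g Mg).hom.app V) := by
    intro V
    rw [ConcreteCategory.isIso_iff_bijective]
    haveI : Etale V.unop.hom := V.unop.prop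
    have hinj : Function.Injective (pullback.fst V.unop.hom g).base :=
      (pullback.fst V.unop.hom g).isEmbedding.injective
    have hd : DenseRange (pullback.fst V.unop.hom g).base := by
      have hr : Set.range (pullback.fst V.unop.hom g).base =
          V.unop.hom.base ⁻¹' Set.range g.base := Scheme.Pullback.range_fst V.unop.hom g
      show Dense (Set.range (pullback.fst V.unop.hom g).base)
      rw [hr, hrange]
      have hden : Dense ({genericPoint X} : Set X) :=
        dense_iff_closure_eq.2 (genericPoint_spec X).def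
      exact hden.preimage V.unop.hom.isOpenMap
    exact bijective_of_val (V := V.unop) (V' := (EtCoh.bc g).obj V.unop) Mg
      (fun s => (rho g Mg).hom.app V s) (pullback.fst V.unop.hom g).base
      (fun s p => val_rho g Mg V.unop s p) hd
      (fun g' _ y => H_generic hX g hrange V.unop hinj g' y)
  haveI : IsIso (rho g Mg).hom := NatIso.isIso_of_isIso_app _
  haveI : IsIso ((sheafToPresheaf X.smallEtaleTopology AddCommGrpCat.{u + 1}).map (rho g Mg)) :=
    (inferInstance : IsIso (rho g Mg).hom)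
  exact isIso_of_reflects_iso _ (sheafToPresheaf X.smallEtaleTopology AddCommGrpCat.{u + 1})

theorem isIso_unit_generic {T X : Scheme.{u}} [IsIntegral X] (hX : Pi1.IsNormalScheme X)
    (g : T ⟶ X) [EtCoh.BCCont g] [IsPreimmersion g]
    (hrange : Set.range g.base = {genericPoint X}) (Mg : AddCommGrpCat.{u+1}) :
    IsIso ((EtCoh.pullPushAdj g).unit.app (cst X Mg)) :=
  isIso_unit_of_isIso_rho g Mg (isIso_rho_generic hX g hrange Mg)

theorem S0626 (X : Scheme.{u}) [IsIntegral X]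
    (hN : ∀ x : X, IsIntegrallyClosed (X.presheaf.stalk x)) (M : Type) [AddCommGroup M] :
    IsIso ((EtCoh.pullPushAdj (X.fromSpecStalk (genericPoint X))).unit.app
      (EtCoh.const X M)) := by
  have hX : Pi1.IsNormalScheme X := fun x => ⟨inferInstance, hN x⟩
  refine isIso_unit_generic hX _ ?_ _
  have h : Set.range (X.fromSpecStalk (genericPoint X)).base = {y | y ⤳ genericPoint X} :=
    Scheme.range_fromSpecStalk
  rw [h]
  ext y
  constructor
  · intro hy
    exact ((show y ⤳ genericPoint X from hy).antisymm (genericPoint_specializes y)).eq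
  · rintro rfl
    exact specializes_rfl

theorem S3105 (X : Scheme.{u}) [IsIntegral X] (hX : Pi1.IsNormalScheme X)
    [EtCoh.BCCont (X.fromSpecResidueField (genericPoint X))] (M : Type) [AddCommGroup M] :
    IsIso ((EtCoh.pullPushAdj (X.fromSpecResidueField (genericPoint X))).unit.app
      (EtCoh.const X M)) :=
  isIso_unit_generic hX _ (Scheme.range_fromSpecResidueField (genericPoint X)) _

end Final

end Helper15.GenericPush
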