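import Mathlib

/-!
# Helper15: re-indexing a filtered colimit by a class of "good" arrows, replacing the terms by images
-/

set_option autoImplicit false
set_option backward.isDefEq.respectTransparency false
universe v v₂ u₂
open CategoryTheory CategoryTheory.Limits

namespace Helper15.Reindex

variable {I : Type v} [SmallCategory I] [IsFiltered I] {A : Type u₂} [Category.{v₂} A] [Abelian A]
  (D : I ⥤ A) (Good : ObjectProperty (Arrow I))

/-- the index category: good arrows -/
abbrev J' := Good.FullSubcategory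

variable {Good}

/-- an object of `J'` -/
def mkJ {i i' : I} (a : i ⟶ i') (h : Good (Arrow.mk a)) : J' Good := ⟨Arrow.mk a, h⟩

/-- a morphism of `J'` -/
def mkHom {i i' k k' : I} {a : i ⟶ i'} {b : k ⟶ k'} (ha : Good (Arrow.mk a))
    (hb : Good (Arrow.mk b)) (x : i ⟶ k) (x' : i' ⟶ k') (w : x ≫ b = a ≫ x') :
    mkJ a ha ⟶ mkJ b hb :=
  ObjectProperty.homMk (Arrow.homMk' x x' w)

section Filt

variable (G1 : ∀ i : I, ∃ (i' : I) (a : i ⟶ i'), Good (Arrow.mk a))

include G1

theorem isFiltered_J' : IsFiltered (J' Good) := by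
  haveI : Nonempty (J' Good) := by
    obtain ⟨i', a, ha⟩ := G1 (IsFiltered.nonempty (C := I)).some
    exact ⟨mkJ a ha⟩
  haveI : IsFilteredOrEmpty (J' Good) :=
    { cocone_objs := fun P Q => by
        obtain ⟨p', e, he⟩ := G1 (IsFiltered.max P.obj.right Q.obj.right)
        refine ⟨mkJ e he,
          ObjectProperty.homMk (Arrow.homMk (P.obj.hom ≫ IsFiltered.leftToMax _ _)
            (IsFiltered.leftToMax _ _ ≫ e) (Category.assoc _ _ _)),
          ObjectProperty.homMk (Arrow.homMk (Q.obj.hom ≫ IsFiltered.rightToMax _ _)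
            (IsFiltered.rightToMax _ _ ≫ e) (Category.assoc _ _ _)), trivial⟩
      cocone_maps := fun P Q f g => by
        obtain ⟨q', e, he⟩ := G1 (IsFiltered.coeq f.hom.right g.hom.right)
        refine ⟨mkJ e he,
          ObjectProperty.homMk (Arrow.homMk
            (Q.obj.hom ≫ IsFiltered.coeqHom f.hom.right g.hom.right)
            (IsFiltered.coeqHom f.hom.right g.hom.right ≫ e) (Category.assoc _ _ _)), ?_⟩
        apply ObjectProperty.hom_ext
        apply Arrow.hom_ext
        · show f.hom.left ≫ (Q.obj.hom ≫ IsFiltered.coeqHom f.hom.right g.hom.right) =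
            g.hom.left ≫ (Q.obj.hom ≫ IsFiltered.coeqHom f.hom.right g.hom.right)
          rw [← Category.assoc, ← Category.assoc, Arrow.w f.hom, Arrow.w g.hom, Category.assoc,
            Category.assoc, IsFiltered.coeq_condition]
        · show f.hom.right ≫ (IsFiltered.coeqHom f.hom.right g.hom.right ≫ e) =
            g.hom.right ≫ (IsFiltered.coeqHom f.hom.right g.hom.right ≫ e)
          rw [← Category.assoc, ← Category.assoc, IsFiltered.coeq_condition] }
  exact {}

end Filt

variable (Good) in
/-- the functor of images -/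
noncomputable def Dim : J' Good ⥤ A := Good.ι ⋙ D.mapArrow ⋙ Limits.im

/-- the epi onto the image -/
noncomputable def fti (P : J' Good) : D.obj P.obj.left ⟶ (Dim D Good).obj P :=
  factorThruImage (D.map P.obj.hom)

instance (P : J' Good) : Epi (fti D P) :=
  inferInstanceAs (Epi (factorThruImage (D.map P.obj.hom)))

/-- the inclusion of the image -/
noncomputable def imι (P : J' Good) : (Dim D Good).obj P ⟶ D.obj P.obj.right :=
  image.ι (D.map P.obj.hom)

instance (P : J' Good) : Mono (imι D P) :=
  inferInstanceAs (Mono (image.ι (D.map P.obj.hom)))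

theorem fti_imι (P : J' Good) : fti D P ≫ imι D P = D.map P.obj.hom :=
  image.fac _

theorem fti_map {P Q : J' Good} (f : P ⟶ Q) :
    fti D P ≫ (Dim D Good).map f = D.map f.hom.left ≫ fti D Q :=
  image.factor_map (D.mapArrow.map f.hom)

theorem map_imι {P Q : J' Good} (f : P ⟶ Q) :
    (Dim D Good).map f ≫ imι D Q = imι D P ≫ D.map f.hom.right :=
  image.map_ι (D.mapArrow.map f.hom)

variable (c : Cocone D)

/-- legs of the new cocone -/
noncomputable def arrι (P : J' Good) : (Dim D Good).obj P ⟶ c.pt :=
  imι D P ≫ c.ι.app P.obj.right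

theorem fti_arrι (P : J' Good) : fti D P ≫ arrι D c P = c.ι.app P.obj.left := by
  rw [arrι, ← Category.assoc, fti_imι, c.w]

theorem map_arrι {P Q : J' Good} (f : P ⟶ Q) :
    (Dim D Good).map f ≫ arrι D c Q = arrι D c P := by
  rw [arrι, ← Category.assoc, map_imι, Category.assoc, c.w, arrι]

variable (Good) in
/-- the new cocone, with the same point -/
noncomputable def cocone' : Cocone (Dim D Good) where
  pt := c.pt
  ι :=
    { app := fun P => arrι D c P
      naturality := fun P Q f => (map_arrι D c f).trans (Category.comp_id _).symm }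

section Colim

variable (G1 : ∀ i : I, ∃ (i' : I) (a : i ⟶ i'), Good (Arrow.mk a))
  (G2 : ∀ {i i' i'' : I} (a : i ⟶ i') (y : i' ⟶ i''), Good (Arrow.mk a) → Good (Arrow.mk (a ≫ y)))
  (G3 : ∀ {i k k' : I} (x : i ⟶ k) (b : k ⟶ k'), Good (Arrow.mk b) → Good (Arrow.mk (x ≫ b)))

variable {D}

/-- the value of a cocone `s` on the source of a good arrow -/
noncomputable def val (s : Cocone (Dim D Good)) (P : J' Good) : D.obj P.obj.left ⟶ s.pt :=
  fti D P ≫ s.ι.app P

theorem val_map (s : Cocone (Dim D Good)) {P Q : J' Good} (f : P ⟶ Q) :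
    D.map f.hom.left ≫ val s Q = val s P := by
  rw [val, ← Category.assoc, ← fti_map, Category.assoc, s.w, val]

theorem val_congr (s : Cocone (Dim D Good)) {i i' : I} {a b : i ⟶ i'} (h : a = b)
    (ha : Good (Arrow.mk a)) (hb : Good (Arrow.mk b)) :
    val s (mkJ a ha) = val s (mkJ b hb) := by
  subst h
  rfl

include G2 in
theorem val_post (s : Cocone (Dim D Good)) {i i' i'' : I} (a : i ⟶ i') (y : i' ⟶ i'')
    (ha : Good (Arrow.mk a)) :
    val s (mkJ (a ≫ y) (G2 a y ha)) = val s (mkJ a ha) := by
  have h := val_map s (mkHom ha (G2 a y ha) (𝟙 i) y (Category.id_comp _))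
  have h1 : D.map (𝟙 i) ≫ val s (mkJ (a ≫ y) (G2 a y ha)) = val s (mkJ a ha) := h
  rw [D.map_id, Category.id_comp] at h1
  exact h1

include G2 in
theorem val_indep (s : Cocone (Dim D Good)) {i i' k' : I} (a : i ⟶ i') (b : i ⟶ k')
    (ha : Good (Arrow.mk a)) (hb : Good (Arrow.mk b)) :
    val s (mkJ a ha) = val s (mkJ b hb) := by
  obtain ⟨m, y, z, hyz⟩ := IsFiltered.span a b
  rw [← val_post G2 s a y ha, ← val_post G2 s b z hb]
  exact val_congr s hyz _ _

include G3 in
theorem val_pre (s : Cocone (Dim D Good)) {i k k' : I} (x : i ⟶ k) (b : k ⟶ k')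
    (hb : Good (Arrow.mk b)) :
    D.map x ≫ val s (mkJ b hb) = val s (mkJ (x ≫ b) (G3 x b hb)) :=
  val_map s (mkHom (G3 x b hb) hb x (𝟙 k') (Category.comp_id _).symm)

/-- chosen good arrows -/
noncomputable def chT (i : I) : I := (G1 i).choose

noncomputable def chA (i : I) : i ⟶ chT G1 i := (G1 i).choose_spec.choose

theorem chH (i : I) : Good (Arrow.mk (chA G1 i)) := (G1 i).choose_spec.choose_spec

/-- the induced cocone over `D` -/
noncomputable def preCocone (s : Cocone (Dim D Good)) : Cocone D where
  pt := s.pt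
  ι :=
    { app := fun i => val s (mkJ (chA G1 i) (chH G1 i))
      naturality := fun i k x => by
        have h : D.map x ≫ val s (mkJ (chA G1 k) (chH G1 k)) =
            val s (mkJ (chA G1 i) (chH G1 i)) := by
          rw [val_pre G3 s x (chA G1 k) (chH G1 k)]
          exact val_indep G2 s _ _ _ _
        exact h.trans (Category.comp_id _).symm }

include G1 G2 G3 in
theorem isColimit_cocone' {c : Cocone D} (hc : IsColimit c) :
    Nonempty (IsColimit (cocone' D Good c)) := by
  refine ⟨{ desc := fun s => hc.desc (preCocone G1 G2 G3 s)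
            fac := fun s P => ?_
            uniq := fun s m hm => ?_ }⟩
  · have h1 : fti D P ≫ ((cocone' D Good c).ι.app P ≫ hc.desc (preCocone G1 G2 G3 s)) =
        fti D P ≫ s.ι.app P := by
      rw [← Category.assoc]
      have h2 : fti D P ≫ (cocone' D Good c).ι.app P = c.ι.app P.obj.left := fti_arrι D c P
      rw [h2, hc.fac]
      show val s (mkJ (chA G1 P.obj.left) (chH G1 P.obj.left)) = val s (mkJ P.obj.hom P.property)
      exact val_indep G2 s _ _ _ _
    exact (cancel_epi (fti D P)).1 h1
  · apply hc.hom_ext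
    intro i
    rw [hc.fac]
    show c.ι.app i ≫ m = val s (mkJ (chA G1 i) (chH G1 i))
    have h2 : fti D (mkJ (chA G1 i) (chH G1 i)) ≫
        (cocone' D Good c).ι.app (mkJ (chA G1 i) (chH G1 i)) = c.ι.app i :=
      fti_arrι D c (mkJ (chA G1 i) (chH G1 i))
    rw [← h2, Category.assoc, hm]
    rfl

end Colim

end Helper15.Reindex
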