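import Mathlib
import Groth.Agent.Lib.Helper15.IndConstr
import Groth.Agent.Lib.Helper15.SubConst2

/-!
# Helper15: constructible ⇔ Noetherian object, for torsion sheaves on Noetherian schemes (S8540)
-/

set_option autoImplicit false
set_option backward.isDefEq.respectTransparency false
universe u
open CategoryTheory CategoryTheory.Limits AlgebraicGeometry Opposite

namespace Helper15.NoethObj

open Helper15.ConstrGen Helper15.IndConstr Helper15.Constr

variable {X : Scheme.{u}}

theorem noeth_of_constructible [IsNoetherian X] (F : EtCoh.Ab X)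
    (hF : EtPBC.IsConstructible F) : IsNoetherianObject F := by
  rw [isNoetherianObject_iff_monotone_chain_condition]
  intro c
  obtain ⟨N, h⟩ := Helper15.Constr.S0142 X F hF c
  exact ⟨N, fun m hm => (h m hm).symm⟩

section

variable [CompactSpace X] [QuasiSeparatedSpace X] (F : EtCoh.Ab X)

/-- legs of the canonical cocone, with codomain syntactically `F` -/
noncomputable def leg (j : J₀ F) : (D₀ F).obj j ⟶ F := (c₀ F).ι.app j

theorem leg_w {j j' : J₀ F} (a : j ⟶ j') : (D₀ F).map a ≫ leg F j' = leg F j :=
  (c₀ F).w a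

theorem leg_constr (j : J₀ F) : EtPBC.IsConstructible ((D₀ F).obj j) :=
  ((eqv F).inverse.obj j).left.property

theorem exists_epi_leg (hF : EtCoh.IsTorsion F) [IsNoetherianObject F] :
    ∃ j₀ : J₀ F, Epi (leg F j₀) := by
  obtain ⟨hcol⟩ := isColimit_c₀ F hF
  have hne : (Set.range (fun j : J₀ F => imageSubobject (leg F j))).Nonempty :=
    ⟨_, ⟨(IsFiltered.nonempty (C := J₀ F)).some, rfl⟩⟩
  obtain ⟨m, ⟨j₀, rfl⟩, hmax⟩ := (wellFounded_gt (α := Subobject F)).has_min _ hne
  have hle : ∀ j : J₀ F, imageSubobject (leg F j) ≤ imageSubobject (leg F j₀) := by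
    intro j
    have h1 : imageSubobject (leg F j₀) ≤ imageSubobject (leg F (IsFiltered.max j₀ j)) := by
      have e := leg_w F (IsFiltered.leftToMax j₀ j)
      rw [← e]
      exact imageSubobject_comp_le _ _
    have h2 : imageSubobject (leg F j) ≤ imageSubobject (leg F (IsFiltered.max j₀ j)) := by
      have e := leg_w F (IsFiltered.rightToMax j₀ j)
      rw [← e]
      exact imageSubobject_comp_le _ _
    have h3 : imageSubobject (leg F (IsFiltered.max j₀ j)) = imageSubobject (leg F j₀) := by
      by_contra hne'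
      exact hmax _ ⟨_, rfl⟩ (lt_of_le_of_ne h1 (Ne.symm hne'))
    exact h3 ▸ h2
  refine ⟨j₀, ⟨fun {Z} g h hgh => ?_⟩⟩
  have harrow : (imageSubobject (leg F j₀)).arrow ≫ g =
      (imageSubobject (leg F j₀)).arrow ≫ h := by
    rw [← cancel_epi (factorThruImageSubobject (leg F j₀))]
    rw [← Category.assoc, ← Category.assoc, imageSubobject_arrow_comp]
    exact hgh
  apply hcol.hom_ext
  intro j
  show leg F j ≫ g = leg F j ≫ h
  have e : leg F j = factorThruImageSubobject (leg F j) ≫ Subobject.ofLE _ _ (hle j) ≫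
      (imageSubobject (leg F j₀)).arrow := by
    rw [Subobject.ofLE_arrow, imageSubobject_arrow_comp]
  rw [e]
  simp only [Category.assoc]
  rw [harrow]

end

theorem constructible_of_noeth [IsNoetherian X] (F : EtCoh.Ab X) (hF : EtCoh.IsTorsion F)
    [IsNoetherianObject F] : EtPBC.IsConstructible F := by
  obtain ⟨j₀, hepi⟩ := exists_epi_leg F hF
  obtain ⟨n, hn, hk⟩ := exists_killedBy ((D₀ F).obj j₀) (leg_constr F j₀)
  exact Helper15.Constr.S0141 X (leg F j₀) n hn hk (leg_constr F j₀)

theorem S8540 (X : Scheme.{u}) [IsNoetherian X] (F : EtCoh.Ab X)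
    (hF : EtCoh.IsTorsion F) :
    EtPBC.IsConstructible F ↔ IsNoetherianObject F :=
  ⟨noeth_of_constructible F, fun h => by haveI := h; exact constructible_of_noeth F hF⟩

end Helper15.NoethObj
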