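import Mathlib
import Groth.Agent.Lib.Helper15.NoethObj
import Groth.Agent.Lib.Helper15.Supp

/-!
# Helper15: torsion sheaves supported in a specialization-stable set (S0145)
-/

set_option autoImplicit false
set_option backward.isDefEq.respectTransparency false
universe u
open CategoryTheory CategoryTheory.Limits AlgebraicGeometry Opposite Topology

namespace Helper15.SuppColim

open Helper15.ConstrGen Helper15.IndConstr Helper15.Constr Helper15.NoethObj
  Groth.Agent.Lib.Helper13.StalkConservative

section Top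

theorem exists_specializes_spec {R : Type u} [CommRing R] {s : Set (PrimeSpectrum R)}
    (hs : IsConstructible s) {x : PrimeSpectrum R} (hx : x ∈ closure s) :
    ∃ z ∈ s, z ⤳ x := by
  obtain ⟨S, _, f, rfl⟩ := PrimeSpectrum.exists_range_eq_of_isConstructible hs
  rw [PrimeSpectrum.closure_range_comap, PrimeSpectrum.mem_zeroLocus] at hx
  obtain ⟨p, hp, hpx⟩ := Ideal.exists_minimalPrimes_le (I := RingHom.ker f) (J := x.asIdeal)
    (SetLike.coe_subset_coe.1 hx)
  have hp' : p ∈ ((⊥ : Ideal S).comap f).minimalPrimes := by rwa [← RingHom.ker_eq_comap_bot]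
  obtain ⟨q, hq, -, hqp⟩ := Ideal.exists_comap_eq_of_mem_minimalPrimes f p hp'
  refine ⟨PrimeSpectrum.comap f ⟨q, hq⟩, ⟨_, rfl⟩, ?_⟩
  rw [← PrimeSpectrum.le_iff_specializes, ← PrimeSpectrum.asIdeal_le_asIdeal,
    PrimeSpectrum.comap_asIdeal, hqp]
  exact hpx

theorem exists_specializes_of_mem_closure {X : Scheme.{u}} {s : Set X}
    (hs : IsLocallyConstructible s) {x : X} (hx : x ∈ closure s) : ∃ z ∈ s, z ⤳ x := by
  obtain ⟨U, hU, hxU, -⟩ := exists_isAffineOpen_mem_and_subset (x := x) (U := ⊤) trivial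
  have hemb : IsOpenEmbedding hU.fromSpec := hU.fromSpec.isOpenEmbedding
  obtain ⟨x', rfl⟩ : x ∈ Set.range hU.fromSpec := by rw [hU.range_fromSpec]; exact hxU
  have hs' : IsConstructible (hU.fromSpec ⁻¹' s) :=
    (hs.preimage_of_isOpenEmbedding hemb).isConstructible
  have hx' : x' ∈ closure (hU.fromSpec ⁻¹' s) := by
    rw [← hemb.isOpenMap.preimage_closure_eq_closure_preimage hemb.continuous]
    exact hx
  obtain ⟨z, hz, hzx⟩ := exists_specializes_spec hs' hx'
  exact ⟨hU.fromSpec z, hz, hzx.map hemb.continuous⟩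

end Top

variable {X : Scheme.{u}}

theorem supp_subset_of_mono {G F : EtCoh.Ab X} (v : G ⟶ F) [Mono v] :
    EtPBC.supp G ⊆ EtPBC.supp F := by
  rintro x ⟨Ω, i1, i2, ξ, hξ, hnz⟩
  refine ⟨Ω, i1, i2, ξ, hξ, fun hz => hnz ?_⟩
  haveI : Mono ((EtCoh.stalk ξ).map v) := inferInstance
  exact IsZero.of_mono ((EtCoh.stalk ξ).map v) hz

section Img

variable [CompactSpace X] [QuasiSeparatedSpace X] (F : EtCoh.Ab X)

/-- images of the legs, as a functor to subobjects of `F` -/
noncomputable def imF : J₀ F ⥤ Subobject F where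
  obj j := imageSubobject (leg F j)
  map {j j'} a := homOfLE (by rw [← leg_w F a]; exact imageSubobject_comp_le _ _)
  map_id _ := Subsingleton.elim _ _
  map_comp _ _ := Subsingleton.elim _ _

noncomputable def D' : J₀ F ⥤ EtCoh.Ab X := imF F ⋙ Subobject.underlying

/-- the inclusion of the image -/
noncomputable def arr (j : J₀ F) : (D' F).obj j ⟶ F := ((imF F).obj j).arrow

instance (j : J₀ F) : Mono (arr F j) :=
  inferInstanceAs (Mono ((imF F).obj j).arrow)

theorem arr_w {j j' : J₀ F} (a : j ⟶ j') : (D' F).map a ≫ arr F j' = arr F j :=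
  Subobject.underlying_arrow ((imF F).map a)

noncomputable def c' : Cocone (D' F) where
  pt := F
  ι :=
    { app := fun j => arr F j
      naturality := fun j j' a => by
        show (D' F).map a ≫ arr F j' = arr F j ≫ 𝟙 F
        rw [arr_w, Category.comp_id] }

/-- the epi from `D₀ j` onto its image -/
noncomputable def fac (j : J₀ F) : (D₀ F).obj j ⟶ (D' F).obj j :=
  factorThruImageSubobject (leg F j)

instance (j : J₀ F) : Epi (fac F j) :=
  inferInstanceAs (Epi (factorThruImageSubobject (leg F j)))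

theorem fac_arr (j : J₀ F) : fac F j ≫ arr F j = leg F j :=
  imageSubobject_arrow_comp (leg F j)

theorem fac_nat {j j' : J₀ F} (a : j ⟶ j') :
    (D₀ F).map a ≫ fac F j' = fac F j ≫ (D' F).map a := by
  rw [← cancel_mono (arr F j'), Category.assoc, Category.assoc, fac_arr, leg_w, arr_w, fac_arr]

/-- precomposing a cocone over the images with the epis `fac` -/
noncomputable def preCocone (s : Cocone (D' F)) : Cocone (D₀ F) where
  pt := s.pt
  ι :=
    { app := fun j => fac F j ≫ s.ι.app j
      naturality := fun j j' a => by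
        have h : (D₀ F).map a ≫ fac F j' ≫ s.ι.app j' = fac F j ≫ s.ι.app j := by
          rw [← Category.assoc, fac_nat, Category.assoc, s.w]
        exact h.trans (Category.comp_id _).symm }

theorem isColimit_c' (hcol : IsColimit (c₀ F)) : Nonempty (IsColimit (c' F)) := by
  refine ⟨{ desc := fun s => hcol.desc (preCocone F s)
            fac := fun s j => ?_
            uniq := fun s m hm => ?_ }⟩
  · have h1 : fac F j ≫ ((c' F).ι.app j ≫ hcol.desc (preCocone F s)) =
        fac F j ≫ s.ι.app j := by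
      rw [← Category.assoc]
      have h2 : fac F j ≫ (c' F).ι.app j = (c₀ F).ι.app j := fac_arr F j
      rw [h2]
      exact hcol.fac (preCocone F s) j
    exact (cancel_epi (fac F j)).1 h1
  · apply hcol.hom_ext
    intro j
    rw [hcol.fac]
    have h2 : (c₀ F).ι.app j = fac F j ≫ (c' F).ι.app j := (fac_arr F j).symm
    rw [h2, Category.assoc, hm]
    rfl

theorem D'_constructible [IsNoetherian X] (j : J₀ F) : EtPBC.IsConstructible ((D' F).obj j) := by
  obtain ⟨n, hn, hk⟩ := exists_killedBy ((D₀ F).obj j) (leg_constr F j)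
  exact Helper15.Constr.S0141 X (fac F j) n hn hk (leg_constr F j)

end Img

theorem S0145 (X : Scheme.{u}) [IsNoetherian X]
    (E : Set X) (hE : StableUnderSpecialization E)
    (F : EtCoh.Ab X) (hF : EtCoh.IsTorsion F) (hsupp : EtPBC.supp F ⊆ E) :
    ∃ (J : Type (u + 1)) (_ : SmallCategory J) (_ : IsFiltered J) (D : J ⥤ EtCoh.Ab X)
      (c : Cocone D) (_ : IsColimit c), Nonempty (c.pt ≅ F) ∧
      ∀ j, EtPBC.IsConstructible (D.obj j) ∧
        ∃ Z : Set X, IsClosed Z ∧ Z ⊆ E ∧ EtPBC.supp (D.obj j) ⊆ Z := by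
  obtain ⟨hcol⟩ := isColimit_c₀ F hF
  obtain ⟨hc'⟩ := isColimit_c' F hcol
  refine ⟨J₀ F, inferInstance, inferInstance, D' F, c' F, hc', ⟨Iso.refl _⟩, fun j => ?_⟩
  have hcon := D'_constructible F j
  refine ⟨hcon, closure (EtPBC.supp ((D' F).obj j)), isClosed_closure, ?_, subset_closure⟩
  intro x hx
  obtain ⟨z, hz, hzx⟩ := exists_specializes_of_mem_closure (Helper15.Constr.S8526 _ hcon) hx
  exact hE hzx (hsupp (supp_subset_of_mono (arr F j) hz))

end Helper15.SuppColim
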