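import Mathlib
import Groth.Agent.Lib.Helper15.ReindexArrow
import Groth.Agent.Lib.Helper15.SuppColim
import Groth.Agent.Lib.Helper15.DeltaDev

/-!
# Helper15: torsion sheaves vanishing at the generic point (S0173)
-/

set_option autoImplicit false
set_option backward.isDefEq.respectTransparency false
universe u
open CategoryTheory CategoryTheory.Limits AlgebraicGeometry Opposite Topology

namespace Helper15.GenericZero

attribute [-instance] Helper15.DeltaDev.presFiltForget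

open Helper15.ConstrGen Helper15.IndConstr Helper15.Constr Helper15.NoethObj Helper15.LcStruct
  Helper15.Reindex Helper15.SuppColim Groth.Agent.Lib.Helper13.StalkConservative
  Groth.Agent.Lib.Helper13.StalkPull

section Supp

theorem flc_not_mem_supp_of_isZero {T : Scheme.{u}} (F' : EtCoh.Ab T)
    (hF : EtCoh.IsFiniteLocallyConstant F') {Ω : Type u} [Field Ω] [IsSepClosed Ω]
    (ζ : Spec (CommRingCat.of Ω) ⟶ T) (hz : IsZero ((EtCoh.stalk ζ).obj F')) :
    ζ.base default ∉ EtPBC.supp F' := by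
  obtain ⟨ι₁, U, hU, hc⟩ := hF
  obtain ⟨j, y, hy⟩ := hU (ζ.base default)
  obtain ⟨M, iM, fM, ⟨a⟩⟩ := hc j
  have a' : F'.over (U j) ≅ (cst T (AddCommGrpCat.of (ULift.{u+1} M))).over (U j) :=
    a ≪≫ ((kappa (U j)).app _).symm
  have kF := isConstVia_of_iso _ a'
  have hsub := (isZero_stalk_iff ζ F' (U j) _ kF ⟨y, hy⟩).1 hz
  rintro ⟨Ω', _, _, ξ, hr, hnz⟩
  have hb := base_default_of_range ξ hr
  exact hnz ((isZero_stalk_iff ξ F' (U j) _ kF (by rw [hb]; exact ⟨y, hy⟩)).2 hsub)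

theorem constr_not_mem_supp_of_isZero {X : Scheme.{u}} (G : EtCoh.Ab X)
    (hG : EtPBC.IsConstructible G) {Ω : Type u} [Field Ω] [IsSepClosed Ω]
    (ξ : Spec (CommRingCat.of Ω) ⟶ X) (hz : IsZero ((EtCoh.stalk ξ).obj G)) :
    ξ.base default ∉ EtPBC.supp G := by
  obtain ⟨U, hU, hxU, -⟩ :=
    exists_isAffineOpen_mem_and_subset (x := ξ.base default) (U := ⊤) trivial
  obtain ⟨κ, hκ, T, g, h1, h2, h3, h4, h5⟩ := adapted'_of_adapted (hG U hU)
  have hx : ξ.base default ∈ ⋃ k, Set.range (g k) := by rw [h4]; exact hxU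
  obtain ⟨k, t, ht⟩ := Set.mem_iUnion.1 hx
  haveI := h1 k
  obtain ⟨ζ, hζ⟩ := exists_factor_immersion (g k) ξ ⟨t, ht⟩
  subst hζ
  have hz' : IsZero ((EtCoh.stalk ζ).obj ((EtCoh.pull (g k)).obj G)) :=
    IsZero.of_iso hz ((stalkPullIso (g k) ζ).app G)
  have hnot := flc_not_mem_supp_of_isZero _ (h5 k) ζ hz'
  intro hmem
  exact hnot ((supp_pull_iff (g k) G (ζ.base default)).1 hmem)

end Supp

variable {X : Scheme.{u}}

theorem killedBy_of_epi {B Q : EtCoh.Ab X} (π : B ⟶ Q) [Epi π] (n : ℕ)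
    (h : EtCoh.KilledBy n B) : EtCoh.KilledBy n Q := by
  apply killedBy_of_nsmul_id
  rw [← cancel_epi π, comp_zero, Preadditive.comp_nsmul, Category.comp_id]
  calc n • π = (n • 𝟙 B) ≫ π := by rw [Preadditive.nsmul_comp, Category.id_comp]
    _ = 0 := by rw [nsmul_id_of_killedBy n B h, zero_comp]

theorem image_constructible [CompactSpace X] [QuasiSeparatedSpace X] {A B : EtCoh.Ab X}
    (f : A ⟶ B) (hA : EtPBC.IsConstructible A) (hB : EtPBC.IsConstructible B) :
    EtPBC.IsConstructible (Limits.image f) := by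
  obtain ⟨N, hN, kA, kB⟩ := exists_common_killedBy A B hA hB
  have hcok := (S0131 f N hN kA kB hA hB).2
  have kcok : EtCoh.KilledBy N (cokernel f) := killedBy_of_epi (cokernel.π f) N kB
  have hker := (S0131 (cokernel.π f) N hN kB kcok hB hcok).1
  exact constructible_of_iso (Abelian.imageIsoImage f) hker

theorem isZero_stalk_image {A B : EtCoh.Ab X} (f : A ⟶ B) {Ω : Type u} [Field Ω]
    [IsSepClosed Ω] (ξ : Spec (CommRingCat.of Ω) ⟶ X) (h : (EtCoh.stalk ξ).map f = 0) :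
    IsZero ((EtCoh.stalk ξ).obj (Limits.image f)) := by
  have h1 : (EtCoh.stalk ξ).map (factorThruImage f) ≫ (EtCoh.stalk ξ).map (image.ι f) = 0 := by
    rw [← Functor.map_comp, image.fac, h]
  haveI : Mono ((EtCoh.stalk ξ).map (image.ι f)) := inferInstance
  have h2 : (EtCoh.stalk ξ).map (factorThruImage f) = 0 := zero_of_comp_mono _ h1
  haveI : Epi ((EtCoh.stalk ξ).map (factorThruImage f)) := inferInstance
  exact IsZero.of_epi_eq_zero _ h2

section Main

variable [CompactSpace X] [QuasiSeparatedSpace X] (F : EtCoh.Ab X)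
  {Ω : Type u} [Field Ω] [IsSepClosed Ω] (ζ : Spec (CommRingCat.of Ω) ⟶ X)

/-- arrows whose image has zero stalk at `ζ` -/
def GoodP : ObjectProperty (Arrow (J₀ F)) :=
  fun a => (EtCoh.stalk ζ).map ((D₀ F).map a.hom) = 0

theorem exists_good (hcol : IsColimit (c₀ F)) (hz : IsZero ((EtCoh.stalk ζ).obj F))
    (i : J₀ F) : ∃ (i' : J₀ F) (a : i ⟶ i'), GoodP F ζ (Arrow.mk a) := by
  classical
  have hcol' := isColimitOfPreserves (EtCoh.stalk ζ) hcol
  haveI : Subsingleton ((EtCoh.stalk ζ).obj F) := AddCommGrpCat.subsingleton_of_isZero hz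
  have hsub : ∀ y : ((EtCoh.stalk ζ).obj F), y = 0 := fun y => Subsingleton.elim _ _
  obtain ⟨N, hN, hcard⟩ := constr_card_bound ((D₀ F).obj i) (leg_constr F i)
  haveI : Finite ((EtCoh.stalk ζ).obj ((D₀ F).obj i)) := by
    have h := hcard ⟨Ω, ζ⟩
    exact Nat.finite_of_card_ne_zero (fun h0 => by
      rw [h0] at h
      exact hN.ne' (Nat.eq_zero_of_zero_dvd h))
  haveI := Fintype.ofFinite ((EtCoh.stalk ζ).obj ((D₀ F).obj i))
  have key : ∀ S : Finset ((EtCoh.stalk ζ).obj ((D₀ F).obj i)),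
      ∃ (i' : J₀ F) (a : i ⟶ i'),
        ∀ x ∈ S, ((EtCoh.stalk ζ).map ((D₀ F).map a)).hom x = 0 := by
    intro S
    induction S using Finset.induction_on with
    | empty => exact ⟨i, 𝟙 i, fun x hx => absurd hx (Finset.notMem_empty x)⟩
    | insert x S hx ih =>
      obtain ⟨i', a, ha⟩ := ih
      obtain ⟨i'', b, hb⟩ := Helper15.DeltaDev.exists_zero hcol' i'
        (((EtCoh.stalk ζ).map ((D₀ F).map a)).hom x) (hsub _)
      refine ⟨i'', a ≫ b, fun z hz => ?_⟩
      have hcomp : (EtCoh.stalk ζ).map ((D₀ F).map (a ≫ b)) =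
          (EtCoh.stalk ζ).map ((D₀ F).map a) ≫ (EtCoh.stalk ζ).map ((D₀ F).map b) := by
        rw [Functor.map_comp, Functor.map_comp]
      rw [hcomp]
      show ((EtCoh.stalk ζ).map ((D₀ F).map b)).hom
        (((EtCoh.stalk ζ).map ((D₀ F).map a)).hom z) = 0
      rcases Finset.mem_insert.1 hz with rfl | hz'
      · exact hb
      · rw [ha z hz', map_zero]
  obtain ⟨i', a, ha⟩ := key (Finset.univ : Finset ((EtCoh.stalk ζ).obj ((D₀ F).obj i)))
  refine ⟨i', a, ?_⟩
  show (EtCoh.stalk ζ).map ((D₀ F).map a) = 0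
  apply AddCommGrpCat.hom_ext
  apply AddMonoidHom.ext
  intro x
  exact ha x (Finset.mem_univ x)

theorem good_post {i i' i'' : J₀ F} (a : i ⟶ i') (y : i' ⟶ i'')
    (h : GoodP F ζ (Arrow.mk a)) : GoodP F ζ (Arrow.mk (a ≫ y)) := by
  have h0 : (EtCoh.stalk ζ).map ((D₀ F).map a) = 0 := h
  show (EtCoh.stalk ζ).map ((D₀ F).map (a ≫ y)) = 0
  rw [Functor.map_comp, Functor.map_comp, h0, zero_comp]

theorem good_pre {i k k' : J₀ F} (x : i ⟶ k) (b : k ⟶ k')
    (h : GoodP F ζ (Arrow.mk b)) : GoodP F ζ (Arrow.mk (x ≫ b)) := by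
  have h0 : (EtCoh.stalk ζ).map ((D₀ F).map b) = 0 := h
  show (EtCoh.stalk ζ).map ((D₀ F).map (x ≫ b)) = 0
  rw [Functor.map_comp, Functor.map_comp, h0, comp_zero]

end Main

theorem S0173 (X : Scheme.{u}) [CompactSpace X] [QuasiSeparatedSpace X]
    [IrreducibleSpace X] (F : EtCoh.Ab X) (hF : EtCoh.IsTorsion F)
    (hη : genericPoint X ∉ EtPBC.supp F) :
    ∃ (J : Type (u + 1)) (_ : SmallCategory J) (_ : IsFiltered J) (D : J ⥤ EtCoh.Ab X)
      (c : Cocone D) (_ : IsColimit c), Nonempty (c.pt ≅ F) ∧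
      ∀ j, EtPBC.IsConstructible (D.obj j) ∧
        ∃ Z : Set X, IsClosed Z ∧ genericPoint X ∉ Z ∧ EtPBC.supp (D.obj j) ⊆ Z := by
  obtain ⟨hcol⟩ := isColimit_c₀ F hF
  obtain ⟨Ω, iF, iS, ζ, hr⟩ := exists_geomPt (genericPoint X)
  have hz : IsZero ((EtCoh.stalk ζ).obj F) := by
    by_contra h
    exact hη ⟨Ω, iF, iS, ζ, hr, h⟩
  have G1 := fun i => exists_good F ζ hcol hz i
  haveI := isFiltered_J' (Good := GoodP F ζ) G1
  obtain ⟨hc'⟩ := isColimit_cocone' (D := D₀ F) G1 (good_post F ζ) (good_pre F ζ) hcol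
  refine ⟨J' (GoodP F ζ), inferInstance, inferInstance, Dim (D₀ F) (GoodP F ζ),
    cocone' (D₀ F) (GoodP F ζ) (c₀ F), hc', ⟨Iso.refl _⟩, fun P => ?_⟩
  have hcon : EtPBC.IsConstructible (Limits.image ((D₀ F).map P.obj.hom)) :=
    image_constructible _ (leg_constr F _) (leg_constr F _)
  have hstalk : IsZero ((EtCoh.stalk ζ).obj (Limits.image ((D₀ F).map P.obj.hom))) :=
    isZero_stalk_image _ ζ P.property
  have hnot : genericPoint X ∉ EtPBC.supp (Limits.image ((D₀ F).map P.obj.hom)) := by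
    have h := constr_not_mem_supp_of_isZero _ hcon ζ hstalk
    rwa [base_default_of_range ζ hr] at h
  refine ⟨hcon, closure (EtPBC.supp (Limits.image ((D₀ F).map P.obj.hom))), isClosed_closure,
    ?_, subset_closure⟩
  intro hmem
  obtain ⟨z, hz', hzη⟩ := exists_specializes_of_mem_closure (Helper15.Constr.S8526 _ hcon) hmem
  have hzeq : z = genericPoint X := (hzη.antisymm (genericPoint_specializes z)).eq
  exact hnot (hzeq ▸ hz')

end Helper15.GenericZero
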