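import Mathlib
import Groth.Prelude.Def_AssocGrMod

/-!
# Successive approximation along a filtration (Bourbaki AC III §2 no. 8–9)
-/

set_option autoImplicit false
universe u

open Polynomial DirectSum

namespace Groth.Agent.Lib.Helper15.GrApprox

open AssocGr

section Series

variable {A : Type*} [CommRing A] (I : Ideal A)

theorem smodEq_pow_iff (k : ℕ) (a b : A) :
    a ≡ b [SMOD (I ^ k • ⊤ : Submodule A A)] ↔ a - b ∈ I ^ k := by
  rw [SModEq.sub_mem, smul_eq_mul, Ideal.mul_top]

theorem sub_mem_of_step (s : ℕ → A) (e : ℕ) (hs : ∀ n, s (n + 1) - s n ∈ I ^ (n - e)) :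
    ∀ m n, m ≤ n → s n - s m ∈ I ^ (m - e) := by
  intro m n hmn
  induction n, hmn using Nat.le_induction with
  | base => rw [sub_self]; exact Ideal.zero_mem _
  | succ n hmn ih =>
    have h : s (n + 1) - s m = (s (n + 1) - s n) + (s n - s m) := by ring
    rw [h]
    exact Ideal.add_mem _ (Ideal.pow_le_pow_right (Nat.sub_le_sub_right hmn e) (hs n)) ih

theorem exists_limit [IsPrecomplete I A] (s : ℕ → A) (e D : ℕ) (heD : e ≤ D)
    (hs : ∀ n, s (n + 1) - s n ∈ I ^ (n - e)) :
    ∃ L : A, ∀ n, s (n + D) - L ∈ I ^ n := by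
  have hC := sub_mem_of_step I s e hs
  obtain ⟨L, hL⟩ := IsPrecomplete.prec (I := I) (M := A) inferInstance (f := fun n => s (n + D))
    (by
      intro m n hmn
      rw [smodEq_pow_iff, ← neg_sub]
      exact neg_mem (Ideal.pow_le_pow_right (by omega) (hC (m + D) (n + D) (by omega))))
  exact ⟨L, fun n => (smodEq_pow_iff I n _ _).mp (hL n)⟩

end Series

section Approx

variable {A : Type u} [CommRing A] {I : Ideal A}
  {M : Type u} [AddCommGroup M] [Module A M] (F : I.Filtration M)

/-- Successive approximation: if every remainder `y - ∑ sᵢ xᵢ ∈ Nₙ` can be improved to `Nₙ₊₁` by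
coefficients in `I^(n - dᵢ)`, then `y = ∑ Lᵢ xᵢ`. -/
theorem exists_eq_sum_of_step [IsPrecomplete I A] (hsep : ⨅ n, F.N n = ⊥) {ι : Type*} [Fintype ι]
    (d : ι → ℕ) (x : ι → M) (hx : ∀ i, x i ∈ F.N (d i)) (y : M) (hy0 : y ∈ F.N 0)
    (hstep : ∀ (n : ℕ) (s : ι → A), y - ∑ i, s i • x i ∈ F.N n →
      ∃ c : ι → A, (∀ i, c i ∈ I ^ (n - d i)) ∧
        y - ∑ i, s i • x i - ∑ i, c i • x i ∈ F.N (n + 1)) :
    ∃ L : ι → A, y = ∑ i, L i • x i := by
  classical
  choose! step hstep1 hstep2 using hstep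
  obtain ⟨s, hs0, hsS⟩ : ∃ s : ℕ → ι → A, s 0 = 0 ∧ ∀ n, s (n + 1) = s n + step n (s n) :=
    ⟨fun n => Nat.rec 0 (fun n sn => sn + step n sn) n, rfl, fun n => rfl⟩
  have hmem : ∀ n, y - ∑ i, s n i • x i ∈ F.N n := by
    intro n
    induction n with
    | zero =>
      rw [hs0]
      simpa using hy0
    | succ n ih =>
      have h := hstep2 n (s n) ih
      have e : y - ∑ i, s (n + 1) i • x i =
          y - ∑ i, s n i • x i - ∑ i, step n (s n) i • x i := by
        rw [hsS n, sub_sub, ← Finset.sum_add_distrib]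
        refine congrArg (fun t => y - t) (Finset.sum_congr rfl fun i _ => ?_)
        rw [Pi.add_apply, add_smul]
      rw [e]; exact h
  have hdiff : ∀ i n, s (n + 1) i - s n i ∈ I ^ (n - d i) := by
    intro i n
    rw [hsS n, Pi.add_apply, add_sub_cancel_left]
    exact hstep1 n (s n) (hmem n) i
  obtain ⟨D, hD⟩ : ∃ D : ℕ, ∀ i, d i ≤ D :=
    ⟨∑ i, d i, fun i => Finset.single_le_sum (fun _ _ => Nat.zero_le _) (Finset.mem_univ i)⟩
  have hlim : ∀ i, ∃ L : A, ∀ n, s (n + D) i - L ∈ I ^ n := fun i =>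
    exists_limit I (fun n => s n i) (d i) D (hD i) (hdiff i)
  choose L hL using hlim
  refine ⟨L, ?_⟩
  rw [← sub_eq_zero, ← Submodule.mem_bot A, ← hsep, Submodule.mem_iInf]
  intro n
  have e : y - ∑ i, L i • x i =
      (y - ∑ i, s (n + D) i • x i) + ∑ i, (s (n + D) i - L i) • x i := by
    simp only [sub_smul, Finset.sum_sub_distrib]
    abel
  rw [e]
  refine Submodule.add_mem _ (F.antitone (Nat.le_add_right n D) (hmem (n + D)))
    (Submodule.sum_mem _ fun i _ => ?_)
  have h := F.pow_smul_le n (d i) (Submodule.smul_mem_smul (hL i n) (hx i))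
  exact F.antitone (Nat.le_add_right n (d i)) h

theorem coeff_smul_monomM (f : ↥(FiltBl.IdealFiltration.adic I).rees) (d : ℕ) (x : F.N d) (n : ℕ) :
    ReesM.coeff F (f • monomM F d x) n =
      (if d ≤ n then (f : A[X]).coeff (n - d) else 0) • (x : M) := by
  rw [ReesM.coeff_smul]
  simp only [ReesM.coeff_monomM, smul_ite, smul_zero]
  split_ifs with h
  · rw [Finset.sum_eq_single (n - d, d)]
    · rw [if_pos rfl]
    · rintro ⟨p, q⟩ hp hne
      have hp' : p + q = n := Finset.HasAntidiagonal.mem_antidiagonal.mp hp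
      have hq : d ≠ q := fun hq =>
        hne (Prod.ext (by show p = n - d; omega) (by show q = d; omega))
      exact if_neg hq
    · intro h'
      exact absurd (Finset.HasAntidiagonal.mem_antidiagonal.mpr (by show n - d + d = n; omega)) h'
  · rw [zero_smul]
    refine Finset.sum_eq_zero fun p hp => ?_
    have hp' : p.1 + p.2 = n := Finset.HasAntidiagonal.mem_antidiagonal.mp hp
    exact if_neg (by omega)

/-- One step of approximation from the graded hypothesis. -/
theorem exists_step_of_mem_span {ι : Type*} [Fintype ι] (d : ι → ℕ) (x : (i : ι) → F.N (d i))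
    (n : ℕ) (m : F.N n)
    (hm : (inDegM F n m : GrMod F) ∈ Submodule.span (GrRing (FiltBl.IdealFiltration.adic I))
      (Set.range fun i => (inDegM F (d i) (x i) : GrMod F))) :
    ∃ c : ι → A, (∀ i, c i ∈ I ^ (n - d i)) ∧
      (m : M) - ∑ i, c i • (x i : M) ∈ F.N (n + 1) := by
  obtain ⟨g, hg⟩ := (Submodule.mem_span_range_iff_exists_fun _).mp hm
  choose f hf using fun i => mkG_surjective (FiltBl.IdealFiltration.adic I) (g i)
  have h1 : (inDegM F n m : GrMod F) = ∑ i, mkGM F (f i • monomM F (d i) (x i)) :=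
    hg.symm.trans (Finset.sum_congr rfl fun i _ => by
      show g i • (inDegM F (d i) (x i) : GrMod F) = _
      rw [← hf i, coe_inDegM, mkG_smul_mkGM])
  have h2 : monomM F n m - ∑ i, f i • monomM F (d i) (x i) ∈ succMod F := by
    rw [← mkGM_eq_zero_iff, map_sub, map_sum, ← coe_inDegM, h1, sub_self]
  have h3 := h2 n
  rw [← ReesM.coeffHom_apply, map_sub, map_sum] at h3
  simp only [ReesM.coeffHom_apply, coeff_smul_monomM, ReesM.coeff_monomM,
    if_true] at h3
  refine ⟨fun i => if d i ≤ n then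
    ((f i : ↥(FiltBl.IdealFiltration.adic I).rees) : A[X]).coeff (n - d i) else 0, fun i => ?_, h3⟩
  show (if d i ≤ n then
    ((f i : ↥(FiltBl.IdealFiltration.adic I).rees) : A[X]).coeff (n - d i) else 0) ∈ I ^ (n - d i)
  split_ifs with h
  · exact (f i).2 (n - d i)
  · exact Ideal.zero_mem _

/-- The set of classes in `gr_F(M)` of the elements of `M' ∩ Nₙ`, all `n`. -/
def classSet (M' : Submodule A M) : Set (GrMod F) :=
  {η | ∃ (n : ℕ) (z : F.N n), (z : M) ∈ M' ∧ (inDegM F n z : GrMod F) = η}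

/-- If the graded submodule generated by the classes of the elements of `M'` is finitely generated,
then `M'` is finitely generated and closed. -/
theorem closed_and_fg_of_fg [IsPrecomplete I A] (h0 : F.N 0 = ⊤) (hsep : ⨅ n, F.N n = ⊥)
    (M' : Submodule A M)
    (hfg : (Submodule.span (GrRing (FiltBl.IdealFiltration.adic I)) (classSet F M')).FG) :
    (⨅ n, M' ⊔ F.N n) = M' ∧ M'.FG := by
  classical
  obtain ⟨T, hTS, hT⟩ := (Submodule.fg_span_iff_fg_span_finset_subset _).mp hfg
  have hch : ∀ t : ↥T, ∃ (n : ℕ) (z : F.N n),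
      (z : M) ∈ M' ∧ (inDegM F n z : GrMod F) = (t : GrMod F) :=
    fun t => hTS (Finset.mem_coe.mpr t.2)
  choose d x hxM' hxt using hch
  have hrange : (Set.range fun t : ↥T => (inDegM F (d t) (x t) : GrMod F)) =
      (T : Set (GrMod F)) := by
    ext η
    constructor
    · rintro ⟨t, rfl⟩
      show (inDegM F (d t) (x t) : GrMod F) ∈ (T : Set (GrMod F))
      rw [hxt t]; exact t.2
    · intro hη
      exact ⟨⟨η, hη⟩, hxt ⟨η, hη⟩⟩
  have key : ∀ y ∈ ⨅ n, M' ⊔ F.N n, ∃ L : ↥T → A, y = ∑ t, L t • (x t : M) := by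
    intro y hy
    rw [Submodule.mem_iInf] at hy
    refine exists_eq_sum_of_step F hsep d (fun t => (x t : M)) (fun t => (x t).2) y
      (by rw [h0]; trivial) ?_
    intro n s hs
    have hw : y - ∑ t, s t • (x t : M) ∈ M' ⊔ F.N (n + 1) :=
      Submodule.sub_mem _ (hy (n + 1)) (Submodule.mem_sup_left
        (Submodule.sum_mem _ fun t _ => Submodule.smul_mem _ _ (hxM' t)))
    obtain ⟨m, hm, u, hu, hmu⟩ := Submodule.mem_sup.mp hw
    have hmn : m ∈ F.N n := by
      have : m = (y - ∑ t, s t • (x t : M)) - u := by rw [← hmu]; abel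
      rw [this]
      exact Submodule.sub_mem _ hs (F.antitone (Nat.le_succ n) hu)
    obtain ⟨c, hc1, hc2⟩ := exists_step_of_mem_span F d x n ⟨m, hmn⟩ (by
      rw [hrange, ← hT]
      exact Submodule.subset_span ⟨n, ⟨m, hmn⟩, hm, rfl⟩)
    refine ⟨c, hc1, ?_⟩
    show y - ∑ t, s t • (x t : M) - ∑ t, c t • (x t : M) ∈ F.N (n + 1)
    have : y - ∑ t, s t • (x t : M) - ∑ t, c t • (x t : M) =
        (m - ∑ t, c t • (x t : M)) + u := by
      rw [← hmu]; abel
    rw [this]
    exact Submodule.add_mem _ hc2 hu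
  have hle : (⨅ n, M' ⊔ F.N n) ≤ Submodule.span A (Set.range fun t : ↥T => (x t : M)) := by
    intro y hy
    obtain ⟨L, rfl⟩ := key y hy
    exact Submodule.sum_mem _ fun t _ => Submodule.smul_mem _ _ (Submodule.subset_span ⟨t, rfl⟩)
  have hle2 : Submodule.span A (Set.range fun t : ↥T => (x t : M)) ≤ M' := by
    rw [Submodule.span_le]
    rintro _ ⟨t, rfl⟩
    exact hxM' t
  have hle3 : M' ≤ ⨅ n, M' ⊔ F.N n := le_iInf fun n => le_sup_left
  refine ⟨le_antisymm (hle.trans hle2) hle3, ?_⟩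
  have : M' = Submodule.span A (Set.range fun t : ↥T => (x t : M)) :=
    le_antisymm (hle3.trans hle) hle2
  rw [this]
  exact Submodule.fg_span (Set.finite_range _)

end Approx

end Groth.Agent.Lib.Helper15.GrApprox
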