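import Groth.Agent.Lib.Helper15.ToposQuot

/-!
# Helper library (helper15): translation isomorphisms between fibres of the source map of a groupoid in sheaves
-/

set_option autoImplicit false
universe u
open CategoryTheory CategoryTheory.Limits AlgebraicGeometry Opposite

namespace Groth.Agent.Lib.Helper15

open AlgSp

namespace GroupoidSp

variable {S : Scheme.{u}} {B : Sp S} (G : AlgSp.GroupoidSp B)

/-- Composition of two composable `T`-valued arrows. -/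
noncomputable abbrev cmp {T : Sp S} (α β : T ⟶ G.R) (h : α ≫ G.s = β ≫ G.t) : T ⟶ G.R :=
  pullback.lift α β h ≫ G.c

theorem cmp_congr {T : Sp S} {α α' β β' : T ⟶ G.R} (hα : α = α') (hβ : β = β') (h : α ≫ G.s = β ≫ G.t) :
    cmp G α β h = cmp G α' β' (hα ▸ hβ ▸ h) := by
  subst hα hβ
  rfl

theorem comp_cmp {T T' : Sp S} (k : T' ⟶ T) (α β : T ⟶ G.R) (h : α ≫ G.s = β ≫ G.t) :
    k ≫ cmp G α β h = cmp G (k ≫ α) (k ≫ β) (by rw [Category.assoc, Category.assoc, h]) := by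
  unfold cmp
  rw [← Category.assoc]
  congr 1
  apply pullback.hom_ext
  · rw [Category.assoc, pullback.lift_fst, pullback.lift_fst]
  · rw [Category.assoc, pullback.lift_snd, pullback.lift_snd]

theorem cmp_s {T : Sp S} (α β : T ⟶ G.R) (h : α ≫ G.s = β ≫ G.t) : cmp G α β h ≫ G.s = β ≫ G.s :=
  G.comp_s α β h

theorem cmp_t {T : Sp S} (α β : T ⟶ G.R) (h : α ≫ G.s = β ≫ G.t) : cmp G α β h ≫ G.t = α ≫ G.t :=
  G.comp_t α β h

theorem cmp_assoc {T : Sp S} (α β γ : T ⟶ G.R) (h₁ : α ≫ G.s = β ≫ G.t) (h₂ : β ≫ G.s = γ ≫ G.t)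
    (h₃ : cmp G α β h₁ ≫ G.s = γ ≫ G.t) (h₄ : α ≫ G.s = cmp G β γ h₂ ≫ G.t) :
    cmp G (cmp G α β h₁) γ h₃ = cmp G α (cmp G β γ h₂) h₄ := G.assoc α β γ h₁ h₂

theorem cmp_e_right {T : Sp S} (α : T ⟶ G.R) (u : T ⟶ G.U) (hu : α ≫ G.s = u)
    (h : α ≫ G.s = (u ≫ G.e) ≫ G.t) : cmp G α (u ≫ G.e) h = α := by
  subst hu
  have := G.comp_e α
  simpa only [Category.assoc] using this

theorem cmp_e_left {T : Sp S} (α : T ⟶ G.R) (u : T ⟶ G.U) (hu : α ≫ G.t = u)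
    (h : (u ≫ G.e) ≫ G.s = α ≫ G.t) : cmp G (u ≫ G.e) α h = α := by
  subst hu
  have := G.e_comp α
  simpa only [Category.assoc] using this

theorem cmp_i_right {T : Sp S} (α : T ⟶ G.R) (h : α ≫ G.s = (α ≫ G.i) ≫ G.t) :
    cmp G α (α ≫ G.i) h = (α ≫ G.t) ≫ G.e := by
  have := G.comp_i α
  simpa only [Category.assoc] using this

theorem cmp_i_left {T : Sp S} (α : T ⟶ G.R) (h : (α ≫ G.i) ≫ G.s = α ≫ G.t) :
    cmp G (α ≫ G.i) α h = (α ≫ G.s) ≫ G.e := by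
  have := G.i_comp α
  simpa only [Category.assoc] using this

/-- `(α ∘ β) ∘ β⁻¹ = α`. -/
theorem cmp_cmp_i {T : Sp S} (α β : T ⟶ G.R) (h : α ≫ G.s = β ≫ G.t)
    (h' : cmp G α β h ≫ G.s = (β ≫ G.i) ≫ G.t) : cmp G (cmp G α β h) (β ≫ G.i) h' = α := by
  have hβi : β ≫ G.s = (β ≫ G.i) ≫ G.t := by rw [Category.assoc, G.i_t]
  rw [cmp_assoc G α β (β ≫ G.i) h hβi h' (by rw [cmp_t, h])]
  have e1 : cmp G β (β ≫ G.i) hβi = (β ≫ G.t) ≫ G.e := cmp_i_right G β hβi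
  rw [cmp_congr G rfl e1]
  exact cmp_e_right G α (β ≫ G.t) h _

/-- `(γ ∘ β⁻¹) ∘ β = γ`. -/
theorem cmp_i_cmp {T : Sp S} (γ β : T ⟶ G.R) (h : γ ≫ G.s = (β ≫ G.i) ≫ G.t)
    (h' : cmp G γ (β ≫ G.i) h ≫ G.s = β ≫ G.t) : cmp G (cmp G γ (β ≫ G.i) h) β h' = γ := by
  have hβi : (β ≫ G.i) ≫ G.s = β ≫ G.t := by rw [Category.assoc, G.i_s]
  rw [cmp_assoc G γ (β ≫ G.i) β h hβi h' (by rw [cmp_t, h])]
  have e1 : cmp G (β ≫ G.i) β hβi = (β ≫ G.s) ≫ G.e := cmp_i_left G β hβi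
  rw [cmp_congr G rfl e1]
  exact cmp_e_right G γ (β ≫ G.s) (by rw [h, Category.assoc, G.i_t]) _

/-- `α⁻¹ ∘ (α ∘ γ) = γ`. -/
theorem i_cmp_cmp {T : Sp S} (α γ : T ⟶ G.R) (h : α ≫ G.s = γ ≫ G.t)
    (h' : (α ≫ G.i) ≫ G.s = cmp G α γ h ≫ G.t) : cmp G (α ≫ G.i) (cmp G α γ h) h' = γ := by
  have hαi : (α ≫ G.i) ≫ G.s = α ≫ G.t := by rw [Category.assoc, G.i_s]
  rw [← cmp_assoc G (α ≫ G.i) α γ hαi h (by rw [cmp_s, h]) h']
  have e1 : cmp G (α ≫ G.i) α hαi = (α ≫ G.s) ≫ G.e := cmp_i_left G α hαi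
  rw [cmp_congr G e1 rfl]
  exact cmp_e_left G γ (α ≫ G.s) h.symm _

/-- `α ∘ (α⁻¹ ∘ β) = β`. -/
theorem cmp_i_cmp' {T : Sp S} (α β : T ⟶ G.R) (h : (α ≫ G.i) ≫ G.s = β ≫ G.t)
    (h' : α ≫ G.s = cmp G (α ≫ G.i) β h ≫ G.t) : cmp G α (cmp G (α ≫ G.i) β h) h' = β := by
  have hαi : α ≫ G.s = (α ≫ G.i) ≫ G.t := by rw [Category.assoc, G.i_t]
  rw [← cmp_assoc G α (α ≫ G.i) β hαi h (by rw [cmp_s, h]) h']
  have e1 : cmp G α (α ≫ G.i) hαi = (α ≫ G.t) ≫ G.e := cmp_i_right G α hαi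
  rw [cmp_congr G e1 rfl]
  exact cmp_e_left G β (α ≫ G.t) (by rw [← h, Category.assoc, G.i_s]) _

theorem comp_c {Q : Sp S} (l : Q ⟶ pullback G.s G.t)
    (h : (l ≫ pullback.fst G.s G.t) ≫ G.s = (l ≫ pullback.snd G.s G.t) ≫ G.t) :
    l ≫ G.c = cmp G (l ≫ pullback.fst G.s G.t) (l ≫ pullback.snd G.s G.t) h := by
  unfold cmp
  congr 1
  apply pullback.hom_ext
  · rw [pullback.lift_fst]
  · rw [pullback.lift_snd]

theorem c_s : G.c ≫ G.s = pullback.snd G.s G.t ≫ G.s := by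
  have := G.comp_s (pullback.fst G.s G.t) (pullback.snd G.s G.t) pullback.condition
  rwa [pullback.lift_fst_snd, Category.id_comp] at this

theorem c_t : G.c ≫ G.t = pullback.fst G.s G.t ≫ G.t := by
  have := G.comp_t (pullback.fst G.s G.t) (pullback.snd G.s G.t) pullback.condition
  rwa [pullback.lift_fst_snd, Category.id_comp] at this

/-- A commutative square with existence and uniqueness of lifts is a pullback square. -/
theorem isPullback_of_exists_lift' {C : Type*} [Category C] {P X Y Z : C} {fst : P ⟶ X} {snd : P ⟶ Y}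
    {f : X ⟶ Z} {g : Y ⟶ Z} (w : fst ≫ f = snd ≫ g)
    (lift : ∀ {Q : C} (a : Q ⟶ X) (b : Q ⟶ Y), a ≫ f = b ≫ g → ∃ l : Q ⟶ P, l ≫ fst = a ∧ l ≫ snd = b)
    (ext : ∀ {Q : C} (l l' : Q ⟶ P), l ≫ fst = l' ≫ fst → l ≫ snd = l' ≫ snd → l = l') :
    IsPullback fst snd f g := by
  refine ⟨⟨w⟩, ⟨PullbackCone.IsLimit.mk w (fun s => (lift s.fst s.snd s.condition).choose)
    (fun s => (lift s.fst s.snd s.condition).choose_spec.1)
    (fun s => (lift s.fst s.snd s.condition).choose_spec.2) ?_⟩⟩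
  intro s m h1 h2
  exact ext _ _ (h1.trans (lift s.fst s.snd s.condition).choose_spec.1.symm)
    (h2.trans (lift s.fst s.snd s.condition).choose_spec.2.symm)

/-- The square `c, pr₂, s, s` is cartesian. -/
theorem isPullback_c_snd : IsPullback G.c (pullback.snd G.s G.t) G.s G.s := by
  apply isPullback_of_exists_lift'
  · exact c_s G
  · intro Q γ β hγβ
    have hα0 : γ ≫ G.s = (β ≫ G.i) ≫ G.t := by rw [Category.assoc, G.i_t, hγβ]
    have hα : cmp G γ (β ≫ G.i) hα0 ≫ G.s = β ≫ G.t := by rw [cmp_s, Category.assoc, G.i_s]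
    exact ⟨pullback.lift (cmp G γ (β ≫ G.i) hα0) β hα, cmp_i_cmp G γ β hα0 hα, pullback.lift_snd _ _ _⟩
  · intro Q l l' h1 h2
    refine pullback.hom_ext ?_ h2
    have hl : (l ≫ pullback.fst G.s G.t) ≫ G.s = (l ≫ pullback.snd G.s G.t) ≫ G.t := by
      rw [Category.assoc, Category.assoc, pullback.condition]
    have hl' : (l' ≫ pullback.fst G.s G.t) ≫ G.s = (l' ≫ pullback.snd G.s G.t) ≫ G.t := by
      rw [Category.assoc, Category.assoc, pullback.condition]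
    have hl'' : (l' ≫ pullback.fst G.s G.t) ≫ G.s = (l ≫ pullback.snd G.s G.t) ≫ G.t := by rw [h2]; exact hl'
    have e1 : cmp G (l ≫ pullback.fst G.s G.t) (l ≫ pullback.snd G.s G.t) hl =
        cmp G (l' ≫ pullback.fst G.s G.t) (l ≫ pullback.snd G.s G.t) hl'' := by
      rw [← comp_c G l hl, h1, comp_c G l' hl']
      exact cmp_congr G rfl h2.symm hl'
    have hi : cmp G (l ≫ pullback.fst G.s G.t) (l ≫ pullback.snd G.s G.t) hl ≫ G.s =
        ((l ≫ pullback.snd G.s G.t) ≫ G.i) ≫ G.t := by rw [cmp_s, Category.assoc _ G.i, G.i_t]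
    rw [← cmp_cmp_i G (l ≫ pullback.fst G.s G.t) (l ≫ pullback.snd G.s G.t) hl hi, cmp_congr G e1 rfl]
    exact cmp_cmp_i G _ _ hl'' _

/-- The shear map `(α, β) ↦ (α, α⁻¹ ∘ β)` is an isomorphism, and composing it with `c` gives the second projection. -/
theorem isIso_shear (φ : pullback G.t G.t ⟶ pullback G.s G.t)
    (h1 : φ ≫ pullback.fst G.s G.t = pullback.fst G.t G.t)
    (hαi : (pullback.fst G.t G.t ≫ G.i) ≫ G.s = pullback.snd G.t G.t ≫ G.t)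
    (h2 : φ ≫ pullback.snd G.s G.t = cmp G (pullback.fst G.t G.t ≫ G.i) (pullback.snd G.t G.t) hαi) :
    IsIso φ ∧ φ ≫ G.c = pullback.snd G.t G.t := by
  have hφ : (φ ≫ pullback.fst G.s G.t) ≫ G.s = (φ ≫ pullback.snd G.s G.t) ≫ G.t := by
    rw [Category.assoc, Category.assoc, pullback.condition]
  have hc : φ ≫ G.c = pullback.snd G.t G.t := by
    rw [comp_c G φ hφ, cmp_congr G h1 h2]
    exact cmp_i_cmp' G _ _ hαi _
  refine ⟨⟨pullback.lift (pullback.fst G.s G.t) G.c (c_t G).symm, ?_, ?_⟩, hc⟩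
  · apply pullback.hom_ext
    · rw [Category.assoc, pullback.lift_fst, h1, Category.id_comp]
    · rw [Category.assoc, pullback.lift_snd, hc, Category.id_comp]
  · apply pullback.hom_ext
    · rw [Category.assoc, h1, pullback.lift_fst, Category.id_comp]
    · rw [Category.assoc, h2, comp_cmp, Category.id_comp]
      have e1 : pullback.lift (pullback.fst G.s G.t) G.c (c_t G).symm ≫ pullback.fst G.t G.t ≫ G.i =
          pullback.fst G.s G.t ≫ G.i := by rw [pullback.lift_fst_assoc]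
      have e2 : pullback.lift (pullback.fst G.s G.t) G.c (c_t G).symm ≫ pullback.snd G.t G.t =
          cmp G (pullback.fst G.s G.t) (pullback.snd G.s G.t) pullback.condition := by
        rw [pullback.lift_snd]
        unfold cmp
        rw [pullback.lift_fst_snd, Category.id_comp]
      rw [cmp_congr G e1 e2]
      exact i_cmp_cmp G _ _ pullback.condition _

/-- Left translation by a section `a` of `s` with `a ≫ t` invertible is an automorphism of `R` sending `e` to `a`. -/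
theorem isIso_left_translation (a : G.U ⟶ G.R) (ha : a ≫ G.s = 𝟙 G.U) [IsIso (a ≫ G.t)]
    (h : (G.t ≫ a) ≫ G.s = 𝟙 G.R ≫ G.t) :
    IsIso (cmp G (G.t ≫ a) (𝟙 G.R) h) ∧ G.e ≫ cmp G (G.t ≫ a) (𝟙 G.R) h = a := by
  obtain ⟨τ, hτ⟩ : ∃ τ, a ≫ G.t = τ := ⟨_, rfl⟩
  have : IsIso τ := hτ ▸ inferInstance
  have hδs : (G.t ≫ inv τ ≫ a) ≫ G.s = G.t ≫ inv τ := by
    rw [Category.assoc, Category.assoc, ha, Category.comp_id]
  have hδt : (G.t ≫ inv τ ≫ a) ≫ G.t = G.t := by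
    rw [Category.assoc, Category.assoc, hτ, IsIso.inv_hom_id, Category.comp_id]
  have h' : ((G.t ≫ inv τ ≫ a) ≫ G.i) ≫ G.s = 𝟙 G.R ≫ G.t := by
    rw [Category.assoc _ G.i, G.i_s, hδt, Category.id_comp]
  have hΦt : cmp G (G.t ≫ a) (𝟙 G.R) h ≫ G.t = G.t ≫ τ := by rw [cmp_t, Category.assoc, hτ]
  have hΨt : cmp G ((G.t ≫ inv τ ≫ a) ≫ G.i) (𝟙 G.R) h' ≫ G.t = G.t ≫ inv τ := by
    rw [cmp_t, Category.assoc _ G.i, G.i_t, hδs]
  refine ⟨⟨cmp G ((G.t ≫ inv τ ≫ a) ≫ G.i) (𝟙 G.R) h', ?_, ?_⟩, ?_⟩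
  · rw [comp_cmp]
    have e1 : cmp G (G.t ≫ a) (𝟙 G.R) h ≫ (G.t ≫ inv τ ≫ a) ≫ G.i = (G.t ≫ a) ≫ G.i := by
      simp only [Category.assoc, reassoc_of% hΦt, IsIso.hom_inv_id_assoc]
    have e2 : cmp G (G.t ≫ a) (𝟙 G.R) h ≫ 𝟙 G.R = cmp G (G.t ≫ a) (𝟙 G.R) h := Category.comp_id _
    rw [cmp_congr G e1 e2]
    exact i_cmp_cmp G _ _ h _
  · rw [comp_cmp]
    have e1 : cmp G ((G.t ≫ inv τ ≫ a) ≫ G.i) (𝟙 G.R) h' ≫ G.t ≫ a =
        G.t ≫ inv τ ≫ a := by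
      rw [← Category.assoc, hΨt, Category.assoc]
    have e2 : cmp G ((G.t ≫ inv τ ≫ a) ≫ G.i) (𝟙 G.R) h' ≫ 𝟙 G.R =
        cmp G ((G.t ≫ inv τ ≫ a) ≫ G.i) (𝟙 G.R) h' := Category.comp_id _
    rw [cmp_congr G e1 e2]
    exact cmp_i_cmp' G _ _ h' _
  · rw [comp_cmp]
    have e1 : G.e ≫ G.t ≫ a = a := by rw [← Category.assoc, G.e_t, Category.id_comp]
    have e2 : G.e ≫ 𝟙 G.R = 𝟙 G.U ≫ G.e := by rw [Category.comp_id, Category.id_comp]
    rw [cmp_congr G e1 e2]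
    exact cmp_e_right G a (𝟙 G.U) ha _

/-- Right translation by a family of arrows `δ`: `(x, ρ) ↦ (x, ρ ∘ δ x)`. -/
noncomputable def transl {P : Sp S} (u₁ u₂ : P ⟶ G.U) (δ : P ⟶ G.R) (h1 : δ ≫ G.t = u₁) (h2 : δ ≫ G.s = u₂) :
    pullback u₁ G.s ⟶ pullback u₂ G.s :=
  pullback.lift (pullback.fst u₁ G.s)
    (cmp G (pullback.snd u₁ G.s) (pullback.fst u₁ G.s ≫ δ)
      (by rw [Category.assoc, h1, pullback.condition]))
    (by rw [G.comp_s, Category.assoc, h2])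

@[reassoc (attr := simp)]
theorem transl_fst {P : Sp S} (u₁ u₂ : P ⟶ G.U) (δ : P ⟶ G.R) (h1 : δ ≫ G.t = u₁) (h2 : δ ≫ G.s = u₂) :
    transl G u₁ u₂ δ h1 h2 ≫ pullback.fst u₂ G.s = pullback.fst u₁ G.s := pullback.lift_fst _ _ _

@[reassoc]
theorem transl_snd {P : Sp S} (u₁ u₂ : P ⟶ G.U) (δ : P ⟶ G.R) (h1 : δ ≫ G.t = u₁) (h2 : δ ≫ G.s = u₂) :
    transl G u₁ u₂ δ h1 h2 ≫ pullback.snd u₂ G.s =
      cmp G (pullback.snd u₁ G.s) (pullback.fst u₁ G.s ≫ δ)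
        (by rw [Category.assoc, h1, pullback.condition]) := pullback.lift_snd _ _ _

theorem transl_comp {P : Sp S} (u₁ u₂ : P ⟶ G.U) (δ δ' : P ⟶ G.R) (h1 : δ ≫ G.t = u₁) (h2 : δ ≫ G.s = u₂)
    (h1' : δ' ≫ G.t = u₂) (h2' : δ' ≫ G.s = u₁)
    (hinv : cmp G δ δ' (by rw [h2, h1']) = u₁ ≫ G.e) :
    transl G u₁ u₂ δ h1 h2 ≫ transl G u₂ u₁ δ' h1' h2' = 𝟙 _ := by
  apply pullback.hom_ext
  · rw [Category.assoc, transl_fst, transl_fst, Category.id_comp]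
  · rw [Category.assoc, transl_snd, comp_cmp, Category.id_comp]
    have e1 : transl G u₁ u₂ δ h1 h2 ≫ pullback.snd u₂ G.s =
        cmp G (pullback.snd u₁ G.s) (pullback.fst u₁ G.s ≫ δ)
          (by rw [Category.assoc, h1, pullback.condition]) := transl_snd G u₁ u₂ δ h1 h2
    have e2 : transl G u₁ u₂ δ h1 h2 ≫ pullback.fst u₂ G.s ≫ δ' = pullback.fst u₁ G.s ≫ δ' := by
      rw [transl_fst_assoc]
    rw [cmp_congr G e1 e2]
    have e3 := G.assoc (pullback.snd u₁ G.s) (pullback.fst u₁ G.s ≫ δ) (pullback.fst u₁ G.s ≫ δ')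
      (by rw [Category.assoc, h1, pullback.condition]) (by rw [Category.assoc, Category.assoc, h2, h1'])
    refine e3.trans ?_
    have e4 : cmp G (pullback.fst u₁ G.s ≫ δ) (pullback.fst u₁ G.s ≫ δ')
        (by rw [Category.assoc, Category.assoc, h2, h1']) = pullback.snd u₁ G.s ≫ G.s ≫ G.e := by
      rw [← comp_cmp G (pullback.fst u₁ G.s) δ δ' (by rw [h2, h1']), hinv, ← Category.assoc,
        pullback.condition, Category.assoc]
    have e5 := cmp_congr G (rfl : pullback.snd u₁ G.s = pullback.snd u₁ G.s) e4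
      (by rw [G.comp_t, Category.assoc, h1, pullback.condition])
    exact e5.trans (G.comp_e (pullback.snd u₁ G.s))

/-- The fibres of the source map over the target and over the source of a family of arrows are isomorphic. -/
theorem nonempty_fibre_iso {P : Sp S} (δ : P ⟶ G.R) :
    Nonempty (Over.mk (pullback.fst (δ ≫ G.t) G.s) ≅ Over.mk (pullback.fst (δ ≫ G.s) G.s)) := by
  have hi1 : (δ ≫ G.i) ≫ G.t = δ ≫ G.s := by rw [Category.assoc, G.i_t]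
  have hi2 : (δ ≫ G.i) ≫ G.s = δ ≫ G.t := by rw [Category.assoc, G.i_s]
  refine ⟨Over.isoMk
    { hom := transl G (δ ≫ G.t) (δ ≫ G.s) δ rfl rfl
      inv := transl G (δ ≫ G.s) (δ ≫ G.t) (δ ≫ G.i) hi1 hi2
      hom_inv_id := transl_comp G (δ ≫ G.t) (δ ≫ G.s) δ (δ ≫ G.i) rfl rfl hi1 hi2
        ((G.comp_i δ).trans (Category.assoc _ _ _).symm)
      inv_hom_id := transl_comp G (δ ≫ G.s) (δ ≫ G.t) (δ ≫ G.i) δ hi1 hi2 rfl rfl ?_ } ?_⟩
  · have := G.i_comp δ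
    exact this.trans (Category.assoc _ _ _).symm
  · exact transl_fst G (δ ≫ G.t) (δ ≫ G.s) δ rfl rfl

theorem nonempty_fibre_iso' {P : Sp S} (u₁ u₂ : P ⟶ G.U) (δ : P ⟶ G.R) (h1 : δ ≫ G.t = u₁)
    (h2 : δ ≫ G.s = u₂) :
    Nonempty (Over.mk (pullback.fst u₁ G.s) ≅ Over.mk (pullback.fst u₂ G.s)) := by
  have hi1 : (δ ≫ G.i) ≫ G.t = u₂ := by rw [Category.assoc, G.i_t, h2]
  have hi2 : (δ ≫ G.i) ≫ G.s = u₁ := by rw [Category.assoc, G.i_s, h1]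
  refine ⟨Over.isoMk
    { hom := transl G u₁ u₂ δ h1 h2
      inv := transl G u₂ u₁ (δ ≫ G.i) hi1 hi2
      hom_inv_id := transl_comp G u₁ u₂ δ (δ ≫ G.i) h1 h2 hi1 hi2 ?_
      inv_hom_id := transl_comp G u₂ u₁ (δ ≫ G.i) δ hi1 hi2 h1 h2 ?_ } ?_⟩
  · have := G.comp_i δ
    rw [← h1]
    exact this.trans (Category.assoc _ _ _).symm
  · have := G.i_comp δ
    rw [← h2]
    exact this.trans (Category.assoc _ _ _).symm
  · exact transl_fst G u₁ u₂ δ h1 h2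

end GroupoidSp

end Groth.Agent.Lib.Helper15
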