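import Groth.Agent.Lib.Helper15.GrpSp
import Mathlib.CategoryTheory.MorphismProperty.Limits

/-!
# Helper library (helper15): separation conditions for a groupoid: `j`, the stabilizer and its unit section
-/

set_option autoImplicit false
universe u
open CategoryTheory CategoryTheory.Limits AlgebraicGeometry Opposite

namespace Groth.Agent.Lib.Helper15

open AlgSp

/-- A section of `p` is a base change of the diagonal of `p`. -/
theorem isPullback_section_diagonal {C : Type*} [Category C] [HasPullbacks C] {X Y : C} (p : X ⟶ Y)
    (σ : Y ⟶ X) (h : σ ≫ p = 𝟙 Y) :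
    IsPullback σ σ (pullback.diagonal p)
      (pullback.lift (𝟙 X) (p ≫ σ) (by rw [Category.assoc, h, Category.comp_id, Category.id_comp])) := by
  apply GroupoidSp.isPullback_of_exists_lift'
  · apply pullback.hom_ext
    · rw [Category.assoc, Category.assoc, pullback.diagonal_fst, pullback.lift_fst]
    · rw [Category.assoc, Category.assoc, pullback.diagonal_snd, pullback.lift_snd, ← Category.assoc,
        h, Category.id_comp, Category.comp_id]
  · intro Q x y hxy
    have h1 : x = y := by
      have := congrArg (· ≫ pullback.fst p p) hxy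
      simpa only [Category.assoc, pullback.diagonal_fst, pullback.lift_fst, Category.comp_id] using this
    have h2 : x = y ≫ p ≫ σ := by
      have := congrArg (· ≫ pullback.snd p p) hxy
      simpa only [Category.assoc, pullback.diagonal_snd, pullback.lift_snd, Category.comp_id] using this
    refine ⟨y ≫ p, ?_, ?_⟩
    · rw [Category.assoc, ← h2]
    · rw [Category.assoc, ← h2, h1]
  · intro Q l l' h1 _
    have := congrArg (· ≫ p) h1
    simpa only [Category.assoc, h, Category.comp_id] using this

namespace GroupoidSp

variable {S : Scheme.{u}} {B : Sp S} (G : AlgSp.GroupoidSp B)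

theorem stabilizerι_t : G.stabilizerι ≫ G.t = G.stabilizerToU := by
  have := congrArg (· ≫ pullback.fst G.pU G.pU) (pullback.condition (f := G.j) (g := G.diag))
  simp only [Category.assoc, G.j_fst] at this
  have hd : G.diag ≫ pullback.fst G.pU G.pU = 𝟙 G.U := by
    unfold AlgSp.GroupoidSp.diag
    rw [pullback.lift_fst]
  rw [hd, Category.comp_id] at this
  exact this

theorem stabilizerι_s : G.stabilizerι ≫ G.s = G.stabilizerToU := by
  have := congrArg (· ≫ pullback.snd G.pU G.pU) (pullback.condition (f := G.j) (g := G.diag))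
  simp only [Category.assoc, G.j_snd] at this
  have hd : G.diag ≫ pullback.snd G.pU G.pU = 𝟙 G.U := by
    unfold AlgSp.GroupoidSp.diag
    rw [pullback.lift_snd]
  rw [hd, Category.comp_id] at this
  exact this

theorem eG_toU (eG : G.U ⟶ G.stabilizer) (heG : eG ≫ G.stabilizerι = G.e) :
    eG ≫ G.stabilizerToU = 𝟙 G.U := by
  rw [← stabilizerι_t, ← Category.assoc, heG, G.e_t]

theorem fst_t_eq : pullback.fst G.j G.j ≫ G.t = pullback.snd G.j G.j ≫ G.t := by
  have := congrArg (· ≫ pullback.fst G.pU G.pU) (pullback.condition (f := G.j) (g := G.j))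
  simpa only [Category.assoc, G.j_fst] using this

theorem fst_s_eq : pullback.fst G.j G.j ≫ G.s = pullback.snd G.j G.j ≫ G.s := by
  have := congrArg (· ≫ pullback.snd G.pU G.pU) (pullback.condition (f := G.j) (g := G.j))
  simpa only [Category.assoc, G.j_snd] using this

theorem hom_ext_j {Q : Sp S} (a b : Q ⟶ pullback G.pU G.pU)
    (h1 : a ≫ pullback.fst G.pU G.pU = b ≫ pullback.fst G.pU G.pU)
    (h2 : a ≫ pullback.snd G.pU G.pU = b ≫ pullback.snd G.pU G.pU) : a = b :=
  pullback.hom_ext h1 h2

/-- `(α, β) ↦ α⁻¹ ∘ β` on pairs of arrows with the same source and target. -/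
noncomputable def divR : pullback G.j G.j ⟶ G.R :=
  cmp G (pullback.fst G.j G.j ≫ G.i) (pullback.snd G.j G.j)
    (by rw [Category.assoc, G.i_s, fst_t_eq])

theorem divR_t : divR G ≫ G.t = pullback.fst G.j G.j ≫ G.s := by
  rw [divR, cmp_t, Category.assoc, G.i_t]

theorem divR_s : divR G ≫ G.s = pullback.fst G.j G.j ≫ G.s := by
  rw [divR, cmp_s, fst_s_eq]

/-- The division map to the stabilizer. -/
noncomputable def divSt : pullback G.j G.j ⟶ G.stabilizer :=
  pullback.lift (divR G) (pullback.fst G.j G.j ≫ G.s) (by
    apply pullback.hom_ext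
    · rw [Category.assoc, G.j_fst, divR_t, Category.assoc, AlgSp.GroupoidSp.diag, pullback.lift_fst,
        Category.comp_id]
    · rw [Category.assoc, G.j_snd, divR_s, Category.assoc, AlgSp.GroupoidSp.diag, pullback.lift_snd,
        Category.comp_id])

theorem divSt_ι : divSt G ≫ G.stabilizerι = divR G := pullback.lift_fst _ _ _

theorem divSt_toU : divSt G ≫ G.stabilizerToU = pullback.fst G.j G.j ≫ G.s := pullback.lift_snd _ _ _

theorem stabilizer_hom_ext {Q : Sp S} (a b : Q ⟶ G.stabilizer) (h1 : a ≫ G.stabilizerι = b ≫ G.stabilizerι)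
    (h2 : a ≫ G.stabilizerToU = b ≫ G.stabilizerToU) : a = b :=
  pullback.hom_ext h1 h2

/-- The diagonal of `j` is a base change of the unit section of the stabilizer. -/
theorem isPullback_diagonal_j (eG : G.U ⟶ G.stabilizer) (heG : eG ≫ G.stabilizerι = G.e) :
    IsPullback (pullback.diagonal G.j) G.s (divSt G) eG := by
  apply isPullback_of_exists_lift'
  · apply stabilizer_hom_ext
    · rw [Category.assoc, divSt_ι, Category.assoc, heG, divR, comp_cmp]
      have e1 : pullback.diagonal G.j ≫ pullback.fst G.j G.j ≫ G.i = 𝟙 G.R ≫ G.i := by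
        rw [pullback.diagonal_fst_assoc, Category.id_comp]
      have e2 : pullback.diagonal G.j ≫ pullback.snd G.j G.j = 𝟙 G.R := pullback.diagonal_snd _
      rw [cmp_congr G e1 e2]
      have := cmp_i_left G (𝟙 G.R) (by rw [Category.assoc, G.i_s, Category.id_comp])
      rw [this, Category.id_comp]
    · rw [Category.assoc, divSt_toU, pullback.diagonal_fst_assoc, Category.assoc, eG_toU G eG heG,
        Category.comp_id]
  · intro Q x y hxy
    have h1 : cmp G ((x ≫ pullback.fst G.j G.j) ≫ G.i) (x ≫ pullback.snd G.j G.j)
        (by rw [Category.assoc, Category.assoc, G.i_s, fst_t_eq, Category.assoc]) = y ≫ G.e := by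
      have := congrArg (· ≫ G.stabilizerι) hxy
      simp only [Category.assoc, divSt_ι, heG] at this
      rw [← this, divR, comp_cmp]
      exact cmp_congr G (Category.assoc _ _ _) rfl _
    have h2 : x ≫ pullback.fst G.j G.j ≫ G.s = y := by
      have := congrArg (· ≫ G.stabilizerToU) hxy
      simpa only [Category.assoc, divSt_toU, eG_toU G eG heG, Category.comp_id] using this
    have h3 : x ≫ pullback.snd G.j G.j = x ≫ pullback.fst G.j G.j := by
      have hα : (x ≫ pullback.fst G.j G.j) ≫ G.s =
          cmp G ((x ≫ pullback.fst G.j G.j) ≫ G.i) (x ≫ pullback.snd G.j G.j)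
            (by rw [Category.assoc, Category.assoc, G.i_s, fst_t_eq, Category.assoc]) ≫ G.t := by
        rw [cmp_t, Category.assoc _ G.i, G.i_t]
      rw [← cmp_i_cmp' G (x ≫ pullback.fst G.j G.j) (x ≫ pullback.snd G.j G.j)
        (by rw [Category.assoc, Category.assoc, G.i_s, fst_t_eq, Category.assoc]) hα, cmp_congr G rfl h1]
      exact cmp_e_right G _ y (by rw [Category.assoc, h2]) _
    refine ⟨x ≫ pullback.fst G.j G.j, ?_, by rw [Category.assoc, h2]⟩
    apply pullback.hom_ext
    · rw [Category.assoc, pullback.diagonal_fst, Category.comp_id]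
    · rw [Category.assoc, pullback.diagonal_snd, Category.comp_id, h3]
  · intro Q l l' h1 _
    have := congrArg (· ≫ pullback.fst G.j G.j) h1
    simpa only [Category.assoc, pullback.diagonal_fst, Category.comp_id] using this

/-- For a property `P` of morphisms of sheaves stable under base change, the three conditions on a groupoid
are equivalent: `P` for the diagonal of `j`, for the diagonal of the stabilizer, and for its unit section. -/
theorem diagonal_j_tfae (P : MorphismProperty (Sp S)) [P.IsStableUnderBaseChange]
    (eG : G.U ⟶ G.stabilizer) (heG : eG ≫ G.stabilizerι = G.e) :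
    (P (pullback.diagonal G.j) ↔ P (pullback.diagonal G.stabilizerToU)) ∧
      (P (pullback.diagonal G.j) ↔ P eG) ∧ (P (pullback.diagonal G.stabilizerToU) → P eG) := by
  have hP : P.RespectsIso := MorphismProperty.IsStableUnderBaseChange.respectsIso
  have h12 : P (pullback.diagonal G.j) → P (pullback.diagonal G.stabilizerToU) := fun h =>
    (P.diagonal).pullback_snd G.j G.diag h
  have h23 : P (pullback.diagonal G.stabilizerToU) → P eG := fun h =>
    P.of_isPullback (isPullback_section_diagonal G.stabilizerToU eG (eG_toU G eG heG)) h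
  have h31 : P eG → P (pullback.diagonal G.j) := fun h =>
    P.of_isPullback (isPullback_diagonal_j G eG heG).flip h
  exact ⟨⟨h12, fun h => h31 (h23 h)⟩, ⟨fun h => h23 (h12 h), h31⟩, h23⟩

end GroupoidSp

end Groth.Agent.Lib.Helper15
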