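import Groth.Agent.Lib.Helper15.GActionPts
import Groth.Agent.Lib.Helper15.GroupoidPts

/-!
# Helper library (helper15): group objects over a sheaf: unit section versus relative diagonal
-/

set_option autoImplicit false
universe u
open CategoryTheory CategoryTheory.Limits AlgebraicGeometry Opposite MonoidalCategory CartesianMonoidalCategory MonObj

namespace Groth.Agent.Lib.Helper15

open AlgSp

variable {S : Scheme.{u}} {B : Sp S} (G : Over B) [GrpObj G]

theorem GrpSp.unit_hom : (η[G]).left ≫ G.hom = 𝟙 B := Over.w η[G]

/-- The unit section is a base change of the relative diagonal (along `g ↦ (g, e)`). -/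
theorem GrpSp.isPullback_unit_diagonal :
    IsPullback (η[G]).left (η[G]).left (pullback.diagonal G.hom)
      (pullback.lift (𝟙 G.left) (G.hom ≫ (η[G]).left)
        (by rw [Category.assoc, GrpSp.unit_hom, Category.comp_id, Category.id_comp])) := by
  apply GroupoidSp.isPullback_of_exists_lift'
  · apply pullback.hom_ext
    · rw [Category.assoc, Category.assoc, pullback.diagonal_fst, pullback.lift_fst]
    · rw [Category.assoc, Category.assoc, pullback.diagonal_snd, pullback.lift_snd, ← Category.assoc,
        GrpSp.unit_hom]
      exact (Category.comp_id _).trans (Category.id_comp _).symm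
  · intro Q x y hxy
    have h1 : x = y := by
      have := congrArg (· ≫ pullback.fst G.hom G.hom) hxy
      simpa only [Category.assoc, pullback.diagonal_fst, pullback.lift_fst, Category.comp_id] using this
    have h2 : x = y ≫ G.hom ≫ (η[G]).left := by
      have := congrArg (· ≫ pullback.snd G.hom G.hom) hxy
      simpa only [Category.assoc, pullback.diagonal_snd, pullback.lift_snd, Category.comp_id] using this
    refine ⟨y ≫ G.hom, ?_, ?_⟩
    · rw [Category.assoc, ← h2]
    · rw [Category.assoc, ← h2, h1]
  · intro Q l l' h1 _
    have := congrArg (· ≫ G.hom) h1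
    simp only [Category.assoc, GrpSp.unit_hom] at this
    exact (Category.comp_id l).symm.trans (this.trans (Category.comp_id l'))

/-- Division `(g, h) ↦ g h⁻¹`. -/
noncomputable def GrpSp.div : G ⊗ G ⟶ G := fst G G * (snd G G)⁻¹

/-- The relative diagonal is a base change of the unit section (along division). -/
theorem GrpSp.isPullback_diagonal_unit :
    IsPullback (pullback.diagonal G.hom) G.hom (GrpSp.div G).left (η[G]).left := by
  have hδ : lift (𝟙 G) (𝟙 G) ≫ GrpSp.div G = toUnit G ≫ η[G] := by
    rw [GrpSp.div, MonObj.comp_mul, GrpObj.comp_inv, lift_fst, lift_snd, mul_inv_cancel, Hom.one_def]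
  apply GroupoidSp.isPullback_of_exists_lift'
  · exact congrArg (·.left) hδ
  · intro Q x y hxy
    have hy : y = x ≫ (G ⊗ G).hom := by
      have := congrArg (· ≫ G.hom) hxy
      simp only [Category.assoc, GrpSp.unit_hom, Over.w] at this
      exact (Category.comp_id y).symm.trans this.symm
    subst hy
    let x' : Over.mk (x ≫ (G ⊗ G).hom) ⟶ G ⊗ G := Over.homMk x rfl
    have hx' : x' ≫ GrpSp.div G = toUnit _ ≫ η[G] := Over.OverMorphism.ext (by exact hxy)
    rw [GrpSp.div, MonObj.comp_mul, GrpObj.comp_inv, ← Hom.one_def, mul_inv_eq_one] at hx'
    have hfs : x ≫ pullback.fst G.hom G.hom = x ≫ pullback.snd G.hom G.hom := congrArg (·.left) hx'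
    refine ⟨x ≫ pullback.fst G.hom G.hom, ?_, ?_⟩
    · apply pullback.hom_ext
      · rw [Category.assoc, pullback.diagonal_fst, Category.comp_id]
      · rw [Category.assoc, pullback.diagonal_snd, Category.comp_id, hfs]
    · rw [Category.assoc]
      rfl
  · intro Q l l' h1 _
    have := congrArg (· ≫ pullback.fst G.hom G.hom) h1
    simpa only [Category.assoc, pullback.diagonal_fst, Category.comp_id] using this

/-- Properties stable under base change hold for the relative diagonal iff they hold for the unit section. -/
theorem GrpSp.diagonal_iff_unit (P : MorphismProperty (Sp S)) [P.IsStableUnderBaseChange] :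
    P (pullback.diagonal G.hom) ↔ P (η[G]).left :=
  ⟨fun h => P.of_isPullback (GrpSp.isPullback_unit_diagonal G) h,
    fun h => P.of_isPullback (GrpSp.isPullback_diagonal_unit G).flip h⟩

/-- The relative diagonal is a base change of the absolute diagonal. -/
theorem isPullback_diagonal_diag {C : Type*} [Category C] [HasPullbacks C] [HasBinaryProducts C] {F G : C}
    (a : F ⟶ G) :
    IsPullback (pullback.diagonal a) (𝟙 F) (prod.lift (pullback.fst a a) (pullback.snd a a)) (Limits.diag F) := by
  apply GroupoidSp.isPullback_of_exists_lift'
  · apply Limits.prod.hom_ext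
    · rw [Category.assoc, prod.lift_fst, pullback.diagonal_fst, Category.assoc, prod.lift_fst, Category.comp_id]
    · rw [Category.assoc, prod.lift_snd, pullback.diagonal_snd, Category.assoc, prod.lift_snd, Category.comp_id]
  · intro Q x y hxy
    have h1 : x ≫ pullback.fst a a = y := by
      have := congrArg (· ≫ prod.fst) hxy
      simpa only [Category.assoc, prod.lift_fst, Category.comp_id] using this
    have h2 : x ≫ pullback.snd a a = y := by
      have := congrArg (· ≫ prod.snd) hxy
      simpa only [Category.assoc, prod.lift_snd, Category.comp_id] using this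
    refine ⟨y, ?_, Category.comp_id _⟩
    apply pullback.hom_ext
    · rw [Category.assoc, pullback.diagonal_fst, Category.comp_id, h1]
    · rw [Category.assoc, pullback.diagonal_snd, Category.comp_id, h2]
  · intro Q l l' _ h2
    simpa only [Category.comp_id] using h2

/-- If the diagonal of `F` is representable, so is the relative diagonal of any `a : F ⟶ G`. -/
theorem representable_diagonal_of_diag {F G : Sp S} (a : F ⟶ G) (hF : Representable (Limits.diag F)) :
    Representable (pullback.diagonal a) :=
  (Representable (S := S)).of_isPullback (isPullback_diagonal_diag a).flip hF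

end Groth.Agent.Lib.Helper15
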