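import Groth.Agent.Lib.Helper15.HenselSite
import Groth.Agent.Lib.Helper13.StalkPull
import Groth.Prelude.Def_Hens2
import Groth.Prelude.Def_SGA4b

/-!
# Helper library (helper15): stalks of sheaves of sets — inverse images and strictly henselian rings
-/

set_option autoImplicit false
open CategoryTheory CategoryTheory.Limits AlgebraicGeometry Opposite

namespace Groth.Agent.Lib.Helper15.HenselStalkSet

open Groth.Agent.Lib.Helper13.StalkPull

universe u

/-- The stalk of the inverse image (sheaves of sets) at `ξ` is the stalk at `ξ ≫ f`, naturally. -/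
noncomputable def stalkPullIsoSet {X Y : Scheme.{u}} (f : X ⟶ Y)
    {Ω : Type u} [Field Ω] [IsSepClosed Ω] (ξ : Spec (CommRingCat.of Ω) ⟶ X) :
    EtDesc.pullSh f ⋙ (Scheme.pointSmallEtale ξ).sheafFiber (A := Type (u + 1)) ≅
      (Scheme.pointSmallEtale (ξ ≫ f)).sheafFiber (A := Type (u + 1)) := by
  let Φ := Scheme.pointSmallEtale ξ
  let Ψ := Scheme.pointSmallEtale (ξ ≫ f)
  let α := fiberIso f ξ
  have hsmall : InitiallySmall.{u} (EtCoh.bc f ⋙ Φ.fiber).Elements :=
    initiallySmall_of_initial_of_initiallySmall (elementsEquivOfIso α).inverse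
  let Φ' : Y.smallEtaleTopology.Point := Φ.comap (EtCoh.bc f) (EtCoh.coverPreserving_bc f)
  let e : Φ' ≅ Ψ := ⟨⟨α.inv⟩, ⟨α.hom⟩, by ext1; exact α.hom_inv_id, by ext1; exact α.inv_hom_id⟩
  let e2 : Ψ.sheafFiber (A := Type (u+1)) ≅ Φ'.sheafFiber :=
    ⟨e.hom.sheafFiber, e.inv.sheafFiber,
      by rw [← GrothendieckTopology.Point.Hom.sheafFiber_comp, e.inv_hom_id,
        GrothendieckTopology.Point.Hom.sheafFiber_id],
      by rw [← GrothendieckTopology.Point.Hom.sheafFiber_comp, e.hom_inv_id,
        GrothendieckTopology.Point.Hom.sheafFiber_id]⟩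
  let e3 := GrothendieckTopology.Point.sheafFiberComapIso Φ (EtCoh.bc f)
    (EtCoh.coverPreserving_bc f) (Type (u+1))
  exact e3.symm ≪≫ e2.symm

section Hensel

variable (R : Type u) [CommRing R] [HenselianLocalRing R] [IsSepClosed (IsLocalRing.ResidueField R)]

/-- On the spectrum of a strictly henselian local ring, global sections of sheaves of sets are the stalk at the closed
geometric point, naturally. -/
noncomputable def sectionsIsoFiber :
    (sheafSections (Spec (CommRingCat.of R)).smallEtaleTopology (Type (u + 1))).obj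
        (op (EtCoh.top (Spec (CommRingCat.of R)))) ≅
      (Scheme.pointSmallEtale (Spec.map (CommRingCat.ofHom (IsLocalRing.residue R)))).sheafFiber
        (A := Type (u + 1)) := by
  let Φ := Scheme.pointSmallEtale (Spec.map (CommRingCat.ofHom (IsLocalRing.residue R)))
  let τ : (sheafSections (Spec (CommRingCat.of R)).smallEtaleTopology (Type (u + 1))).obj
        (op (EtCoh.top (Spec (CommRingCat.of R)))) ⟶ Φ.sheafFiber (A := Type (u + 1)) :=
    Functor.whiskerLeft (sheafToPresheaf _ _)
      (Φ.toPresheafFiberNatTrans (EtCoh.top (Spec (CommRingCat.of R))) (HenselSite.wtop R))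
  haveI : ∀ F, IsIso (τ.app F) := fun F => by
    rw [isIso_iff_bijective]
    haveI : PreservesFilteredColimitsOfSize.{u, u} (forget (Type (u + 1))) :=
      preservesFilteredColimitsOfSize_of_univLE.{u + 1, u + 1, u, u} _
    exact HenselSite.toPresheafFiber_bijective _ _ (HenselSite.exists_section R) F.obj
  haveI : IsIso τ := NatIso.isIso_of_isIso_app _
  exact asIso τ

end Hensel

end Groth.Agent.Lib.Helper15.HenselStalkSet
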