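import Mathlib
import Groth.Agent.Lib.Helper22.PSDiv

/-!
# Helpers for the HilbZeta rows S15148 / S15149 (helper15)

Colength bookkeeping for ideals of a subalgebra `R` of `∏ k⟦X⟧`, multiplication by the
"uniformizer" `ξ = Pi.mulSingle j X`.
-/

set_option autoImplicit false
universe u

namespace Groth.Agent.Lib.Helper15.HilbZ

open PowerSeries
open scoped Pointwise

section general
variable {k : Type*} [Field k] {V M : Type*} [AddCommGroup V] [Module k V]
  [AddCommGroup M] [Module k M]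

theorem mapQ_injective (ι : M →ₗ[k] V) (hι : Function.Injective ι) (N : Submodule k M) :
    Function.Injective (N.mapQ (N.map ι) ι (Submodule.le_comap_map ι N)) := by
  rw [injective_iff_map_eq_zero]
  intro x hx
  obtain ⟨m, rfl⟩ := Submodule.Quotient.mk_surjective N x
  rw [Submodule.mapQ_apply, Submodule.Quotient.mk_eq_zero] at hx
  rw [Submodule.Quotient.mk_eq_zero]
  obtain ⟨n, hn, hnm⟩ := hx
  rwa [← hι hnm]

theorem finite_of_map (ι : M →ₗ[k] V) (hι : Function.Injective ι) (N : Submodule k M)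
    [Module.Finite k (V ⧸ N.map ι)] : Module.Finite k (M ⧸ N) :=
  FiniteDimensional.of_injective _ (mapQ_injective ι hι N)

theorem finrank_map (ι : M →ₗ[k] V) (hι : Function.Injective ι) (N : Submodule k M)
    [Module.Finite k (V ⧸ LinearMap.range ι)] [Module.Finite k (M ⧸ N)] :
    Module.Finite k (V ⧸ N.map ι) ∧
    Module.finrank k (V ⧸ N.map ι) =
      Module.finrank k (M ⧸ N) + Module.finrank k (V ⧸ LinearMap.range ι) := by
  have hfinj := mapQ_injective ι hι N
  obtain ⟨f, hf⟩ : ∃ f : (M ⧸ N) →ₗ[k] (V ⧸ N.map ι),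
      f = N.mapQ (N.map ι) ι (Submodule.le_comap_map ι N) := ⟨_, rfl⟩
  rw [← hf] at hfinj
  have hle : N.map ι ≤ LinearMap.ker (LinearMap.range ι).mkQ := by
    rw [Submodule.ker_mkQ]; exact LinearMap.map_le_range
  obtain ⟨g, hg⟩ : ∃ g : (V ⧸ N.map ι) →ₗ[k] (V ⧸ LinearMap.range ι),
      g = (N.map ι).liftQ (LinearMap.range ι).mkQ hle := ⟨_, rfl⟩
  have hgmk : ∀ v : V, g (Submodule.Quotient.mk v) = Submodule.Quotient.mk v := by
    intro v; rw [hg, Submodule.liftQ_apply]; rfl
  have hfmk : ∀ m : M, f (Submodule.Quotient.mk m) = Submodule.Quotient.mk (ι m) := by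
    intro m; rw [hf, Submodule.mapQ_apply]
  have hgsurj : Function.Surjective g := by
    intro y
    obtain ⟨v, rfl⟩ := Submodule.Quotient.mk_surjective _ y
    exact ⟨Submodule.Quotient.mk v, hgmk v⟩
  have hker : LinearMap.ker g = LinearMap.range f := by
    ext x
    obtain ⟨v, rfl⟩ := Submodule.Quotient.mk_surjective _ x
    rw [LinearMap.mem_ker, hgmk, Submodule.Quotient.mk_eq_zero, LinearMap.mem_range]
    constructor
    · rintro ⟨m, rfl⟩
      exact ⟨Submodule.Quotient.mk m, hfmk m⟩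
    · rintro ⟨y, hy⟩
      obtain ⟨m, rfl⟩ := Submodule.Quotient.mk_surjective _ y
      rw [hfmk, Submodule.Quotient.eq] at hy
      have h1 : ι m - v ∈ LinearMap.range ι := LinearMap.map_le_range hy
      have h2 : ι m ∈ LinearMap.range ι := LinearMap.mem_range_self ι m
      have h3 := Submodule.sub_mem _ h2 h1
      rwa [sub_sub_cancel] at h3
  have hfin : Module.Finite k (V ⧸ N.map ι) := by
    rw [Module.finite_def]
    apply Submodule.fg_of_fg_map_of_fg_inf_ker g
    · rw [Submodule.map_top, LinearMap.range_eq_top.2 hgsurj]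
      exact Module.Finite.fg_top
    · rw [top_inf_eq, hker, ← Submodule.map_top]
      exact Submodule.FG.map f Module.Finite.fg_top
  refine ⟨hfin, ?_⟩
  haveI := hfin
  have h1 := LinearMap.finrank_range_add_finrank_ker g
  rw [LinearMap.range_eq_top.2 hgsurj, finrank_top, hker,
    LinearMap.finrank_range_of_inj hfinj] at h1
  omega

theorem finrank_quot_le {U W : Submodule k V} (hUW : U ≤ W)
    [Module.Finite k (V ⧸ U)] [Module.Finite k (V ⧸ W)] :
    Module.finrank k (V ⧸ W) ≤ Module.finrank k (V ⧸ U) ∧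
    (U ≠ W → Module.finrank k (V ⧸ W) < Module.finrank k (V ⧸ U)) := by
  obtain ⟨N, hN⟩ : ∃ N : Submodule k ↥W, N = U.comap W.subtype := ⟨_, rfl⟩
  have hmap : N.map W.subtype = U := by
    rw [hN, Submodule.map_comap_subtype, inf_eq_right.2 hUW]
  have hrange : LinearMap.range W.subtype = W := Submodule.range_subtype W
  haveI : Module.Finite k (V ⧸ N.map W.subtype) := by rw [hmap]; infer_instance
  haveI : Module.Finite k (V ⧸ LinearMap.range W.subtype) := by rw [hrange]; infer_instance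
  haveI := finite_of_map W.subtype W.injective_subtype N
  have h := (finrank_map W.subtype W.injective_subtype N).2
  rw [hmap, hrange] at h
  refine ⟨by omega, fun hne => ?_⟩
  have hNtop : N ≠ ⊤ := by
    intro htop
    apply hne
    rw [← hmap, htop, Submodule.map_top, hrange]
  haveI : Nontrivial (↥W ⧸ N) := Submodule.Quotient.nontrivial_iff.2 hNtop
  have hpos : 0 < Module.finrank k (↥W ⧸ N) := Module.finrank_pos
  omega

end general

section ps
variable {k : Type u} [Field k] {s : ℕ}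

theorem mul_xi_injective (j : Fin s) :
    Function.Injective (LinearMap.mulLeft k
      (Pi.mulSingle j (X : PowerSeries k) : Fin s → PowerSeries k)) := by
  intro f g hfg
  rw [LinearMap.mulLeft_apply, LinearMap.mulLeft_apply] at hfg
  funext i
  have h := congrFun hfg i
  rw [Pi.mul_apply, Pi.mul_apply] at h
  by_cases hi : i = j
  · subst hi
    rw [Pi.mulSingle_eq_same] at h
    exact mul_left_cancel₀ PowerSeries.X_ne_zero h
  · rw [Pi.mulSingle_eq_of_ne hi, one_mul, one_mul] at h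
    exact h

theorem range_mul_xi (j : Fin s) :
    LinearMap.range (LinearMap.mulLeft k
      (Pi.mulSingle j (X : PowerSeries k) : Fin s → PowerSeries k)) =
    LinearMap.ker ((PowerSeries.coeff 0 : PowerSeries k →ₗ[k] k).comp
      (LinearMap.proj j : (Fin s → PowerSeries k) →ₗ[k] PowerSeries k)) := by
  ext f
  rw [LinearMap.mem_range, LinearMap.mem_ker, LinearMap.comp_apply, LinearMap.proj_apply]
  constructor
  · rintro ⟨g, rfl⟩
    rw [LinearMap.mulLeft_apply, Pi.mul_apply, Pi.mulSingle_eq_same, PowerSeries.coeff_zero_X_mul]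
  · intro h
    rw [PowerSeries.coeff_zero_eq_constantCoeff_apply, ← PowerSeries.X_dvd_iff] at h
    obtain ⟨q, hq⟩ := h
    refine ⟨Function.update f j q, ?_⟩
    rw [LinearMap.mulLeft_apply]
    funext i
    by_cases hi : i = j
    · subst hi; rw [Pi.mul_apply, Pi.mulSingle_eq_same, Function.update_self, hq]
    · rw [Pi.mul_apply, Pi.mulSingle_eq_of_ne hi, Function.update_of_ne hi, one_mul]

theorem finrank_quot_xi (j : Fin s) :
    Module.Finite k ((Fin s → PowerSeries k) ⧸
      LinearMap.range (LinearMap.mulLeft k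
        (Pi.mulSingle j (X : PowerSeries k) : Fin s → PowerSeries k))) ∧
    Module.finrank k ((Fin s → PowerSeries k) ⧸
      LinearMap.range (LinearMap.mulLeft k
        (Pi.mulSingle j (X : PowerSeries k) : Fin s → PowerSeries k))) = 1 := by
  rw [range_mul_xi]
  have hsurj : Function.Surjective ((PowerSeries.coeff 0 : PowerSeries k →ₗ[k] k).comp
      (LinearMap.proj j : (Fin s → PowerSeries k) →ₗ[k] PowerSeries k)) := by
    intro x
    refine ⟨fun _ => PowerSeries.C x, ?_⟩
    rw [LinearMap.comp_apply, LinearMap.proj_apply, PowerSeries.coeff_zero_C]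
  obtain ⟨e, -⟩ : ∃ e, e = LinearMap.quotKerEquivOfSurjective _ hsurj := ⟨_, rfl⟩
  exact ⟨Module.Finite.equiv e.symm, by rw [LinearEquiv.finrank_eq e, Module.finrank_self]⟩

theorem finrank_quot_map_xi (j : Fin s) (U : Submodule k (Fin s → PowerSeries k))
    [Module.Finite k ((Fin s → PowerSeries k) ⧸ U)] :
    Module.Finite k ((Fin s → PowerSeries k) ⧸ U.map (LinearMap.mulLeft k
      (Pi.mulSingle j (X : PowerSeries k) : Fin s → PowerSeries k))) ∧
    Module.finrank k ((Fin s → PowerSeries k) ⧸ U.map (LinearMap.mulLeft k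
      (Pi.mulSingle j (X : PowerSeries k) : Fin s → PowerSeries k))) =
      Module.finrank k ((Fin s → PowerSeries k) ⧸ U) + 1 := by
  haveI := (finrank_quot_xi (k := k) j).1
  have h := finrank_map (LinearMap.mulLeft k
    (Pi.mulSingle j (X : PowerSeries k) : Fin s → PowerSeries k)) (mul_xi_injective j) U
  rw [(finrank_quot_xi j).2] at h
  exact h

variable (R : Subalgebra k (Fin s → PowerSeries k))

theorem range_val : LinearMap.range R.val.toLinearMap = Subalgebra.toSubmodule R := by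
  ext x
  rw [LinearMap.mem_range, Subalgebra.mem_toSubmodule]
  constructor
  · rintro ⟨y, rfl⟩; exact y.2
  · intro h; exact ⟨⟨x, h⟩, rfl⟩

/-- image of an ideal `I` of `R` in `V = ∏ k⟦X⟧`, as a `k`-submodule -/
noncomputable abbrev img (I : Ideal ↥R) : Submodule k (Fin s → PowerSeries k) :=
  (I.restrictScalars k).map R.val.toLinearMap

theorem mem_img (I : Ideal ↥R) (x : Fin s → PowerSeries k) :
    x ∈ img R I ↔ ∃ f ∈ I, (f : Fin s → PowerSeries k) = x := by
  rw [Submodule.mem_map]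
  constructor
  · rintro ⟨f, hf, rfl⟩; exact ⟨f, hf, rfl⟩
  · rintro ⟨f, hf, rfl⟩; exact ⟨f, hf, rfl⟩

theorem finrank_img
    (hfin : Module.Finite k ((Fin s → PowerSeries k) ⧸ Subalgebra.toSubmodule R))
    (I : Ideal ↥R) [Module.Finite k (↥R ⧸ I)] :
    Module.Finite k ((Fin s → PowerSeries k) ⧸ img R I) ∧
    Module.finrank k ((Fin s → PowerSeries k) ⧸ img R I) =
      Module.finrank k (↥R ⧸ I) +
        Module.finrank k ((Fin s → PowerSeries k) ⧸ Subalgebra.toSubmodule R) := by
  haveI : Module.Finite k ((Fin s → PowerSeries k) ⧸ LinearMap.range R.val.toLinearMap) := by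
    rw [range_val]; exact hfin
  haveI : Module.Finite k (↥R ⧸ I.restrictScalars k) :=
    Module.Finite.equiv (Submodule.Quotient.restrictScalarsEquiv k I).symm
  have h := finrank_map R.val.toLinearMap Subtype.val_injective (I.restrictScalars k)
  rw [range_val, LinearEquiv.finrank_eq (Submodule.Quotient.restrictScalarsEquiv k I)] at h
  exact h

theorem finite_of_img (I : Ideal ↥R)
    [Module.Finite k ((Fin s → PowerSeries k) ⧸ img R I)] :
    Module.Finite k (↥R ⧸ I) := by
  haveI : Module.Finite k (↥R ⧸ I.restrictScalars k) :=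
    finite_of_map R.val.toLinearMap Subtype.val_injective (I.restrictScalars k)
  exact Module.Finite.equiv (Submodule.Quotient.restrictScalarsEquiv k I)

theorem img_eq_map (j : Fin s) (I J : Ideal ↥R)
    (hJI : (Subtype.val '' (J : Set ↥R)) =
      (fun f => Pi.mulSingle j PowerSeries.X * f) '' (Subtype.val '' (I : Set ↥R))) :
    img R J = (img R I).map (LinearMap.mulLeft k
      (Pi.mulSingle j (X : PowerSeries k) : Fin s → PowerSeries k)) := by
  ext x
  rw [mem_img, Submodule.mem_map]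
  have h := Set.ext_iff.1 hJI x
  constructor
  · rintro ⟨r, hr, rfl⟩
    obtain ⟨y, ⟨f, hf, rfl⟩, hy⟩ := h.1 ⟨r, hr, rfl⟩
    exact ⟨(f : Fin s → PowerSeries k), (mem_img R I _).2 ⟨f, hf, rfl⟩, hy⟩
  · rintro ⟨y, hy, rfl⟩
    obtain ⟨f, hf, rfl⟩ := (mem_img R I y).1 hy
    obtain ⟨r, hr, hrx⟩ := h.2 ⟨(f : Fin s → PowerSeries k), ⟨f, hf, rfl⟩, rfl⟩
    exact ⟨r, hr, hrx⟩

theorem map_eval_eq (j : Fin s) (I J : Ideal ↥R)
    (hJI : (Subtype.val '' (J : Set ↥R)) =
      (fun f => Pi.mulSingle j PowerSeries.X * f) '' (Subtype.val '' (I : Set ↥R)))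
    (i : Fin s) :
    Ideal.map ((Pi.evalAlgHom k (fun _ : Fin s => PowerSeries k) i).comp R.val) J =
    Ideal.span {(Pi.mulSingle j (X : PowerSeries k) : Fin s → PowerSeries k) i} *
      Ideal.map ((Pi.evalAlgHom k (fun _ : Fin s => PowerSeries k) i).comp R.val) I := by
  have himg : (⇑((Pi.evalAlgHom k (fun _ : Fin s => PowerSeries k) i).comp R.val) ''
        (J : Set ↥R)) =
      ({(Pi.mulSingle j (X : PowerSeries k) : Fin s → PowerSeries k) i} :
          Set (PowerSeries k)) *
        (⇑((Pi.evalAlgHom k (fun _ : Fin s => PowerSeries k) i).comp R.val) ''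
          (I : Set ↥R)) := by
    rw [Set.singleton_mul]
    ext x
    constructor
    · rintro ⟨r, hr, rfl⟩
      obtain ⟨y, ⟨f, hf, rfl⟩, hy⟩ :=
        (Set.ext_iff.1 hJI (r : Fin s → PowerSeries k)).1 ⟨r, hr, rfl⟩
      refine ⟨((Pi.evalAlgHom k (fun _ : Fin s => PowerSeries k) i).comp R.val) f,
        ⟨f, hf, rfl⟩, ?_⟩
      show (Pi.mulSingle j (X : PowerSeries k) : Fin s → PowerSeries k) i *
        (f : Fin s → PowerSeries k) i = (r : Fin s → PowerSeries k) i
      rw [← hy]
      rfl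
    · rintro ⟨y, ⟨f, hf, rfl⟩, rfl⟩
      obtain ⟨r, hr, hrx⟩ :=
        (Set.ext_iff.1 hJI _).2 ⟨(f : Fin s → PowerSeries k), ⟨f, hf, rfl⟩, rfl⟩
      refine ⟨r, hr, ?_⟩
      show (r : Fin s → PowerSeries k) i =
        (Pi.mulSingle j (X : PowerSeries k) : Fin s → PowerSeries k) i *
          (f : Fin s → PowerSeries k) i
      rw [hrx]
      rfl
  show Ideal.span (⇑((Pi.evalAlgHom k (fun _ : Fin s => PowerSeries k) i).comp R.val) ''
        (J : Set ↥R)) = Ideal.span ({(Pi.mulSingle j (X : PowerSeries k) :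
          Fin s → PowerSeries k) i} : Set (PowerSeries k)) *
      Ideal.span (⇑((Pi.evalAlgHom k (fun _ : Fin s => PowerSeries k) i).comp R.val) ''
          (I : Set ↥R))
  rw [himg, Ideal.span_mul_span']

/-- `ξ·I` as an ideal of `R`. -/
def mulIdeal (j : Fin s) (I : Ideal ↥R) : Ideal ↥R where
  carrier := {r | ∃ f ∈ I, (r : Fin s → PowerSeries k) =
    Pi.mulSingle j (X : PowerSeries k) * (f : Fin s → PowerSeries k)}
  add_mem' := by
    rintro r r' ⟨f, hf, h⟩ ⟨f', hf', h'⟩
    refine ⟨f + f', I.add_mem hf hf', ?_⟩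
    rw [Subalgebra.coe_add, Subalgebra.coe_add, h, h', mul_add]
  zero_mem' := ⟨0, I.zero_mem, by rw [Subalgebra.coe_zero, mul_zero]⟩
  smul_mem' := by
    rintro t r ⟨f, hf, h⟩
    refine ⟨t * f, I.mul_mem_left t hf, ?_⟩
    rw [smul_eq_mul, Subalgebra.coe_mul, Subalgebra.coe_mul, h]
    ring

/-- `ξ⁻¹·J ∩ R` as an ideal of `R`. -/
def divIdeal (j : Fin s) (J : Ideal ↥R) : Ideal ↥R where
  carrier := {f | ∃ h ∈ J, (h : Fin s → PowerSeries k) =
    Pi.mulSingle j (X : PowerSeries k) * (f : Fin s → PowerSeries k)}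
  add_mem' := by
    rintro f f' ⟨h, hh, e⟩ ⟨h', hh', e'⟩
    refine ⟨h + h', J.add_mem hh hh', ?_⟩
    rw [Subalgebra.coe_add, Subalgebra.coe_add, e, e', mul_add]
  zero_mem' := ⟨0, J.zero_mem, by rw [Subalgebra.coe_zero, mul_zero]⟩
  smul_mem' := by
    rintro t f ⟨h, hh, e⟩
    refine ⟨t * h, J.mul_mem_left t hh, ?_⟩
    rw [smul_eq_mul, Subalgebra.coe_mul, Subalgebra.coe_mul, e]
    ring

theorem single_mem (c : Fin s → ℕ)
    (hc : ∀ f : Fin s → PowerSeries k,
      (∀ g : Fin s → PowerSeries k, g * f ∈ R) ↔ ∀ i, ((c i : ℕ) : ℕ∞) ≤ (f i).order)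
    (j : Fin s) (t : PowerSeries k) (ht : (X : PowerSeries k) ^ c j ∣ t) :
    (Pi.single j t : Fin s → PowerSeries k) ∈ R := by
  have h := (hc (Pi.single j t)).2 (fun i => by
    by_cases hi : i = j
    · subst hi; rw [Pi.single_eq_same]
      exact Groth.Agent.Lib.Helper22.PSDiv.le_order_of_X_pow_dvd _ _ ht
    · rw [Pi.single_eq_of_ne hi, PowerSeries.order_zero]; exact le_top) 1
  rwa [one_mul] at h

theorem mul_xi_eq (j : Fin s) (f : Fin s → PowerSeries k) :
    Pi.mulSingle j (X : PowerSeries k) * f = f + Pi.single j ((X - 1) * f j) := by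
  funext i
  by_cases hi : i = j
  · subst hi
    rw [Pi.mul_apply, Pi.add_apply, Pi.mulSingle_eq_same, Pi.single_eq_same]; ring
  · rw [Pi.mul_apply, Pi.add_apply, Pi.mulSingle_eq_of_ne hi, Pi.single_eq_of_ne hi, one_mul,
      add_zero]

theorem mulIdeal_spec (c : Fin s → ℕ)
    (hc : ∀ f : Fin s → PowerSeries k,
      (∀ g : Fin s → PowerSeries k, g * f ∈ R) ↔ ∀ i, ((c i : ℕ) : ℕ∞) ≤ (f i).order)
    (j : Fin s) (a : Fin s → ℕ) (hj : c j ≤ a j) (I : Ideal ↥R)
    (haj : Ideal.map ((Pi.evalAlgHom k (fun _ : Fin s => PowerSeries k) j).comp R.val) I =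
      Ideal.span {PowerSeries.X ^ (a j)}) :
    (Subtype.val '' (mulIdeal R j I : Set ↥R)) =
      (fun f => Pi.mulSingle j PowerSeries.X * f) '' (Subtype.val '' (I : Set ↥R)) := by
  ext x
  constructor
  · rintro ⟨r, ⟨f, hf, hrf⟩, rfl⟩
    exact ⟨(f : Fin s → PowerSeries k), ⟨f, hf, rfl⟩, hrf.symm⟩
  · rintro ⟨y, ⟨f, hf, rfl⟩, rfl⟩
    have hdvd : (X : PowerSeries k) ^ a j ∣ (f : Fin s → PowerSeries k) j := by
      have h1 : ((Pi.evalAlgHom k (fun _ : Fin s => PowerSeries k) j).comp R.val) f ∈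
          Ideal.map ((Pi.evalAlgHom k (fun _ : Fin s => PowerSeries k) j).comp R.val) I :=
        Ideal.mem_map_of_mem _ hf
      rw [haj, Ideal.mem_span_singleton] at h1
      exact h1
    have hmem : Pi.mulSingle j (X : PowerSeries k) * (f : Fin s → PowerSeries k) ∈ R := by
      rw [mul_xi_eq]
      refine R.add_mem f.2 (single_mem R c hc j _ ?_)
      exact dvd_trans (pow_dvd_pow _ hj) (Dvd.dvd.mul_left hdvd _)
    exact ⟨⟨_, hmem⟩, ⟨f, hf, rfl⟩, rfl⟩

theorem divIdeal_spec (c : Fin s → ℕ)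
    (hc : ∀ f : Fin s → PowerSeries k,
      (∀ g : Fin s → PowerSeries k, g * f ∈ R) ↔ ∀ i, ((c i : ℕ) : ℕ∞) ≤ (f i).order)
    (j : Fin s) (a : Fin s → ℕ) (hj : c j ≤ a j) (J : Ideal ↥R)
    (haj : Ideal.map ((Pi.evalAlgHom k (fun _ : Fin s => PowerSeries k) j).comp R.val) J =
      Ideal.span {PowerSeries.X ^ (a j + 1)}) :
    (Subtype.val '' (J : Set ↥R)) =
      (fun f => Pi.mulSingle j PowerSeries.X * f) ''
        (Subtype.val '' (divIdeal R j J : Set ↥R)) := by
  ext x
  constructor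
  · rintro ⟨h, hh, rfl⟩
    have hdvd : (X : PowerSeries k) ^ (a j + 1) ∣ (h : Fin s → PowerSeries k) j := by
      have h1 : ((Pi.evalAlgHom k (fun _ : Fin s => PowerSeries k) j).comp R.val) h ∈
          Ideal.map ((Pi.evalAlgHom k (fun _ : Fin s => PowerSeries k) j).comp R.val) J :=
        Ideal.mem_map_of_mem _ hh
      rw [haj, Ideal.mem_span_singleton] at h1
      exact h1
    obtain ⟨g', hg'⟩ := hdvd
    have hmem : (h : Fin s → PowerSeries k) +
        (Pi.single j (X ^ a j * g' - (h : Fin s → PowerSeries k) j) :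
          Fin s → PowerSeries k) ∈ R := by
      refine R.add_mem h.2 (single_mem R c hc j _ ?_)
      rw [hg']
      refine dvd_trans (pow_dvd_pow _ hj) ⟨g' - X * g', ?_⟩
      ring
    have hmul : Pi.mulSingle j (X : PowerSeries k) * ((h : Fin s → PowerSeries k) +
        (Pi.single j (X ^ a j * g' - (h : Fin s → PowerSeries k) j) :
          Fin s → PowerSeries k)) =
        (h : Fin s → PowerSeries k) := by
      funext i
      by_cases hi : i = j
      · subst hi
        rw [Pi.mul_apply, Pi.add_apply, Pi.mulSingle_eq_same, Pi.single_eq_same,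
          add_sub_cancel, hg']
        ring
      · rw [Pi.mul_apply, Pi.add_apply, Pi.mulSingle_eq_of_ne hi, Pi.single_eq_of_ne hi,
          one_mul, add_zero]
    exact ⟨_, ⟨⟨_, hmem⟩, ⟨h, hh, hmul.symm⟩, rfl⟩, hmul⟩
  · rintro ⟨y, ⟨f, ⟨h, hh, hhf⟩, rfl⟩, rfl⟩
    exact ⟨h, hh, hhf⟩

theorem colength_mul
    (hfin : Module.Finite k ((Fin s → PowerSeries k) ⧸ Subalgebra.toSubmodule R))
    (j : Fin s) (I J : Ideal ↥R)
    (hJI : (Subtype.val '' (J : Set ↥R)) =
      (fun f => Pi.mulSingle j PowerSeries.X * f) '' (Subtype.val '' (I : Set ↥R)))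
    [Module.Finite k (↥R ⧸ I)] :
    Module.Finite k (↥R ⧸ J) ∧
      Module.finrank k (↥R ⧸ J) = Module.finrank k (↥R ⧸ I) + 1 := by
  obtain ⟨h1, h2⟩ := finrank_img R hfin I
  haveI := h1
  obtain ⟨h3, h4⟩ := finrank_quot_map_xi j (img R I)
  rw [← img_eq_map R j I J hJI] at h3 h4
  haveI := h3
  haveI hJfin := finite_of_img R J
  refine ⟨hJfin, ?_⟩
  have h5 := (finrank_img R hfin J).2
  omega

theorem colength_div
    (hfin : Module.Finite k ((Fin s → PowerSeries k) ⧸ Subalgebra.toSubmodule R))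
    (j : Fin s) (I J : Ideal ↥R)
    (hJI : (Subtype.val '' (J : Set ↥R)) =
      (fun f => Pi.mulSingle j PowerSeries.X * f) '' (Subtype.val '' (I : Set ↥R)))
    [Module.Finite k (↥R ⧸ J)] :
    Module.Finite k (↥R ⧸ I) := by
  obtain ⟨h1, h2⟩ := finrank_img R hfin J
  rw [img_eq_map R j I J hJI] at h1
  haveI := h1
  haveI := finite_of_map (LinearMap.mulLeft k
    (Pi.mulSingle j (X : PowerSeries k) : Fin s → PowerSeries k)) (mul_xi_injective j) (img R I)
  exact finite_of_img R I

/-- truncation map `V → ∏ k^{b_i}` -/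
noncomputable def trunc (b : Fin s → ℕ) :
    (Fin s → PowerSeries k) →ₗ[k] ((i : Fin s) → Fin (b i) → k) :=
  LinearMap.pi (fun i => LinearMap.pi (fun m : Fin (b i) =>
    (PowerSeries.coeff (m : ℕ) : PowerSeries k →ₗ[k] k).comp
      (LinearMap.proj i : (Fin s → PowerSeries k) →ₗ[k] PowerSeries k)))

theorem trunc_apply (b : Fin s → ℕ) (f : Fin s → PowerSeries k) (i : Fin s) (m : Fin (b i)) :
    trunc b f i m = PowerSeries.coeff (m : ℕ) (f i) := rfl

theorem trunc_surjective (b : Fin s → ℕ) : Function.Surjective (trunc (k := k) b) := by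
  intro y
  refine ⟨fun i => PowerSeries.mk (fun n => if h : n < b i then y i ⟨n, h⟩ else 0), ?_⟩
  funext i m
  rw [trunc_apply, PowerSeries.coeff_mk, dif_pos m.2]

theorem mem_ker_trunc (b : Fin s → ℕ) (f : Fin s → PowerSeries k) :
    f ∈ LinearMap.ker (trunc (k := k) b) ↔ ∀ i, ((b i : ℕ) : ℕ∞) ≤ (f i).order := by
  rw [LinearMap.mem_ker]
  constructor
  · intro h i
    apply PowerSeries.nat_le_order
    intro m hm
    have := congrFun (congrFun h i) ⟨m, hm⟩
    exact this
  · intro h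
    funext i m
    rw [trunc_apply]
    exact PowerSeries.coeff_of_lt_order _ (lt_of_lt_of_le (by exact_mod_cast m.2) (h i))

theorem finrank_quot_ker_trunc (b : Fin s → ℕ) :
    Module.Finite k ((Fin s → PowerSeries k) ⧸ LinearMap.ker (trunc (k := k) b)) ∧
    Module.finrank k ((Fin s → PowerSeries k) ⧸ LinearMap.ker (trunc (k := k) b)) =
      ∑ i, b i := by
  obtain ⟨e, -⟩ : ∃ e, e = LinearMap.quotKerEquivOfSurjective _ (trunc_surjective (k := k) b) :=
    ⟨_, rfl⟩
  refine ⟨Module.Finite.equiv e.symm, ?_⟩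
  rw [LinearEquiv.finrank_eq e, Module.finrank_pi_fintype]
  simp only [Module.finrank_fin_fun]

end ps

end Groth.Agent.Lib.Helper15.HilbZ
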