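import Groth.Agent.Lib.Helper15.HpullTrans
import Groth.Agent.Lib.Helper15.BcVcompSite
import Groth.Prelude.Def_EtLim

/-!
# Helper15: compatibility of pullback on etale cohomology with the degree-zero base change map
(S14389)
-/

set_option autoImplicit false
set_option backward.isDefEq.respectTransparency false
universe u
open CategoryTheory CategoryTheory.Limits AlgebraicGeometry Opposite

namespace Groth.Agent.Lib.Helper15.HpullBC

open EtCore Groth.Agent.Lib.Helper2.EtMV Groth.Agent.Lib.Helper15.HpullTrans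
  Groth.Agent.Lib.Helper15.FinitePushBC Groth.Agent.Lib.Helper15.BcVcomp

section Nat

variable {Y Z : Scheme.{u}} (t : Y ⟶ Z) [PreservesFiniteLimits (EtCoh.pull t)]

lemma Hpull_natural {G G' : EtCoh.Ab Z} (α : G ⟶ G') (p : ℕ)
    (e : Abelian.Ext.{u + 1} (EtCoh.const Z ℤ) G p) :
    Hpull t G' p (e.comp (Abelian.Ext.mk₀ α) (add_zero p)) =
      (Hpull t G p e).comp (Abelian.Ext.mk₀ ((EtCoh.pull t).map α)) (add_zero p) := by
  rw [Hpull_apply, Hpull_apply, Abelian.Ext.mapExactFunctor_comp, Abelian.Ext.mapExactFunctor_mk₀,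
    Abelian.Ext.comp_assoc_of_third_deg_zero]

end Nat

section Mate

lemma pullbackCongr_rfl_inv_app {A B : Scheme.{u}} (a : A ⟶ B) (V : B.Etale) :
    (MorphismProperty.Over.pullbackCongr (P := EtCoh.etaleMP) (Q := ⊤) (rfl : a = a)).inv.app V =
      𝟙 _ := by
  apply MorphismProperty.Over.Hom.ext
  apply hom_ext_bc a V
  · exact (congr_inv_left_fst (rfl : a = a) V).trans (Category.id_comp _).symm
  · exact (MorphismProperty.Over.w _).trans (Category.id_comp _).symm

lemma pushCongr_rfl_app {A B : Scheme.{u}} (a : A ⟶ B) (M : EtCoh.Ab A) :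
    (EtCoh.pushCongr (rfl : a = a)).hom.app M = 𝟙 _ := by
  apply Sheaf.hom_ext
  apply NatTrans.ext
  funext V
  obtain ⟨V⟩ := V
  show M.obj.map ((MorphismProperty.Over.pullbackCongr (P := EtCoh.etaleMP) (Q := ⊤)
    (rfl : a = a)).inv.app V).op = 𝟙 _
  rw [pullbackCongr_rfl_inv_app, op_id, CategoryTheory.Functor.map_id]

lemma unit_pullCongr {A B : Scheme.{u}} {a b : A ⟶ B} (h : a = b) (h' : b = a) (G : EtCoh.Ab B)
    {M : EtCoh.Ab A} (φ : (EtCoh.pull b).obj G ⟶ M) :
    (EtCoh.pullPushAdj a).unit.app G ≫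
        (EtCoh.push a).map ((EtCore.pullCongr h').inv.app G ≫ φ) ≫
          (EtCoh.pushCongr h).hom.app M =
      (EtCoh.pullPushAdj b).unit.app G ≫ (EtCoh.push b).map φ := by
  subst h
  have e1 : (EtCore.pullCongr h').inv.app G = 𝟙 _ := by
    simp [EtCore.pullCongr]
  rw [e1, Category.id_comp, pushCongr_rfl_app, Category.comp_id]

lemma unit_pullComp {A B C : Scheme.{u}} (a : A ⟶ B) (b : B ⟶ C) (G : EtCoh.Ab C)
    {M : EtCoh.Ab A} (φ : (EtCoh.pull a).obj ((EtCoh.pull b).obj G) ⟶ M) :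
    (EtCoh.pullPushAdj (a ≫ b)).unit.app G ≫
        (EtCoh.push (a ≫ b)).map ((EtCore.pullComp a b).hom.app G ≫ φ) =
      (EtCoh.pullPushAdj b).unit.app G ≫
        (EtCoh.push b).map ((EtCoh.pullPushAdj a).unit.app ((EtCoh.pull b).obj G) ≫
          (EtCoh.push a).map φ) ≫ (EtCoh.pushComp b a).hom.app M := by
  have h := unit_comp b a G
  have h3 : (EtCore.pullComp a b).inv.app G ≫ (EtCore.pullComp a b).hom.app G =
      𝟙 ((EtCoh.pull a).obj ((EtCoh.pull b).obj G)) :=
    Iso.inv_hom_id_app _ _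
  have n := (EtCoh.pushComp b a).hom.naturality φ
  simp only [Functor.comp_map] at n
  rw [h]
  simp only [Category.assoc, Functor.map_comp]
  rw [← (EtCoh.push (a ≫ b)).map_comp_assoc, h3, CategoryTheory.Functor.map_id, Category.id_comp,
    ← n]

variable {X Y X' Y' : Scheme.{u}} (f : X ⟶ Y) (g : Y' ⟶ Y) (f' : X' ⟶ Y') (g' : X' ⟶ X)
  (w : g' ≫ f = f' ≫ g) (F : EtCoh.Ab X)

lemma mate_eq :
    (((EtCore.pullComp g' f).symm ≪≫ EtCore.pullCongr rfl).app ((EtCoh.push f).obj F)).inv ≫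
        (EtCoh.pull g').map ((EtCoh.pullPushAdj f).counit.app F) =
      (((EtCore.pullComp f' g).symm ≪≫ EtCore.pullCongr w.symm).app
          ((EtCoh.push f).obj F)).inv ≫
        (EtCoh.pull f').map (EtCoh.baseChange0 f g f' g' w F) ≫
        (EtCoh.pullPushAdj f').counit.app ((EtCoh.pull g').obj F) := by
  have eL : (((EtCore.pullComp g' f).symm ≪≫ EtCore.pullCongr rfl).app
      ((EtCoh.push f).obj F)).inv = (EtCore.pullComp g' f).hom.app ((EtCoh.push f).obj F) := by
    simp [EtCore.pullCongr]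
  have eR : (((EtCore.pullComp f' g).symm ≪≫ EtCore.pullCongr w.symm).app
      ((EtCoh.push f).obj F)).inv =
      (EtCore.pullCongr w.symm).inv.app ((EtCoh.push f).obj F) ≫
        (EtCore.pullComp f' g).hom.app ((EtCoh.push f).obj F) := rfl
  rw [eL, eR]
  apply ((EtCoh.pullPushAdj (g' ≫ f)).homEquiv _ _).injective
  rw [Adjunction.homEquiv_unit, Adjunction.homEquiv_unit]
  have hL : (EtCoh.pullPushAdj (g' ≫ f)).unit.app ((EtCoh.push f).obj F) ≫
      (EtCoh.push (g' ≫ f)).map ((EtCore.pullComp g' f).hom.app ((EtCoh.push f).obj F) ≫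
        (EtCoh.pull g').map ((EtCoh.pullPushAdj f).counit.app F)) =
      (EtCoh.push f).map ((EtCoh.pullPushAdj g').unit.app F) ≫
        (EtCoh.pushComp f g').hom.app ((EtCoh.pull g').obj F) := by
    rw [unit_pullComp g' f ((EtCoh.push f).obj F) (M := (EtCoh.pull g').obj F)]
    have n1 : (EtCoh.pullPushAdj g').unit.app ((EtCoh.pull f).obj ((EtCoh.push f).obj F)) ≫
        (EtCoh.push g').map ((EtCoh.pull g').map ((EtCoh.pullPushAdj f).counit.app F)) =
        (EtCoh.pullPushAdj f).counit.app F ≫ (EtCoh.pullPushAdj g').unit.app F :=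
      (EtCoh.pullPushAdj g').unit_naturality _
    have tr := (EtCoh.pullPushAdj f).right_triangle_components F
    rw [n1]
    simp only [Functor.map_comp, Category.assoc]
    rw [reassoc_of% tr]
  have hR : ((EtCoh.pullPushAdj (g' ≫ f)).unit.app ((EtCoh.push f).obj F) ≫
      (EtCoh.push (g' ≫ f)).map (((EtCore.pullCongr w.symm).inv.app ((EtCoh.push f).obj F) ≫
        (EtCore.pullComp f' g).hom.app ((EtCoh.push f).obj F)) ≫
        (EtCoh.pull f').map (EtCoh.baseChange0 f g f' g' w F) ≫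
        (EtCoh.pullPushAdj f').counit.app ((EtCoh.pull g').obj F))) ≫
      (EtCoh.pushCongr w).hom.app ((EtCoh.pull g').obj F) =
      ((EtCoh.push f).map ((EtCoh.pullPushAdj g').unit.app F) ≫
        (EtCoh.pushComp f g').hom.app ((EtCoh.pull g').obj F)) ≫
      (EtCoh.pushCongr w).hom.app ((EtCoh.pull g').obj F) := by
    have s1 := unit_pullCongr w w.symm ((EtCoh.push f).obj F) (M := (EtCoh.pull g').obj F)
      ((EtCore.pullComp f' g).hom.app ((EtCoh.push f).obj F) ≫
        (EtCoh.pull f').map (EtCoh.baseChange0 f g f' g' w F) ≫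
        (EtCoh.pullPushAdj f').counit.app ((EtCoh.pull g').obj F))
    have s2 := unit_pullComp f' g ((EtCoh.push f).obj F) (M := (EtCoh.pull g').obj F)
      ((EtCoh.pull f').map (EtCoh.baseChange0 f g f' g' w F) ≫
        (EtCoh.pullPushAdj f').counit.app ((EtCoh.pull g').obj F))
    have n2 := (EtCoh.pullPushAdj f').unit_naturality (EtCoh.baseChange0 f g f' g' w F)
    have tr2 := (EtCoh.pullPushAdj f').right_triangle_components ((EtCoh.pull g').obj F)
    have hγ : (EtCoh.pullPushAdj g).unit.app ((EtCoh.push f).obj F) ≫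
        (EtCoh.push g).map (EtCoh.baseChange0 f g f' g' w F) = γ f g f' g' w F := by
      have := ((EtCoh.pullPushAdj g).homEquiv _ _).apply_symm_apply (γ f g f' g' w F)
      rw [Adjunction.homEquiv_unit] at this
      exact this
    have inner : (EtCoh.pullPushAdj f').unit.app ((EtCoh.pull g).obj ((EtCoh.push f).obj F)) ≫
        (EtCoh.push f').map ((EtCoh.pull f').map (EtCoh.baseChange0 f g f' g' w F) ≫
          (EtCoh.pullPushAdj f').counit.app ((EtCoh.pull g').obj F)) =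
        EtCoh.baseChange0 f g f' g' w F := by
      rw [Functor.map_comp, reassoc_of% n2, tr2, Category.comp_id]
    rw [inner] at s2
    simp only [Category.assoc] at s1 ⊢
    rw [s1, s2, reassoc_of% hγ]
    unfold γ
    simp only [Category.assoc, Iso.inv_hom_id_app, Category.comp_id]
  rw [hL]
  exact ((cancel_mono ((EtCoh.pushCongr w).hom.app ((EtCoh.pull g').obj F))).1 hR).symm

end Mate

section Main

variable {X Y X' Y' : Scheme.{u}} (f : X ⟶ Y) (g : Y' ⟶ Y) (f' : X' ⟶ Y') (g' : X' ⟶ X)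
  (w : g' ≫ f = f' ≫ g) (F : EtCoh.Ab X)

theorem main_S14389 [PreservesFiniteLimits (EtCoh.pull f)] [PreservesFiniteLimits (EtCoh.pull g)]
    [PreservesFiniteLimits (EtCoh.pull f')] [PreservesFiniteLimits (EtCoh.pull g')] (q : ℕ)
    (ζ : EtCoh.H Y ((EtCoh.push f).obj F) q) :
    EtCore.Hpull g' F q (EtLim.HofPush f F q ζ) =
      EtLim.HofPush f' ((EtCoh.pull g').obj F) q
        (((EtCoh.HF Y' q).map (EtCoh.baseChange0 f g f' g' w F)).hom
          (EtCore.Hpull g ((EtCoh.push f).obj F) q ζ)) := by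
  haveI : PreservesFiniteLimits (EtCoh.pull (g' ≫ f)) :=
    preservesFiniteLimits_of_natIso (EtCore.pullComp g' f).symm
  have T1 := HpullVia_Hpull g' f (g' ≫ f) rfl ((EtCoh.push f).obj F) q ζ
  have T2 := HpullVia_Hpull f' g (g' ≫ f) w.symm ((EtCoh.push f).obj F) q ζ
  rw [HpullVia_apply] at T1 T2
  obtain ⟨ε₁, hε₁⟩ : ∃ ε₁ : (EtCoh.pull g').obj ((EtCoh.pull f).obj ((EtCoh.push f).obj F)) ≅
      (EtCoh.pull (g' ≫ f)).obj ((EtCoh.push f).obj F),
      ε₁ = ((pullComp g' f).symm ≪≫ pullCongr rfl).app ((EtCoh.push f).obj F) := ⟨_, rfl⟩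
  obtain ⟨ε₂, hε₂⟩ : ∃ ε₂ : (EtCoh.pull f').obj ((EtCoh.pull g).obj ((EtCoh.push f).obj F)) ≅
      (EtCoh.pull (g' ≫ f)).obj ((EtCoh.push f).obj F),
      ε₂ = ((pullComp f' g).symm ≪≫ pullCongr w.symm).app ((EtCoh.push f).obj F) := ⟨_, rfl⟩
  rw [← hε₁] at T1
  rw [← hε₂] at T2
  have key := mate_eq f g f' g' w F
  rw [← hε₁, ← hε₂] at key
  obtain ⟨A, hA⟩ : ∃ A, A = Hpull f ((EtCoh.push f).obj F) q ζ := ⟨_, rfl⟩
  obtain ⟨B, hB⟩ : ∃ B, B = Hpull g ((EtCoh.push f).obj F) q ζ := ⟨_, rfl⟩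
  obtain ⟨C, hC⟩ : ∃ C, C = Hpull (g' ≫ f) ((EtCoh.push f).obj F) q ζ := ⟨_, rfl⟩
  rw [← hA, ← hC] at T1
  rw [← hB, ← hC] at T2
  have T1' : Hpull g' _ q A = C.comp (Abelian.Ext.mk₀ ε₁.inv) (add_zero q) := by
    rw [← T1, Abelian.Ext.comp_assoc_of_third_deg_zero, Abelian.Ext.mk₀_comp_mk₀, Iso.hom_inv_id,
      Abelian.Ext.comp_mk₀_id]
  have T2' : Hpull f' _ q B = C.comp (Abelian.Ext.mk₀ ε₂.inv) (add_zero q) := by
    rw [← T2, Abelian.Ext.comp_assoc_of_third_deg_zero, Abelian.Ext.mk₀_comp_mk₀, Iso.hom_inv_id,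
      Abelian.Ext.comp_mk₀_id]
  have L : Hpull g' F q (EtLim.HofPush f F q ζ) =
      (Hpull g' _ q A).comp (Abelian.Ext.mk₀ ((EtCoh.pull g').map
        ((EtCoh.pullPushAdj f).counit.app F))) (add_zero q) := by
    rw [hA]
    exact Hpull_natural g' ((EtCoh.pullPushAdj f).counit.app F) q _
  have R : EtLim.HofPush f' ((EtCoh.pull g').obj F) q
      (((EtCoh.HF Y' q).map (EtCoh.baseChange0 f g f' g' w F)).hom
        (Hpull g ((EtCoh.push f).obj F) q ζ)) =
      ((Hpull f' _ q B).comp (Abelian.Ext.mk₀ ((EtCoh.pull f').map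
        (EtCoh.baseChange0 f g f' g' w F))) (add_zero q)).comp
        (Abelian.Ext.mk₀ ((EtCoh.pullPushAdj f').counit.app ((EtCoh.pull g').obj F)))
        (add_zero q) := by
    rw [hB]
    exact congrArg (fun z => Abelian.Ext.comp z (Abelian.Ext.mk₀
      ((EtCoh.pullPushAdj f').counit.app ((EtCoh.pull g').obj F))) (add_zero q))
      (Hpull_natural f' (EtCoh.baseChange0 f g f' g' w F) q _)
  rw [L, R, T1', T2']
  simp only [Abelian.Ext.comp_assoc_of_third_deg_zero, Abelian.Ext.mk₀_comp_mk₀, Category.assoc]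
  rw [key]

end Main

end Groth.Agent.Lib.Helper15.HpullBC
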