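import Groth.Agent.Lib.Helper15.EffCartierIdealEt

/-!
# Descent of the vanishing of an ideal sheaf along flat open morphisms

* `exists_faithfullyFlat_appLE`: a flat open morphism has, around each point of the source, a pair of affine
  opens on which it is given by a ring map along which extension of ideals is injective;
* `idealSheafData_eq_bot_of_comap`: an ideal sheaf vanishes if its inverse images along a jointly surjective
  family of flat open morphisms vanish.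
-/

set_option autoImplicit false
universe u
open CategoryTheory CategoryTheory.Limits AlgebraicGeometry Opposite

namespace Groth.Agent.Lib.Helper15

variable {X' X : Scheme.{u}}

theorem exists_faithfullyFlat_appLE (f : X' ⟶ X) [Flat f] (hopen : IsOpenMap f) (x' : X') :
    ∃ (U : X.affineOpens) (V : X'.affineOpens) (hVU : V.1 ≤ f ⁻¹ᵁ U.1), x' ∈ V.1 ∧ f x' ∈ U.1 ∧
      ∀ I : Ideal Γ(X, U.1), I.map (f.appLE U.1 V.1 hVU).hom = ⊥ → I = ⊥ := by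
  obtain ⟨_, ⟨U₀', hU₀', rfl⟩, hxU₀, -⟩ :=
    X.isBasis_affineOpens.exists_subset_of_mem_open (Set.mem_univ (f x')) isOpen_univ
  let U₀ : X.affineOpens := ⟨U₀', hU₀'⟩
  have hx'pre : x' ∈ f ⁻¹ᵁ U₀.1 := hxU₀
  obtain ⟨_, ⟨V₁', hV₁', rfl⟩, hx'V₁, hV₁U₀⟩ :=
    X'.isBasis_affineOpens.exists_subset_of_mem_open hx'pre (f ⁻¹ᵁ U₀.1).isOpen
  let V₁ : X'.affineOpens := ⟨V₁', hV₁'⟩
  let O : X.Opens := ⟨f '' (V₁.1 : Set X'), hopen _ V₁.1.2⟩
  have hxO : f x' ∈ O := ⟨x', hx'V₁, rfl⟩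
  obtain ⟨s, hsO, hxs⟩ := U₀.2.exists_basicOpen_le (V := O) ⟨f x', hxO⟩ hxU₀
  set s' : Γ(X', V₁.1) := (f.appLE U₀.1 V₁.1 hV₁U₀).hom s with hs'
  have hV₂ : X'.basicOpen s' = V₁.1 ⊓ f ⁻¹ᵁ (X.basicOpen s) :=
    Scheme.basicOpen_appLE f V₁.1 U₀.1 hV₁U₀ s
  let U₁ : X.affineOpens := X.affineBasicOpen s
  let V₂ : X'.affineOpens := X'.affineBasicOpen s'
  have hV₂U₁ : V₂.1 ≤ f ⁻¹ᵁ U₁.1 := by
    show X'.basicOpen s' ≤ f ⁻¹ᵁ (X.basicOpen s)
    rw [hV₂]; exact inf_le_right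
  let φ : Γ(X, U₁.1) →+* Γ(X', V₂.1) := (f.appLE U₁.1 V₂.1 hV₂U₁).hom
  have hφflat : φ.Flat := HasRingHomProperty.appLE (P := @Flat) f inferInstance U₁ V₂ hV₂U₁
  algebraize [φ]
  have hsurj : Function.Surjective (PrimeSpectrum.comap (algebraMap Γ(X, U₁.1) Γ(X', V₂.1))) := by
    intro P
    have hy : U₁.2.fromSpec P ∈ U₁.1 := by
      rw [← SetLike.mem_coe, ← U₁.2.range_fromSpec]; exact ⟨P, rfl⟩
    obtain ⟨z, hz, hzy⟩ : U₁.2.fromSpec P ∈ O := hsO hy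
    have hzV₂ : z ∈ V₂.1 := by
      show z ∈ X'.basicOpen s'
      rw [hV₂]
      exact ⟨hz, by show f z ∈ X.basicOpen s; rw [hzy]; exact hy⟩
    obtain ⟨Q, hQ⟩ : z ∈ Set.range V₂.2.fromSpec := by rw [V₂.2.range_fromSpec]; exact hzV₂
    refine ⟨Q, ?_⟩
    have hcomm := IsAffineOpen.SpecMap_appLE_fromSpec f U₁.2 V₂.2 hV₂U₁
    have h1 : U₁.2.fromSpec ((Spec.map (f.appLE U₁.1 V₂.1 hV₂U₁)) Q) = U₁.2.fromSpec P := by
      rw [← Scheme.Hom.comp_apply, hcomm, Scheme.Hom.comp_apply, hQ, hzy]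
    exact U₁.2.fromSpec.isOpenEmbedding.injective h1
  have : Module.FaithfullyFlat Γ(X, U₁.1) Γ(X', V₂.1) := Module.FaithfullyFlat.of_comap_surjective hsurj
  refine ⟨U₁, V₂, hV₂U₁, ?_, hxs, ?_⟩
  · show x' ∈ X'.basicOpen s'
    rw [hV₂]
    exact ⟨hx'V₁, hxs⟩
  · intro I hI
    have hI' : I.map (algebraMap Γ(X, U₁.1) Γ(X', V₂.1)) =
        (⊥ : Ideal Γ(X, U₁.1)).map (algebraMap Γ(X, U₁.1) Γ(X', V₂.1)) := by
      rw [Ideal.map_bot]; exact hI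
    exact Ideal.map_injective_of_faithfullyFlat hI'

theorem idealSheafData_eq_bot_of_comap {T : Scheme.{u}} (J : T.IdealSheafData)
    (H : ∀ t : T, ∃ (T' : Scheme.{u}) (p : T' ⟶ T) (t' : T'),
      Flat p ∧ IsOpenMap p ∧ p t' = t ∧ J.comap p = ⊥) : J = ⊥ := by
  have key : ∀ t : T, ∃ U : T.affineOpens, t ∈ U.1 ∧ J.ideal U = ⊥ := by
    intro t
    obtain ⟨T', p, t', hpf, hpo, rfl, hJ⟩ := H t
    obtain ⟨U, V, hVU, -, hU, hinj⟩ := exists_faithfullyFlat_appLE p hpo t'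
    refine ⟨U, hU, hinj _ ?_⟩
    rw [← Groth.Agent.Lib.Helper3.ideal_comap_of_le p J V U hVU, hJ]
    rfl
  choose U hU hJU using key
  refine Scheme.IdealSheafData.ext_of_iSup_eq_top U ?_ (fun t => by rw [hJU t]; rfl)
  rw [eq_top_iff]
  intro t _
  exact TopologicalSpace.Opens.mem_iSup.mpr ⟨t, hU t⟩

end Groth.Agent.Lib.Helper15
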