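import Groth.Agent.Lib.Helper15.ClosedSh

/-!
# Helper15: direct image of sheaves of sets along immersions is fully faithful
-/

set_option autoImplicit false
universe u
open CategoryTheory CategoryTheory.Limits AlgebraicGeometry Opposite
open Groth.Agent.Lib.Helper13

namespace Groth.Agent.Lib.Helper15
namespace ImmersionSh

set_option backward.isDefEq.respectTransparency.types false

section openpart

variable {U X : Scheme.{u}} (j : U ⟶ X) [IsOpenImmersion j]

/-- `j^{-1} j_* ≅ id` for sheaves of sets. -/
noncomputable def pushRestrIsoSh : EtDesc.pushSh j ⋙ ClosedSh.restrSh j ≅ 𝟭 (EtDesc.Sh U) :=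
  letI := Functor.isContinuous_comp (EtShriek.compEtale j) (EtCoh.bc j) U.smallEtaleTopology
    X.smallEtaleTopology U.smallEtaleTopology
  Functor.sheafPushforwardContinuousComp (EtShriek.compEtale j) (EtCoh.bc j) (Type (u + 1))
      U.smallEtaleTopology X.smallEtaleTopology U.smallEtaleTopology ≪≫
    Functor.sheafPushforwardContinuousId' (asIso (EtaleRestr.adjSites j).unit).symm (Type (u + 1))
      U.smallEtaleTopology

instance isIso_counit_restrPushSh : IsIso (ClosedSh.restrPushAdjSh j).counit :=
  (ClosedSh.restrPushAdjSh j).isIso_counit_of_iso (pushRestrIsoSh j)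

lemma pushSh_full_open : (EtDesc.pushSh j).Full :=
  ((ClosedSh.restrPushAdjSh j).fullyFaithfulROfIsIsoCounit).full

lemma pushSh_faithful_open : (EtDesc.pushSh j).Faithful :=
  ((ClosedSh.restrPushAdjSh j).fullyFaithfulROfIsIsoCounit).faithful

end openpart

/-- Counit `f^* f_* F ⟶ F` is an isomorphism when `f` is a closed immersion followed by an open
immersion. -/
lemma isIso_counit_of_factor {X W Y : Scheme.{u}} (f : X ⟶ Y) (c : X ⟶ W) [IsClosedImmersion c]
    (o : W ⟶ Y) [IsOpenImmersion o] (h : c ≫ o = f) (F : EtDesc.Sh X) :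
    IsIso ((EtDesc.adjSh f).counit.app F) := by
  subst h
  haveI := ClosedSh.pushSh_full c
  haveI := ClosedSh.pushSh_faithful c
  haveI := pushSh_full_open o
  haveI := pushSh_faithful_open o
  haveI : (EtDesc.pushSh (c ≫ o)).Full := Functor.Full.of_iso (EtDesc.pushCompSh o c)
  haveI : (EtDesc.pushSh (c ≫ o)).Faithful := Functor.Faithful.of_iso (EtDesc.pushCompSh o c)
  infer_instance

end ImmersionSh
end Groth.Agent.Lib.Helper15
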