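import Mathlib
import Groth.Agent.Lib.Helper15.IndConstr

/-!
# Helper15: torsion compact objects are constructible (S13501)
-/

set_option autoImplicit false
set_option backward.isDefEq.respectTransparency false
universe u
open CategoryTheory CategoryTheory.Limits AlgebraicGeometry Opposite

namespace Helper15.IndConstr

open Helper15.ConstrGen Helper15.CompactObj Helper15.Constr

variable {X : Scheme.{u}}

/-- A retract of a constructible sheaf (on a qcqs scheme) is constructible. -/
theorem constructible_of_retract [CompactSpace X] [QuasiSeparatedSpace X] {F C : EtCoh.Ab X}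
    (hC : EtPBC.IsConstructible C) (s : F ⟶ C) (r : C ⟶ F) (hsr : s ≫ r = 𝟙 F) :
    EtPBC.IsConstructible F := by
  obtain ⟨N, hN, kN⟩ := exists_killedBy C hC
  have hK : EtPBC.IsConstructible (kernel (𝟙 C - r ≫ s)) :=
    (S0131 (𝟙 C - r ≫ s) N hN kN kN hC hC).1
  have h1 : s ≫ (𝟙 C - r ≫ s) = 0 := by
    rw [Preadditive.comp_sub, Category.comp_id, ← Category.assoc, hsr, Category.id_comp, sub_self]
  have h2 : kernel.ι (𝟙 C - r ≫ s) = kernel.ι (𝟙 C - r ≫ s) ≫ r ≫ s := by
    have := kernel.condition (𝟙 C - r ≫ s)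
    rw [Preadditive.comp_sub, Category.comp_id, sub_eq_zero] at this
    exact this
  refine constructible_of_iso (F := kernel (𝟙 C - r ≫ s)) ?_ hK
  refine ⟨kernel.ι _ ≫ r, kernel.lift _ s h1, ?_, ?_⟩
  · rw [← cancel_mono (kernel.ι (𝟙 C - r ≫ s)), Category.assoc, Category.assoc, kernel.lift_ι,
      Category.id_comp]
    exact h2.symm
  · rw [← Category.assoc, kernel.lift_ι, hsr]

theorem S13501 (X : Scheme.{u}) [CompactSpace X]
    [QuasiSeparatedSpace X] (F : EtCoh.Ab X) (hF : EtCoh.IsTorsion F)
    (hc : ∀ (J : Type (u + 1)) [SmallCategory J] [IsFiltered J],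
      PreservesColimitsOfShape J (coyoneda.obj (op F))) :
    EtPBC.IsConstructible F := by
  obtain ⟨hcol⟩ := isColimit_c₀ F hF
  haveI := hc (J₀ F)
  obtain ⟨j, s, hs⟩ := Types.jointly_surjective_of_isColimit
    (isColimitOfPreserves (coyoneda.obj (op F)) hcol) (𝟙 F)
  exact constructible_of_retract (C := (D₀ F).obj j) ((eqv F).inverse.obj j).left.property s
    ((c₀ F).ι.app j) hs

end Helper15.IndConstr
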