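import Mathlib
import Groth.Agent.S0271
import Groth.Agent.Lib.Helper27.InvEt

/-!
# Finite-level inertia invariants (towards ind-étaleness of `(B^I)_q`)
-/

set_option autoImplicit false
universe u
open scoped Pointwise

namespace Groth.Agent.Lib.Helper15.InertiaFin

variable (A K L : Type u) [CommRing A] [IsDomain A] [IsIntegrallyClosed A]
  [Field K] [Field L] [Algebra A K] [IsFractionRing A K] [Algebra K L] [Algebra A L]
  [IsScalarTower A K L]

variable (F : IntermediateField K L)

instance towerAFL : IsScalarTower A F L := IsScalarTower.of_algebraMap_eq (fun _ => rfl)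

/-- The action of `Gal(F/K)` on the integral closure of `A` in `F`. -/
noncomputable instance actRF : MulSemiringAction Gal(F/K) (integralClosure A F) where
  smul τ r := ⟨τ r.1, IsIntegral.map (τ.toAlgHom.restrictScalars A) r.2⟩
  one_smul r := Subtype.ext rfl
  mul_smul σ τ r := Subtype.ext rfl
  smul_zero τ := Subtype.ext (map_zero τ)
  smul_add τ r s := Subtype.ext (map_add τ _ _)
  smul_one τ := Subtype.ext (map_one τ)
  smul_mul τ r s := Subtype.ext (map_mul τ _ _)

lemma smul_val (τ : Gal(F/K)) (r : integralClosure A F) :
    ((τ • r : integralClosure A F) : F) = τ (r : F) := rfl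

/-- The map from the integral closure in `F` to the integral closure in `L`. -/
noncomputable def toB : integralClosure A F →ₐ[A] integralClosure A L :=
  AlgHom.codRestrict ((IsScalarTower.toAlgHom A F L).comp (integralClosure A F).val)
    (integralClosure A L) (fun r => IsIntegral.map (IsScalarTower.toAlgHom A F L) r.2)

lemma toB_val (r : integralClosure A F) :
    ((toB A K L F r : integralClosure A L) : L) = ((r : F) : L) := rfl

lemma toB_injective : Function.Injective (toB A K L F) := by
  intro r s h
  apply Subtype.ext
  apply Subtype.ext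
  have := congrArg (fun b : integralClosure A L => (b : L)) h
  simpa [toB_val] using this

/-- Lift an integral element of `L` lying in `F` to the integral closure in `F`. -/
noncomputable def liftRF (b : integralClosure A L) (hb : (b : L) ∈ F) : integralClosure A F :=
  ⟨⟨(b : L), hb⟩, by
    have h1 : IsIntegral A (b : L) := b.2
    have : IsIntegral A (algebraMap F L ⟨(b : L), hb⟩) := h1
    exact (isIntegral_algebraMap_iff (algebraMap F L).injective).mp this⟩

lemma toB_liftRF (b : integralClosure A L) (hb : (b : L) ∈ F) :
    toB A K L F (liftRF A K L F b hb) = b := Subtype.ext rfl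

variable (q : Ideal (integralClosure A L))

/-- The open subgroup of `Gal(L/K)` of elements whose restriction to `F` lies in the inertia group
of `q ∩ R_F`. -/
noncomputable def HF [Normal K F] : Subgroup Gal(L/K) :=
  (Ideal.inertia Gal(F/K) (q.comap (toB A K L F))).comap (AlgEquiv.restrictNormalHom F)

theorem mem_HF_iff [Normal K F] (σ : Gal(L/K)) :
    σ ∈ HF A K L F q ↔
      ∀ b : integralClosure A L, (b : L) ∈ F → ∃ c ∈ q, (c : L) = σ b - b := by
  unfold HF
  rw [Subgroup.mem_comap, AddSubgroup.mem_inertia]
  have key : ∀ r : integralClosure A F,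
      ((toB A K L F (AlgEquiv.restrictNormalHom F σ • r - r) : integralClosure A L) : L)
        = σ ((r : F) : L) - ((r : F) : L) := by
    intro r
    rw [toB_val]
    have h1 : (((AlgEquiv.restrictNormalHom F σ • r - r : integralClosure A F) : F) : L)
        = (((AlgEquiv.restrictNormalHom F σ • r : integralClosure A F) : F) : L) - ((r : F) : L) :=
      rfl
    rw [h1, smul_val]
    congr 1
    exact AlgEquiv.restrictNormalHom_apply F σ (r : F)
  constructor
  · intro h b hb
    refine ⟨toB A K L F (AlgEquiv.restrictNormalHom F σ • (liftRF A K L F b hb)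
      - liftRF A K L F b hb), h _, ?_⟩
    rw [key]
    rfl
  · intro h r
    obtain ⟨c, hc, hcv⟩ := h (toB A K L F r) (r : F).2
    have : toB A K L F (AlgEquiv.restrictNormalHom F σ • r - r) = c := by
      apply Subtype.ext
      rw [key, hcv]
      rfl
    show toB A K L F (AlgEquiv.restrictNormalHom F σ • r - r) ∈ q
    rw [this]
    exact hc

theorem fixingSubgroup_le_HF [Normal K F] : F.fixingSubgroup ≤ HF A K L F q := by
  intro σ hσ
  rw [← IntermediateField.restrictNormalHom_ker] at hσ
  unfold HF
  rw [Subgroup.mem_comap, MonoidHom.mem_ker.mp hσ]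
  exact Subgroup.one_mem _

theorem isClosed_HF [FiniteDimensional K F] [Normal K F] :
    IsClosed (HF A K L F q : Set Gal(L/K)) := by
  have hopen : IsOpen (HF A K L F q : Set Gal(L/K)) :=
    Subgroup.isOpen_mono (fixingSubgroup_le_HF A K L F q) (IntermediateField.fixingSubgroup_isOpen F)
  exact Subgroup.isClosed_of_isOpen _ hopen

theorem fixedField_HF_le [IsGalois K L] [Normal K F] :
    IntermediateField.fixedField (HF A K L F q) ≤ F := by
  have h := IntermediateField.fixedField_antitone (fixingSubgroup_le_HF A K L F q)
  rwa [InfiniteGalois.fixedField_fixingSubgroup] at h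

end Groth.Agent.Lib.Helper15.InertiaFin
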