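import Mathlib
import Groth.Agent.Lib.Helper15.InertiaFin

/-!
# Finite-level inertia invariants, part 2: the étale algebras
-/

set_option autoImplicit false
universe u
open scoped Pointwise

namespace Groth.Agent.Lib.Helper15.InertiaFin

/-- Localizing an étale localization further is still étale. -/
theorem etale_away_mul' {A₀ S : Type u} [CommRing A₀] [CommRing S] [Algebra A₀ S] (g t : S)
    [Algebra.Etale A₀ (Localization.Away g)] : Algebra.Etale A₀ (Localization.Away (g * t)) := by
  haveI : Algebra.Etale A₀ (Localization.Away (algebraMap S (Localization.Away g) t)) :=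
    inferInstance
  let e : Localization.Away (algebraMap S (Localization.Away g) t)
      ≃ₐ[S] Localization.Away (g * t) :=
    IsLocalization.algEquiv (Submonoid.powers (g * t)) _ _
  exact Algebra.Etale.of_equiv (e.restrictScalars A₀)

variable (A K L : Type u) [CommRing A] [IsDomain A] [IsIntegrallyClosed A]
  [Field K] [Field L] [Algebra A K] [IsFractionRing A K] [Algebra K L] [Algebra A L]
  [IsScalarTower A K L]

variable (F : IntermediateField K L)

theorem algebraMap_AF_injective : Function.Injective (algebraMap A F) := by
  rw [IsScalarTower.algebraMap_eq A K F]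
  exact (algebraMap K F).injective.comp (IsFractionRing.injective A K)

/-- invariants of `R_F` under `Gal(F/K)` come from `A`. -/
theorem exists_of_fixed [FiniteDimensional K F] [IsGalois K F] (r : integralClosure A F)
    (hr : ∀ τ : Gal(F/K), τ • r = r) :
    ∃ a : A, algebraMap A (integralClosure A F) a = r := by
  have h1 : (r : F) ∈ (⊥ : IntermediateField K F) := by
    rw [IsGalois.mem_bot_iff_fixed]
    intro τ
    have := congrArg (fun x : integralClosure A F => (x : F)) (hr τ)
    simpa [smul_val] using this
  obtain ⟨k, hk⟩ := IntermediateField.mem_bot.mp h1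
  have h2 : IsIntegral A k := by
    have : IsIntegral A (algebraMap K F k) := hk ▸ r.2
    exact (isIntegral_algebraMap_iff (algebraMap K F).injective).mp this
  obtain ⟨a, ha⟩ := IsIntegrallyClosed.isIntegral_iff.mp h2
  refine ⟨a, Subtype.ext ?_⟩
  show algebraMap A F a = (r : F)
  rw [IsScalarTower.algebraMap_apply A K F, ha, hk]

/-- `A` is the ring of `Gal(F/K)`-invariants of `R_F`. -/
noncomputable def eA [FiniteDimensional K F] [IsGalois K F] :
    A ≃+* FixedPoints.subring (integralClosure A F) Gal(F/K) :=
  RingEquiv.ofBijective
    ((algebraMap A (integralClosure A F)).codRestrict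
      (FixedPoints.subring (integralClosure A F) Gal(F/K))
      (fun a τ => Subtype.ext (by
        show τ (algebraMap A F a) = algebraMap A F a
        rw [IsScalarTower.algebraMap_apply A K F, τ.commutes])))
    ⟨fun a a' h => algebraMap_AF_injective A K L F
        (congrArg (fun x : FixedPoints.subring (integralClosure A F) Gal(F/K) =>
          (((x : integralClosure A F)) : F)) h),
      fun ⟨r, hr⟩ => by
        obtain ⟨a, ha⟩ := exists_of_fixed A K L F r hr
        exact ⟨a, Subtype.ext ha⟩⟩

lemma eA_val [FiniteDimensional K F] [IsGalois K F] (a : A) :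
    ((((eA A K L F a : FixedPoints.subring (integralClosure A F) Gal(F/K)) :
      integralClosure A F) : F) : L) = algebraMap A L a := rfl

end Groth.Agent.Lib.Helper15.InertiaFin
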