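import Mathlib
import Groth.Agent.Lib.Helper15.InertiaFin2

/-!
# Finite-level inertia invariants, part 3: the étale algebra mapping injectively to `(B^I)_q`
-/

set_option autoImplicit false
universe u
open scoped Pointwise

namespace Groth.Agent.Lib.Helper15.InertiaFin

section Generic

variable {S P : Type u} [CommRing S] [CommRing P]

theorem away_lift_injective (d : S) (ι : S →+* P) (hι : Function.Injective ι)
    (hu : IsUnit (ι d)) :
    Function.Injective (IsLocalization.Away.lift (S := Localization.Away d) d hu) := by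
  rw [injective_iff_map_eq_zero]
  intro e he
  obtain ⟨a, m, rfl⟩ := IsLocalization.exists_mk'_eq (Submonoid.powers d) e
  have h1 : (IsLocalization.Away.lift (S := Localization.Away d) d hu)
        (IsLocalization.mk' (Localization.Away d) a m) *
      (IsLocalization.Away.lift (S := Localization.Away d) d hu)
        (algebraMap S (Localization.Away d) (m : S)) =
      (IsLocalization.Away.lift (S := Localization.Away d) d hu)
        (algebraMap S (Localization.Away d) a) :=
    (map_mul _ _ _).symm.trans (congrArg _ (IsLocalization.mk'_spec _ a m))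
  rw [he, zero_mul, IsLocalization.Away.lift_eq] at h1
  have ha : a = 0 := hι (by rw [← h1, map_zero])
  rw [ha, IsLocalization.mk'_zero]

theorem away_lift_exists (g sF zF : S) (ι : S →+* P) (hu : IsUnit (ι (g * sF))) :
    ∃ e : Localization.Away (g * sF),
      (IsLocalization.Away.lift (S := Localization.Away (g * sF)) (g * sF) hu) e * ι sF = ι zF := by
  have hu' : IsUnit (algebraMap S (Localization.Away (g * sF)) sF) := by
    have h0 : IsUnit (algebraMap S (Localization.Away (g * sF)) (g * sF)) :=
      IsLocalization.Away.algebraMap_isUnit (g * sF)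
    rw [map_mul] at h0
    exact isUnit_of_mul_isUnit_right h0
  obtain ⟨u, hu'⟩ := hu'
  refine ⟨algebraMap S (Localization.Away (g * sF)) zF * ↑u⁻¹, ?_⟩
  have h2 : (IsLocalization.Away.lift (S := Localization.Away (g * sF)) (g * sF) hu) ↑u⁻¹ * ι sF
      = 1 := by
    have : ι sF = (IsLocalization.Away.lift (S := Localization.Away (g * sF)) (g * sF) hu) ↑u := by
      rw [hu', IsLocalization.Away.lift_eq]
    rw [this, ← map_mul, Units.inv_mul, map_one]
  rw [map_mul, IsLocalization.Away.lift_eq, mul_assoc, h2, mul_one]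

end Generic

variable (A K L : Type u) [CommRing A] [IsDomain A] [IsIntegrallyClosed A]
  [Field K] [Field L] [Algebra A K] [IsFractionRing A K] [Algebra K L] [Algebra A L]
  [IsScalarTower A K L]

/-- The ring `B^I`. -/
abbrev CI (I : Subgroup Gal(L/K)) : Subalgebra A L :=
  integralClosure A L ⊓ (IntermediateField.fixedField I).toSubalgebra.restrictScalars A

/-- The inclusion `B^I → B`. -/
abbrev inclCI (I : Subgroup Gal(L/K)) : CI A K L I →ₐ[A] integralClosure A L :=
  Subalgebra.inclusion inf_le_left

lemma mem_CI_iff (I : Subgroup Gal(L/K)) (x : L) :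
    x ∈ CI A K L I ↔ IsIntegral A x ∧ ∀ σ ∈ I, σ x = x := by
  rw [Algebra.mem_inf]
  constructor
  · rintro ⟨h1, h2⟩
    exact ⟨h1, (IntermediateField.mem_fixedField_iff I x).mp h2⟩
  · rintro ⟨h1, h2⟩
    exact ⟨h1, (IntermediateField.mem_fixedField_iff I x).mpr h2⟩

variable (F : IntermediateField K L) (q : Ideal (integralClosure A L))

/-- Inertia invariants at level `F`. -/
noncomputable abbrev SF [Normal K F] : Subring (integralClosure A F) :=
  FixedPoints.subring (integralClosure A F) (Ideal.inertia Gal(F/K) (q.comap (toB A K L F)))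

theorem exists_lift [IsGalois K L] [Normal K F] (I : Subgroup Gal(L/K)) (z : CI A K L I)
    (hz : (z : L) ∈ IntermediateField.fixedField (HF A K L F q)) :
    ∃ zF : SF A K L F q, ((((zF : integralClosure A F)) : F) : L) = (z : L) := by
  have hzF : (z : L) ∈ F := fixedField_HF_le A K L F q hz
  have hzint : IsIntegral A (z : L) := ((mem_CI_iff A K L I _).mp z.2).1
  refine ⟨⟨liftRF A K L F ⟨(z : L), hzint⟩ hzF, ?_⟩, rfl⟩
  intro τ
  obtain ⟨σ, hσ⟩ := AlgEquiv.restrictNormalHom_surjective L (τ : Gal(F/K))
  have hσH : σ ∈ HF A K L F q := by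
    unfold HF
    rw [Subgroup.mem_comap, hσ]
    exact τ.2
  have hfix : σ (z : L) = z := (IntermediateField.mem_fixedField_iff _ _).mp hz σ hσH
  show ((τ : Gal(F/K)) • liftRF A K L F ⟨(z : L), hzint⟩ hzF) = liftRF A K L F ⟨(z : L), hzint⟩ hzF
  apply Subtype.ext
  apply Subtype.ext
  show (((τ : Gal(F/K)) ((liftRF A K L F ⟨(z : L), hzint⟩ hzF : integralClosure A F) : F) : F) : L)
    = (z : L)
  rw [← hσ]
  exact (AlgEquiv.restrictNormalHom_apply F σ _).trans hfix

theorem toC_mem [Normal K F] (I : Subgroup Gal(L/K)) (hIH : I ≤ HF A K L F q)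
    (x : SF A K L F q) : ((((x : integralClosure A F)) : F) : L) ∈ CI A K L I := by
  rw [mem_CI_iff]
  refine ⟨IsIntegral.map (IsScalarTower.toAlgHom A F L) (x : integralClosure A F).2, ?_⟩
  intro σ hσ
  have hσF : AlgEquiv.restrictNormalHom F σ ∈ Ideal.inertia Gal(F/K) (q.comap (toB A K L F)) :=
    hIH hσ
  have h1 := x.2 ⟨AlgEquiv.restrictNormalHom F σ, hσF⟩
  have h2 : (AlgEquiv.restrictNormalHom F σ) ((x : integralClosure A F) : F)
      = ((x : integralClosure A F) : F) :=
    congrArg (fun r : integralClosure A F => (r : F)) h1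
  have h3 := AlgEquiv.restrictNormalHom_apply F σ ((x : integralClosure A F) : F)
  rw [h2] at h3
  exact h3.symm

/-- The ring map from the inertia invariants at level `F` to `B^I`. -/
noncomputable def toC [Normal K F] (I : Subgroup Gal(L/K)) (hIH : I ≤ HF A K L F q) :
    SF A K L F q →+* CI A K L I :=
  ((algebraMap F L).comp ((integralClosure A F).val.toRingHom.comp
      (SF A K L F q).subtype)).codRestrict (CI A K L I) (toC_mem A K L F q I hIH)

lemma toC_val [Normal K F] (I : Subgroup Gal(L/K)) (hIH : I ≤ HF A K L F q) (x : SF A K L F q) :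
    ((toC A K L F q I hIH x : CI A K L I) : L) = (((x : integralClosure A F) : F) : L) := rfl

lemma toC_injective [Normal K F] (I : Subgroup Gal(L/K)) (hIH : I ≤ HF A K L F q) :
    Function.Injective (toC A K L F q I hIH) := by
  intro x y h
  apply Subtype.ext
  apply Subtype.ext
  apply Subtype.ext
  have := congrArg (fun c : CI A K L I => (c : L)) h
  simpa [toC_val] using this

lemma incl_toC [Normal K F] (I : Subgroup Gal(L/K)) (hIH : I ≤ HF A K L F q) (x : SF A K L F q) :
    inclCI A K L I (toC A K L F q I hIH x) = toB A K L F (x : integralClosure A F) :=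
  Subtype.ext rfl

end Groth.Agent.Lib.Helper15.InertiaFin
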