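import Mathlib
import Groth.Agent.Lib.Helper15.InertiaFin3

/-!
# Finite-level inertia invariants, part 4: the finite level étale algebra
-/

set_option autoImplicit false
universe u
open scoped Pointwise

namespace Groth.Agent.Lib.Helper15.InertiaFin

variable (A K L : Type u) [CommRing A] [IsDomain A] [IsIntegrallyClosed A]
  [Field K] [Field L] [Algebra A K] [IsFractionRing A K] [Algebra K L] [Algebra A L]
  [IsScalarTower A K L]

variable (F : IntermediateField K L) (q : Ideal (integralClosure A L))

section iota

variable [Normal K F] (I : Subgroup Gal(L/K)) (hIH : I ≤ HF A K L F q)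
  (q' : Ideal (CI A K L I)) [q'.IsPrime]

/-- The map from the level-`F` inertia invariants to `(B^I)_{q'}`. -/
noncomputable def ιF : SF A K L F q →+* Localization.AtPrime q' :=
  (algebraMap (CI A K L I) (Localization.AtPrime q')).comp (toC A K L F q I hIH)

lemma ιF_apply (x : SF A K L F q) :
    ιF A K L F q I hIH q' x
      = algebraMap (CI A K L I) (Localization.AtPrime q') (toC A K L F q I hIH x) := rfl

lemma ιF_injective : Function.Injective (ιF A K L F q I hIH q') := by
  intro x y hxy
  rw [ιF_apply, ιF_apply] at hxy
  exact toC_injective A K L F q I hIH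
    (IsLocalization.injective (Localization.AtPrime q')
      (Ideal.primeCompl_le_nonZeroDivisors q') hxy)

lemma ιF_isUnit (d : SF A K L F q) (hd : toC A K L F q I hIH d ∉ q') :
    IsUnit (ιF A K L F q I hIH q' d) := by
  rw [ιF_apply]
  exact IsLocalization.map_units (Localization.AtPrime q')
    (⟨toC A K L F q I hIH d, hd⟩ : q'.primeCompl)

end iota

section alg

variable [FiniteDimensional K F] [IsGalois K F]

/-- The `A`-algebra structure on a localization of the level-`F` inertia invariants. -/
@[reducible] noncomputable def algAE (d : SF A K L F q) : Algebra A (Localization.Away d) :=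
  ((algebraMap (FixedPoints.subring (integralClosure A F) Gal(F/K))
      (Localization.Away d)).comp (eA A K L F).toRingHom).toAlgebra

lemma algAE_apply (d : SF A K L F q) (a : A) :
    @algebraMap A (Localization.Away d) _ _ (algAE A K L F q d) a
      = algebraMap (SF A K L F q) (Localization.Away d)
          (algebraMap (FixedPoints.subring (integralClosure A F) Gal(F/K)) (SF A K L F q)
            (eA A K L F a)) := rfl

theorem etaleAE (g sF : SF A K L F q)
    [Algebra.Etale (FixedPoints.subring (integralClosure A F) Gal(F/K)) (Localization.Away g)] :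
    @Algebra.Etale A (Localization.Away (g * sF)) _ _ (algAE A K L F q (g * sF)) := by
  letI := algAE A K L F q (g * sF)
  haveI hEt2 : Algebra.Etale (FixedPoints.subring (integralClosure A F) Gal(F/K))
      (Localization.Away (g * sF)) := etale_away_mul' g sF
  exact Groth.Agent.Lib.Helper27.InvEt.etale_of_ringEquiv (eA A K L F) (RingEquiv.refl _)
      (fun a => rfl)

end alg

section phi

variable [FiniteDimensional K F] [IsGalois K F] (I : Subgroup Gal(L/K))
  (hIH : I ≤ HF A K L F q) (q' : Ideal (CI A K L I)) [q'.IsPrime]

lemma lift_comm (d : SF A K L F q) (hu : IsUnit (ιF A K L F q I hIH q' d)) (a : A) :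
    IsLocalization.Away.lift (S := Localization.Away d) d hu
        (@algebraMap A (Localization.Away d) _ _ (algAE A K L F q d) a)
      = algebraMap A (Localization.AtPrime q') a := by
  rw [algAE_apply, IsLocalization.Away.lift_eq, ιF_apply,
    IsScalarTower.algebraMap_apply A (CI A K L I) (Localization.AtPrime q')]
  exact congrArg _ (Subtype.ext rfl)

/-- The algebra map from the étale algebra at level `F` to `(B^I)_{q'}`. -/
noncomputable def φF (d : SF A K L F q) (hu : IsUnit (ιF A K L F q I hIH q' d)) :
    @AlgHom A (Localization.Away d) (Localization.AtPrime q') _ _ _ (algAE A K L F q d) _ :=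
  letI := algAE A K L F q d
  { toRingHom := IsLocalization.Away.lift (S := Localization.Away d) d hu
    commutes' := lift_comm A K L F q I hIH q' d hu }

lemma φF_apply (d : SF A K L F q) (hu : IsUnit (ιF A K L F q I hIH q' d))
    (e : Localization.Away d) :
    φF A K L F q I hIH q' d hu e
      = IsLocalization.Away.lift (S := Localization.Away d) d hu e := rfl

end phi

set_option maxHeartbeats 1000000 in
theorem finite_level [FiniteDimensional K F] [IsGalois K F] [IsGalois K L] [q.IsPrime]
    (I : Subgroup Gal(L/K)) (hIH : I ≤ HF A K L F q)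
    (q' : Ideal (CI A K L I)) [q'.IsPrime] (hq' : ∀ x, x ∈ q' ↔ inclCI A K L I x ∈ q)
    (Z : Finset (CI A K L I))
    (hZ : ∀ z ∈ Z, (z : L) ∈ IntermediateField.fixedField (HF A K L F q))
    (s : CI A K L I) (hsZ : s ∈ Z) (hs : s ∉ q') :
    ∃ (E : Type u) (_ : CommRing E) (_ : Algebra A E) (_ : Algebra.Etale A E)
      (φ : E →ₐ[A] Localization.AtPrime q'),
      Function.Injective φ ∧
      ∀ z ∈ Z, ∃ e : E, φ e * algebraMap (CI A K L I) (Localization.AtPrime q') s
        = algebraMap (CI A K L I) (Localization.AtPrime q') z := by
  classical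
  haveI hq'F : (q.comap (toB A K L F)).IsPrime := Ideal.comap_isPrime _ _
  obtain ⟨g, hg, hEt⟩ :=
    Groth.Agent.S0271.result Gal(F/K) (integralClosure A F) (q.comap (toB A K L F))
  obtain ⟨sF, hsF⟩ := exists_lift A K L F q I s (hZ s hsZ)
  have hsC : toC A K L F q I hIH sF = s := Subtype.ext hsF
  have hd : toC A K L F q I hIH (g * sF) ∉ q' := by
    rw [map_mul]
    intro hmem
    rcases Ideal.IsPrime.mem_or_mem ‹q'.IsPrime› hmem with h | h
    · apply hg
      rw [hq', incl_toC] at h
      exact h
    · apply hs
      rwa [hsC] at h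
  have hunit := ιF_isUnit A K L F q I hIH q' (g * sF) hd
  haveI := hEt
  refine ⟨Localization.Away (g * sF), inferInstance, algAE A K L F q (g * sF),
    etaleAE A K L F q g sF, φF A K L F q I hIH q' (g * sF) hunit, ?_, ?_⟩
  · exact away_lift_injective (g * sF) _ (ιF_injective A K L F q I hIH q') hunit
  · intro z hz
    obtain ⟨zF, hzF⟩ := exists_lift A K L F q I z (hZ z hz)
    have hzC : toC A K L F q I hIH zF = z := Subtype.ext hzF
    obtain ⟨e, he⟩ := away_lift_exists g sF zF (ιF A K L F q I hIH q') hunit
    refine ⟨e, ?_⟩
    have e1 : ιF A K L F q I hIH q' sF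
        = algebraMap (CI A K L I) (Localization.AtPrime q') s :=
      (ιF_apply A K L F q I hIH q' sF).trans (congrArg _ hsC)
    have e2 : ιF A K L F q I hIH q' zF
        = algebraMap (CI A K L I) (Localization.AtPrime q') z :=
      (ιF_apply A K L F q I hIH q' zF).trans (congrArg _ hzC)
    rw [φF_apply, ← e1, ← e2]
    exact he

end Groth.Agent.Lib.Helper15.InertiaFin
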