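import Mathlib
import Groth.Agent.Lib.Helper15.InertiaFin4
import Groth.Agent.Lib.Helper8.IndEtStar

/-!
# Ind-étaleness of the localization of the inertia invariants `(B^I)_q`
-/

set_option autoImplicit false
universe u
open scoped Pointwise

namespace Groth.Agent.Lib.Helper15.InertiaFin

variable (A K L : Type u) [CommRing A] [IsDomain A] [IsIntegrallyClosed A]
  [Field K] [Field L] [Algebra A K] [IsFractionRing A K] [Algebra K L] [Algebra A L]
  [IsScalarTower A K L]

variable (q : Ideal (integralClosure A L))

theorem HF_antitone (F F' : IntermediateField K L) [Normal K F] [Normal K F'] (h : F ≤ F') :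
    HF A K L F' q ≤ HF A K L F q := by
  intro σ hσ
  rw [mem_HF_iff] at hσ ⊢
  intro b hb
  exact hσ b (h hb)

variable (I : Subgroup Gal(L/K))
  (hI : ∀ σ : Gal(L/K), σ ∈ I ↔ ∀ b : integralClosure A L, ∃ c ∈ q, (c : L) = σ b - b)

include hI in
theorem I_le_HF (F : IntermediateField K L) [Normal K F] : I ≤ HF A K L F q := by
  intro σ hσ
  rw [mem_HF_iff]
  intro b _
  exact (hI σ).mp hσ b

include hI in
theorem exists_level [IsGalois K L] (x : L) (hx : x ∈ IntermediateField.fixedField I) :
    ∃ F : FiniteGaloisIntermediateField K L,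
      x ∈ IntermediateField.fixedField (HF A K L F.toIntermediateField q) := by
  classical
  have hdir : Directed (· ≤ ·) (fun F : FiniteGaloisIntermediateField K L =>
      IntermediateField.fixedField (HF A K L F.toIntermediateField q)) := by
    intro F₁ F₂
    refine ⟨F₁ ⊔ F₂, ?_, ?_⟩
    · exact IntermediateField.fixedField_antitone (HF_antitone A K L q _ _
        ((FiniteGaloisIntermediateField.le_iff _ _).mp le_sup_left))
    · exact IntermediateField.fixedField_antitone (HF_antitone A K L q _ _
        ((FiniteGaloisIntermediateField.le_iff _ _).mp le_sup_right))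
  have hM : IntermediateField.fixedField I ≤ ⨆ F : FiniteGaloisIntermediateField K L,
      IntermediateField.fixedField (HF A K L F.toIntermediateField q) := by
    have h1 : (⨆ F : FiniteGaloisIntermediateField K L,
        IntermediateField.fixedField (HF A K L F.toIntermediateField q)).fixingSubgroup ≤ I := by
      intro σ hσ
      rw [hI]
      intro b
      have hF : σ ∈ HF A K L
          (FiniteGaloisIntermediateField.adjoin K {(b : L)}).toIntermediateField q := by
        have h2 := IntermediateField.fixingSubgroup_antitone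
          (le_iSup (fun F : FiniteGaloisIntermediateField K L =>
            IntermediateField.fixedField (HF A K L F.toIntermediateField q))
            (FiniteGaloisIntermediateField.adjoin K {(b : L)})) hσ
        have h4 : (IntermediateField.fixedField (HF A K L
            (FiniteGaloisIntermediateField.adjoin K {(b : L)}).toIntermediateField q)).fixingSubgroup
            = HF A K L (FiniteGaloisIntermediateField.adjoin K {(b : L)}).toIntermediateField q :=
          InfiniteGalois.fixingSubgroup_fixedField
            (⟨HF A K L (FiniteGaloisIntermediateField.adjoin K {(b : L)}).toIntermediateField q,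
              isClosed_HF A K L _ q⟩ : ClosedSubgroup Gal(L/K))
        rw [← h4]
        exact h2
      exact (mem_HF_iff A K L _ q σ).mp hF b
        (FiniteGaloisIntermediateField.subset_adjoin K {(b : L)} (Set.mem_singleton _))
    have h3 := IntermediateField.fixedField_antitone h1
    rwa [InfiniteGalois.fixedField_fixingSubgroup] at h3
  have hx' := hM hx
  rw [← SetLike.mem_coe, IntermediateField.coe_iSup_of_directed hdir, Set.mem_iUnion] at hx'
  exact hx'

include hI in
theorem key [IsGalois K L] [q.IsPrime]
    (T : Finset (Localization.AtPrime (q.comap (inclCI A K L I)))) :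
    ∃ (E : Type u) (_ : CommRing E) (_ : Algebra A E) (_ : Algebra.Etale A E)
      (φ : E →ₐ[A] Localization.AtPrime (q.comap (inclCI A K L I))),
      Function.Injective φ ∧ ∀ t ∈ T, t ∈ Set.range φ := by
  classical
  obtain ⟨s, hs⟩ := IsLocalization.exist_integer_multiples_of_finset
    (q.comap (inclCI A K L I)).primeCompl T
  have hx : ∀ t : Localization.AtPrime (q.comap (inclCI A K L I)), ∃ y : CI A K L I, t ∈ T →
      algebraMap (CI A K L I) (Localization.AtPrime (q.comap (inclCI A K L I))) y
        = algebraMap (CI A K L I) (Localization.AtPrime (q.comap (inclCI A K L I)))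
            (s : CI A K L I) * t := by
    intro t
    by_cases ht : t ∈ T
    · obtain ⟨y, hy⟩ := hs t ht
      exact ⟨y, fun _ => by rw [hy, Algebra.smul_def]⟩
    · exact ⟨0, fun h => absurd h ht⟩
  choose x hx using hx
  have hlev : ∀ z : CI A K L I, ∃ F : FiniteGaloisIntermediateField K L,
      (z : L) ∈ IntermediateField.fixedField (HF A K L F.toIntermediateField q) := by
    intro z
    exact exists_level A K L q I hI (z : L) (Algebra.mem_inf.mp z.2).2
  choose Fz hFz using hlev
  obtain ⟨Z, hZdef⟩ : ∃ Z : Finset (CI A K L I), Z = insert (s : CI A K L I) (T.image x) :=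
    ⟨_, rfl⟩
  obtain ⟨F0, hF0⟩ : ∃ F0 : FiniteGaloisIntermediateField K L, F0 = Z.sup Fz := ⟨_, rfl⟩
  have hZ : ∀ z ∈ Z, (z : L) ∈
      IntermediateField.fixedField (HF A K L F0.toIntermediateField q) := by
    intro z hz
    have hle : Fz z ≤ F0 := hF0 ▸ Finset.le_sup hz
    exact IntermediateField.fixedField_antitone (HF_antitone A K L q _ _
      ((FiniteGaloisIntermediateField.le_iff _ _).mp hle)) (hFz z)
  have hsZ : (s : CI A K L I) ∈ Z := by rw [hZdef]; exact Finset.mem_insert_self _ _
  obtain ⟨E, i1, i2, i3, φ, hinj, hφ⟩ := finite_level A K L F0.toIntermediateField q I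
    (I_le_HF A K L q I hI _) (q.comap (inclCI A K L I)) (fun _ => Iff.rfl) Z hZ (s : CI A K L I)
    hsZ s.2
  refine ⟨E, i1, i2, i3, φ, hinj, ?_⟩
  intro t ht
  have htZ : x t ∈ Z := by
    rw [hZdef]; exact Finset.mem_insert_of_mem (Finset.mem_image_of_mem x ht)
  obtain ⟨e, he⟩ := hφ (x t) htZ
  refine ⟨e, ?_⟩
  have hu : IsUnit (algebraMap (CI A K L I) (Localization.AtPrime (q.comap (inclCI A K L I)))
      (s : CI A K L I)) := IsLocalization.map_units _ s
  rw [hx t ht, mul_comm _ t] at he
  exact hu.mul_left_inj.mp he

include hI in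
theorem indEtaleStar [IsGalois K L] [q.IsPrime] :
    Groth.Agent.Lib.Helper8.IndEt.IndEtaleStar A
      (Localization.AtPrime (q.comap (inclCI A K L I))) := by
  classical
  refine ⟨?_, ?_⟩
  · intro b
    obtain ⟨E, i1, i2, i3, φ, _, hφ⟩ := key A K L q I hI {b}
    exact ⟨E, i1, i2, i3, φ, hφ b (Finset.mem_singleton_self b)⟩
  · intro E _ _ _ φ e he
    obtain ⟨gens, hgens⟩ := (Algebra.FiniteType.out : (⊤ : Subalgebra A E).FG)
    obtain ⟨E', i1, i2, i3, φ', hinj, hφ'⟩ := key A K L q I hI (gens.image φ)
    have hrange : ∀ x : E, φ x ∈ φ'.range := by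
      intro x
      have hx : x ∈ Algebra.adjoin A (gens : Set E) := by rw [hgens]; exact Algebra.mem_top
      have h2 : φ x ∈ (Algebra.adjoin A (gens : Set E)).map φ :=
        (Subalgebra.mem_map).mpr ⟨x, hx, rfl⟩
      rw [AlgHom.map_adjoin] at h2
      refine Algebra.adjoin_le ?_ h2
      rintro _ ⟨y, hy, rfl⟩
      exact (AlgHom.mem_range φ').mpr (hφ' (φ y) (Finset.mem_image_of_mem φ hy))
    obtain ⟨ψ, hψ⟩ : ∃ ψ : E →ₐ[A] E', ∀ x, φ' (ψ x) = φ x := by
      refine ⟨((AlgEquiv.ofInjective φ' hinj).symm.toAlgHom).comp
        (φ.codRestrict φ'.range hrange), ?_⟩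
      intro x
      have h1 := (AlgEquiv.ofInjective φ' hinj).apply_symm_apply (φ.codRestrict φ'.range hrange x)
      exact congrArg Subtype.val h1
    exact ⟨E', i1, i2, i3, ψ, φ', AlgHom.ext hψ, hinj (by rw [hψ, he, map_zero])⟩

include hI in
theorem isIndEtale [IsGalois K L] [q.IsPrime] :
    EtPBC.IsIndEtale A (Localization.AtPrime (q.comap (inclCI A K L I))) :=
  (indEtaleStar A K L q I hI).isIndEtale

end Groth.Agent.Lib.Helper15.InertiaFin
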