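import Mathlib
import Groth.Prelude.Def_EtBase
import Groth.Agent.Lib.Helper15.ZarEt

/-!
# Geometry of integral universally injective morphisms and étale neighbourhoods

* `exists_open_isolating`: a point of an étale `X`-scheme is isolated in its fibre.
* `exists_open_nbhd`: for a closed map, an open containing a fibre contains the preimage of an
  open neighbourhood.
* `exists_geom_lift`: geometric points with values in algebraically closed fields lift along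
  integral morphisms.
* `exists_isolating_cover`: for `f` integral and universally injective, every point `u` of an étale
  `X`-scheme `U` has an open neighbourhood `U''` in which `u` is alone in its fibre and which
  covers `X ×_Y V₀` for an open `V₀ ⊆ Y`.
-/

set_option autoImplicit false
set_option backward.isDefEq.respectTransparency false
universe u

namespace Groth.Agent.Lib.Helper15.IntUIGeom

open CategoryTheory Limits AlgebraicGeometry Opposite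
open Groth.Agent.Lib.Helper15

lemma quasiFinite_of_etale {R S : Type u} [CommRing R] [CommRing S] (φ : R →+* S)
    (h : φ.Etale) : φ.QuasiFinite := by
  letI := φ.toAlgebra
  haveI : Algebra.Etale R S := h
  show Algebra.QuasiFinite R S
  infer_instance

lemma locallyQuasiFinite_of_etale {X Y : Scheme.{u}} (g : X ⟶ Y) [Etale g] :
    LocallyQuasiFinite g := by
  rw [HasRingHomProperty.iff_appLE (P := @LocallyQuasiFinite)]
  intro U V e
  have h1 := (HasRingHomProperty.iff_appLE (P := @Etale)).mp ‹Etale g› U V e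
  exact quasiFinite_of_etale _ h1

lemma exists_open_isolating {X : Scheme.{u}} (U : X.Etale) (u : U.left) :
    ∃ U₁ : U.left.Opens, u ∈ U₁ ∧ ∀ u' : U.left, u' ∈ U₁ → U.hom u' = U.hom u → u' = u := by
  haveI : Etale U.hom := U.prop
  haveI : LocallyQuasiFinite U.hom := locallyQuasiFinite_of_etale U.hom
  have hd := Scheme.Hom.isDiscrete_preimage_singleton U.hom (U.hom u)
  haveI : DiscreteTopology (U.hom ⁻¹' {U.hom u}) := isDiscrete_iff_discreteTopology.1 hd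
  have hopen : IsOpen ({⟨u, rfl⟩} : Set (U.hom ⁻¹' {U.hom u})) := isOpen_discrete _
  obtain ⟨t, ht, hteq⟩ := isOpen_induced_iff.1 hopen
  refine ⟨⟨t, ht⟩, ?_, ?_⟩
  · have h : (⟨u, rfl⟩ : U.hom ⁻¹' {U.hom u}) ∈ Subtype.val ⁻¹' t := by
      rw [hteq]
      rfl
    exact h
  · intro u' hu' h
    have h' : (⟨u', h⟩ : U.hom ⁻¹' {U.hom u}) ∈ Subtype.val ⁻¹' t := hu'
    rw [hteq] at h'
    exact congrArg Subtype.val (Set.mem_singleton_iff.1 h')

lemma exists_open_nbhd {A B : Scheme.{u}} (p : A ⟶ B) [UniversallyClosed p] (O : A.Opens) (y : B)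
    (hy : ∀ x' : A, p x' = y → x' ∈ O) :
    ∃ V₀ : B.Opens, y ∈ V₀ ∧ ∀ x' : A, p x' ∈ V₀ → x' ∈ O := by
  have hC : IsClosed (p '' (O : Set A)ᶜ) := p.isClosedMap _ O.isOpen.isClosed_compl
  refine ⟨⟨_, hC.isOpen_compl⟩, ?_, ?_⟩
  · show y ∉ p '' (O : Set A)ᶜ
    rintro ⟨c, hc, hcy⟩
    exact hc (hy c hcy)
  · intro x' hx'
    by_contra hx
    exact (show p x' ∉ p '' (O : Set A)ᶜ from hx') ⟨x', hx, rfl⟩

theorem exists_geom_lift {X Y : Scheme.{u}} (f : X ⟶ Y) [IsIntegralHom f] {Ω : Type u} [Field Ω]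
    [IsAlgClosed Ω] (η : Spec (CommRingCat.of Ω) ⟶ Y) (x : X) (hx : f x = η default) :
    ∃ ξ : Spec (CommRingCat.of Ω) ⟶ X, ξ ≫ f = η := by
  obtain ⟨p, -, -⟩ := Scheme.Pullback.exists_preimage_pullback (f := f) (g := η) x default hx
  haveI : IsAffine (pullback f η) := isAffine_of_isAffineHom (pullback.snd f η)
  obtain ⟨B, ⟨iso⟩⟩ : ∃ (B : CommRingCat.{u}), Nonempty (Spec B ≅ pullback f η) :=
    ⟨_, ⟨(Scheme.isoSpec _).symm⟩⟩
  obtain ⟨φ, hφ⟩ := Spec.map_surjective (iso.hom ≫ pullback.snd f η)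
  have hint : φ.hom.IsIntegral := by
    rw [← IsIntegralHom.SpecMap_iff, hφ]
    infer_instance
  obtain ⟨q, -⟩ : ∃ q : PrimeSpectrum B, q = iso.inv p := ⟨_, rfl⟩
  haveI := q.isPrime
  obtain ⟨ψ, hψ⟩ : ∃ ψ : Ω →+* B ⧸ q.asIdeal,
      ψ = (Ideal.Quotient.mk q.asIdeal).comp φ.hom := ⟨_, rfl⟩
  have hψint : ψ.IsIntegral := by
    rw [hψ]
    exact RingHom.IsIntegral.trans _ _ hint
      (RingHom.isIntegral_of_surjective _ Ideal.Quotient.mk_surjective)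
  have hbij : Function.Bijective ψ := IsAlgClosed.ringHom_bijective_of_isIntegral ψ hψint
  obtain ⟨e, he⟩ : ∃ e : Ω ≃+* B ⧸ q.asIdeal, ∀ a, e a = ψ a :=
    ⟨RingEquiv.ofBijective ψ hbij, fun _ => rfl⟩
  obtain ⟨ρ, hρ⟩ : ∃ ρ : B →+* Ω,
      ρ = (e.symm : B ⧸ q.asIdeal →+* Ω).comp (Ideal.Quotient.mk q.asIdeal) := ⟨_, rfl⟩
  have hρφ : ρ.comp φ.hom = RingHom.id Ω := by
    ext a
    rw [hρ]
    show e.symm (Ideal.Quotient.mk q.asIdeal (φ.hom a)) = a
    have h1 : Ideal.Quotient.mk q.asIdeal (φ.hom a) = e a := by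
      rw [he, hψ]
      rfl
    rw [h1, RingEquiv.symm_apply_apply]
  obtain ⟨s, hs⟩ : ∃ s : Spec (CommRingCat.of Ω) ⟶ pullback f η,
      s = Spec.map (CommRingCat.ofHom ρ) ≫ iso.hom := ⟨_, rfl⟩
  have hs2 : s ≫ pullback.snd f η = 𝟙 _ := by
    rw [hs, Category.assoc, ← hφ, ← Spec.map_comp]
    have h1 : φ ≫ CommRingCat.ofHom ρ = 𝟙 _ := by
      apply CommRingCat.hom_ext
      exact hρφ
    rw [h1, Spec.map_id]
  refine ⟨s ≫ pullback.fst f η, ?_⟩
  rw [Category.assoc, pullback.condition, ← Category.assoc, hs2, Category.id_comp]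

theorem exists_isolating_cover {X Y : Scheme.{u}} (f : X ⟶ Y) [IsIntegralHom f]
    [UniversallyInjective f] (U : X.Etale) (u : U.left) :
    ∃ (V₀ : Y.Opens) (U'' : X.Etale) (j : U'' ⟶ U)
      (c : U'' ⟶ (EtCoh.bc f).obj (Scheme.Etale.mk V₀.ι)) (u'' : U''.left),
      j.left u'' = u ∧ f (U''.hom u'') ∈ V₀ ∧ Function.Surjective c.left ∧
      ∀ w : U''.left, U''.hom w = U''.hom u'' → w = u'' := by
  haveI : Etale U.hom := U.prop
  obtain ⟨U₁, hu₁, hiso₁⟩ := exists_open_isolating U u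
  obtain ⟨O, hO⟩ : ∃ O : X.Opens, ∀ x' : X, x' ∈ O ↔ ∃ w : U.left, w ∈ U₁ ∧ U.hom w = x' :=
    ⟨⟨U.hom '' (U₁ : Set U.left), U.hom.isOpenMap _ U₁.isOpen⟩, fun x' => Iff.rfl⟩
  have hy : ∀ x' : X, f x' = f (U.hom u) → x' ∈ O := by
    intro x' hx'
    rw [f.injective hx', hO]
    exact ⟨u, hu₁, rfl⟩
  obtain ⟨V₀, hyV₀, hV₀⟩ := exists_open_nbhd f O (f (U.hom u)) hy
  have hopen₂ : IsOpen {w : U.left | w ∈ U₁ ∧ f (U.hom w) ∈ V₀} :=
    U₁.isOpen.inter (V₀.isOpen.preimage (f.continuous.comp U.hom.continuous))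
  obtain ⟨U₂, hU₂⟩ : ∃ U₂ : U.left.Opens, ∀ w : U.left, w ∈ U₂ ↔ w ∈ U₁ ∧ f (U.hom w) ∈ V₀ :=
    ⟨⟨_, hopen₂⟩, fun w => Iff.rfl⟩
  obtain ⟨u'', hu''⟩ := ZarEt.exists_opnι_eq U U₂ u ((hU₂ u).2 ⟨hu₁, hyV₀⟩)
  have hhom : ∀ w : (ZarEt.opn U U₂).left,
      (ZarEt.opn U U₂).hom w = U.hom ((ZarEt.opnι U U₂).left w) := by
    intro w
    have h : ((ZarEt.opnι U U₂).left ≫ U.hom) w = (ZarEt.opn U U₂).hom w :=
      congrArg (fun m : (ZarEt.opn U U₂).left ⟶ X => m w) (MorphismProperty.Over.w (ZarEt.opnι U U₂))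
    exact h.symm.trans (Scheme.Hom.comp_apply _ _ w)
  have hrange : Set.range ((ZarEt.opn U U₂).hom ≫ f) ⊆ Set.range V₀.ι := by
    rintro _ ⟨w, rfl⟩
    rw [Scheme.Opens.range_ι, Scheme.Hom.comp_apply, hhom]
    exact ((hU₂ _).1 (ZarEt.opnι_mem U U₂ w)).2
  obtain ⟨a₀, ha₀⟩ : ∃ a₀ : (ZarEt.opn U U₂).left ⟶ V₀.toScheme,
      a₀ ≫ V₀.ι = (ZarEt.opn U U₂).hom ≫ f :=
    ⟨IsOpenImmersion.lift V₀.ι _ hrange, IsOpenImmersion.lift_fac _ _ _⟩
  obtain ⟨cl, hcl⟩ : ∃ cl : (ZarEt.opn U U₂).left ⟶ pullback V₀.ι f,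
      cl ≫ pullback.snd V₀.ι f = (ZarEt.opn U U₂).hom :=
    ⟨pullback.lift a₀ (ZarEt.opn U U₂).hom ha₀, pullback.lift_snd _ _ _⟩
  obtain ⟨c, hc⟩ : ∃ c : ZarEt.opn U U₂ ⟶ (EtCoh.bc f).obj (Scheme.Etale.mk V₀.ι),
      c.left = cl :=
    ⟨MorphismProperty.Over.homMk cl hcl, rfl⟩
  have hcsurj : Function.Surjective c.left := by
    intro p
    change ↥(pullback V₀.ι f) at p
    have hp1 : f ((pullback.snd V₀.ι f) p) ∈ V₀ := by
      have h1 : f ((pullback.snd V₀.ι f) p) = V₀.ι ((pullback.fst V₀.ι f) p) := by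
        rw [← Scheme.Hom.comp_apply, ← Scheme.Hom.comp_apply, pullback.condition]
      rw [h1]
      have h2 : V₀.ι ((pullback.fst V₀.ι f) p) ∈ Set.range V₀.ι := ⟨_, rfl⟩
      rwa [Scheme.Opens.range_ι] at h2
    obtain ⟨w, hw₁, hw⟩ := (hO _).1 (hV₀ _ hp1)
    have hw₂ : w ∈ U₂ := (hU₂ w).2 ⟨hw₁, by rw [hw]; exact hp1⟩
    obtain ⟨w'', hw''⟩ := ZarEt.exists_opnι_eq U U₂ w hw₂
    refine ⟨w'', ?_⟩
    apply (pullback.snd V₀.ι f).isOpenEmbedding.injective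
    have h3 : ((EtCoh.bc f).obj (Scheme.Etale.mk V₀.ι)).hom (c.left w'') =
        (ZarEt.opn U U₂).hom w'' :=
      (Scheme.Hom.comp_apply _ _ w'').symm.trans
        (congrArg (fun m : (ZarEt.opn U U₂).left ⟶ X => m w'') (MorphismProperty.Over.w c))
    exact h3.trans ((hhom w'').trans ((congrArg (fun z => U.hom z) hw'').trans hw))
  have hisol : ∀ w : (ZarEt.opn U U₂).left,
      (ZarEt.opn U U₂).hom w = (ZarEt.opn U U₂).hom u'' → w = u'' := by
    intro w hw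
    apply (ZarEt.opnι U U₂).left.isOpenEmbedding.injective
    rw [hu'']
    apply hiso₁ _ ((hU₂ _).1 (ZarEt.opnι_mem U U₂ w)).1
    rw [← hhom, hw, hhom, hu'']
  refine ⟨V₀, ZarEt.opn U U₂, ZarEt.opnι U U₂, c, u'', hu'', ?_, hcsurj, hisol⟩
  rw [hhom, hu'']
  exact hyV₀

end Groth.Agent.Lib.Helper15.IntUIGeom
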