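import Mathlib
import Groth.Prelude.Def_EtBase
import Groth.Prelude.Def_BigSite
import Groth.Agent.Lib.Helper15.IntKLGeom
import Groth.Agent.Lib.Helper15.IntUIGeom
import Groth.Agent.Lib.Helper15.FinitePushVanish
import Groth.Agent.Lib.Helper1.AssPush2

/-!
# Conditions (A) and (B) for integral morphisms

* `exists_cover_int`: scheme-level form of `IntKLGeom.exists_nbhd_of_covering_int`.
* `propB_of_integral`, `propA_of_integral`.
-/

set_option autoImplicit false
set_option backward.isDefEq.respectTransparency false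
universe u

namespace Groth.Agent.Lib.Helper15.IntPropAB

open CategoryTheory Limits AlgebraicGeometry Opposite
open Groth.Agent.Lib.Helper15

section

variable {X Y V : Scheme.{u}} (f : X ⟶ Y) (v : V ⟶ Y) [Etale v]

/-- An étale scheme over `X ×_Y V` as an object of the small étale site of `X`. -/
noncomputable def mem {U : Scheme.{u}} (g : U ⟶ pullback f v) [Etale g] : X.Etale :=
  Scheme.Etale.mk (g ≫ pullback.fst f v)

/-- Its structure map to the base change of `V`. -/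
noncomputable def memι {U : Scheme.{u}} (g : U ⟶ pullback f v) [Etale g] :
    mem f v g ⟶ (EtCoh.bc f).obj (Scheme.Etale.mk v) :=
  MorphismProperty.Over.homMk (g ≫ (pullbackSymmetry v f).inv) (by
    change (g ≫ (pullbackSymmetry v f).inv) ≫ pullback.snd v f = g ≫ pullback.fst f v
    rw [Category.assoc, pullbackSymmetry_inv_comp_snd])

lemma memι_left {U : Scheme.{u}} (g : U ⟶ pullback f v) [Etale g] :
    (memι f v g).left = g ≫ (pullbackSymmetry v f).inv := rfl

end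

private lemma transport {X Y V V' : Scheme.{u}} (f : X ⟶ Y) (v : V ⟶ Y) (a' : V' ⟶ V)
    (vh : V' ⟶ Y) (e : a' ≫ v = vh) {ι : Type u} (U : ι → Scheme.{u})
    (g : ∀ i, U i ⟶ pullback f v) (κ : Type u) (W : κ → (pullback f vh).Opens)
    (hdisj : ∀ k l, k ≠ l → Disjoint (W k) (W l)) (hcov : ∀ x, ∃ k, x ∈ W k)
    (hfac : ∀ k, ∃ (i : ι) (h : ((W k : (pullback f vh).Opens) : Scheme.{u}) ⟶ U i),
      h ≫ g i = (W k).ι ≫ pullback.map f vh f v (𝟙 X) a' (𝟙 Y) (by simp) (by simp [e])) :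
    ∃ (W' : κ → (pullback f (a' ≫ v)).Opens),
        (∀ k l, k ≠ l → Disjoint (W' k) (W' l)) ∧ (∀ x, ∃ k, x ∈ W' k) ∧
        ∀ k, ∃ (i : ι) (h : ((W' k : (pullback f (a' ≫ v)).Opens) : Scheme.{u}) ⟶ U i),
          h ≫ g i = (W' k).ι ≫ pullback.map f (a' ≫ v) f v (𝟙 X) a' (𝟙 Y)
            (by simp) (by simp) := by
  subst e
  exact ⟨W, hdisj, hcov, hfac⟩

/-- Scheme-level form of the covering lemma for integral morphisms. -/
theorem exists_cover_int {X Y V : Scheme.{u}} (f : X ⟶ Y) [IsIntegralHom f] (v : V ⟶ Y)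
    [Etale v] {ι : Type u} (U : ι → Scheme.{u}) (g : ∀ i, U i ⟶ pullback f v)
    (hg : ∀ i, Etale (g i))
    (hcov : ∀ x : ↥(pullback f v), ∃ i, x ∈ Set.range (g i).base) (y : V) :
    ∃ (V' : Scheme.{u}) (a : V' ⟶ V) (_ : Etale a) (y' : V'), a y' = y ∧
      ∃ (κ : Type u) (_ : Finite κ) (W : κ → (pullback f (a ≫ v)).Opens),
        (∀ k l, k ≠ l → Disjoint (W k) (W l)) ∧ (∀ x, ∃ k, x ∈ W k) ∧
        ∀ k, ∃ (i : ι) (h : ((W k : (pullback f (a ≫ v)).Opens) : Scheme.{u}) ⟶ U i),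
          h ≫ g i = (W k).ι ≫ pullback.map f (a ≫ v) f v (𝟙 X) a (𝟙 Y)
            (by simp) (by simp) := by
  classical
  haveI := hg
  have hR : Sieve.ofArrows (fun i => mem f v (g i)) (fun i => memι f v (g i)) ∈
      X.smallEtaleTopology ((EtCoh.bc f).obj (Scheme.Etale.mk v)) := by
    apply EtGlue.ofArrows_mem
    intro x
    obtain ⟨x₀, hx₀⟩ : ∃ x₀ : ↥(pullback f v), x₀ = (pullbackSymmetry v f).hom x := ⟨_, rfl⟩
    obtain ⟨i, p, hp⟩ := hcov x₀
    refine ⟨i, p, ?_⟩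
    have h1 : (g i ≫ (pullbackSymmetry v f).inv) p = (pullbackSymmetry v f).inv ((g i) p) :=
      Scheme.Hom.comp_apply _ _ p
    have h2 : (pullbackSymmetry v f).inv ((pullbackSymmetry v f).hom x) = x :=
      (Scheme.Hom.comp_apply _ _ x).symm.trans
        (congrArg (fun m : pullback v f ⟶ pullback v f => m x) (pullbackSymmetry v f).hom_inv_id)
    exact h1.trans ((congrArg (fun t => (pullbackSymmetry v f).inv t) (hp.trans hx₀)).trans h2)
  obtain ⟨V', vh, hvh, a, y', hy', κ, hκ, W, hdisj, hcovW, hRW⟩ :=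
    IntKLGeom.exists_nbhd_of_covering_int f (Scheme.Etale.mk v) _ hR y
  haveI := hvh
  have e : a.left ≫ v = vh := MorphismProperty.Over.w a
  have hfac : ∀ k, ∃ (i : ι) (h : ((W k : (pullback f vh).Opens) : Scheme.{u}) ⟶ U i),
      h ≫ g i = (W k).ι ≫ pullback.map f vh f v (𝟙 X) a.left (𝟙 Y) (by simp) (by simp [e]) := by
    intro k
    obtain ⟨i, h', hh'⟩ := (Sieve.mem_ofArrows_iff _ _ _).1 (hRW k)
    refine ⟨i, h'.left, ?_⟩
    have h1 : (W k).ι ≫ (pullbackSymmetry vh f).inv ≫ ((EtCoh.bc f).map a).left =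
        h'.left ≫ g i ≫ (pullbackSymmetry v f).inv := by
      have := congrArg (fun m => m.left) hh'
      exact (Category.assoc _ _ _).symm.trans this
    have t1 : ((EtCoh.bc f).map a).left ≫ pullback.fst v f = pullback.fst vh f ≫ a.left :=
      FinitePushVanish.bc_map_fst f a
    have t2 : ((EtCoh.bc f).map a).left ≫ pullback.snd v f = pullback.snd vh f :=
      FinitePushVanish.bc_map_snd f a
    have h2 : (pullbackSymmetry vh f).inv ≫ ((EtCoh.bc f).map a).left =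
        pullback.map f vh f v (𝟙 X) a.left (𝟙 Y) (by simp) (by simp [e]) ≫
          (pullbackSymmetry v f).inv := by
      apply pullback.hom_ext
      · have e1 : ((pullbackSymmetry vh f).inv ≫ ((EtCoh.bc f).map a).left) ≫ pullback.fst v f =
            pullback.snd f vh ≫ a.left :=
          (Category.assoc _ _ _).trans ((congrArg ((pullbackSymmetry vh f).inv ≫ ·) t1).trans
            ((Category.assoc _ _ _).symm.trans
              (congrArg (· ≫ a.left) (pullbackSymmetry_inv_comp_fst vh f))))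
        have e2 : (pullback.map f vh f v (𝟙 X) a.left (𝟙 Y) (by simp) (by simp [e]) ≫
            (pullbackSymmetry v f).inv) ≫ pullback.fst v f = pullback.snd f vh ≫ a.left :=
          (Category.assoc _ _ _).trans
            ((congrArg (pullback.map f vh f v (𝟙 X) a.left (𝟙 Y) (by simp) (by simp [e]) ≫ ·)
              (pullbackSymmetry_inv_comp_fst v f)).trans (pullback.lift_snd _ _ _))
        exact e1.trans e2.symm
      · have e1 : ((pullbackSymmetry vh f).inv ≫ ((EtCoh.bc f).map a).left) ≫ pullback.snd v f =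
            pullback.fst f vh :=
          (Category.assoc _ _ _).trans ((congrArg ((pullbackSymmetry vh f).inv ≫ ·) t2).trans
            (pullbackSymmetry_inv_comp_snd vh f))
        have e2 : (pullback.map f vh f v (𝟙 X) a.left (𝟙 Y) (by simp) (by simp [e]) ≫
            (pullbackSymmetry v f).inv) ≫ pullback.snd v f = pullback.fst f vh :=
          (Category.assoc _ _ _).trans
            ((congrArg (pullback.map f vh f v (𝟙 X) a.left (𝟙 Y) (by simp) (by simp [e]) ≫ ·)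
              (pullbackSymmetry_inv_comp_snd v f)).trans
              ((pullback.lift_fst _ _ _).trans (Category.comp_id _)))
        exact e1.trans e2.symm
    apply (cancel_mono (pullbackSymmetry v f).inv).1
    exact ((Category.assoc _ _ _).trans h1.symm).trans
      ((congrArg ((W k).ι ≫ ·) h2).trans (Category.assoc _ _ _).symm)
  obtain ⟨W', h1, h2, h3⟩ := transport f v a.left vh e U g κ W hdisj hcovW hfac
  exact ⟨V', a.left, FinitePushExact.etale_left a, y', hy', κ, hκ, W', h1, h2, h3⟩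

/-- Condition (B) for integral morphisms. -/
theorem propB_of_integral {X Y : Scheme.{u}} (f : X ⟶ Y) [IsIntegralHom f] :
    BigSite.PropB f := by
  intro V v _ ι U g hg hcov
  choose V' a ha y' hy' κ hκ W hdisj hcovW hfac using
    fun y : V => exists_cover_int f v U g hg hcov y
  refine ⟨V, V', a, ha, fun y => ⟨y, y' y, hy' y⟩, fun j => ⟨κ j, W j, hdisj j, ?_, hfac j⟩⟩
  refine eq_top_iff.2 (fun x _ => ?_)
  obtain ⟨k, hk⟩ := hcovW j x
  exact TopologicalSpace.Opens.mem_iSup.2 ⟨k, hk⟩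


private lemma propA_aux {X Y U : Scheme.{u}} (f : X ⟶ Y) [IsIntegralHom f] (g : U ⟶ X) [Etale g]
    (u : U) (U₁ : U.Opens) (hiso : ∀ u' : U, u' ∈ U₁ → g u' = g u → u' = u)
    (V₀ : Y.Opens) (hy : f (g u) ∈ V₀)
    (T : ULift.{u} Bool → X.Etale)
    (hTt : ∀ x' : X, f x' ∈ V₀ → x' ∈ closure {g u} →
      ∃ w' : (T ⟨true⟩).left, (T ⟨true⟩).hom w' = x')
    (hTf : ∀ x' : X, x' ∉ closure {g u} → ∃ z : (T ⟨false⟩).left, (T ⟨false⟩).hom z = x')
    (hTf' : ∀ z : (T ⟨false⟩).left, (T ⟨false⟩).hom z ∉ closure {g u})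
    (hTt' : ∃ j : (T ⟨true⟩).left ⟶ U, j ≫ g = (T ⟨true⟩).hom ∧ ∀ z, j z ∈ U₁) :
    ∃ (V : Scheme.{u}) (v : V ⟶ Y) (_ : Etale v) (W : (pullback f v).Opens)
      (_ : IsClosed (W : Set ↥(pullback f v))) (h : (W : Scheme.{u}) ⟶ U),
      h ≫ g = W.ι ≫ pullback.fst f v ∧ u ∈ Set.range h.base := by
  classical
  have hg : ∀ i, Etale (pullback.snd (T i).hom (pullback.fst f V₀.ι)) := fun i => by
    haveI : Etale (T i).hom := (T i).prop
    infer_instance
  have hcov : ∀ p : ↥(pullback f V₀.ι),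
      ∃ i, p ∈ Set.range (pullback.snd (T i).hom (pullback.fst f V₀.ι)).base := by
    intro p
    have hcond : f ((pullback.fst f V₀.ι) p) = V₀.ι ((pullback.snd f V₀.ι) p) :=
      (Scheme.Hom.comp_apply _ _ p).symm.trans
        ((congrArg (fun m : pullback f V₀.ι ⟶ Y => m p) pullback.condition).trans
          (Scheme.Hom.comp_apply _ _ p))
    have hfx' : f ((pullback.fst f V₀.ι) p) ∈ V₀ := by
      rw [hcond]
      exact ((pullback.snd f V₀.ι) p).2
    by_cases hz : (pullback.fst f V₀.ι) p ∈ closure {g u}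
    · obtain ⟨w', hw'⟩ := hTt _ hfx' hz
      obtain ⟨q, -, hq2⟩ := Scheme.Pullback.exists_preimage_pullback (f := (T ⟨true⟩).hom)
        (g := pullback.fst f V₀.ι) w' p hw'
      exact ⟨⟨true⟩, q, hq2⟩
    · obtain ⟨z, hz'⟩ := hTf _ hz
      obtain ⟨q, -, hq2⟩ := Scheme.Pullback.exists_preimage_pullback (f := (T ⟨false⟩).hom)
        (g := pullback.fst f V₀.ι) z p hz'
      exact ⟨⟨false⟩, q, hq2⟩
  obtain ⟨V', a, ha, y', hy', κ, hκ, W, hdisj, hcovW, hfac⟩ :=
    exists_cover_int f V₀.ι (fun i => pullback (T i).hom (pullback.fst f V₀.ι))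
      (fun i => pullback.snd (T i).hom (pullback.fst f V₀.ι)) hg hcov ⟨f (g u), hy⟩
  haveI := ha
  have hxy : f (g u) = (a ≫ V₀.ι) y' :=
    ((Scheme.Hom.comp_apply _ _ y').trans (congrArg (fun t => V₀.ι t) hy')).symm
  obtain ⟨p, hp1, hp2⟩ := Scheme.Pullback.exists_preimage_pullback (f := f) (g := a ≫ V₀.ι)
    (g u) y' hxy
  obtain ⟨k, hk⟩ := hcovW p
  have hclosed : IsClosed ((W k : (pullback f (a ≫ V₀.ι)).Opens) : Set ↥(pullback f (a ≫ V₀.ι))) := by
    have hcompl : ((W k : (pullback f (a ≫ V₀.ι)).Opens) : Set ↥(pullback f (a ≫ V₀.ι)))ᶜ =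
        ⋃ l ∈ {l : κ | l ≠ k}, ((W l : (pullback f (a ≫ V₀.ι)).Opens) : Set _) := by
      ext q
      simp only [Set.mem_compl_iff, Set.mem_iUnion, Set.mem_setOf_eq, SetLike.mem_coe,
        exists_prop]
      constructor
      · intro hq
        obtain ⟨l, hl⟩ := hcovW q
        exact ⟨l, fun e => hq (e ▸ hl), hl⟩
      · rintro ⟨l, hlk, hl⟩ hq
        have := disjoint_iff_inf_le.1 (hdisj l k hlk) ⟨hl, hq⟩
        simpa using this
    rw [← isOpen_compl_iff, hcompl]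
    exact isOpen_biUnion (fun l _ => (W l).isOpen)
  obtain ⟨i, h, hh⟩ := hfac k
  obtain ⟨p', hp'⟩ : ∃ p' : ↥((W k : (pullback f (a ≫ V₀.ι)).Opens) : Scheme.{u}),
      (W k).ι p' = p := ⟨⟨p, hk⟩, rfl⟩
  have hmor : (h ≫ pullback.fst (T i).hom (pullback.fst f V₀.ι)) ≫ (T i).hom =
      (W k).ι ≫ pullback.fst f (a ≫ V₀.ι) :=
    (Category.assoc _ _ _).trans ((congrArg (h ≫ ·) pullback.condition).trans
      ((Category.assoc _ _ _).symm.trans ((congrArg (· ≫ pullback.fst f V₀.ι) hh).trans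
        ((Category.assoc _ _ _).trans (congrArg ((W k).ι ≫ ·)
          ((pullback.lift_fst _ _ _).trans (Category.comp_id _)))))))
  have hval : (T i).hom ((h ≫ pullback.fst (T i).hom (pullback.fst f V₀.ι)) p') = g u :=
    (Scheme.Hom.comp_apply _ _ p').symm.trans
      ((congrArg (fun m : ((W k : (pullback f (a ≫ V₀.ι)).Opens) : Scheme.{u}) ⟶ X => m p')
        hmor).trans ((Scheme.Hom.comp_apply _ _ p').trans
          ((congrArg (fun t => (pullback.fst f (a ≫ V₀.ι)) t) hp').trans hp1)))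
  rcases i with ⟨_ | _⟩
  · have hno := hTf' ((h ≫ pullback.fst (T ⟨false⟩).hom (pullback.fst f V₀.ι)) p')
    rw [hval] at hno
    exact absurd (subset_closure (Set.mem_singleton (g u))) hno
  · obtain ⟨j, hj1, hj2⟩ := hTt'
    refine ⟨V', a ≫ V₀.ι, inferInstance, W k, hclosed,
      (h ≫ pullback.fst (T ⟨true⟩).hom (pullback.fst f V₀.ι)) ≫ j, ?_, p', ?_⟩
    · exact (Category.assoc _ _ _).trans
        ((congrArg ((h ≫ pullback.fst (T ⟨true⟩).hom (pullback.fst f V₀.ι)) ≫ ·) hj1).trans hmor)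
    · have h1 : g (j ((h ≫ pullback.fst (T ⟨true⟩).hom (pullback.fst f V₀.ι)) p')) = g u :=
        (Scheme.Hom.comp_apply _ _ _).symm.trans
          ((congrArg (fun m : (T ⟨true⟩).left ⟶ X =>
            m ((h ≫ pullback.fst (T ⟨true⟩).hom (pullback.fst f V₀.ι)) p')) hj1).trans hval)
      exact (Scheme.Hom.comp_apply _ _ p').trans (hiso _ (hj2 _) h1)

/-- Condition (A) for integral morphisms. -/
theorem propA_of_integral {X Y : Scheme.{u}} (f : X ⟶ Y) [IsIntegralHom f] :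
    BigSite.PropA f := by
  classical
  intro U g _ u
  obtain ⟨U₁, hu₁, hiso⟩ : ∃ U₁ : U.Opens, u ∈ U₁ ∧
      ∀ u' : U, u' ∈ U₁ → g u' = g u → u' = u :=
    IntUIGeom.exists_open_isolating (Scheme.Etale.mk g) u
  obtain ⟨O, hO⟩ : ∃ O : X.Opens, ∀ x' : X, x' ∈ O ↔ ∃ w : U, w ∈ U₁ ∧ g w = x' :=
    ⟨⟨g '' (U₁ : Set U), g.isOpenMap _ U₁.isOpen⟩, fun x' => Iff.rfl⟩
  have hCcl : IsClosed (closure {g u} ∩ (O : Set X)ᶜ) :=
    isClosed_closure.inter O.isOpen.isClosed_compl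
  have hfC : IsClosed (f '' (closure {g u} ∩ (O : Set X)ᶜ)) := f.isClosedMap _ hCcl
  obtain ⟨V₀, hV₀⟩ : ∃ V₀ : Y.Opens,
      ∀ y' : Y, y' ∈ V₀ ↔ y' ∉ f '' (closure {g u} ∩ (O : Set X)ᶜ) :=
    ⟨⟨_, hfC.isOpen_compl⟩, fun y' => Iff.rfl⟩
  have hy : f (g u) ∈ V₀ := by
    rw [hV₀]
    rintro ⟨c, ⟨hc1, hc2⟩, hcy⟩
    have hsp : g u ⤳ c := specializes_iff_mem_closure.2 hc1
    have hcx : c = g u :=
      Groth.Agent.Lib.Helper1.AssPush.eq_of_specializes_of_isIntegralHom f c (g u) hsp hcy.symm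
    apply hc2
    rw [hcx]
    exact (hO (g u)).2 ⟨u, hu₁, rfl⟩
  obtain ⟨Zc, hZc⟩ : ∃ Zc : X.Opens, ∀ x' : X, x' ∈ Zc ↔ x' ∉ closure {g u} :=
    ⟨⟨_, isClosed_closure.isOpen_compl⟩, fun x' => Iff.rfl⟩
  refine propA_aux f g u U₁ hiso V₀ hy
    (fun b => if b.down then Scheme.Etale.mk (U₁.ι ≫ g) else Scheme.Etale.mk Zc.ι) ?_ ?_ ?_ ?_
  · intro x' hfx' hz
    have hx'O : x' ∈ O := by
      by_contra hno
      exact (hV₀ _).1 hfx' ⟨x', ⟨hz, hno⟩, rfl⟩
    obtain ⟨w, hw₁, hw⟩ := (hO x').1 hx'O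
    exact ⟨(⟨w, hw₁⟩ : ↥U₁), hw⟩
  · intro x' hz
    exact ⟨(⟨x', (hZc x').2 hz⟩ : ↥Zc), rfl⟩
  · intro z
    exact (hZc _).1 (z : ↥Zc).2
  · exact ⟨(U₁.ι : (U₁ : Scheme.{u}) ⟶ U), rfl, fun z => (z : ↥U₁).2⟩

end Groth.Agent.Lib.Helper15.IntPropAB
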