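import Mathlib
import Groth.Prelude.Def_EtBase
import Groth.Prelude.Def_BigSite
import Groth.Agent.Lib.Helper15.IntPropAB
import Groth.Agent.S0408

/-!
# Condition (A) for separated locally quasi-finite morphisms

Via étale localization of quasi-finite morphisms (`S0408`) and condition (A) for finite morphisms.
-/

set_option autoImplicit false
set_option backward.isDefEq.respectTransparency false
universe u

namespace Groth.Agent.Lib.Helper15.IntPropA2

open CategoryTheory Limits AlgebraicGeometry Opposite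
open Groth.Agent.Lib.Helper15

set_option maxHeartbeats 800000 in
theorem propA_of_sep_lqf {X Y : Scheme.{u}} (f : X ⟶ Y) [IsSeparated f] [LocallyQuasiFinite f]
    [LocallyOfFiniteType f] : BigSite.PropA f := by
  classical
  intro U₀ g₀ _ u₀
  obtain ⟨V, γ, v₁, hγ, hγv, -, P, pt, hPclopen, hPfin, hptP, hpt1, hpt2, -, -⟩ :=
    Groth.Agent.S0408.result f (g₀ u₀) (f.quasiFiniteAt (g₀ u₀))
  haveI := hγ
  haveI := hPfin
  have hpre : g₀ u₀ = (P.ι ≫ pullback.fst f γ) (⟨pt, hptP⟩ : ↥P) :=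
    ((Scheme.Hom.comp_apply P.ι (pullback.fst f γ) (⟨pt, hptP⟩ : ↥P)).trans hpt1).symm
  obtain ⟨u', hu'1, -⟩ := Scheme.Pullback.exists_preimage_pullback (f := g₀)
    (g := P.ι ≫ pullback.fst f γ) u₀ (⟨pt, hptP⟩ : ↥P) hpre
  obtain ⟨V', v', hv', W, hWcl, h, hh, hu⟩ :=
    IntPropAB.propA_of_integral (P.ι ≫ pullback.snd f γ)
      (pullback g₀ (P.ι ≫ pullback.fst f γ)) (pullback.snd g₀ (P.ι ≫ pullback.fst f γ)) u'
  haveI := hv'
  obtain ⟨j, hj⟩ : ∃ j : pullback (P.ι ≫ pullback.snd f γ) v' ⟶ pullback (pullback.snd f γ) v',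
      j = pullback.map (P.ι ≫ pullback.snd f γ) v' (pullback.snd f γ) v' P.ι (𝟙 V') (𝟙 V)
        (by simp) (by simp) := ⟨_, rfl⟩
  haveI : IsOpenImmersion j := by
    rw [hj]
    infer_instance
  have hj1 : j ≫ pullback.fst (pullback.snd f γ) v' =
      pullback.fst (P.ι ≫ pullback.snd f γ) v' ≫ P.ι := by
    rw [hj]
    exact pullback.lift_fst _ _ _
  have hjrange : IsClosed (Set.range j) := by
    rw [hj, Scheme.Pullback.range_map]
    refine IsClosed.inter ?_ ?_
    · rw [Scheme.Opens.range_ι]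
      exact hPclopen.1.preimage (pullback.fst (pullback.snd f γ) v').continuous
    · have : Set.range (𝟙 V' : V' ⟶ V') = Set.univ := Set.range_eq_univ.2 (fun y => ⟨y, rfl⟩)
      rw [this, Set.preimage_univ]
      exact isClosed_univ
  obtain ⟨J, hJ⟩ : ∃ J : pullback (P.ι ≫ pullback.snd f γ) v' ⟶ pullback f (v' ≫ γ),
      J = j ≫ (pullbackLeftPullbackSndIso f γ v').hom := ⟨_, rfl⟩
  haveI : IsOpenImmersion J := by
    rw [hJ]
    infer_instance
  have hJfst : J ≫ pullback.fst f (v' ≫ γ) =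
      pullback.fst (P.ι ≫ pullback.snd f γ) v' ≫ P.ι ≫ pullback.fst f γ := by
    rw [hJ, Category.assoc, pullbackLeftPullbackSndIso_hom_fst, ← Category.assoc, hj1,
      Category.assoc]
  have hJW : IsClosed ((J ''ᵁ W : (pullback f (v' ≫ γ)).Opens) : Set ↥(pullback f (v' ≫ γ))) := by
    have h1 : IsClosed ((j : _ → _) '' (W : Set ↥(pullback (P.ι ≫ pullback.snd f γ) v'))) :=
      (Topology.IsClosedEmbedding.mk j.isOpenEmbedding.isEmbedding hjrange).isClosedMap _ hWcl
    have h2 : IsClosed (((pullbackLeftPullbackSndIso f γ v').hom : _ → _) ''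
        ((j : _ → _) '' (W : Set ↥(pullback (P.ι ≫ pullback.snd f γ) v')))) :=
      (pullbackLeftPullbackSndIso f γ v').hom.homeomorph.isClosedMap _ h1
    convert h2 using 1
    ext z
    constructor
    · rintro ⟨w, hw, rfl⟩
      refine ⟨j w, ⟨w, hw, rfl⟩, ?_⟩
      rw [hJ]
      exact (Scheme.Hom.comp_apply _ _ w).symm
    · rintro ⟨_, ⟨w, hw, rfl⟩, rfl⟩
      refine ⟨w, hw, ?_⟩
      rw [hJ]
      exact Scheme.Hom.comp_apply _ _ w
  refine ⟨V', v' ≫ γ, inferInstance, J ''ᵁ W, hJW,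
    (J.isoImage W).inv ≫ h ≫ pullback.fst g₀ (P.ι ≫ pullback.fst f γ), ?_, ?_⟩
  · have hcondU : pullback.fst g₀ (P.ι ≫ pullback.fst f γ) ≫ g₀ =
        pullback.snd g₀ (P.ι ≫ pullback.fst f γ) ≫ P.ι ≫ pullback.fst f γ := pullback.condition
    calc ((J.isoImage W).inv ≫ h ≫ pullback.fst g₀ (P.ι ≫ pullback.fst f γ)) ≫ g₀
        = (J.isoImage W).inv ≫ (h ≫ pullback.snd g₀ (P.ι ≫ pullback.fst f γ)) ≫
            P.ι ≫ pullback.fst f γ := by
          simp only [Category.assoc, hcondU]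
      _ = (J.isoImage W).inv ≫ W.ι ≫ J ≫ pullback.fst f (v' ≫ γ) := by
          rw [hh, hJfst]
          simp only [Category.assoc]
      _ = (J ''ᵁ W).ι ≫ pullback.fst f (v' ≫ γ) := by
          rw [← Category.assoc W.ι, ← Category.assoc, Scheme.Hom.isoImage_inv_ι]
  · obtain ⟨w, hw⟩ := hu
    refine ⟨(J.isoImage W).hom w, ?_⟩
    have e1 : (J.isoImage W).hom ≫ (J.isoImage W).inv ≫ h ≫
        pullback.fst g₀ (P.ι ≫ pullback.fst f γ) =
        h ≫ pullback.fst g₀ (P.ι ≫ pullback.fst f γ) := Iso.hom_inv_id_assoc _ _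
    have e2 : ((J.isoImage W).inv ≫ h ≫ pullback.fst g₀ (P.ι ≫ pullback.fst f γ))
        ((J.isoImage W).hom w) = (pullback.fst g₀ (P.ι ≫ pullback.fst f γ)) (h w) :=
      (Scheme.Hom.comp_apply _ _ w).symm.trans
        ((congrArg (fun m : ((W : (pullback (P.ι ≫ pullback.snd f γ) v').Opens) : Scheme.{u}) ⟶ U₀
          => m w) e1).trans (Scheme.Hom.comp_apply _ _ w))
    exact e2.trans ((congrArg (fun t => (pullback.fst g₀ (P.ι ≫ pullback.fst f γ)) t) hw).trans
      hu'1)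

end Groth.Agent.Lib.Helper15.IntPropA2
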