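import Mathlib
import Groth.Prelude.Def_EtBase
import Groth.Prelude.Def_BigSite
import Groth.Agent.Lib.Helper15.IntPropAB

/-!
# Condition (C) for integral injective morphisms

* `exists_glue_disjoint`: gluing morphisms over a disjoint open cover.
* `propC_local`, `propC_of_integral_injective`.
-/

set_option autoImplicit false
set_option backward.isDefEq.respectTransparency false
universe u

namespace Groth.Agent.Lib.Helper15.IntPropC

open CategoryTheory Limits AlgebraicGeometry Opposite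
open Groth.Agent.Lib.Helper15

/-- Gluing morphisms over a pairwise disjoint open cover. -/
theorem exists_glue_disjoint {P U X : Scheme.{u}} (g : U ⟶ X) (π : P ⟶ X) {κ : Type u}
    (Wc : κ → P.Opens) (hcov : ∀ p : P, ∃ k, p ∈ Wc k)
    (hdisj : ∀ k l, k ≠ l → Disjoint (Wc k) (Wc l))
    (m : ∀ k, ((Wc k : P.Opens) : Scheme.{u}) ⟶ U) (hm : ∀ k, m k ≫ g = (Wc k).ι ≫ π) :
    ∃ h : P ⟶ U, h ≫ g = π ∧ ∀ k, (Wc k).ι ≫ h = m k := by
  classical
  have hU : TopologicalSpace.IsOpenCover Wc := by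
    refine eq_top_iff.2 (fun p _ => ?_)
    obtain ⟨k, hk⟩ := hcov p
    exact TopologicalSpace.Opens.mem_iSup.2 ⟨k, hk⟩
  have hcompat : ∀ k l, pullback.fst ((P.openCoverOfIsOpenCover Wc hU).f k)
      ((P.openCoverOfIsOpenCover Wc hU).f l) ≫ m k = pullback.snd _ _ ≫ m l := by
    intro k l
    by_cases hkl : k = l
    · subst hkl
      have e : pullback.fst (Wc k).ι (Wc k).ι = pullback.snd (Wc k).ι (Wc k).ι :=
        (cancel_mono (Wc k).ι).1 pullback.condition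
      exact congrArg (· ≫ m k) e
    · have hE : IsEmpty ↥(pullback (Wc k).ι (Wc l).ι) := ⟨fun z => by
        have h1 : (Wc k).ι ((pullback.fst (Wc k).ι (Wc l).ι) z) =
            (Wc l).ι ((pullback.snd (Wc k).ι (Wc l).ι) z) :=
          (Scheme.Hom.comp_apply _ _ z).symm.trans
            ((congrArg (fun m : pullback (Wc k).ι (Wc l).ι ⟶ P => m z) pullback.condition).trans
              (Scheme.Hom.comp_apply _ _ z))
        have hk : (Wc k).ι ((pullback.fst (Wc k).ι (Wc l).ι) z) ∈ Wc k :=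
          ((pullback.fst (Wc k).ι (Wc l).ι) z).2
        have hl : (Wc l).ι ((pullback.snd (Wc k).ι (Wc l).ι) z) ∈ Wc l :=
          ((pullback.snd (Wc k).ι (Wc l).ι) z).2
        rw [← h1] at hl
        have := disjoint_iff_inf_le.1 (hdisj k l hkl) ⟨hk, hl⟩
        simpa using this⟩
      haveI : IsEmpty ↥(pullback ((P.openCoverOfIsOpenCover Wc hU).f k)
          ((P.openCoverOfIsOpenCover Wc hU).f l)) := hE
      exact (isInitialOfIsEmpty).hom_ext _ _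
  refine ⟨(P.openCoverOfIsOpenCover Wc hU).glueMorphisms m hcompat, ?_, fun k =>
    (P.openCoverOfIsOpenCover Wc hU).ι_glueMorphisms m hcompat k⟩
  refine Scheme.Cover.hom_ext (P.openCoverOfIsOpenCover Wc hU) _ _ (fun k => ?_)
  exact (Category.assoc _ _ _).symm.trans
    ((congrArg (· ≫ g) ((P.openCoverOfIsOpenCover Wc hU).ι_glueMorphisms m hcompat k)).trans (hm k))

private lemma core {X Y U : Scheme.{u}} (f : X ⟶ Y) [IsIntegralHom f] (g : U ⟶ X) [Etale g]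
    (u : U) (U₁ : U.Opens) (hiso : ∀ u' : U, u' ∈ U₁ → g u' = g u → u' = u)
    (V₀ : Y.Opens) (hy : f (g u) ∈ V₀)
    (T : ULift.{u} Bool → X.Etale)
    (hTt : ∀ x' : X, f x' ∈ V₀ → x' ∈ closure {g u} →
      ∃ w' : (T ⟨true⟩).left, (T ⟨true⟩).hom w' = x')
    (hTf : ∀ x' : X, x' ∉ closure {g u} → ∃ z : (T ⟨false⟩).left, (T ⟨false⟩).hom z = x')
    (hTf' : ∀ z : (T ⟨false⟩).left, (T ⟨false⟩).hom z ∉ closure {g u})
    (hTt' : ∃ j : (T ⟨true⟩).left ⟶ U, j ≫ g = (T ⟨true⟩).hom ∧ ∀ z, j z ∈ U₁) :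
    ∃ (V' : Scheme.{u}) (a : V' ⟶ (V₀ : Scheme.{u})) (_ : Etale a) (y' : V'),
      a y' = ⟨f (g u), hy⟩ ∧
      ∃ (κ : Type u) (_ : Finite κ) (W : κ → (pullback f (a ≫ V₀.ι)).Opens),
        (∀ k l, k ≠ l → Disjoint (W k) (W l)) ∧ (∀ x, ∃ k, x ∈ W k) ∧
        ∀ k, (∃ h' : ((W k : (pullback f (a ≫ V₀.ι)).Opens) : Scheme.{u}) ⟶ U,
              h' ≫ g = (W k).ι ≫ pullback.fst f (a ≫ V₀.ι) ∧
              ∀ p', (pullback.fst f (a ≫ V₀.ι)) ((W k).ι p') = g u → h' p' = u) ∨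
            (∀ p' : ↥((W k : (pullback f (a ≫ V₀.ι)).Opens) : Scheme.{u}),
              (pullback.fst f (a ≫ V₀.ι)) ((W k).ι p') ∉ closure {g u}) := by
  classical
  have hg : ∀ i, Etale (pullback.snd (T i).hom (pullback.fst f V₀.ι)) := fun i => by
    haveI : Etale (T i).hom := (T i).prop
    infer_instance
  have hcov : ∀ p : ↥(pullback f V₀.ι),
      ∃ i, p ∈ Set.range (pullback.snd (T i).hom (pullback.fst f V₀.ι)).base := by
    intro p
    have hcond : f ((pullback.fst f V₀.ι) p) = V₀.ι ((pullback.snd f V₀.ι) p) :=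
      (Scheme.Hom.comp_apply _ _ p).symm.trans
        ((congrArg (fun m : pullback f V₀.ι ⟶ Y => m p) pullback.condition).trans
          (Scheme.Hom.comp_apply _ _ p))
    have hfx' : f ((pullback.fst f V₀.ι) p) ∈ V₀ := by
      rw [hcond]
      exact ((pullback.snd f V₀.ι) p).2
    by_cases hz : (pullback.fst f V₀.ι) p ∈ closure {g u}
    · obtain ⟨w', hw'⟩ := hTt _ hfx' hz
      obtain ⟨q, -, hq2⟩ := Scheme.Pullback.exists_preimage_pullback (f := (T ⟨true⟩).hom)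
        (g := pullback.fst f V₀.ι) w' p hw'
      exact ⟨⟨true⟩, q, hq2⟩
    · obtain ⟨z, hz'⟩ := hTf _ hz
      obtain ⟨q, -, hq2⟩ := Scheme.Pullback.exists_preimage_pullback (f := (T ⟨false⟩).hom)
        (g := pullback.fst f V₀.ι) z p hz'
      exact ⟨⟨false⟩, q, hq2⟩
  obtain ⟨V', a, ha, y', hy', κ, hκ, W, hdisj, hcovW, hfac⟩ :=
    IntPropAB.exists_cover_int f V₀.ι (fun i => pullback (T i).hom (pullback.fst f V₀.ι))
      (fun i => pullback.snd (T i).hom (pullback.fst f V₀.ι)) hg hcov ⟨f (g u), hy⟩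
  refine ⟨V', a, ha, y', hy', κ, hκ, W, hdisj, hcovW, fun k => ?_⟩
  obtain ⟨i, h, hh⟩ := hfac k
  have hmor : (h ≫ pullback.fst (T i).hom (pullback.fst f V₀.ι)) ≫ (T i).hom =
      (W k).ι ≫ pullback.fst f (a ≫ V₀.ι) :=
    (Category.assoc _ _ _).trans ((congrArg (h ≫ ·) pullback.condition).trans
      ((Category.assoc _ _ _).symm.trans ((congrArg (· ≫ pullback.fst f V₀.ι) hh).trans
        ((Category.assoc _ _ _).trans (congrArg ((W k).ι ≫ ·)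
          ((pullback.lift_fst _ _ _).trans (Category.comp_id _)))))))
  have hval : ∀ p' : ↥((W k : (pullback f (a ≫ V₀.ι)).Opens) : Scheme.{u}),
      (T i).hom ((h ≫ pullback.fst (T i).hom (pullback.fst f V₀.ι)) p') =
        (pullback.fst f (a ≫ V₀.ι)) ((W k).ι p') := fun p' =>
    (Scheme.Hom.comp_apply _ _ p').symm.trans
      ((congrArg (fun m : ((W k : (pullback f (a ≫ V₀.ι)).Opens) : Scheme.{u}) ⟶ X => m p')
        hmor).trans (Scheme.Hom.comp_apply _ _ p'))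
  rcases i with ⟨_ | _⟩
  · right
    intro p'
    rw [← hval p']
    exact hTf' _
  · left
    obtain ⟨j, hj1, hj2⟩ := hTt'
    refine ⟨(h ≫ pullback.fst (T ⟨true⟩).hom (pullback.fst f V₀.ι)) ≫ j, ?_, ?_⟩
    · exact (Category.assoc _ _ _).trans
        ((congrArg ((h ≫ pullback.fst (T ⟨true⟩).hom (pullback.fst f V₀.ι)) ≫ ·) hj1).trans hmor)
    · intro p' hp'
      have h1 : g (j ((h ≫ pullback.fst (T ⟨true⟩).hom (pullback.fst f V₀.ι)) p')) = g u :=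
        (Scheme.Hom.comp_apply _ _ _).symm.trans
          ((congrArg (fun m : (T ⟨true⟩).left ⟶ X =>
            m ((h ≫ pullback.fst (T ⟨true⟩).hom (pullback.fst f V₀.ι)) p')) hj1).trans
              ((hval p').trans hp'))
      exact (Scheme.Hom.comp_apply _ _ p').trans (hiso _ (hj2 _) h1)

/-- Local form of condition (C) for an integral injective morphism. -/
theorem propC_local {X Y U : Scheme.{u}} (f : X ⟶ Y) [IsIntegralHom f]
    (hinj : Function.Injective f.base) (g : U ⟶ X) [Etale g] (u : U) :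
    ∃ (V : Scheme.{u}) (v : V ⟶ Y) (_ : Etale v) (h : pullback f v ⟶ U),
      h ≫ g = pullback.fst f v ∧ u ∈ Set.range h.base := by
  classical
  obtain ⟨U₁, hu₁, hiso⟩ : ∃ U₁ : U.Opens, u ∈ U₁ ∧
      ∀ u' : U, u' ∈ U₁ → g u' = g u → u' = u :=
    IntUIGeom.exists_open_isolating (Scheme.Etale.mk g) u
  obtain ⟨O, hO⟩ : ∃ O : X.Opens, ∀ x' : X, x' ∈ O ↔ ∃ w : U, w ∈ U₁ ∧ g w = x' :=
    ⟨⟨g '' (U₁ : Set U), g.isOpenMap _ U₁.isOpen⟩, fun x' => Iff.rfl⟩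
  have hCcl : IsClosed (closure {g u} ∩ (O : Set X)ᶜ) :=
    isClosed_closure.inter O.isOpen.isClosed_compl
  have hfC : IsClosed (f '' (closure {g u} ∩ (O : Set X)ᶜ)) := f.isClosedMap _ hCcl
  obtain ⟨V₀, hV₀⟩ : ∃ V₀ : Y.Opens,
      ∀ y' : Y, y' ∈ V₀ ↔ y' ∉ f '' (closure {g u} ∩ (O : Set X)ᶜ) :=
    ⟨⟨_, hfC.isOpen_compl⟩, fun y' => Iff.rfl⟩
  have hy : f (g u) ∈ V₀ := by
    rw [hV₀]
    rintro ⟨c, ⟨hc1, hc2⟩, hcy⟩
    have hcx : c = g u := hinj hcy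
    apply hc2
    rw [hcx]
    exact (hO (g u)).2 ⟨u, hu₁, rfl⟩
  obtain ⟨Zc, hZc⟩ : ∃ Zc : X.Opens, ∀ x' : X, x' ∈ Zc ↔ x' ∉ closure {g u} :=
    ⟨⟨_, isClosed_closure.isOpen_compl⟩, fun x' => Iff.rfl⟩
  obtain ⟨V', a, ha, y', hy', κ, hκ, W, hdisj, hcovW, halt⟩ := core f g u U₁ hiso V₀ hy
    (fun b => if b.down then Scheme.Etale.mk (U₁.ι ≫ g) else Scheme.Etale.mk Zc.ι)
    (by
      intro x' hfx' hz
      have hx'O : x' ∈ O := by
        by_contra hno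
        exact (hV₀ _).1 hfx' ⟨x', ⟨hz, hno⟩, rfl⟩
      obtain ⟨w, hw₁, hw⟩ := (hO x').1 hx'O
      exact ⟨(⟨w, hw₁⟩ : ↥U₁), hw⟩)
    (fun x' hz => ⟨(⟨x', (hZc x').2 hz⟩ : ↥Zc), rfl⟩)
    (fun z => (hZc _).1 (z : ↥Zc).2)
    ⟨(U₁.ι : (U₁ : Scheme.{u}) ⟶ U), rfl, fun z => (z : ↥U₁).2⟩
  haveI := ha
  -- good pieces
  obtain ⟨good, hgood⟩ : ∃ good : κ → Prop, ∀ k, good k ↔
      ∃ h' : ((W k : (pullback f (a ≫ V₀.ι)).Opens) : Scheme.{u}) ⟶ U,
        h' ≫ g = (W k).ι ≫ pullback.fst f (a ≫ V₀.ι) ∧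
        ∀ p', (pullback.fst f (a ≫ V₀.ι)) ((W k).ι p') = g u → h' p' = u :=
    ⟨_, fun k => Iff.rfl⟩
  have hbad : ∀ k, ¬ good k → ∀ b : ↥(pullback f (a ≫ V₀.ι)), b ∈ W k →
      (pullback.fst f (a ≫ V₀.ι)) b ∉ closure {g u} := by
    intro k hk b hb
    rcases halt k with h1 | h1
    · exact absurd ((hgood k).2 h1) hk
    · exact h1 ⟨b, hb⟩
  -- the bad closed set
  have hBcl : IsClosed {b : ↥(pullback f (a ≫ V₀.ι)) | ∃ k, ¬ good k ∧ b ∈ W k} := by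
    have hcompl : {b : ↥(pullback f (a ≫ V₀.ι)) | ∃ k, ¬ good k ∧ b ∈ W k}ᶜ =
        ⋃ l ∈ {l : κ | good l}, ((W l : (pullback f (a ≫ V₀.ι)).Opens) : Set _) := by
      ext q
      simp only [Set.mem_compl_iff, Set.mem_iUnion, Set.mem_setOf_eq, SetLike.mem_coe,
        exists_prop, not_exists, not_and]
      constructor
      · intro hq
        obtain ⟨l, hl⟩ := hcovW q
        exact ⟨l, by_contra (fun hn => hq l hn hl), hl⟩
      · rintro ⟨l, hlg, hl⟩ k hk hq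
        have hkl : l ≠ k := fun e => hk (e ▸ hlg)
        have := disjoint_iff_inf_le.1 (hdisj l k hkl) ⟨hl, hq⟩
        simpa using this
    rw [← isOpen_compl_iff, hcompl]
    exact isOpen_biUnion (fun l _ => (W l).isOpen)
  have hφB : IsClosed ((pullback.snd f (a ≫ V₀.ι)) ''
      {b : ↥(pullback f (a ≫ V₀.ι)) | ∃ k, ¬ good k ∧ b ∈ W k}) :=
    (pullback.snd f (a ≫ V₀.ι)).isClosedMap _ hBcl
  obtain ⟨V'', hV''⟩ : ∃ V'' : V'.Opens, ∀ t : V', t ∈ V'' ↔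
      t ∉ (pullback.snd f (a ≫ V₀.ι)) ''
        {b : ↥(pullback f (a ≫ V₀.ι)) | ∃ k, ¬ good k ∧ b ∈ W k} :=
    ⟨⟨_, hφB.isOpen_compl⟩, fun t => Iff.rfl⟩
  have hcondP : ∀ b : ↥(pullback f (a ≫ V₀.ι)),
      f ((pullback.fst f (a ≫ V₀.ι)) b) = (a ≫ V₀.ι) ((pullback.snd f (a ≫ V₀.ι)) b) := fun b =>
    (Scheme.Hom.comp_apply _ _ b).symm.trans
      ((congrArg (fun m : pullback f (a ≫ V₀.ι) ⟶ Y => m b) pullback.condition).trans
        (Scheme.Hom.comp_apply _ _ b))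
  have hxy : f (g u) = (a ≫ V₀.ι) y' :=
    ((Scheme.Hom.comp_apply _ _ y').trans (congrArg (fun t => V₀.ι t) hy')).symm
  have hy'' : y' ∈ V'' := by
    rw [hV'']
    rintro ⟨b, ⟨k, hk, hb⟩, hby⟩
    have h1 : f ((pullback.fst f (a ≫ V₀.ι)) b) = f (g u) := by
      rw [hcondP b, hby, hxy]
    have h2 : (pullback.fst f (a ≫ V₀.ι)) b = g u := hinj h1
    exact hbad k hk b hb (by rw [h2]; exact subset_closure (Set.mem_singleton (g u)))
  -- the new neighbourhood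
  obtain ⟨ρ, hρ⟩ : ∃ ρ : pullback f (V''.ι ≫ a ≫ V₀.ι) ⟶ pullback f (a ≫ V₀.ι),
      ρ = pullback.map f (V''.ι ≫ a ≫ V₀.ι) f (a ≫ V₀.ι) (𝟙 X) V''.ι (𝟙 Y)
        (by simp) (by simp) := ⟨_, rfl⟩
  have hρ1 : ρ ≫ pullback.fst f (a ≫ V₀.ι) = pullback.fst f (V''.ι ≫ a ≫ V₀.ι) := by
    rw [hρ]
    exact (pullback.lift_fst _ _ _).trans (Category.comp_id _)
  have hρ2 : ρ ≫ pullback.snd f (a ≫ V₀.ι) = pullback.snd f (V''.ι ≫ a ≫ V₀.ι) ≫ V''.ι := by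
    rw [hρ]
    exact pullback.lift_snd _ _ _
  have hgoodcov : ∀ p : ↥(pullback f (V''.ι ≫ a ≫ V₀.ι)),
      ∃ k : {k : κ // good k}, p ∈ ρ ⁻¹ᵁ (W k.1) := by
    intro p
    obtain ⟨k, hk⟩ := hcovW (ρ p)
    by_cases hgk : good k
    · exact ⟨⟨k, hgk⟩, hk⟩
    · exfalso
      have h1 : (pullback.snd f (a ≫ V₀.ι)) (ρ p) =
          V''.ι ((pullback.snd f (V''.ι ≫ a ≫ V₀.ι)) p) :=
        (Scheme.Hom.comp_apply _ _ p).symm.trans
          ((congrArg (fun m : pullback f (V''.ι ≫ a ≫ V₀.ι) ⟶ V' => m p) hρ2).trans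
            (Scheme.Hom.comp_apply _ _ p))
      have h2 : V''.ι ((pullback.snd f (V''.ι ≫ a ≫ V₀.ι)) p) ∈ V'' :=
        ((pullback.snd f (V''.ι ≫ a ≫ V₀.ι)) p).2
      rw [← h1, hV''] at h2
      exact h2 ⟨ρ p, ⟨k, hgk, hk⟩, rfl⟩
  have hchoice : ∀ k : {k : κ // good k},
      ∃ h' : ((W k.1 : (pullback f (a ≫ V₀.ι)).Opens) : Scheme.{u}) ⟶ U,
        h' ≫ g = (W k.1).ι ≫ pullback.fst f (a ≫ V₀.ι) ∧
        ∀ p', (pullback.fst f (a ≫ V₀.ι)) ((W k.1).ι p') = g u → h' p' = u :=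
    fun k => (hgood k.1).1 k.2
  choose h' hh'1 hh'2 using hchoice
  obtain ⟨H, hH1, hH2⟩ := exists_glue_disjoint g (pullback.fst f (V''.ι ≫ a ≫ V₀.ι))
    (fun k : {k : κ // good k} => ρ ⁻¹ᵁ (W k.1)) hgoodcov
    (by
      intro k l hkl
      have hkl' : k.1 ≠ l.1 := fun e => hkl (Subtype.ext e)
      rw [disjoint_iff_inf_le]
      rintro q ⟨h1, h2⟩
      exact disjoint_iff_inf_le.1 (hdisj k.1 l.1 hkl') ⟨h1, h2⟩)
    (fun k => ρ.resLE (W k.1) (ρ ⁻¹ᵁ (W k.1)) le_rfl ≫ h' k)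
    (by
      intro k
      exact (Category.assoc _ _ _).trans
        ((congrArg (ρ.resLE (W k.1) (ρ ⁻¹ᵁ (W k.1)) le_rfl ≫ ·) (hh'1 k)).trans
          ((Category.assoc _ _ _).symm.trans
            ((congrArg (· ≫ pullback.fst f (a ≫ V₀.ι))
              (Scheme.Hom.resLE_comp_ι ρ (le_refl (ρ ⁻¹ᵁ (W k.1))))).trans
              ((Category.assoc _ _ _).trans (congrArg ((ρ ⁻¹ᵁ (W k.1)).ι ≫ ·) hρ1))))))
  refine ⟨V'', V''.ι ≫ a ≫ V₀.ι, inferInstance, H, hH1, ?_⟩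
  -- the point over `u`
  have hxy'' : f (g u) = (V''.ι ≫ a ≫ V₀.ι) (⟨y', hy''⟩ : ↥V'') :=
    hxy.trans (Scheme.Hom.comp_apply V''.ι (a ≫ V₀.ι) (⟨y', hy''⟩ : ↥V'')).symm
  obtain ⟨p, hp1, -⟩ := Scheme.Pullback.exists_preimage_pullback (f := f)
    (g := V''.ι ≫ a ≫ V₀.ι) (g u) (⟨y', hy''⟩ : ↥V'') hxy''
  obtain ⟨k, hk⟩ := hgoodcov p
  obtain ⟨pk, hpk⟩ : ∃ pk : ↥((ρ ⁻¹ᵁ (W k.1) : (pullback f (V''.ι ≫ a ≫ V₀.ι)).Opens) :
      Scheme.{u}), (ρ ⁻¹ᵁ (W k.1)).ι pk = p := ⟨⟨p, hk⟩, rfl⟩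
  refine ⟨p, ?_⟩
  have e1 : H p = (h' k) ((ρ.resLE (W k.1) (ρ ⁻¹ᵁ (W k.1)) le_rfl) pk) := by
    rw [← hpk]
    exact (Scheme.Hom.comp_apply _ _ pk).symm.trans
      ((congrArg (fun m : ((ρ ⁻¹ᵁ (W k.1) : (pullback f (V''.ι ≫ a ≫ V₀.ι)).Opens) :
        Scheme.{u}) ⟶ U => m pk) (hH2 k)).trans (Scheme.Hom.comp_apply _ _ pk))
  have e2 : (W k.1).ι ((ρ.resLE (W k.1) (ρ ⁻¹ᵁ (W k.1)) le_rfl) pk) = ρ p := by
    rw [← hpk]
    exact (Scheme.Hom.comp_apply _ _ pk).symm.trans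
      ((congrArg (fun m : ((ρ ⁻¹ᵁ (W k.1) : (pullback f (V''.ι ≫ a ≫ V₀.ι)).Opens) :
        Scheme.{u}) ⟶ pullback f (a ≫ V₀.ι) => m pk)
          (Scheme.Hom.resLE_comp_ι ρ (le_refl (ρ ⁻¹ᵁ (W k.1))))).trans
        (Scheme.Hom.comp_apply _ _ pk))
  have e3 : (pullback.fst f (a ≫ V₀.ι)) (ρ p) = g u :=
    (Scheme.Hom.comp_apply _ _ p).symm.trans
      ((congrArg (fun m : pullback f (V''.ι ≫ a ≫ V₀.ι) ⟶ X => m p) hρ1).trans hp1)
  exact e1.trans (hh'2 k _ ((congrArg (fun t => (pullback.fst f (a ≫ V₀.ι)) t) e2).trans e3))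


/-- Condition (C) for integral injective morphisms. -/
theorem propC_of_integral_injective {X Y : Scheme.{u}} (f : X ⟶ Y) [IsIntegralHom f]
    (hinj : Function.Injective f.base) : BigSite.PropC f := by
  classical
  intro U g _
  choose V v hv h hh hu using fun u : U => propC_local f hinj g u
  haveI : ∀ u, Etale (v u) := hv
  haveI hvt : Etale (Sigma.desc v) := IsZariskiLocalAtSource.sigmaDesc (P := @Etale) hv
  obtain ⟨Wc, hWc⟩ : ∃ Wc : U → (pullback f (Sigma.desc v)).Opens,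
      ∀ u p, p ∈ Wc u ↔ (pullback.snd f (Sigma.desc v)) p ∈ Set.range (Sigma.ι V u) :=
    ⟨fun u => (pullback.snd f (Sigma.desc v)) ⁻¹ᵁ (Sigma.ι V u).opensRange, fun u p => Iff.rfl⟩
  have hcov : ∀ p : ↥(pullback f (Sigma.desc v)), ∃ u, p ∈ Wc u := by
    intro p
    obtain ⟨⟨u, x⟩, hx⟩ := (sigmaMk V).surjective ((pullback.snd f (Sigma.desc v)) p)
    rw [sigmaMk_mk] at hx
    exact ⟨u, (hWc u p).2 ⟨x, hx⟩⟩
  have hdisj : ∀ k l, k ≠ l → Disjoint (Wc k) (Wc l) := by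
    intro k l hkl
    rw [disjoint_iff_inf_le]
    rintro q ⟨h1, h2⟩
    have h1' := (hWc k q).1 h1
    have h2' := (hWc l q).1 h2
    have := disjoint_iff_inf_le.1 (disjoint_opensRange_sigmaι V k l hkl) ⟨h1', h2'⟩
    simpa using this
  have hrange : ∀ u, Set.range ((Wc u).ι ≫ pullback.snd f (Sigma.desc v)) ⊆
      Set.range (Sigma.ι V u) := by
    rintro u _ ⟨z, rfl⟩
    have e : ((Wc u).ι ≫ pullback.snd f (Sigma.desc v)) z =
        (pullback.snd f (Sigma.desc v)) ((Wc u).ι z) := Scheme.Hom.comp_apply _ _ z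
    rw [e]
    exact (hWc u _).1 z.2
  obtain ⟨lft, hlft⟩ : ∃ lft : ∀ u,
      ((Wc u : (pullback f (Sigma.desc v)).Opens) : Scheme.{u}) ⟶ V u,
      ∀ u, lft u ≫ Sigma.ι V u = (Wc u).ι ≫ pullback.snd f (Sigma.desc v) :=
    ⟨fun u => IsOpenImmersion.lift (Sigma.ι V u) _ (hrange u),
      fun u => IsOpenImmersion.lift_fac _ _ _⟩
  have hq : ∀ u, ((Wc u).ι ≫ pullback.fst f (Sigma.desc v)) ≫ f = lft u ≫ v u := by
    intro u
    have e1 : lft u ≫ v u = (lft u ≫ Sigma.ι V u) ≫ Sigma.desc v :=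
      ((Category.assoc _ _ _).trans (congrArg (lft u ≫ ·) (Sigma.ι_desc v u))).symm
    rw [e1, hlft u, Category.assoc, Category.assoc, pullback.condition]
  obtain ⟨q, hq1, hq2⟩ : ∃ q : ∀ u,
      ((Wc u : (pullback f (Sigma.desc v)).Opens) : Scheme.{u}) ⟶ pullback f (v u),
      (∀ u, q u ≫ pullback.fst f (v u) = (Wc u).ι ≫ pullback.fst f (Sigma.desc v)) ∧
      (∀ u, q u ≫ pullback.snd f (v u) = lft u) :=
    ⟨fun u => pullback.lift _ _ (hq u), fun u => pullback.lift_fst _ _ _,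
      fun u => pullback.lift_snd _ _ _⟩
  obtain ⟨H, hH1, hH2⟩ := exists_glue_disjoint g (pullback.fst f (Sigma.desc v)) Wc hcov hdisj
    (fun u => q u ≫ h u)
    (fun u => (Category.assoc _ _ _).trans ((congrArg (q u ≫ ·) (hh u)).trans (hq1 u)))
  refine ⟨∐ V, Sigma.desc v, hvt, H, hH1, ⟨fun u => ?_⟩⟩
  obtain ⟨z, hz⟩ := hu u
  obtain ⟨σ, hσ1, hσ2⟩ : ∃ σ : pullback f (v u) ⟶ pullback f (Sigma.desc v),
      σ ≫ pullback.fst f (Sigma.desc v) = pullback.fst f (v u) ∧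
      σ ≫ pullback.snd f (Sigma.desc v) = pullback.snd f (v u) ≫ Sigma.ι V u :=
    ⟨pullback.lift (pullback.fst f (v u)) (pullback.snd f (v u) ≫ Sigma.ι V u)
      (by rw [Category.assoc, Sigma.ι_desc, pullback.condition]),
      pullback.lift_fst _ _ _, pullback.lift_snd _ _ _⟩
  have hσrange : Set.range σ ⊆ Set.range (Wc u).ι := by
    rintro _ ⟨t, rfl⟩
    rw [Scheme.Opens.range_ι]
    exact (hWc u _).2 ⟨(pullback.snd f (v u)) t, ((Scheme.Hom.comp_apply _ _ t).symm.trans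
      ((congrArg (fun m : pullback f (v u) ⟶ ∐ V => m t) hσ2.symm).trans
        (Scheme.Hom.comp_apply _ _ t)))⟩
  obtain ⟨σ', hσ'⟩ : ∃ σ' : pullback f (v u) ⟶
      ((Wc u : (pullback f (Sigma.desc v)).Opens) : Scheme.{u}), σ' ≫ (Wc u).ι = σ :=
    ⟨IsOpenImmersion.lift (Wc u).ι σ hσrange, IsOpenImmersion.lift_fac _ _ _⟩
  have hid : σ' ≫ q u = 𝟙 _ := by
    apply pullback.hom_ext
    · rw [Category.assoc, hq1 u, ← Category.assoc, hσ', hσ1, Category.id_comp]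
    · rw [Category.assoc, hq2 u, Category.id_comp]
      apply (cancel_mono (Sigma.ι V u)).1
      rw [Category.assoc, hlft u, ← Category.assoc, hσ', hσ2]
  refine ⟨(Wc u).ι (σ' z), ?_⟩
  have e1 : H ((Wc u).ι (σ' z)) = (h u) ((q u) (σ' z)) :=
    (Scheme.Hom.comp_apply _ _ _).symm.trans
      ((congrArg (fun m : ((Wc u : (pullback f (Sigma.desc v)).Opens) : Scheme.{u}) ⟶ U =>
        m (σ' z)) (hH2 u)).trans (Scheme.Hom.comp_apply _ _ _))
  have e2 : (q u) (σ' z) = z :=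
    (Scheme.Hom.comp_apply _ _ z).symm.trans
      (congrArg (fun m : pullback f (v u) ⟶ pullback f (v u) => m z) hid)
  exact e1.trans ((congrArg (fun t => (h u) t) e2).trans hz)

end Groth.Agent.Lib.Helper15.IntPropC
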