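import Mathlib
import Groth.Prelude.Def_EtBase
import Groth.Agent.Lib.Helper13.StalkPull
import Groth.Agent.Lib.Helper13.StalkConservative
import Groth.Agent.Lib.Helper15.EtGlue
import Groth.Agent.Lib.Helper15.ZarEt
import Groth.Agent.Lib.Helper15.FinitePushVanish

/-!
# A germ of `f_* H` vanishes if the section vanishes on an open containing the fibre

Extracted from the proof of `FinitePushVanish.isZero_stalk_push`: for `f` universally closed,
a section `s` of `H` over `X ×_Y W` that vanishes on an open `O` containing the fibre over the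
image of the geometric point `w` of `W` has zero germ in the stalk of `f_* H`.
-/

set_option autoImplicit false
universe u

namespace Groth.Agent.Lib.Helper15.IntUIGerm

open CategoryTheory Limits AlgebraicGeometry Opposite
open Groth.Agent.Lib.Helper13 Groth.Agent.Lib.Helper13.StalkPull
  Groth.Agent.Lib.Helper13.StalkConservative
open Groth.Agent.Lib.Helper15 Groth.Agent.Lib.Helper15.FinitePushVanish

set_option backward.isDefEq.respectTransparency.types false in
theorem germ_eq_zero {X Y : Scheme.{u}} (f : X ⟶ Y) [UniversallyClosed f] (H : EtCoh.Ab X)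
    {Ω : Type u} [Field Ω] [IsSepClosed Ω] (ξ : Spec (CommRingCat.of Ω) ⟶ Y) (W : Y.Etale)
    (w : (Scheme.pointSmallEtale ξ).fiber.obj W)
    (s : ToType (((EtCoh.push f).obj H).obj.obj (op W)))
    (O : ((EtCoh.bc f).obj W).left.Opens)
    (hO0 : H.obj.map (ZarEt.opnι ((EtCoh.bc f).obj W) O).op s = 0)
    (wl : Spec (CommRingCat.of Ω) ⟶ W.left) (hwl : wl = w.left)
    (hfib' : ∀ x' : ((EtCoh.bc f).obj W).left,
        (pullback.fst W.hom f) x' = wl default → x' ∈ O) :
    (Scheme.pointSmallEtale ξ).toPresheafFiber W w ((EtCoh.push f).obj H).obj s = 0 := by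
  haveI : Etale W.hom := W.prop
  have hw : wl ≫ W.hom = ξ := hwl ▸ Over.w w
  -- the closed image of the complement of `O`
  have hcl : IsClosed ((pullback.fst W.hom f) '' ((O : Set ((EtCoh.bc f).obj W).left)ᶜ)) :=
    (pullback.fst W.hom f).isClosedMap _ O.isOpen.isClosed_compl
  obtain ⟨W', hW'⟩ : ∃ W' : W.left.Opens, ∀ q : W.left, q ∈ W' ↔
      q ∉ (pullback.fst W.hom f) '' ((O : Set ((EtCoh.bc f).obj W).left)ᶜ) :=
    ⟨⟨_, hcl.isOpen_compl⟩, fun q => Iff.rfl⟩
  have hw₀ : wl default ∈ W' := by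
    rw [hW']
    rintro ⟨x', hx'O, hx'⟩
    exact hx'O (hfib' x' hx')
  have hrange : Set.range wl ⊆ Set.range (ZarEt.opnι W W').left := by
    rintro _ ⟨a, rfl⟩
    rw [Subsingleton.elim a default]
    obtain ⟨y, hy⟩ := ZarEt.exists_opnι_eq W W' _ hw₀
    exact ⟨y, hy⟩
  obtain ⟨l, hl⟩ : ∃ l : Spec (CommRingCat.of Ω) ⟶ (ZarEt.opn W W').left,
      l ≫ (ZarEt.opnι W W').left = wl :=
    ⟨IsOpenImmersion.lift (ZarEt.opnι W W').left wl hrange, IsOpenImmersion.lift_fac _ _ _⟩
  obtain ⟨w', hw'⟩ : ∃ w' : (Scheme.pointSmallEtale ξ).fiber.obj (ZarEt.opn W W'),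
      w'.left = l :=
    ⟨Over.homMk l (by
      show l ≫ (W'.ι ≫ W.hom) = ξ
      exact ((Category.assoc _ _ _).symm.trans (congrArg (· ≫ W.hom) hl)).trans hw), rfl⟩
  have hv : (Scheme.pointSmallEtale ξ).fiber.map (ZarEt.opnι W W') w' = w := by
    apply Over.OverMorphism.ext
    show w'.left ≫ (ZarEt.opnι W W').left = w.left
    rw [hw', ← hwl]
    exact hl
  have hr : Set.range ((EtCoh.bc f).map (ZarEt.opnι W W')).left ⊆
      Set.range (ZarEt.opnι ((EtCoh.bc f).obj W) O).left := by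
    rintro _ ⟨z, rfl⟩
    by_contra hz
    have hzO : ((EtCoh.bc f).map (ZarEt.opnι W W')).left z ∉ O := by
      intro hmem
      obtain ⟨y, hy⟩ := ZarEt.exists_opnι_eq _ O _ hmem
      exact hz ⟨y, hy⟩
    have h3 : (pullback.fst W.hom f) (((EtCoh.bc f).map (ZarEt.opnι W W')).left z) =
        (ZarEt.opnι W W').left ((pullback.fst (ZarEt.opn W W').hom f) z) :=
      congrArg (fun m : ((EtCoh.bc f).obj (ZarEt.opn W W')).left ⟶ W.left => m z)
        (bc_map_fst f (ZarEt.opnι W W'))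
    have h4 := (hW' _).1 (ZarEt.opnι_mem W W' ((pullback.fst (ZarEt.opn W W').hom f) z))
    exact h4 ⟨_, hzO, h3⟩
  obtain ⟨q, hq⟩ := ZarEt.exists_lift ((EtCoh.bc f).map (ZarEt.opnι W W'))
    (ZarEt.opnι ((EtCoh.bc f).obj W) O) hr
  have h0 : ((EtCoh.push f).obj H).obj.map (ZarEt.opnι W W').op s = 0 := by
    show H.obj.map ((EtCoh.bc f).map (ZarEt.opnι W W')).op s = 0
    rw [← hq, op_comp, EtGlue.ab_map_comp, hO0, map_zero]
  rw [← hv, ← (Scheme.pointSmallEtale ξ).toPresheafFiber_w_apply, h0, map_zero]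

end Groth.Agent.Lib.Helper15.IntUIGerm
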