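import Mathlib
import Groth.Prelude.Def_EtBase
import Groth.Prelude.Def_PBC
import Groth.Agent.Lib.Helper13.StalkPull
import Groth.Agent.Lib.Helper13.StalkConservative
import Groth.Agent.Lib.Helper15.FinitePushStalk
import Groth.Agent.Lib.Helper15.FinitePushBC
import Groth.Agent.Lib.Helper15.StalkPullGerm
import Groth.Agent.Lib.Helper15.IntKLGeom
import Groth.Agent.Lib.Helper15.IntUIGeom
import Groth.Agent.Lib.Helper15.IntUIGerm

/-!
# Integral universally injective morphisms: `f_*` is fully faithful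

For `f : X ⟶ Y` integral and universally injective:
* `toStalk_injective_ui`: `(f_* F)_{f ξ} ⟶ F_ξ` is injective;
* `counit_epi`, `isIso_counit_app`: the counit `f⁻¹ f_* F ⟶ F` is an isomorphism;
* `isIso_unit_app`: the unit `G ⟶ f_* f⁻¹ G` is an isomorphism when `supp G ⊆ f(X)`;
* `main`: `f_*` is fully faithful with essential image the sheaves supported on `f(X)`.
-/

set_option autoImplicit false
set_option backward.isDefEq.respectTransparency false
universe u

namespace Groth.Agent.Lib.Helper15.IntUICounit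

open CategoryTheory Limits Opposite AlgebraicGeometry
open Groth.Agent.Lib.Helper13.StalkPull Groth.Agent.Lib.Helper13 Groth.Agent.Lib.Helper15

variable {X Y : Scheme.{u}} (f : X ⟶ Y) [IsIntegralHom f] [UniversallyInjective f]

theorem toStalk_injective_ui {Ω : Type u} [Field Ω] [IsSepClosed Ω]
    (η : Spec (CommRingCat.of Ω) ⟶ Y) (ξ : Spec (CommRingCat.of Ω) ⟶ X) (hξ : ξ ≫ f = η)
    (F : EtCoh.Ab X)
    (x : ToType ((Scheme.pointSmallEtale η).presheafFiber.obj ((EtCoh.push f).obj F).obj))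
    (hx : FinitePushStalk.toStalk f η ξ hξ F x = 0) : x = 0 := by
  obtain ⟨V, v, s, rfl⟩ := (Scheme.pointSmallEtale η).toPresheafFiber_jointly_surjective x
  rw [FinitePushStalk.toStalk_apply] at hx
  have h2 : (Scheme.pointSmallEtale ξ).toPresheafFiber ((EtCoh.bc f).obj V)
      (FinitePushStalk.liftPt f η ξ hξ V v) F.obj s =
      (Scheme.pointSmallEtale ξ).toPresheafFiber ((EtCoh.bc f).obj V)
      (FinitePushStalk.liftPt f η ξ hξ V v) F.obj 0 := hx.trans (map_zero _).symm
  obtain ⟨Z, g, z, hz, hg⟩ :=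
    ((Scheme.pointSmallEtale ξ).toPresheafFiber_eq_iff' _ _ s 0).1 h2
  have hg0 : F.obj.map g.op s = 0 := hg.trans (map_zero _)
  obtain ⟨O, hO0, hOmax⟩ := FinitePushVanish.exists_open_vanish F ((EtCoh.bc f).obj V) s
  have hsub := hOmax Z g hg0
  obtain ⟨vl, hvl⟩ : ∃ vl : Spec (CommRingCat.of Ω) ⟶ V.left, vl = v.left := ⟨v.left, rfl⟩
  obtain ⟨zl, hzl⟩ : ∃ zl : Spec (CommRingCat.of Ω) ⟶ Z.left, zl = z.left := ⟨z.left, rfl⟩
  obtain ⟨ll, hll⟩ : ∃ ll : Spec (CommRingCat.of Ω) ⟶ ((EtCoh.bc f).obj V).left,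
      ll = (FinitePushStalk.liftPt f η ξ hξ V v).left := ⟨_, rfl⟩
  refine IntUIGerm.germ_eq_zero f F η V v s O hO0 vl hvl ?_
  intro x' hx'
  haveI : UniversallyInjective (pullback.fst V.hom f) :=
    MorphismProperty.pullback_fst (P := @UniversallyInjective) V.hom f inferInstance
  have hx₀ : (pullback.fst V.hom f) (ll default) = vl default := by
    have h := FinitePushStalk.liftPt_left_fst f η ξ hξ V v
    rw [← hll, ← hvl] at h
    exact (Scheme.Hom.comp_apply _ _ default).symm.trans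
      (congrArg (fun m : Spec (CommRingCat.of Ω) ⟶ V.left => m default) h)
  have hxx : x' = ll default := (pullback.fst V.hom f).injective (hx'.trans hx₀.symm)
  rw [hxx]
  have h3 : zl ≫ g.left = ll := by
    rw [hzl, hll]
    exact congrArg (fun q => q.left) hz
  exact hsub ⟨zl default, (Scheme.Hom.comp_apply _ _ default).symm.trans
    (congrArg (fun m : Spec (CommRingCat.of Ω) ⟶ ((EtCoh.bc f).obj V).left => m default) h3)⟩

omit [IsIntegralHom f] [UniversallyInjective f] in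
/-- The stalk of the counit at `ξ`, through `(f⁻¹ f_* F)_ξ ≅ (f_* F)_{f ξ}`, is `toStalk`. -/
theorem stalk_counit_eq {Ω : Type u} [Field Ω] [IsSepClosed Ω]
    (ξ : Spec (CommRingCat.of Ω) ⟶ X) (F : EtCoh.Ab X) :
    (stalkPullIso f ξ).inv.app ((EtCoh.push f).obj F) ≫
      (EtCoh.stalk ξ).map ((EtCoh.pullPushAdj f).counit.app F) =
    FinitePushStalk.toStalk f (ξ ≫ f) ξ rfl F := by
  refine GrothendieckTopology.Point.presheafFiber_hom_ext _ (fun V v => ?_)
  have h1 := StalkPullGerm.toPresheafFiber_stalkPullIso_inv_adj f ξ ((EtCoh.push f).obj F) F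
    (𝟙 _) V v
  have h2 := FinitePushStalk.toPresheafFiber_toStalk f (ξ ≫ f) ξ rfl F V v
  have h3 : ((EtCoh.pullPushAdj f).homEquiv ((EtCoh.push f).obj F) F).symm (𝟙 _) =
      (EtCoh.pullPushAdj f).counit.app F := by
    rw [Adjunction.homEquiv_counit, CategoryTheory.Functor.map_id, Category.id_comp]
  rw [h3] at h1
  exact (h1.trans (Category.id_comp _)).trans h2.symm

theorem counit_epi (F : EtCoh.Ab X) : Epi ((EtCoh.pullPushAdj f).counit.app F) := by
  rw [← Sheaf.isLocallySurjective_iff_epi' AddCommGrpCat.{u + 1}]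
  constructor
  intro U t
  rw [EtGlue.mem_iff]
  intro u
  obtain ⟨V₀, U'', j, c, u'', hju, hmemV₀, hcsurj, hisol⟩ :=
    IntUIGeom.exists_isolating_cover f U u
  obtain ⟨R, hR⟩ : ∃ R : Sieve ((EtCoh.bc f).obj (Scheme.Etale.mk V₀.ι)),
      ∀ (Z : X.Etale) (g : Z ⟶ (EtCoh.bc f).obj (Scheme.Etale.mk V₀.ι)),
        R g ↔ ∃ q : Z ⟶ U'', q ≫ c = g :=
    ⟨{ arrows := fun Z g => ∃ q : Z ⟶ U'', q ≫ c = g
       downward_closed := by
         rintro Z Z' g ⟨q, rfl⟩ h
         exact ⟨h ≫ q, Category.assoc _ _ _⟩ }, fun Z g => Iff.rfl⟩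
  have hRmem : R ∈ X.smallEtaleTopology ((EtCoh.bc f).obj (Scheme.Etale.mk V₀.ι)) := by
    rw [EtGlue.mem_iff]
    intro p
    obtain ⟨w, hw⟩ := hcsurj p
    exact ⟨U'', c, w, (hR _ _).2 ⟨𝟙 _, Category.id_comp _⟩, hw⟩
  obtain ⟨y₀, hy₀⟩ : ∃ y₀ : (Scheme.Etale.mk V₀.ι).left, V₀.ι y₀ = f (U''.hom u'') := by
    have h : f (U''.hom u'') ∈ Set.range V₀.ι := by
      rw [Scheme.Opens.range_ι]
      exact hmemV₀
    exact h
  obtain ⟨V', vh, hvh, a, y', hy', κ, hκ, W, hdisj, hcov, hRk⟩ :=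
    IntKLGeom.exists_nbhd_of_covering_int f (Scheme.Etale.mk V₀.ι) R hRmem y₀
  have hq : ∀ k, ∃ q : EtGlue.piece f vh (W k) ⟶ U'',
      q ≫ c = EtGlue.pieceι f vh (W k) ≫ (EtCoh.bc f).map a := fun k => (hR _ _).1 (hRk k)
  choose q hq using hq
  have hvy : vh y' = f (U''.hom u'') := by
    have h1 : (a.left ≫ V₀.ι) y' = vh y' :=
      congrArg (fun m : V' ⟶ Y => m y') (MorphismProperty.Over.w a)
    exact h1.symm.trans ((Scheme.Hom.comp_apply _ _ y').trans
      ((congrArg (fun z => V₀.ι z) hy').trans hy₀))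
  obtain ⟨p', hp'1, hp'2⟩ := Scheme.Pullback.exists_preimage_pullback (f := f) (g := vh)
    (U''.hom u'') y' hvy.symm
  obtain ⟨k, hk⟩ := hcov p'
  obtain ⟨p, hp⟩ : ∃ p : (EtGlue.piece f vh (W k)).left, (W k).ι p = p' := by
    have h : p' ∈ Set.range (W k).ι := by
      rw [Scheme.Opens.range_ι]
      exact hk
    exact h
  have hw : (q k).left p = u'' := by
    apply hisol
    have h2 : U''.hom ((q k).left p) = (EtGlue.piece f vh (W k)).hom p :=
      (Scheme.Hom.comp_apply _ _ p).symm.trans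
        (congrArg (fun m : (EtGlue.piece f vh (W k)).left ⟶ X => m p)
          (MorphismProperty.Over.w (q k)))
    have h3 : (EtGlue.piece f vh (W k)).hom p = (pullback.fst f vh) ((W k).ι p) :=
      Scheme.Hom.comp_apply _ _ p
    rw [h2, h3, hp, hp'1]
  refine ⟨EtGlue.piece f vh (W k), q k ≫ j, p, ?_, ?_⟩
  swap
  · rw [ZarEt.comp_left_apply, hw, hju]
  have hcov' : ∀ x : ((EtCoh.bc f).obj (Scheme.Etale.mk vh)).left, ∃ l p,
      (EtGlue.pieceι f vh (W l)).left p = x := fun x => by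
    obtain ⟨l, hl⟩ := hcov ((pullbackSymmetry vh f).hom x)
    obtain ⟨p, hp⟩ := EtGlue.exists_pieceι_eq f vh (W l) x hl
    exact ⟨l, p, hp⟩
  obtain ⟨s, hs, -⟩ := EtGlue.glueAb F (fun l => EtGlue.piece f vh (W l))
    (fun l => EtGlue.pieceι f vh (W l)) (fun l => inferInstance)
    (fun l l' hll p q => EtGlue.pieceι_ne f vh (hdisj l l' hll) p q) hcov'
    (fun l => F.obj.map (q l ≫ j).op t)
  obtain ⟨s', hs'⟩ : ∃ s' : ((EtCoh.push f).obj F).obj.obj (op (Scheme.Etale.mk vh)), s' = s :=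
    ⟨s, rfl⟩
  subst hs'
  refine ⟨((EtCoh.pull f).obj ((EtCoh.push f).obj F)).obj.map (EtGlue.pieceι f vh (W k)).op
    (((EtCoh.pullPushAdj f).unit.app ((EtCoh.push f).obj F)).hom.app
      (op (Scheme.Etale.mk vh)) s'), ?_⟩
  have htri : ((EtCoh.pullPushAdj f).unit.app ((EtCoh.push f).obj F)).hom.app
        (op (Scheme.Etale.mk vh)) ≫
      ((EtCoh.pullPushAdj f).counit.app F).hom.app
        (op ((EtCoh.bc f).obj (Scheme.Etale.mk vh))) = 𝟙 _ :=
    congrArg (fun τ => τ.hom.app (op (Scheme.Etale.mk vh)))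
      ((EtCoh.pullPushAdj f).right_triangle_components F)
  have h1 : ((EtCoh.pullPushAdj f).counit.app F).hom.app
      (op ((EtCoh.bc f).obj (Scheme.Etale.mk vh)))
      (((EtCoh.pullPushAdj f).unit.app ((EtCoh.push f).obj F)).hom.app
        (op (Scheme.Etale.mk vh)) s') = s' :=
    (ConcreteCategory.comp_apply _ _ _).symm.trans
      ((ConcreteCategory.congr_hom htri s').trans (ConcreteCategory.id_apply _))
  have e1 := EtGlue.ab_hom_nat ((EtCoh.pullPushAdj f).counit.app F)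
    (EtGlue.pieceι f vh (W k)).op
    (((EtCoh.pullPushAdj f).unit.app ((EtCoh.push f).obj F)).hom.app
      (op (Scheme.Etale.mk vh)) s')
  rw [h1] at e1
  exact e1.trans (hs k)

theorem isIso_counit_app (F : EtCoh.Ab X) : IsIso ((EtCoh.pullPushAdj f).counit.app F) := by
  apply FinitePushBC.isIso_of_stalks_alg
  intro Ω _ _ ξ
  haveI := counit_epi f F
  rw [ConcreteCategory.isIso_iff_bijective]
  have hι : Function.Bijective ((stalkPullIso f ξ).inv.app ((EtCoh.push f).obj F)) :=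
    ConcreteCategory.bijective_of_isIso _
  constructor
  · intro a b hab
    obtain ⟨x, hx⟩ := hι.2 (a - b)
    have hd : (EtCoh.stalk ξ).map ((EtCoh.pullPushAdj f).counit.app F)
        ((stalkPullIso f ξ).inv.app ((EtCoh.push f).obj F) x) = 0 := by
      rw [hx, map_sub, hab, sub_self]
    have hx0 : x = 0 := by
      apply toStalk_injective_ui f (ξ ≫ f) ξ rfl F x
      have h := ConcreteCategory.congr_hom (stalk_counit_eq f ξ F) x
      exact h.symm.trans ((ConcreteCategory.comp_apply _ _ _).trans hd)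
    rw [hx0, map_zero] at hx
    exact sub_eq_zero.1 hx.symm
  · haveI : Epi ((EtCoh.stalk ξ).map ((EtCoh.pullPushAdj f).counit.app F)) := inferInstance
    exact (AddCommGrpCat.epi_iff_surjective _).1 inferInstance

theorem isIso_unit_app (G : EtCoh.Ab Y) (hG : EtPBC.supp G ⊆ Set.range f) :
    IsIso ((EtCoh.pullPushAdj f).unit.app G) := by
  apply FinitePushBC.isIso_of_stalks_alg
  intro Ω _ _ η
  by_cases hex : ∃ x : X, f x = η default
  · obtain ⟨x, hx⟩ := hex
    obtain ⟨ξ, hξ⟩ := IntUIGeom.exists_geom_lift f η x hx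
    subst hξ
    haveI := isIso_counit_app f ((EtCoh.pull f).obj G)
    haveI h1 : IsIso ((EtCoh.pull f).map ((EtCoh.pullPushAdj f).unit.app G)) := by
      have htri := (EtCoh.pullPushAdj f).left_triangle_components G
      haveI : IsIso ((EtCoh.pull f).map ((EtCoh.pullPushAdj f).unit.app G) ≫
          (EtCoh.pullPushAdj f).counit.app ((EtCoh.pull f).obj G)) := by
        rw [htri]
        exact IsIso.id _
      exact IsIso.of_isIso_comp_right _
        ((EtCoh.pullPushAdj f).counit.app ((EtCoh.pull f).obj G))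
    haveI h2 : IsIso ((EtCoh.pull f ⋙ EtCoh.stalk ξ).map ((EtCoh.pullPushAdj f).unit.app G)) := by
      rw [Functor.comp_map]
      infer_instance
    exact (NatIso.isIso_map_iff (stalkPullIso f ξ) ((EtCoh.pullPushAdj f).unit.app G)).1 h2
  · have hy : η default ∉ Set.range f := fun ⟨x, hx⟩ => hex ⟨x, hx⟩
    have hz1 : IsZero ((EtCoh.stalk η).obj G) := by
      by_contra hnz
      apply hy
      apply hG
      refine ⟨Ω, inferInstance, inferInstance, η, ?_, hnz⟩
      ext y
      constructor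
      · rintro ⟨a, rfl⟩
        rw [Subsingleton.elim a default]
        rfl
      · intro hy'
        exact ⟨default, (Set.mem_singleton_iff.1 hy').symm⟩
    have hz2 : IsZero ((EtCoh.stalk η).obj ((EtCoh.push f).obj ((EtCoh.pull f).obj G))) :=
      FinitePushVanish.isZero_stalk_push f _ η (fun i hi => absurd ⟨_, hi⟩ hy)
    exact ⟨⟨0, hz1.eq_of_src _ _, hz2.eq_of_src _ _⟩⟩

theorem main :
    (EtCoh.push f).Full ∧ (EtCoh.push f).Faithful ∧
    (∀ G : EtCoh.Ab Y, (EtCoh.push f).essImage G ↔ EtPBC.supp G ⊆ Set.range f.base) ∧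
    ∀ F : EtCoh.Ab X, IsIso ((EtCoh.pullPushAdj f).counit.app F) := by
  have hc : ∀ F : EtCoh.Ab X, IsIso ((EtCoh.pullPushAdj f).counit.app F) := isIso_counit_app f
  haveI : ∀ F : EtCoh.Ab X, IsIso ((EtCoh.pullPushAdj f).counit.app F) := hc
  haveI : IsIso (EtCoh.pullPushAdj f).counit := NatIso.isIso_of_isIso_app _
  have hff := (EtCoh.pullPushAdj f).fullyFaithfulROfIsIsoCounit
  refine ⟨hff.full, hff.faithful, ?_, hc⟩
  intro G
  constructor
  · rintro ⟨F, ⟨e⟩⟩
    intro y hy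
    obtain ⟨Ω, _, _, ξ, hr, hnz⟩ := hy
    by_contra hyf
    apply hnz
    have hξ : ξ default = y := by
      have h : ξ default ∈ Set.range ξ := ⟨default, rfl⟩
      rw [hr] at h
      exact h
    have hz : IsZero ((EtCoh.stalk ξ).obj ((EtCoh.push f).obj F)) :=
      FinitePushVanish.isZero_stalk_push f F ξ (fun i hi => absurd ⟨_, hi.trans hξ⟩ hyf)
    exact IsZero.of_iso hz ((EtCoh.stalk ξ).mapIso e.symm)
  · intro hG
    haveI := isIso_unit_app f G hG
    exact ⟨(EtCoh.pull f).obj G, ⟨(asIso ((EtCoh.pullPushAdj f).unit.app G)).symm⟩⟩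

end Groth.Agent.Lib.Helper15.IntUICounit
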