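import Mathlib
import Groth.Prelude.Def_EtBase
import Groth.Prelude.Def_EtCore
import Groth.Agent.Lib.Helper13.ExtAdj
import Groth.Agent.Lib.Helper15.IntUICounit
import Groth.Agent.Lib.Helper15.IntegralPushExact
import Groth.Agent.Lib.Helper15.FiniteLeray
import Groth.Agent.Lib.Helper15.ExtFF

/-!
# Universal homeomorphisms induce isomorphisms on étale cohomology

For `i : X₀ ⟶ X` integral, universally injective and surjective, the pullback maps
`H^q(X, F) ⟶ H^q(X₀, i⁻¹ F)` are bijective.
-/

set_option autoImplicit false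
set_option backward.isDefEq.respectTransparency false
universe u

namespace Groth.Agent.Lib.Helper15.IntUIHpull

open CategoryTheory Limits Opposite AlgebraicGeometry Abelian
open Groth.Agent.Lib.Helper13.ExtAdj Groth.Agent.Lib.Helper15

theorem Hpull_bijective {X₀ X : Scheme.{u}} (i : X₀ ⟶ X) [IsIntegralHom i]
    [UniversallyInjective i] [Surjective i] [PreservesFiniteLimits (EtCoh.pull i)]
    (F : EtCoh.Ab X) (q : ℕ) : Function.Bijective (EtCore.Hpull i F q) := by
  haveI hunit : ∀ G : EtCoh.Ab X, IsIso ((EtCoh.pullPushAdj i).unit.app G) :=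
    fun G => IntUICounit.isIso_unit_app i G (fun y _ => i.surjective y)
  haveI : IsIso (EtCoh.pullPushAdj i).unit := NatIso.isIso_of_isIso_app _
  haveI := IntegralPushExact.push_preservesFiniteColimits i
  have hff := (EtCoh.pullPushAdj i).fullyFaithfulLOfIsIsoUnit
  have hvan : ∀ (I : EtCoh.Ab X), Injective I → ∀ (n : ℕ)
      (e : Ext ((EtCoh.pull i).obj (EtCoh.const X ℤ)) ((EtCoh.pull i).obj I) (n + 1)), e = 0 := by
    intro I hI n e
    haveI : Injective ((EtCoh.push i).obj ((EtCoh.pull i).obj I)) :=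
      Injective.of_iso (asIso ((EtCoh.pullPushAdj i).unit.app I)) hI
    apply (extAdjEquiv' (EtCoh.pullPushAdj i) (EtCoh.const X ℤ) ((EtCoh.pull i).obj I)
      (n + 1)).injective
    rw [map_zero]
    exact Ext.eq_zero_of_injective _
  have hmain := ExtFF.mapExt_bijective (EtCoh.pull i) (EtCoh.const X ℤ)
    (fun G => hff.map_bijective _ G) hvan q F
  have hiso := (extIsoLeft (EtCore.pullConst i ℤ).symm ((EtCoh.pull i).obj F) q).bijective
  have hfun : ⇑(EtCore.Hpull i F q) =
      ⇑(extIsoLeft (EtCore.pullConst i ℤ).symm ((EtCoh.pull i).obj F) q) ∘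
        ⇑((EtCoh.pull i).mapExtAddHom (EtCoh.const X ℤ) F q) := rfl
  rw [hfun]
  exact hiso.comp hmain

end Groth.Agent.Lib.Helper15.IntUIHpull
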