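import Mathlib
import Groth.Prelude.Def_W4stk3formalspacesTaut

/-!
# Helper library (helper15): linearly topologized rings, taut homomorphisms
-/

set_option autoImplicit false
universe u v w
open Topology Filter

namespace Groth.Agent.Lib.Helper15.LT

open LinTop

section Basic

variable {A : Type u} [CommRing A] [TopologicalSpace A] [IsTopologicalRing A]

theorem isOpen_of_le {I K : Ideal A} (h : I ≤ K) (hI : IsOpen (I : Set A)) : IsOpen (K : Set A) :=
  AddSubgroup.isOpen_mono (H₁ := I.toAddSubgroup) (H₂ := K.toAddSubgroup) h hI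

theorem isClosed_of_isOpen {I : Ideal A} (hI : IsOpen (I : Set A)) : IsClosed (I : Set A) :=
  AddSubgroup.isClosed_of_isOpen I.toAddSubgroup hI

theorem closure_eq_of_isOpen {I : Ideal A} (hI : IsOpen (I : Set A)) : I.closure = I :=
  Ideal.closure_eq_of_isClosed I (isClosed_of_isOpen hI)

theorem le_closure (I : Ideal A) : I ≤ I.closure := fun _ hx => subset_closure hx

theorem closure_mono {I K : Ideal A} (h : I ≤ K) : I.closure ≤ K.closure :=
  fun _ hx => _root_.closure_mono (show (I : Set A) ⊆ K from h) hx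

theorem isClosed_closure (I : Ideal A) : IsClosed (I.closure : Set A) := _root_.isClosed_closure

theorem closure_le_of_le_of_isClosed {I K : Ideal A} (h : I ≤ K) (hK : IsClosed (K : Set A)) :
    I.closure ≤ K := fun _ hx => closure_minimal (show (I : Set A) ⊆ K from h) hK hx

theorem closure_closure (I : Ideal A) : I.closure.closure = I.closure :=
  Ideal.closure_eq_of_isClosed _ (isClosed_closure I)

theorem closure_mul_le (K L : Ideal A) : K.closure * L.closure ≤ (K * L).closure := by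
  rw [Ideal.mul_le]
  intro r hr s hs
  exact map_mem_closure₂ continuous_mul hr hs (fun a ha b hb => Ideal.mul_mem_mul ha hb)

theorem closure_pow_le (K : Ideal A) (n : ℕ) : K.closure ^ n ≤ (K ^ n).closure := by
  induction n with
  | zero => rw [pow_zero, pow_zero]; exact le_closure _
  | succ n ih =>
    rw [pow_succ, pow_succ]
    exact (Ideal.mul_mono_left ih).trans (closure_mul_le _ _)

theorem isOpen_pow_of_isAdic {J : Ideal A} (hJ : IsAdic J) (n : ℕ) : IsOpen ((J ^ n : Ideal A) : Set A) :=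
  (isAdic_iff.1 hJ).1 n

theorem exists_pow_subset_of_isAdic {J : Ideal A} (hJ : IsAdic J) {U : Set A} (hU : U ∈ 𝓝 (0 : A)) :
    ∃ n : ℕ, ((J ^ n : Ideal A) : Set A) ⊆ U :=
  (isAdic_iff.1 hJ).2 U hU

theorem mem_nhds_of_isOpen {I : Ideal A} (hI : IsOpen (I : Set A)) : (I : Set A) ∈ 𝓝 (0 : A) :=
  hI.mem_nhds I.zero_mem

theorem exists_open_ideal_subset [IsLinearTopology A A] {U : Set A} (hU : U ∈ 𝓝 (0 : A)) :
    ∃ I : Ideal A, IsOpen (I : Set A) ∧ (I : Set A) ⊆ U :=
  IsLinearTopology.hasBasis_open_ideal.mem_iff.1 hU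

/-- In an ideal of definition, powers are eventually inside any open ideal, with positive exponent. -/
theorem exists_pow_le_of_isIdealOfDefinition {I : Ideal A} (hI : IsIdealOfDefinition A I) {K : Ideal A}
    (hK : IsOpen (K : Set A)) : ∃ n : ℕ, 0 < n ∧ I ^ n ≤ K :=
  hI.2 K (mem_nhds_of_isOpen hK)

theorem isAdic_of_pow_le_of_le {K L : Ideal A} (hK : IsAdic K) (n : ℕ) (h1 : K ^ n ≤ L) (h2 : L ≤ K) :
    IsAdic L := by
  rw [isAdic_iff]
  constructor
  · intro k
    refine isOpen_of_le ?_ (isOpen_pow_of_isAdic hK (n * k))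
    rw [pow_mul]
    exact Ideal.pow_right_mono h1 k
  · intro s hs
    obtain ⟨k, hk⟩ := exists_pow_subset_of_isAdic hK hs
    exact ⟨k, fun x hx => hk (Ideal.pow_right_mono h2 k hx)⟩

/-- For a pre-adic ring, powers of an ideal of definition are open. -/
theorem isOpen_pow_of_isIdealOfDefinition (hA : IsPreadic A) {I : Ideal A} (hI : IsIdealOfDefinition A I)
    (n : ℕ) : IsOpen ((I ^ n : Ideal A) : Set A) := by
  obtain ⟨J, hJ⟩ := hA
  obtain ⟨k, hk⟩ := exists_pow_subset_of_isAdic hJ (mem_nhds_of_isOpen hI.1)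
  have hk' : J ^ k ≤ I := hk
  refine isOpen_of_le ?_ (isOpen_pow_of_isAdic hJ (k * n))
  rw [pow_mul]
  exact Ideal.pow_right_mono hk' n

theorem isIdealOfDefinition_pow_of_isAdic {J : Ideal A} (hJ : IsAdic J) {m : ℕ} (hm : 0 < m) :
    IsIdealOfDefinition A (J ^ m) := by
  refine ⟨isOpen_pow_of_isAdic hJ m, fun U hU => ?_⟩
  obtain ⟨k, hk⟩ := exists_pow_subset_of_isAdic hJ hU
  refine ⟨k + 1, Nat.succ_pos k, fun x hx => hk ?_⟩
  rw [← pow_mul] at hx
  exact Ideal.pow_le_pow_right (by nlinarith) hx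

theorem isIdealOfDefinition_of_isAdic {J : Ideal A} (hJ : IsAdic J) : IsIdealOfDefinition A J := by
  simpa using isIdealOfDefinition_pow_of_isAdic hJ (m := 1) one_pos

end Basic

section Taut

variable {A : Type u} [CommRing A] [TopologicalSpace A] [IsTopologicalRing A]
variable {B : Type v} [CommRing B] [TopologicalSpace B] [IsTopologicalRing B]

theorem IsTaut.isOpen_closure_map {φ : A →+* B} (h : IsTaut φ) {I : Ideal A} (hI : IsOpen (I : Set A)) :
    IsOpen ((I.map φ).closure : Set B) := h.2.1 I hI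

theorem IsTaut.exists_open {φ : A →+* B} (h : IsTaut φ) {U : Set B} (hU : U ∈ 𝓝 (0 : B)) :
    ∃ I : Ideal A, IsOpen (I : Set A) ∧ ((I.map φ).closure : Set B) ⊆ U := h.2.2 U hU

/-- The topological nilradical of a linearly topologized ring is closed. -/
theorem isClosed_topologicalNilradical [IsLinearTopology B B] :
    IsClosed ((topologicalNilradical B : Ideal B) : Set B) := by
  rw [← closure_subset_iff_isClosed]
  intro g hg
  show IsTopologicallyNilpotent g
  unfold IsTopologicallyNilpotent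
  rw [IsLinearTopology.hasBasis_open_ideal.tendsto_right_iff]
  intro J hJ
  have hgJ : {x : B | x - g ∈ J} ∈ 𝓝 g := by
    have ho : IsOpen {x : B | x - g ∈ J} := hJ.preimage (continuous_id.sub continuous_const)
    exact ho.mem_nhds (by simp)
  obtain ⟨f, hfJ, hf⟩ := mem_closure_iff_nhds.1 hg _ hgJ
  have hf' : IsTopologicallyNilpotent f := hf
  have hfJ' : f - g ∈ J := hfJ
  have hev := hf'.eventually_mem (mem_nhds_of_isOpen hJ)
  filter_upwards [hev] with n hn
  obtain ⟨c, hc⟩ := sub_dvd_pow_sub_pow g f n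
  have e : g ^ n = f ^ n + (g - f) * c := by rw [← hc]; ring
  show g ^ n ∈ J
  rw [e]
  refine J.add_mem hn (J.mul_mem_right _ ?_)
  have : g - f = -(f - g) := by ring
  rw [this]
  exact J.neg_mem hfJ'

theorem isTopologicallyNilpotent_of_mem_closure_map [IsLinearTopology A A] [IsLinearTopology B B]
    {φ : A →+* B} (hφ : Continuous φ)
    {I : Ideal A} (hI : ∀ f ∈ I, IsTopologicallyNilpotent f) {g : B} (hg : g ∈ (I.map φ).closure) :
    IsTopologicallyNilpotent g := by
  have h1 : I.map φ ≤ topologicalNilradical B := by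
    rw [Ideal.map_le_iff_le_comap]
    intro f hf
    exact (hI f hf).map hφ
  exact closure_le_of_le_of_isClosed h1 isClosed_topologicalNilradical hg

theorem isTaut_of_comp {C : Type w} [CommRing C] [TopologicalSpace C] [IsTopologicalRing C]
    (φ : A →+* B) (ψ : B →+* C) (hφ : Continuous φ) (hψ : Continuous ψ)
    (h : IsTaut (ψ.comp φ)) : IsTaut ψ := by
  refine ⟨hψ, fun J hJ => ?_, fun U hU => ?_⟩
  · have hI : IsOpen ((J.comap φ : Ideal A) : Set A) := hJ.preimage hφ
    have h1 : IsOpen ((((J.comap φ).map (ψ.comp φ)).closure : Ideal C) : Set C) := h.2.1 _ hI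
    have hle : (J.comap φ).map (ψ.comp φ) ≤ J.map ψ := by
      rw [← Ideal.map_map]
      exact Ideal.map_mono Ideal.map_comap_le
    exact isOpen_of_le (closure_mono hle) h1
  · obtain ⟨I, hI, hIU⟩ := h.2.2 U hU
    have hK : IsOpen (((I.map (ψ.comp φ)).closure : Ideal C) : Set C) := h.2.1 I hI
    refine ⟨(I.map (ψ.comp φ)).closure.comap ψ, hK.preimage hψ, ?_⟩
    have h2 : ((I.map (ψ.comp φ)).closure.comap ψ).map ψ ≤ (I.map (ψ.comp φ)).closure :=
      Ideal.map_comap_le
    have h3 := closure_le_of_le_of_isClosed h2 (isClosed_closure _)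
    exact fun x hx => hIU (h3 hx)

theorem isCountablyGenerated_of_isTaut [IsLinearTopology A A] {φ : A →+* B} (hφ : IsTaut φ)
    (hA : (𝓝 (0 : A)).IsCountablyGenerated) : (𝓝 (0 : B)).IsCountablyGenerated := by
  obtain ⟨x, hx, hbasis⟩ := (IsLinearTopology.hasBasis_open_ideal (R := A)).exists_antitone_subbasis
  have hb : (𝓝 (0 : B)).HasBasis (fun _ : ℕ => True) (fun n => (((x n).map φ).closure : Set B)) := by
    refine ⟨fun U => ⟨fun hU => ?_, ?_⟩⟩
    · obtain ⟨I, hI, hIU⟩ := hφ.2.2 U hU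
      obtain ⟨n, -, hn⟩ := hbasis.1.mem_iff.1 (mem_nhds_of_isOpen hI)
      have hn' : x n ≤ I := hn
      exact ⟨n, trivial, fun y hy => hIU (closure_mono (Ideal.map_mono hn') hy)⟩
    · rintro ⟨n, -, hn⟩
      exact mem_of_superset (mem_nhds_of_isOpen (hφ.2.1 _ (hx n))) hn
  exact hb.isCountablyGenerated

theorem isWeaklyPreadmissible_of_isTaut [IsLinearTopology A A] [IsLinearTopology B B] {φ : A →+* B}
    (hφ : IsTaut φ) (hA : IsWeaklyPreadmissible A) : IsWeaklyPreadmissible B := by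
  obtain ⟨-, I, hI, hnil⟩ := hA
  exact ⟨inferInstance, (I.map φ).closure, hφ.2.1 I hI,
    fun g hg => isTopologicallyNilpotent_of_mem_closure_map hφ.1 hnil hg⟩

theorem isPreadmissible_of_isTaut [IsLinearTopology B B] {φ : A →+* B}
    (hφ : IsTaut φ) (hA : IsPreadmissible A) : IsPreadmissible B := by
  obtain ⟨-, I, hI⟩ := hA
  refine ⟨inferInstance, (I.map φ).closure, hφ.2.1 I hI.1, fun U hU => ?_⟩
  obtain ⟨I', hI', hI'U⟩ := hφ.2.2 U hU
  obtain ⟨n, hn, hle⟩ := exists_pow_le_of_isIdealOfDefinition hI hI'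
  refine ⟨n, hn, fun x hx => hI'U ?_⟩
  have h1 := closure_pow_le (I.map φ) n hx
  rw [← Ideal.map_pow] at h1
  exact closure_mono (Ideal.map_mono hle) h1

theorem isAdicHom_of_comp {C : Type w} [CommRing C] [TopologicalSpace C] [IsTopologicalRing C]
    (hB : IsPreadic B) (φ : A →+* B) (ψ : B →+* C) (hφ : Continuous φ) (hψ : Continuous ψ)
    (h : IsAdicHom (ψ.comp φ)) : IsAdicHom ψ := by
  obtain ⟨I, hI, hK⟩ := h
  obtain ⟨J, hJ⟩ := hB
  have hKopen : IsOpen ((I.map (ψ.comp φ) : Ideal C) : Set C) := by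
    simpa using isOpen_pow_of_isAdic hK 1
  obtain ⟨m, hm⟩ := exists_pow_subset_of_isAdic hJ
    (mem_nhds_of_isOpen (I := (I.map (ψ.comp φ)).comap ψ) (hKopen.preimage hψ))
  have hm' : J ^ (m + 1) ≤ (I.map (ψ.comp φ)).comap ψ :=
    (Ideal.pow_le_pow_right (Nat.le_succ m)).trans hm
  have hJm : IsIdealOfDefinition B (J ^ (m + 1)) := isIdealOfDefinition_pow_of_isAdic hJ (Nat.succ_pos m)
  obtain ⟨n, hn, hle⟩ := exists_pow_le_of_isIdealOfDefinition hI (K := (J ^ (m + 1)).comap φ) (hJm.1.preimage hφ)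
  refine ⟨J ^ (m + 1), hJm, isAdic_of_pow_le_of_le hK n ?_ ?_⟩
  · rw [← Ideal.map_pow, ← Ideal.map_map]
    exact Ideal.map_mono (Ideal.map_le_iff_le_comap.2 hle)
  · exact Ideal.map_le_iff_le_comap.2 hm'

theorem isTaut_of_isAdicHom (hA : IsPreadic A) (φ : A →+* B) (hφ : Continuous φ) (h : IsAdicHom φ) :
    IsTaut φ := by
  obtain ⟨I, hI, hK⟩ := h
  refine ⟨hφ, fun I' hI' => ?_, fun U hU => ?_⟩
  · obtain ⟨n, -, hle⟩ := exists_pow_le_of_isIdealOfDefinition hI hI'
    have h1 : IsOpen (((I.map φ) ^ n : Ideal B) : Set B) := isOpen_pow_of_isAdic hK n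
    rw [← Ideal.map_pow] at h1
    exact isOpen_of_le (K := (I'.map φ).closure) ((Ideal.map_mono hle).trans (le_closure _)) h1
  · obtain ⟨n, hn⟩ := exists_pow_subset_of_isAdic hK hU
    refine ⟨I ^ n, isOpen_pow_of_isIdealOfDefinition hA hI n, ?_⟩
    show (((I ^ n).map φ).closure : Set B) ⊆ U
    rw [Ideal.map_pow, closure_eq_of_isOpen (isOpen_pow_of_isAdic hK n)]
    exact hn

theorem isWeaklyPreadic_of_isTaut [IsLinearTopology B B] {φ : A →+* B}
    (hφ : IsTaut φ) (hA : IsWeaklyPreadic A) : IsWeaklyPreadic B := by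
  obtain ⟨-, I, hopen, hbasis⟩ := hA
  refine ⟨inferInstance, I.map φ, fun n => ?_, fun U hU => ?_⟩
  · have h1 : IsOpen ((((I ^ n).closure.map φ).closure : Ideal B) : Set B) := hφ.2.1 _ (hopen n)
    refine isOpen_of_le (I := ((I ^ n).closure.map φ).closure) (K := ((I.map φ) ^ n).closure) ?_ h1
    apply closure_le_of_le_of_isClosed _ (isClosed_closure _)
    rw [Ideal.map_le_iff_le_comap]
    intro x hx
    rw [Ideal.mem_comap, ← Ideal.map_pow]
    exact map_mem_closure hφ.1 hx (fun a ha => Ideal.mem_map_of_mem φ ha)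
  · obtain ⟨I', hI', hI'U⟩ := hφ.2.2 U hU
    obtain ⟨n, hn⟩ := hbasis I' (mem_nhds_of_isOpen hI')
    refine ⟨n, fun x hx => hI'U ?_⟩
    have hle : I ^ n ≤ I' := fun y hy => hn (subset_closure hy)
    have hx' : x ∈ ((I.map φ) ^ n).closure := hx
    rw [← Ideal.map_pow] at hx'
    exact closure_mono (Ideal.map_mono hle) hx'

theorem isPreadmissible_of_isWeaklyPreadic (hA : IsWeaklyPreadic A) : IsPreadmissible A := by
  obtain ⟨hlin, I, hopen, hbasis⟩ := hA
  refine ⟨hlin, I.closure, ?_, fun U hU => ?_⟩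
  · have := hopen 1
    rwa [pow_one] at this
  · obtain ⟨n, hn⟩ := hbasis U hU
    refine ⟨n + 1, Nat.succ_pos n, fun x hx => hn ?_⟩
    have h1 : I.closure ^ (n + 1) ≤ I.closure ^ n := Ideal.pow_le_pow_right (Nat.le_succ n)
    exact closure_pow_le I n (h1 hx)

theorem isCountablyGenerated_of_isWeaklyPreadic (hA : IsWeaklyPreadic A) :
    (𝓝 (0 : A)).IsCountablyGenerated := by
  obtain ⟨hlin, I, hopen, hbasis⟩ := hA
  have hb : (𝓝 (0 : A)).HasBasis (fun _ : ℕ => True) (fun n => closure ((I ^ n : Ideal A) : Set A)) :=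
    ⟨fun U => ⟨fun hU => let ⟨n, hn⟩ := hbasis U hU; ⟨n, trivial, hn⟩,
      fun ⟨n, _, hn⟩ => mem_of_superset ((hopen n).mem_nhds (subset_closure (zero_mem _))) hn⟩⟩
  exact hb.isCountablyGenerated

theorem isTaut_iff_weak [IsLinearTopology A A] [IsLinearTopology B B] (hA : IsWeaklyPreadmissible A)
    (φ : A →+* B) (hφ : Continuous φ) :
    IsTaut φ ↔ ((∀ I : Ideal A, IsWeakIdealOfDefinition A I →
        IsWeakIdealOfDefinition B (I.map φ).closure) ∧
      ∀ U ∈ 𝓝 (0 : B), ∃ I : Ideal A, IsWeakIdealOfDefinition A I ∧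
        ((I.map φ).closure : Set B) ⊆ U) := by
  obtain ⟨-, I₀, hI₀, hnil₀⟩ := hA
  constructor
  · intro h
    refine ⟨fun I hI => ⟨h.2.1 I hI.1, fun g hg =>
      isTopologicallyNilpotent_of_mem_closure_map hφ hI.2 hg⟩, fun U hU => ?_⟩
    obtain ⟨I', hI', hI'U⟩ := h.2.2 U hU
    exact ⟨I' ⊓ I₀, ⟨hI'.inter hI₀, fun f hf => hnil₀ f hf.2⟩,
      fun x hx => hI'U (closure_mono (Ideal.map_mono inf_le_left) hx)⟩
  · rintro ⟨h1, h2⟩
    refine ⟨hφ, fun I' hI' => ?_, fun U hU => ?_⟩
    · have hw : IsWeakIdealOfDefinition A (I' ⊓ I₀) := ⟨hI'.inter hI₀, fun f hf => hnil₀ f hf.2⟩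
      exact isOpen_of_le (K := (I'.map φ).closure) (closure_mono (Ideal.map_mono inf_le_left)) (h1 _ hw).1
    · obtain ⟨I, hI, hIU⟩ := h2 U hU
      exact ⟨I, hI.1, hIU⟩

end Taut

section More

variable {A : Type u} [CommRing A] [TopologicalSpace A] [IsTopologicalRing A]
variable {B : Type v} [CommRing B] [TopologicalSpace B] [IsTopologicalRing B]

theorem closure_le_sup_of_isOpen (K : Ideal A) {J : Ideal A} (hJ : IsOpen (J : Set A)) :
    K.closure ≤ K ⊔ J :=
  closure_le_of_le_of_isClosed le_sup_left (isClosed_of_isOpen (isOpen_of_le le_sup_right hJ))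

theorem mem_closure_of_forall_mem_sup [IsLinearTopology A A] {N : Ideal A} {x : A}
    (h : ∀ I' : Ideal A, IsOpen (I' : Set A) → x ∈ N ⊔ I') : x ∈ N.closure := by
  show x ∈ closure (N : Set A)
  rw [mem_closure_iff_nhds]
  intro t ht
  have h0 : (fun y => x + y) ⁻¹' t ∈ 𝓝 (0 : A) := by
    apply (continuous_add_left x).continuousAt
    simpa using ht
  obtain ⟨I', hI', hI't⟩ := exists_open_ideal_subset h0
  obtain ⟨n, hn, i, hi, hx⟩ := Submodule.mem_sup.1 (h I' hI')
  refine ⟨n, ?_, hn⟩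
  have : n = x + (-i) := by rw [← hx]; ring
  rw [this]
  exact hI't (I'.neg_mem hi)

theorem sup_pow_le (K J : Ideal A) (n : ℕ) : (K ⊔ J) ^ n ≤ K ^ n ⊔ J := by
  induction n with
  | zero => rw [pow_zero, pow_zero]; exact le_sup_left
  | succ n ih =>
    rw [pow_succ]
    refine (Ideal.mul_mono_left ih).trans ?_
    rw [Ideal.mul_le]
    intro r hr s hs
    obtain ⟨a, ha, b, hb, rfl⟩ := Submodule.mem_sup.1 hr
    obtain ⟨c, hc, d, hd, rfl⟩ := Submodule.mem_sup.1 hs
    have e : (a + b) * (c + d) = a * c + (a * d + b * c + b * d) := by ring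
    rw [e]
    refine Submodule.add_mem_sup ?_ (J.add_mem (J.add_mem (J.mul_mem_left _ hd) (J.mul_mem_right _ hb))
      (J.mul_mem_left _ hd))
    rw [pow_succ]
    exact Ideal.mul_mem_mul ha hc

theorem isIdealOfDefinition_closure_map {φ : A →+* B} (hφ : IsTaut φ) {I : Ideal A}
    (hI : IsIdealOfDefinition A I) : IsIdealOfDefinition B (I.map φ).closure := by
  refine ⟨hφ.2.1 I hI.1, fun U hU => ?_⟩
  obtain ⟨I', hI', hI'U⟩ := hφ.2.2 U hU
  obtain ⟨n, hn, hle⟩ := exists_pow_le_of_isIdealOfDefinition hI hI'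
  refine ⟨n, hn, fun x hx => hI'U ?_⟩
  have h1 := closure_pow_le (I.map φ) n hx
  rw [← Ideal.map_pow] at h1
  exact closure_mono (Ideal.map_mono hle) h1

theorem isWeaklyPreadic_of_isPreadic (hA : IsPreadic A) : IsWeaklyPreadic A := by
  obtain ⟨J, hJ⟩ := hA
  refine ⟨IsLinearTopology.mk_of_hasBasis _ hJ.hasBasis_nhds_zero, J, fun n => ?_, fun U hU => ?_⟩
  · show IsOpen (((J ^ n).closure : Ideal A) : Set A)
    rw [closure_eq_of_isOpen (isOpen_pow_of_isAdic hJ n)]
    exact isOpen_pow_of_isAdic hJ n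
  · obtain ⟨n, hn⟩ := exists_pow_subset_of_isAdic hJ hU
    refine ⟨n, ?_⟩
    show (((J ^ n).closure : Ideal A) : Set A) ⊆ U
    rw [closure_eq_of_isOpen (isOpen_pow_of_isAdic hJ n)]
    exact hn

theorem isPreadmissible_of_isPreadic (hA : IsPreadic A) : IsPreadmissible A :=
  isPreadmissible_of_isWeaklyPreadic (isWeaklyPreadic_of_isPreadic hA)

theorem isOpen_closure_pow_of_isWeaklyPreadic (hA : IsWeaklyPreadic A) {K : Ideal A}
    (hK : IsIdealOfDefinition A K) (n : ℕ) : IsOpen (closure ((K ^ n : Ideal A) : Set A)) := by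
  obtain ⟨hlin, I, hopen, hbasis⟩ := hA
  obtain ⟨m, hm⟩ := hbasis K (mem_nhds_of_isOpen hK.1)
  have hle : I ^ m ≤ K := fun y hy => hm (subset_closure hy)
  have h1 : (I ^ (m * n)).closure ≤ (K ^ n).closure :=
    closure_mono (by rw [pow_mul]; exact Ideal.pow_right_mono hle n)
  exact isOpen_of_le h1 (hopen (m * n))

theorem isWeaklyPreadic_of_isIdealOfDefinition [IsLinearTopology A A] {I : Ideal A}
    (hI : IsIdealOfDefinition A I)
    (hopen : ∀ n : ℕ, 0 < n → IsOpen (closure ((I ^ n : Ideal A) : Set A))) : IsWeaklyPreadic A := by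
  refine ⟨inferInstance, I, fun n => ?_, fun U hU => ?_⟩
  · rcases Nat.eq_zero_or_pos n with rfl | hn
    · simp
    · exact hopen n hn
  · obtain ⟨U', hU', hU'U⟩ := exists_open_ideal_subset hU
    obtain ⟨n, hn, hle⟩ := exists_pow_le_of_isIdealOfDefinition hI hU'
    exact ⟨n, fun x hx => hU'U (closure_le_of_le_of_isClosed hle (isClosed_of_isOpen hU') hx)⟩

/-- A taut map out of an adic ring, from the weakly pre-adic data on the target. -/
theorem isTaut_of_isAdic_source {φ : A →+* B} {I : Ideal A} (hI : IsAdic I)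
    (hopen : ∀ n : ℕ, IsOpen (closure (((I.map φ) ^ n : Ideal B) : Set B)))
    (hbasis : ∀ U ∈ 𝓝 (0 : B), ∃ n : ℕ, closure (((I.map φ) ^ n : Ideal B) : Set B) ⊆ U) :
    IsTaut φ := by
  refine ⟨?_, fun K hK => ?_, fun U hU => ?_⟩
  · apply continuous_of_continuousAt_zero φ
    intro U hU
    rw [map_zero] at hU
    obtain ⟨n, hn⟩ := hbasis U hU
    show φ ⁻¹' U ∈ 𝓝 (0 : A)
    refine mem_of_superset (mem_nhds_of_isOpen (isOpen_pow_of_isAdic hI n)) ?_
    intro x hx
    apply hn
    apply subset_closure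
    rw [← Ideal.map_pow]
    exact Ideal.mem_map_of_mem φ hx
  · obtain ⟨n, hn⟩ := exists_pow_subset_of_isAdic hI (mem_nhds_of_isOpen hK)
    have hn' : I ^ n ≤ K := hn
    have h1 : ((I.map φ) ^ n).closure ≤ (K.map φ).closure := by
      rw [← Ideal.map_pow]
      exact closure_mono (Ideal.map_mono hn')
    exact isOpen_of_le h1 (hopen n)
  · obtain ⟨n, hn⟩ := hbasis U hU
    refine ⟨I ^ n, isOpen_pow_of_isAdic hI n, ?_⟩
    rw [Ideal.map_pow]
    exact hn

end More

/-- A copy of `A` carrying the `I`-adic topology. -/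
def AdicCopy (A : Type u) [CommRing A] (_I : Ideal A) : Type u := A

namespace AdicCopy

variable (A : Type u) [CommRing A] (I : Ideal A)

instance : CommRing (AdicCopy A I) := inferInstanceAs (CommRing A)

instance : TopologicalSpace (AdicCopy A I) := I.adicTopology

instance : IsTopologicalRing (AdicCopy A I) :=
  I.ringFilterBasis.isTopologicalRing

/-- The identity as a ring homomorphism. -/
def toRing : AdicCopy A I →+* A := RingHom.id A

/-- The ideal `I` in the copy. -/
def ideal : Ideal (AdicCopy A I) := I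

theorem isAdic_ideal : IsAdic (ideal A I) := rfl

theorem map_ideal : (ideal A I).map (toRing A I) = I := Ideal.map_id I

end AdicCopy

section TFAE

variable (A : Type u) [CommRing A] [TopologicalSpace A] [IsTopologicalRing A] [IsLinearTopology A A]

theorem isWeaklyPreadic_tfae :
    List.TFAE [IsWeaklyPreadic A,
      ∃ (A' : Type u) (_ : CommRing A') (_ : TopologicalSpace A') (_ : IsTopologicalRing A')
        (φ : A' →+* A), IsPreadic A' ∧ IsTaut φ,
      IsPreadmissible A ∧ ∃ I : Ideal A, IsIdealOfDefinition A I ∧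
        ∀ n : ℕ, 0 < n → IsOpen (closure ((I ^ n : Ideal A) : Set A)),
      IsPreadmissible A ∧ ∀ I : Ideal A, IsIdealOfDefinition A I →
        ∀ n : ℕ, 0 < n → IsOpen (closure ((I ^ n : Ideal A) : Set A))] := by
  tfae_have 1 → 2 := by
    rintro ⟨hlin, I, hopen, hbasis⟩
    refine ⟨AdicCopy A I, inferInstance, inferInstance, inferInstance, AdicCopy.toRing A I,
      ⟨AdicCopy.ideal A I, AdicCopy.isAdic_ideal A I⟩, ?_⟩
    apply isTaut_of_isAdic_source (AdicCopy.isAdic_ideal A I)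
    · rw [AdicCopy.map_ideal]; exact hopen
    · rw [AdicCopy.map_ideal]; exact hbasis
  tfae_have 2 → 1 := by
    rintro ⟨A', _, _, _, φ, hA', hφ⟩
    exact isWeaklyPreadic_of_isTaut hφ (isWeaklyPreadic_of_isPreadic hA')
  tfae_have 1 → 4 := by
    intro h
    exact ⟨isPreadmissible_of_isWeaklyPreadic h, fun I hI n _ =>
      isOpen_closure_pow_of_isWeaklyPreadic h hI n⟩
  tfae_have 4 → 3 := by
    rintro ⟨hpre, h⟩
    obtain ⟨-, I, hI⟩ := hpre
    exact ⟨⟨inferInstance, I, hI⟩, I, hI, h I hI⟩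
  tfae_have 3 → 1 := by
    rintro ⟨-, I, hI, hopen⟩
    exact isWeaklyPreadic_of_isIdealOfDefinition hI hopen
  tfae_finish

end TFAE

section FFlat

variable {A : Type u} [CommRing A] [TopologicalSpace A] [IsTopologicalRing A]
variable {B : Type v} [CommRing B] [TopologicalSpace B] [IsTopologicalRing B]

theorem comap_closure_map_eq {φ : A →+* B} (hφ : IsTautFFlat φ) {I : Ideal A}
    (hI : IsOpen (I : Set A)) : (I.map φ).closure.comap φ = I := by
  apply le_antisymm
  · intro x hx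
    have hinj := (hφ.2 I hI).injective
    have h0 : descentMap φ I (Ideal.Quotient.mk I x) = 0 := by
      show Ideal.quotientMap _ φ _ (Ideal.Quotient.mk I x) = 0
      rw [Ideal.quotientMap_mk]
      exact Ideal.Quotient.eq_zero_iff_mem.2 hx
    have := hinj (h0.trans (map_zero _).symm)
    exact Ideal.Quotient.eq_zero_iff_mem.1 this
  · exact Ideal.le_comap_map.trans (Ideal.comap_mono (le_closure _))

theorem isCountablyGenerated_of_isTautFFlat [IsLinearTopology A A] [IsLinearTopology B B]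
    {φ : A →+* B} (hφ : IsTautFFlat φ) (hB : (𝓝 (0 : B)).IsCountablyGenerated) :
    (𝓝 (0 : A)).IsCountablyGenerated := by
  obtain ⟨K, hK, hbasis⟩ := (IsLinearTopology.hasBasis_open_ideal (R := B)).exists_antitone_subbasis
  have hex : ∀ n, ∃ I : Ideal A, IsOpen (I : Set A) ∧ ((I.map φ).closure : Set B) ⊆ K n :=
    fun n => hφ.1.2.2 _ (mem_nhds_of_isOpen (hK n))
  choose I hIo hIK using hex
  have hb : (𝓝 (0 : A)).HasBasis (fun _ : ℕ => True) (fun n => (I n : Set A)) := by
    refine ⟨fun U => ⟨fun hU => ?_, ?_⟩⟩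
    · obtain ⟨I', hI', hI'U⟩ := exists_open_ideal_subset hU
      have hJ := hφ.1.2.1 I' hI'
      obtain ⟨n, -, hn⟩ := hbasis.1.mem_iff.1 (mem_nhds_of_isOpen (I := (I'.map φ).closure) hJ)
      refine ⟨n, trivial, fun x hx => hI'U ?_⟩
      have : x ∈ (I'.map φ).closure.comap φ := by
        rw [Ideal.mem_comap]
        exact hn (hIK n (subset_closure (Ideal.mem_map_of_mem φ hx)))
      rwa [comap_closure_map_eq hφ hI'] at this
    · rintro ⟨n, -, hn⟩
      exact mem_of_superset (mem_nhds_of_isOpen (hIo n)) hn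
  exact hb.isCountablyGenerated

theorem isWeaklyPreadmissible_of_isTautFFlat [IsLinearTopology A A] [IsLinearTopology B B]
    {φ : A →+* B} (hφ : IsTautFFlat φ) (hB : IsWeaklyPreadmissible B) : IsWeaklyPreadmissible A := by
  obtain ⟨-, J₀, hJ₀, hnil⟩ := hB
  obtain ⟨I, hI, hIJ⟩ := hφ.1.2.2 _ (mem_nhds_of_isOpen hJ₀)
  refine ⟨inferInstance, I, hI, fun f hf => ?_⟩
  have hφf : IsTopologicallyNilpotent (φ f) :=
    hnil _ (hIJ (subset_closure (Ideal.mem_map_of_mem φ hf)))
  unfold IsTopologicallyNilpotent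
  rw [IsLinearTopology.hasBasis_open_ideal.tendsto_right_iff]
  intro I' hI'
  have hJ' := hφ.1.2.1 I' hI'
  filter_upwards [hφf.eventually_mem (mem_nhds_of_isOpen (I := (I'.map φ).closure) hJ')] with n hn
  have : f ^ n ∈ (I'.map φ).closure.comap φ := by
    rw [Ideal.mem_comap, map_pow]
    exact hn
  rwa [comap_closure_map_eq hφ hI'] at this

theorem isPreadmissible_of_isTautFFlat [IsLinearTopology A A]
    {φ : A →+* B} (hφ : IsTautFFlat φ) (hB : IsPreadmissible B) : IsPreadmissible A := by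
  obtain ⟨-, J₀, hJ₀⟩ := hB
  obtain ⟨I, hI, hIJ⟩ := hφ.1.2.2 _ (mem_nhds_of_isOpen hJ₀.1)
  refine ⟨inferInstance, I, hI, fun U hU => ?_⟩
  obtain ⟨I', hI', hI'U⟩ := exists_open_ideal_subset hU
  have hJ' := hφ.1.2.1 I' hI'
  obtain ⟨n, hn, hle⟩ := exists_pow_le_of_isIdealOfDefinition hJ₀ (K := (I'.map φ).closure) hJ'
  refine ⟨n, hn, fun x hx => hI'U ?_⟩
  have hIJ' : I.map φ ≤ J₀ := fun y hy => hIJ (subset_closure hy)
  have : x ∈ (I'.map φ).closure.comap φ := by
    rw [Ideal.mem_comap]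
    apply hle
    have h1 : φ x ∈ (I ^ n).map φ := Ideal.mem_map_of_mem φ hx
    rw [Ideal.map_pow] at h1
    exact Ideal.pow_right_mono hIJ' n h1
  rwa [comap_closure_map_eq hφ hI'] at this

end FFlat

end Groth.Agent.Lib.Helper15.LT
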