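import Groth.Agent.Lib.Helper15.LinTop

/-!
# Helper library (helper15): linearly topologized rings, part 2 (faithfully flat taut descent)
-/

set_option autoImplicit false
universe u v w
open Topology Filter

namespace Groth.Agent.Lib.Helper15.LT

open LinTop

section FFlat2

variable {A : Type u} [CommRing A] [TopologicalSpace A] [IsTopologicalRing A]
variable {B : Type v} [CommRing B] [TopologicalSpace B] [IsTopologicalRing B]

theorem isWeaklyPreadic_of_isTautFFlat [IsLinearTopology A A] [IsLinearTopology B B] {φ : A →+* B}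
    (hφ : IsTautFFlat φ) (hB : IsWeaklyPreadic B) : IsWeaklyPreadic A := by
  have hBpre : IsPreadmissible B := isPreadmissible_of_isWeaklyPreadic hB
  obtain ⟨-, I, hI⟩ := isPreadmissible_of_isTautFFlat hφ hBpre
  have hJ : IsIdealOfDefinition B (I.map φ).closure := isIdealOfDefinition_closure_map hφ.1 hI
  have hopenB : ∀ n, IsOpen (closure ((((I.map φ).closure) ^ n : Ideal B) : Set B)) :=
    fun n => isOpen_closure_pow_of_isWeaklyPreadic hB hJ n
  apply isWeaklyPreadic_of_isIdealOfDefinition hI
  intro n _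
  have hI'' : IsOpen ((((((I.map φ).closure) ^ n).closure).comap φ : Ideal A) : Set A) :=
    (hopenB n).preimage hφ.1.1
  refine isOpen_of_le (K := (I ^ n).closure) ?_ hI''
  intro x hx
  apply mem_closure_of_forall_mem_sup
  intro I' hI'
  have hJ' : IsOpen (((I'.map φ).closure : Ideal B) : Set B) := hφ.1.2.1 I' hI'
  have h1 : φ x ∈ (I ^ n).map φ ⊔ (I'.map φ).closure := by
    have hx' : φ x ∈ (((I.map φ).closure) ^ n).closure := hx
    have h2 := closure_le_sup_of_isOpen _ hJ' hx'
    have h3 : ((I.map φ).closure) ^ n ≤ (I.map φ) ^ n ⊔ (I'.map φ).closure :=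
      (Ideal.pow_right_mono (closure_le_sup_of_isOpen _ hJ') n).trans (sup_pow_le _ _ n)
    rw [Ideal.map_pow]
    exact (sup_le h3 le_sup_right) h2
  have hff := hφ.2 I' hI'
  have h4 : descentMap φ I' (Ideal.Quotient.mk I' x) ∈
      ((I ^ n).map (Ideal.Quotient.mk I')).map (descentMap φ I') := by
    rw [Ideal.map_map]
    have e : (descentMap φ I').comp (Ideal.Quotient.mk I') =
        (Ideal.Quotient.mk (I'.map φ).closure).comp φ := by
      ext a
      rfl
    rw [e, ← Ideal.map_map]
    show Ideal.Quotient.mk _ (φ x) ∈ _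
    rw [Ideal.mem_quotient_iff_mem_sup]
    exact h1
  have h5 : Ideal.Quotient.mk I' x ∈ (I ^ n).map (Ideal.Quotient.mk I') := by
    letI := (descentMap φ I').toAlgebra
    haveI : Module.FaithfullyFlat (A ⧸ I') (B ⧸ (I'.map φ).closure) := hff
    have := Ideal.comap_map_eq_self_of_faithfullyFlat (B := B ⧸ (I'.map φ).closure)
      ((I ^ n).map (Ideal.Quotient.mk I'))
    rw [← this]
    exact h4
  rwa [Ideal.mem_quotient_iff_mem_sup] at h5

end FFlat2

end Groth.Agent.Lib.Helper15.LT
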