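import Groth.Agent.Lib.Helper15.LinTop

/-!
# Helper library (helper15): completion of linearly topologized rings
-/

set_option autoImplicit false
universe u v w
open Topology Filter UniformSpace

namespace Groth.Agent.Lib.Helper15.LT

open LinTop

section TautLinear

variable {A : Type u} [CommRing A] [TopologicalSpace A] [IsTopologicalRing A]
variable {B : Type v} [CommRing B] [TopologicalSpace B] [IsTopologicalRing B]

theorem isLinearTopology_of_isTaut {φ : A →+* B} (hφ : IsTaut φ) : IsLinearTopology B B := by
  have hb : (𝓝 (0 : B)).HasBasis (fun I : Ideal A => IsOpen (I : Set A))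
      (fun I => (((I.map φ).closure : Ideal B) : Set B)) :=
    ⟨fun U => ⟨fun hU => let ⟨I, hI, h⟩ := hφ.2.2 U hU; ⟨I, hI, h⟩,
      fun ⟨I, hI, h⟩ => mem_of_superset (mem_nhds_of_isOpen (hφ.2.1 I hI)) h⟩⟩
  exact IsLinearTopology.mk_of_hasBasis B hb

end TautLinear

section Completion

variable (A : Type u) [CommRing A] [UniformSpace A] [IsUniformAddGroup A] [IsTopologicalRing A]

/-- The closure of the image of an ideal in the completion, as an ideal. -/
def closureImage (I : Ideal A) : Ideal (Completion A) where
  carrier := closure ((fun a : A => (a : Completion A)) '' (I : Set A))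
  add_mem' := by
    intro x y hx hy
    refine map_mem_closure₂ continuous_add hx hy ?_
    rintro _ ⟨a, ha, rfl⟩ _ ⟨b, hb, rfl⟩
    exact ⟨a + b, I.add_mem ha hb, Completion.coe_add a b⟩
  zero_mem' := subset_closure ⟨0, I.zero_mem, Completion.coe_zero⟩
  smul_mem' := by
    intro c x hx
    induction c using Completion.induction_on with
    | hp =>
      exact _root_.isClosed_closure.preimage (continuous_id.mul continuous_const)
    | ih a =>
      refine map_mem_closure (continuous_const.mul continuous_id) hx ?_
      rintro _ ⟨i, hi, rfl⟩
      exact ⟨a * i, I.mul_mem_left a hi, Completion.coe_mul a i⟩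

theorem closure_map_coe_eq (I : Ideal A) :
    (((I.map (Completion.coeRingHom : A →+* Completion A)).closure : Ideal (Completion A)) :
      Set (Completion A)) = closure ((fun a : A => (a : Completion A)) '' (I : Set A)) := by
  apply Set.Subset.antisymm
  · have h1 : I.map (Completion.coeRingHom : A →+* Completion A) ≤ closureImage A I := by
      rw [Ideal.map_le_iff_le_comap]
      intro a ha
      exact subset_closure ⟨a, ha, rfl⟩
    exact closure_le_of_le_of_isClosed h1 _root_.isClosed_closure
  · apply _root_.closure_mono
    rintro _ ⟨a, ha, rfl⟩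
    exact Ideal.mem_map_of_mem (Completion.coeRingHom : A →+* Completion A) ha

theorem isTaut_coe [IsLinearTopology A A] :
    IsTaut (Completion.coeRingHom : A →+* Completion A) := by
  refine ⟨Completion.continuous_coe A, fun I hI => ?_, fun U hU => ?_⟩
  · have h1 : closure ((fun a : A => (a : Completion A)) '' (I : Set A)) ∈ 𝓝 ((0 : A) : Completion A) :=
      Completion.isDenseInducing_coe.closure_image_mem_nhds (mem_nhds_of_isOpen hI)
    rw [← closure_map_coe_eq, Completion.coe_zero] at h1
    exact AddSubgroup.isOpen_of_mem_nhds
      (I.map (Completion.coeRingHom : A →+* Completion A)).closure.toAddSubgroup h1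
  · obtain ⟨V, hV, hVc, hVU⟩ := exists_mem_nhds_isClosed_subset hU
    have h0 : (fun a : A => (a : Completion A)) ⁻¹' V ∈ 𝓝 (0 : A) := by
      apply (Completion.continuous_coe A).continuousAt
      rw [Completion.coe_zero]
      exact hV
    obtain ⟨I, hI, hIV⟩ := exists_open_ideal_subset h0
    refine ⟨I, hI, ?_⟩
    show (((I.map (Completion.coeRingHom : A →+* Completion A)).closure : Ideal (Completion A)) :
      Set (Completion A)) ⊆ U
    rw [closure_map_coe_eq]
    refine (closure_minimal ?_ hVc).trans hVU
    rintro _ ⟨a, ha, rfl⟩
    exact hIV ha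

theorem isLinearTopology_completion [IsLinearTopology A A] :
    IsLinearTopology (Completion A) (Completion A) :=
  isLinearTopology_of_isTaut (isTaut_coe A)

theorem isWeaklyAdic_completion [IsLinearTopology A A] (hA : IsWeaklyPreadic A) :
    IsWeaklyAdic (Completion A) := by
  haveI := isLinearTopology_completion A
  exact ⟨isWeaklyPreadic_of_isTaut (isTaut_coe A) hA, inferInstance, inferInstance⟩

end Completion

end Groth.Agent.Lib.Helper15.LT
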