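import Groth.Agent.Lib.Helper15.LinTopFG

/-!
# Helper library (helper15): taut maps with dense image out of a complete ring
-/

set_option autoImplicit false
universe u v w
open Topology Filter

namespace Groth.Agent.Lib.Helper15.LT

open LinTop

section Dense

variable {A : Type u} [CommRing A] [TopologicalSpace A] [IsTopologicalRing A]
variable {B : Type v} [CommRing B] [TopologicalSpace B] [IsTopologicalRing B]

/-- The closure of the image of an ideal under a ring homomorphism with dense range, as an ideal. -/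
def closureImageOfDense (φ : A →+* B) (hd : DenseRange φ) (I : Ideal A) : Ideal B where
  carrier := closure (φ '' (I : Set A))
  add_mem' := by
    intro x y hx hy
    refine map_mem_closure₂ continuous_add hx hy ?_
    rintro _ ⟨a, ha, rfl⟩ _ ⟨b, hb, rfl⟩
    exact ⟨a + b, I.add_mem ha hb, map_add φ a b⟩
  zero_mem' := subset_closure ⟨0, I.zero_mem, map_zero φ⟩
  smul_mem' := by
    intro c x hx
    induction c using hd.induction_on with
    | hp =>
      exact _root_.isClosed_closure.preimage (continuous_id.mul continuous_const)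
    | ih a =>
      refine map_mem_closure (continuous_const.mul continuous_id) hx ?_
      rintro _ ⟨i, hi, rfl⟩
      exact ⟨a * i, I.mul_mem_left a hi, map_mul φ a i⟩

theorem closure_map_eq_of_denseRange (φ : A →+* B) (hd : DenseRange φ) (I : Ideal A) :
    (((I.map φ).closure : Ideal B) : Set B) = closure (φ '' (I : Set A)) := by
  apply Set.Subset.antisymm
  · have h1 : I.map φ ≤ closureImageOfDense φ hd I := by
      rw [Ideal.map_le_iff_le_comap]
      intro a ha
      exact subset_closure ⟨a, ha, rfl⟩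
    exact closure_le_of_le_of_isClosed h1 _root_.isClosed_closure
  · apply _root_.closure_mono
    rintro _ ⟨a, ha, rfl⟩
    exact Ideal.mem_map_of_mem φ ha

end Dense

section Approx

variable {A : Type u} [CommRing A] [UniformSpace A] [IsUniformAddGroup A] [IsTopologicalRing A]
  [IsLinearTopology A A] [CompleteSpace A]
variable {B : Type v} [CommRing B] [TopologicalSpace B] [IsTopologicalRing B] [T2Space B]

/-- Successive approximation. -/
theorem exists_preimage_of_approx (φ : A →+* B) (hφ : Continuous φ) (I : ℕ → Ideal A)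
    (hIopen : ∀ n, IsOpen (I n : Set A)) (hIanti : Antitone I)
    (hI0 : ∀ U ∈ 𝓝 (0 : A), ∃ n, (I n : Set A) ⊆ U)
    (J : ℕ → Set B) (hJ0 : ∀ U ∈ 𝓝 (0 : B), ∃ n, ∀ m, n ≤ m → J m ⊆ U)
    (hstep : ∀ n, ∀ b ∈ J n, ∃ a ∈ I n, b - φ a ∈ J (n + 1)) (n : ℕ) (b : B) (hb : b ∈ J n) :
    ∃ a ∈ I n, φ a = b := by
  have step : ∀ j (y : {y : B // y ∈ J (n + j)}), ∃ a : A, a ∈ I (n + j) ∧ y.1 - φ a ∈ J (n + (j + 1)) :=
    fun j y => hstep (n + j) y.1 y.2
  choose a ha1 ha2 using step
  obtain ⟨bs, bs_zero, bs_succ⟩ : ∃ bs : ∀ j, {y : B // y ∈ J (n + j)},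
      (bs 0).1 = b ∧ ∀ j, (bs (j + 1)).1 = (bs j).1 - φ (a j (bs j)) :=
    ⟨fun j => Nat.rec (motive := fun j => {y : B // y ∈ J (n + j)}) ⟨b, hb⟩
      (fun j y => ⟨y.1 - φ (a j y), ha2 j y⟩) j, rfl, fun j => rfl⟩
  have hident : ∀ N, φ (∑ j ∈ Finset.range N, a j (bs j)) + (bs N).1 = b := by
    intro N
    induction N with
    | zero => simp [bs_zero]
    | succ N ih =>
      rw [bs_succ, Finset.sum_range_succ, map_add, ← ih]
      abel
  have hamem : ∀ j, a j (bs j) ∈ I (n + j) := fun j => ha1 j (bs j)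
  have hatend : Tendsto (fun j => a j (bs j)) atTop (𝓝 0) := by
    rw [tendsto_def]
    intro U hU
    obtain ⟨m, hm⟩ := hI0 U hU
    rw [mem_atTop_sets]
    exact ⟨m, fun j hj => hm (hIanti (by omega : m ≤ n + j) (hamem j))⟩
  haveI : NonarchimedeanAddGroup A := nonarch
  have hcauchy : CauchySeq (fun N => ∑ j ∈ Finset.range N, a j (bs j)) := by
    apply NonarchimedeanAddGroup.cauchySeq_of_tendsto_sub_nhds_zero
    have e : (fun N => (∑ j ∈ Finset.range (N + 1), a j (bs j)) - ∑ j ∈ Finset.range N, a j (bs j))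
        = fun N => a N (bs N) := by
      funext N
      rw [Finset.sum_range_succ]
      abel
    rw [e]
    exact hatend
  obtain ⟨l, hl⟩ := cauchySeq_tendsto_of_complete hcauchy
  have hsum_mem : ∀ N, ∑ j ∈ Finset.range N, a j (bs j) ∈ I n := fun N =>
    (I n).sum_mem (fun j _ => hIanti (Nat.le_add_right n j) (hamem j))
  have hl_mem : l ∈ I n :=
    (isClosed_of_isOpen (hIopen n)).mem_of_tendsto hl (Eventually.of_forall hsum_mem)
  have hbs : Tendsto (fun N => (bs N).1) atTop (𝓝 0) := by
    rw [tendsto_def]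
    intro U hU
    obtain ⟨m, hm⟩ := hJ0 U hU
    rw [mem_atTop_sets]
    exact ⟨m, fun j hj => hm (n + j) (by omega) (bs j).2⟩
  have hlim : Tendsto (fun N => φ (∑ j ∈ Finset.range N, a j (bs j)) + (bs N).1) atTop
      (𝓝 (φ l + 0)) := ((hφ.tendsto l).comp hl).add hbs
  have hconst : Tendsto (fun N => φ (∑ j ∈ Finset.range N, a j (bs j)) + (bs N).1) atTop (𝓝 b) := by
    simp only [hident]
    exact tendsto_const_nhds
  have hb' : b = φ l + 0 := tendsto_nhds_unique hconst hlim
  exact ⟨l, hl_mem, by rw [hb', add_zero]⟩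

end Approx

section Main

theorem surjective_isOpenQuotientMap_completeSpace
    {A : Type u} [CommRing A] [UniformSpace A] [IsUniformAddGroup A] [IsTopologicalRing A]
    [IsLinearTopology A A] [T2Space A] [CompleteSpace A] (hA : (𝓝 (0 : A)).IsCountablyGenerated)
    {B : Type v} [CommRing B] [UniformSpace B] [IsUniformAddGroup B] [IsTopologicalRing B]
    [IsLinearTopology B B] [T2Space B]
    (φ : A →+* B) (hφ : IsTaut φ) (hd : DenseRange φ) :
    Function.Surjective φ ∧ IsOpenQuotientMap φ ∧ CompleteSpace B := by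
  obtain ⟨I, hIopen, hIbasis⟩ :=
    (IsLinearTopology.hasBasis_open_ideal (R := A)).exists_antitone_subbasis
  have hIanti : Antitone I := fun m n h => SetLike.coe_subset_coe.1 (hIbasis.antitone h)
  have hI0 : ∀ U ∈ 𝓝 (0 : A), ∃ n, (I n : Set A) ⊆ U := fun U hU =>
    let ⟨n, _, h⟩ := hIbasis.1.mem_iff.1 hU
    ⟨n, h⟩
  obtain ⟨J, hJdef⟩ : ∃ J : ℕ → Ideal B, J = fun n => ((I n).map φ).closure := ⟨_, rfl⟩
  have hJeq : ∀ n, (J n : Set B) = closure (φ '' (I n : Set A)) := fun n => by
    rw [hJdef]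
    exact closure_map_eq_of_denseRange φ hd (I n)
  have hJopen : ∀ n, IsOpen (J n : Set B) := fun n => by
    rw [hJdef]
    exact hφ.2.1 _ (hIopen n)
  have hJanti : Antitone J := fun m n h => by
    rw [hJdef]
    exact closure_mono (Ideal.map_mono (hIanti h))
  have hJ0 : ∀ U ∈ 𝓝 (0 : B), ∃ n, ∀ m, n ≤ m → (J m : Set B) ⊆ U := by
    intro U hU
    obtain ⟨I', hI', hI'U⟩ := hφ.2.2 U hU
    obtain ⟨n, hn⟩ := hI0 I' (mem_nhds_of_isOpen hI')
    have hn' : I n ≤ I' := hn
    refine ⟨n, fun m hm x hx => hI'U ?_⟩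
    have hx' : x ∈ J n := hJanti hm hx
    rw [hJdef] at hx'
    exact closure_mono (Ideal.map_mono hn') hx'
  have hstep : ∀ n, ∀ b ∈ (J n : Set B), ∃ a ∈ I n, b - φ a ∈ (J (n + 1) : Set B) := by
    intro n b hb
    have hnhd : {y : B | b - y ∈ J (n + 1)} ∈ 𝓝 b := by
      have ho : IsOpen {y : B | b - y ∈ J (n + 1)} :=
        (hJopen (n + 1)).preimage (continuous_const.sub continuous_id)
      exact ho.mem_nhds (by simp)
    rw [hJeq n] at hb
    obtain ⟨y, hy, a, ha, rfl⟩ := mem_closure_iff_nhds.1 hb _ hnhd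
    exact ⟨a, ha, hy⟩
  have hkey : ∀ n, ∀ b ∈ (J n : Set B), ∃ a ∈ I n, φ a = b :=
    exists_preimage_of_approx φ hφ.1 I hIopen hIanti hI0 (fun n => (J n : Set B)) hJ0 hstep
  have hsurj : Function.Surjective φ := by
    intro b
    have hnhd : {y : B | b - y ∈ J 0} ∈ 𝓝 b := by
      have ho : IsOpen {y : B | b - y ∈ J 0} :=
        (hJopen 0).preimage (continuous_const.sub continuous_id)
      exact ho.mem_nhds (by simp)
    obtain ⟨y, hy, a₀, rfl⟩ := mem_closure_iff_nhds.1 (hd b) _ hnhd
    obtain ⟨a, -, ha⟩ := hkey 0 _ hy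
    exact ⟨a₀ + a, by rw [map_add, ha]; abel⟩
  have hopenmap : IsOpenMap φ := by
    rw [isOpenMap_iff_nhds_le]
    intro a S hS
    have h1 : (fun x => a + x) ⁻¹' (φ ⁻¹' S) ∈ 𝓝 (0 : A) := by
      apply (continuous_add_left a).continuousAt
      simpa using hS
    obtain ⟨n, hn⟩ := hI0 _ h1
    have ho : IsOpen {y : B | y - φ a ∈ J n} :=
      (hJopen n).preimage (continuous_id.sub continuous_const)
    refine mem_of_superset (ho.mem_nhds (by simp)) ?_
    intro y hy
    obtain ⟨x, hx, hxy⟩ := hkey n _ hy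
    have h2 : φ (a + x) ∈ S := hn hx
    rw [map_add, hxy] at h2
    simpa using h2
  have hcomplete : CompleteSpace B := by
    haveI : (𝓝 (0 : B)).IsCountablyGenerated := isCountablyGenerated_of_isTaut hφ hA
    haveI : (uniformity B).IsCountablyGenerated := IsUniformAddGroup.uniformity_countably_generated
    apply UniformSpace.complete_of_cauchySeq_tendsto
    intro u hu
    have hV : ∀ n, {p : B × B | p.1 - p.2 ∈ J n} ∈ uniformity B := by
      intro n
      rw [uniformity_eq_comap_nhds_zero B]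
      refine ⟨J n, (hJopen n).mem_nhds (J n).zero_mem, ?_⟩
      intro p hp
      have hp' : p.2 - p.1 ∈ J n := hp
      have : p.1 - p.2 = -(p.2 - p.1) := by abel
      show p.1 - p.2 ∈ J n
      rw [this]
      exact (J n).neg_mem hp'
    obtain ⟨ψ, hψ, hψV⟩ := hu.subseq_mem hV
    choose a ha1 ha2 using fun n => hkey n _ (hψV n)
    obtain ⟨a', ha'⟩ := hsurj (u (ψ 0))
    have htel : ∀ N, φ (a' + ∑ j ∈ Finset.range N, a j) = u (ψ N) := by
      intro N
      induction N with
      | zero => simp [ha']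
      | succ N ih =>
        rw [Finset.sum_range_succ, ← add_assoc, map_add, ih, ha2]
        abel
    haveI : NonarchimedeanAddGroup A := nonarch
    have hcauchy : CauchySeq (fun N => a' + ∑ j ∈ Finset.range N, a j) := by
      apply NonarchimedeanAddGroup.cauchySeq_of_tendsto_sub_nhds_zero
      have e : (fun N => (a' + ∑ j ∈ Finset.range (N + 1), a j) - (a' + ∑ j ∈ Finset.range N, a j))
          = a := by
        funext N
        rw [Finset.sum_range_succ]
        abel
      rw [e, tendsto_def]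
      intro U hU
      obtain ⟨m, hm⟩ := hI0 U hU
      rw [mem_atTop_sets]
      exact ⟨m, fun j hj => hm (hIanti hj (ha1 j))⟩
    obtain ⟨l, hl⟩ := cauchySeq_tendsto_of_complete hcauchy
    refine ⟨φ l, tendsto_nhds_of_cauchySeq_of_subseq hu hψ.tendsto_atTop ?_⟩
    have h3 := (hφ.1.tendsto l).comp hl
    exact h3.congr htel
  exact ⟨hsurj, ⟨hsurj, hφ.1, hopenmap⟩, hcomplete⟩

end Main

end Groth.Agent.Lib.Helper15.LT
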