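import Groth.Agent.Lib.Helper15.LinTop

/-!
# Helper library (helper15): finitely generated ideals in complete linearly topologized rings
-/

set_option autoImplicit false
universe u v w
open Topology Filter

namespace Groth.Agent.Lib.Helper15.LT

open LinTop

section Alg

variable {A : Type u} [CommRing A]

theorem exists_sum_of_mem_span_mul {s : ℕ} (g : Fin s → A) (J : Ideal A) {y : A}
    (hy : y ∈ Ideal.span (Set.range g) * J) :
    ∃ a : Fin s → A, (∀ k, a k ∈ J) ∧ y = ∑ k, g k * a k := by
  refine Submodule.smul_induction_on hy ?_ ?_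
  · intro m hm n hn
    obtain ⟨c, rfl⟩ := (Submodule.mem_span_range_iff_exists_fun A).1 hm
    refine ⟨fun k => c k * n, fun k => J.mul_mem_left _ hn, ?_⟩
    rw [Finset.sum_smul]
    refine Finset.sum_congr rfl fun k _ => ?_
    simp only [smul_eq_mul]
    ring
  · rintro x y ⟨a, ha, rfl⟩ ⟨b, hb, rfl⟩
    refine ⟨fun k => a k + b k, fun k => J.add_mem (ha k) (hb k), ?_⟩
    rw [← Finset.sum_add_distrib]
    exact Finset.sum_congr rfl fun k _ => (mul_add _ _ _).symm

end Alg

section Complete

variable {A : Type u} [CommRing A] [UniformSpace A] [IsUniformAddGroup A] [IsTopologicalRing A]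
  [IsLinearTopology A A]

theorem nonarch : NonarchimedeanAddGroup A :=
  { (inferInstance : IsTopologicalAddGroup A) with
    is_nonarchimedean := fun U hU =>
      let ⟨I, hI, hIU⟩ := exists_open_ideal_subset hU
      ⟨⟨I.toAddSubgroup, hI⟩, hIU⟩ }

omit [IsUniformAddGroup A] [IsLinearTopology A A] in
theorem tendsto_zero_of_mem_closure_pow (I : Ideal A)
    (hbasis : ∀ U ∈ 𝓝 (0 : A), ∃ n : ℕ, closure ((I ^ n : Ideal A) : Set A) ⊆ U) {f : ℕ → A}
    (hf : ∀ n, f n ∈ (I ^ n).closure) : Tendsto f atTop (𝓝 0) := by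
  rw [tendsto_def]
  intro U hU
  obtain ⟨m, hm⟩ := hbasis U hU
  rw [mem_atTop_sets]
  exact ⟨m, fun n hn => hm (closure_mono (Ideal.pow_le_pow_right hn) (hf n))⟩

theorem closure_span_le_of_complete [T2Space A] [CompleteSpace A] (I : Ideal A)
    (hbasis : ∀ U ∈ 𝓝 (0 : A), ∃ n : ℕ, closure ((I ^ n : Ideal A) : Set A) ⊆ U) {s : ℕ}
    (g : Fin s → A)
    (hopen : ∀ j, IsOpen (((Ideal.span (Set.range g) * I ^ j).closure : Ideal A) : Set A)) :
    (Ideal.span (Set.range g)).closure ≤ Ideal.span (Set.range g) := by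
  intro x hx
  have step : ∀ j (y : {y : A // y ∈ (Ideal.span (Set.range g) * I ^ j).closure}),
      ∃ a : Fin s → A, (∀ k, a k ∈ I ^ j) ∧
        y.1 - ∑ k, g k * a k ∈ (Ideal.span (Set.range g) * I ^ (j + 1)).closure := by
    intro j y
    have h1 := closure_le_sup_of_isOpen (Ideal.span (Set.range g) * I ^ j) (hopen (j + 1)) y.2
    obtain ⟨z, hz, w, hw, hzw⟩ := Submodule.mem_sup.1 h1
    obtain ⟨a, ha, rfl⟩ := exists_sum_of_mem_span_mul g (I ^ j) hz
    refine ⟨a, ha, ?_⟩
    have : y.1 - ∑ k, g k * a k = w := by rw [← hzw]; ring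
    rw [this]
    exact hw
  choose a ha1 ha2 using step
  obtain ⟨xs, xs_zero, xs_succ⟩ : ∃ xs : ∀ j, {y : A // y ∈ (Ideal.span (Set.range g) * I ^ j).closure},
      (xs 0).1 = x ∧ ∀ j, (xs (j + 1)).1 = (xs j).1 - ∑ k, g k * a j (xs j) k :=
    ⟨fun j => Nat.rec (motive := fun j => {y : A // y ∈ (Ideal.span (Set.range g) * I ^ j).closure})
      ⟨x, by simpa using hx⟩ (fun j y => ⟨y.1 - ∑ k, g k * a j y k, ha2 j y⟩) j, rfl, fun j => rfl⟩
  have hb : ∀ j k, a j (xs j) k ∈ I ^ j := fun j k => ha1 j (xs j) k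
  have hident : ∀ N, ∑ k, g k * (∑ j ∈ Finset.range N, a j (xs j) k) + (xs N).1 = x := by
    intro N
    induction N with
    | zero => simp [xs_zero]
    | succ N ih =>
      rw [xs_succ]
      simp only [Finset.sum_range_succ, mul_add, Finset.sum_add_distrib]
      rw [← ih]
      abel
  haveI : NonarchimedeanAddGroup A := nonarch
  have hcauchy : ∀ k, CauchySeq (fun N => ∑ j ∈ Finset.range N, a j (xs j) k) := by
    intro k
    apply NonarchimedeanAddGroup.cauchySeq_of_tendsto_sub_nhds_zero
    have e : (fun n => (∑ j ∈ Finset.range (n + 1), a j (xs j) k) - ∑ j ∈ Finset.range n, a j (xs j) k)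
        = fun n => a n (xs n) k := by
      funext n
      rw [Finset.sum_range_succ]
      abel
    rw [e]
    exact tendsto_zero_of_mem_closure_pow I hbasis (fun n => le_closure _ (hb n k))
  choose l hl using fun k => cauchySeq_tendsto_of_complete (hcauchy k)
  have hxs : Tendsto (fun N => (xs N).1) atTop (𝓝 0) := by
    apply tendsto_zero_of_mem_closure_pow I hbasis
    intro n
    have hle : Ideal.span (Set.range g) * I ^ n ≤ I ^ n := Ideal.mul_le_right
    exact closure_mono hle (xs n).2
  have hlim : Tendsto (fun N => ∑ k, g k * (∑ j ∈ Finset.range N, a j (xs j) k) + (xs N).1) atTop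
      (𝓝 (∑ k, g k * l k + 0)) :=
    (tendsto_finset_sum _ (fun k _ => (hl k).const_mul (g k))).add hxs
  have hconst : Tendsto (fun N => ∑ k, g k * (∑ j ∈ Finset.range N, a j (xs j) k) + (xs N).1) atTop
      (𝓝 x) := by
    simp only [hident]
    exact tendsto_const_nhds
  have hx' : x = ∑ k, g k * l k + 0 := tendsto_nhds_unique hconst hlim
  rw [hx', add_zero]
  exact Ideal.sum_mem _ (fun k _ => Ideal.mul_mem_right _ _ (Ideal.subset_span ⟨k, rfl⟩))

/-- A complete Hausdorff linearly topologized ring whose topology is given by the closures of the powers of a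
finitely generated ideal `I` is `I`-adic. -/
theorem isAdic_of_fg_of_closure_pow_basis [T2Space A] [CompleteSpace A] (I : Ideal A) (hfg : I.FG)
    (hopen : ∀ n : ℕ, IsOpen (closure ((I ^ n : Ideal A) : Set A)))
    (hbasis : ∀ U ∈ 𝓝 (0 : A), ∃ n : ℕ, closure ((I ^ n : Ideal A) : Set A) ⊆ U) : IsAdic I := by
  have hclosed : ∀ n : ℕ, (I ^ n).closure = I ^ n := by
    intro n
    obtain ⟨s, g, hg⟩ := Submodule.fg_iff_exists_fin_generating_family.1 (Ideal.FG.pow (n := n) hfg)
    have hg' : Ideal.span (Set.range g) = I ^ n := hg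
    apply le_antisymm _ (le_closure _)
    rw [← hg']
    apply closure_span_le_of_complete I hbasis g
    intro j
    rw [hg', ← pow_add]
    exact hopen (n + j)
  rw [isAdic_iff]
  constructor
  · intro n
    have := hopen n
    rwa [← Ideal.coe_closure, hclosed n] at this
  · intro U hU
    obtain ⟨n, hn⟩ := hbasis U hU
    exact ⟨n, fun x hx => hn (subset_closure hx)⟩

end Complete

end Groth.Agent.Lib.Helper15.LT
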