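import Groth.Agent.Lib.Helper15.LinTopFG

/-!
# Helper library (helper15): weakly adic rings with `I/I₂` finitely generated are adic
-/

set_option autoImplicit false
universe u v w
open Topology Filter

namespace Groth.Agent.Lib.Helper15.LT

open LinTop

section WA

variable {A : Type u} [CommRing A] [UniformSpace A] [IsUniformAddGroup A] [IsTopologicalRing A]

theorem closure_pow_mul_le (I : Ideal A) (a b : ℕ) :
    (I ^ a).closure * (I ^ b).closure ≤ (I ^ (a + b)).closure := by
  rw [pow_add]
  exact closure_mul_le _ _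

/-- Key lemma: if `J ≤ I ≤ J ⊔ cl(I²)` for an ideal of definition `I` of a weakly adic ring and `J` is finitely
generated, then the ring is `J`-adic. -/
theorem isAdic_of_le_sup_closure_sq (hA : IsWeaklyAdic A) {I J : Ideal A} (hI : IsIdealOfDefinition A I)
    (hJfg : J.FG) (hJI : J ≤ I) (hIJ : I ≤ J ⊔ (I ^ 2).closure) : IsAdic J := by
  obtain ⟨hwp, hT2, hC⟩ := hA
  haveI : IsLinearTopology A A := hwp.1
  have hCopen : ∀ n, IsOpen (((I ^ n).closure : Ideal A) : Set A) :=
    fun n => isOpen_closure_pow_of_isWeaklyPreadic hwp hI n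
  have hJC : ∀ n, J ^ n ≤ (I ^ n).closure := fun n => (Ideal.pow_right_mono hJI n).trans (le_closure _)
  have hCanti : ∀ {a b : ℕ}, a ≤ b → (I ^ b).closure ≤ (I ^ a).closure :=
    fun h => closure_mono (Ideal.pow_le_pow_right h)
  -- Claim 1
  have claim1 : ∀ n, I ^ n ≤ J ^ n ⊔ (I ^ (n + 1)).closure := by
    intro n
    induction n with
    | zero => rw [pow_zero, pow_zero]; exact le_sup_left
    | succ n ih =>
      rw [pow_succ]
      refine (Ideal.mul_mono ih hIJ).trans ?_
      rw [Ideal.sup_mul, Ideal.mul_sup, Ideal.mul_sup]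
      refine sup_le (sup_le ?_ ?_) (sup_le ?_ ?_)
      · rw [← pow_succ]; exact le_sup_left
      · refine le_sup_of_le_right ?_
        refine (Ideal.mul_mono_left (hJC n)).trans ?_
        exact (closure_pow_mul_le I n 2).trans (hCanti (by omega))
      · refine le_sup_of_le_right ?_
        have h1 : J ≤ (I ^ 1).closure := by simpa using hJC 1
        refine (Ideal.mul_mono_right h1).trans ?_
        exact (closure_pow_mul_le I (n + 1) 1).trans (hCanti (by omega))
      · refine le_sup_of_le_right ?_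
        exact (closure_pow_mul_le I (n + 1) 2).trans (hCanti (by omega))
  -- Claim 2
  have claim2 : ∀ n m, (I ^ n).closure ≤ J ^ n ⊔ (I ^ (n + m + 1)).closure := by
    intro n m
    induction m with
    | zero =>
      refine closure_le_of_le_of_isClosed (claim1 n) ?_
      exact isClosed_of_isOpen (isOpen_of_le le_sup_right (hCopen (n + 1)))
    | succ m ih =>
      refine ih.trans (sup_le le_sup_left ?_)
      have h2 : (I ^ (n + m + 1)).closure ≤ J ^ (n + m + 1) ⊔ (I ^ (n + m + 1 + 1)).closure := by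
        refine closure_le_of_le_of_isClosed (claim1 (n + m + 1)) ?_
        exact isClosed_of_isOpen (isOpen_of_le le_sup_right (hCopen (n + m + 1 + 1)))
      refine h2.trans (sup_le ?_ ?_)
      · exact le_sup_of_le_left (Ideal.pow_le_pow_right (by omega))
      · exact le_sup_of_le_right (hCanti (by omega))
  -- Claim 3
  have claim3 : ∀ n, (I ^ n).closure ≤ (J ^ n).closure := by
    intro n x hx
    apply mem_closure_of_forall_mem_sup
    intro I' hI'
    obtain ⟨m, -, hm⟩ := exists_pow_le_of_isIdealOfDefinition hI hI'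
    have h1 : (I ^ (n + m + 1)).closure ≤ I' :=
      closure_le_of_le_of_isClosed ((Ideal.pow_le_pow_right (by omega)).trans hm)
        (isClosed_of_isOpen hI')
    exact (sup_le_sup_left h1 _) (claim2 n m hx)
  have heq : ∀ n, (J ^ n).closure = (I ^ n).closure := fun n =>
    le_antisymm (closure_mono (Ideal.pow_right_mono hJI n)) (claim3 n)
  apply isAdic_of_fg_of_closure_pow_basis J hJfg
  · intro n
    have := hCopen n
    rwa [← heq n] at this
  · intro U hU
    obtain ⟨U', hU', hU'U⟩ := exists_open_ideal_subset hU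
    obtain ⟨n, -, hn⟩ := exists_pow_le_of_isIdealOfDefinition hI hU'
    refine ⟨n, fun x hx => hU'U ?_⟩
    have hx' : x ∈ (J ^ n).closure := hx
    rw [heq n] at hx'
    exact closure_le_of_le_of_isClosed hn (isClosed_of_isOpen hU') hx'

theorem isAdicRing_of_isWeaklyAdic_of_fg_cotangent (hA : IsWeaklyAdic A)
    (I : Ideal A) (hI : IsIdealOfDefinition A I)
    (hfg : (I.map (Ideal.Quotient.mk ((I ^ 2).closure))).FG) :
    IsAdicRing A ∧ ∃ J : Ideal A, IsIdealOfDefinition A J ∧ J.FG := by
  obtain ⟨r, g, hg⟩ := Submodule.fg_iff_exists_fin_generating_family.1 hfg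
  have hg' : Ideal.span (Set.range g) = I.map (Ideal.Quotient.mk ((I ^ 2).closure)) := hg
  have hgmem : ∀ k, g k ∈ I.map (Ideal.Quotient.mk ((I ^ 2).closure)) := by
    intro k
    rw [← hg']
    exact Ideal.subset_span ⟨k, rfl⟩
  have hex : ∀ k, ∃ f ∈ I, Ideal.Quotient.mk ((I ^ 2).closure) f = g k := fun k =>
    (Ideal.mem_map_iff_of_surjective _ Ideal.Quotient.mk_surjective).1 (hgmem k)
  choose f hfI hfg' using hex
  have hJI : Ideal.span (Set.range f) ≤ I := by
    rw [Ideal.span_le]
    rintro _ ⟨k, rfl⟩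
    exact hfI k
  have hmap : (Ideal.span (Set.range f)).map (Ideal.Quotient.mk ((I ^ 2).closure)) =
      I.map (Ideal.Quotient.mk ((I ^ 2).closure)) := by
    rw [Ideal.map_span, ← hg']
    congr 1
    ext y
    constructor
    · rintro ⟨_, ⟨k, rfl⟩, rfl⟩
      exact ⟨k, (hfg' k).symm⟩
    · rintro ⟨k, rfl⟩
      exact ⟨f k, ⟨k, rfl⟩, hfg' k⟩
  have hIJ : I ≤ Ideal.span (Set.range f) ⊔ (I ^ 2).closure := by
    intro x hx
    have h1 : Ideal.Quotient.mk ((I ^ 2).closure) x ∈
        (Ideal.span (Set.range f)).map (Ideal.Quotient.mk ((I ^ 2).closure)) := by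
      rw [hmap]
      exact Ideal.mem_map_of_mem _ hx
    rwa [Ideal.mem_quotient_iff_mem_sup] at h1
  have hJfg : (Ideal.span (Set.range f)).FG := Submodule.fg_span (Set.finite_range f)
  have hadic := isAdic_of_le_sup_closure_sq hA hI hJfg hJI hIJ
  exact ⟨⟨⟨_, hadic⟩, hA.2.1, hA.2.2⟩, _, isIdealOfDefinition_of_isAdic hadic, hJfg⟩

end WA

end Groth.Agent.Lib.Helper15.LT
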