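import Groth.Agent.Lib.Helper15.LinTopFG2
import Groth.Agent.Lib.Helper15.LinTop2

/-!
# Helper library (helper15): descent of adicness with a finitely generated ideal of definition
-/

set_option autoImplicit false
universe u v w
open Topology Filter

namespace Groth.Agent.Lib.Helper15.LT

open LinTop

theorem exists_fg_le_of_mem_map {A : Type u} {B : Type v} [CommRing A] [CommRing B] {I : Ideal A}
    (φ : A →+* B) {x : B} (hu : x ∈ I.map φ) : ∃ 𝔞 : Ideal A, 𝔞.FG ∧ 𝔞 ≤ I ∧ x ∈ 𝔞.map φ := by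
  classical
  have hu' : x ∈ Submodule.span B (φ '' (I : Set A)) := hu
  obtain ⟨T, hT, huT⟩ := Submodule.mem_span_finite_of_mem_span hu'
  obtain ⟨T', hT', hTT'⟩ := Finset.subset_set_image_iff.1 hT
  subst hTT'
  refine ⟨Ideal.span (T' : Set A), ⟨T', rfl⟩, Ideal.span_le.2 hT', ?_⟩
  rw [Ideal.map_span]
  simpa [Finset.coe_image] using huT

theorem isAdicRing_of_isTautFFlat_of_fg
    {A : Type u} [CommRing A] [UniformSpace A] [IsUniformAddGroup A] [IsTopologicalRing A]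
    [IsLinearTopology A A] [T2Space A] [CompleteSpace A]
    {B : Type v} [CommRing B] [UniformSpace B] [IsUniformAddGroup B] [IsTopologicalRing B]
    (hB : IsAdicRing B) (hJ : ∃ J : Ideal B, IsIdealOfDefinition B J ∧ J.FG)
    (φ : A →+* B) (hφ : IsTautFFlat φ) :
    IsAdicRing A ∧ ∃ I : Ideal A, IsIdealOfDefinition A I ∧ I.FG := by
  obtain ⟨hBpre, hBT2, hBC⟩ := hB
  obtain ⟨J₀, hJ₀, hJ₀fg⟩ := hJ
  have hBwp : IsWeaklyPreadic B := isWeaklyPreadic_of_isPreadic hBpre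
  haveI : IsLinearTopology B B := hBwp.1
  have hAwp : IsWeaklyPreadic A := isWeaklyPreadic_of_isTautFFlat hφ hBwp
  have hAwa : IsWeaklyAdic A := ⟨hAwp, inferInstance, inferInstance⟩
  obtain ⟨-, I, hI⟩ := isPreadmissible_of_isWeaklyPreadic hAwp
  have hK : IsIdealOfDefinition B (I.map φ).closure := isIdealOfDefinition_closure_map hφ.1 hI
  obtain ⟨n, hn, hJK⟩ := exists_pow_le_of_isIdealOfDefinition hJ₀ hK.1
  obtain ⟨J, hJdef⟩ : ∃ J : Ideal B, J = J₀ ^ n := ⟨_, rfl⟩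
  have hJK' : J ≤ (I.map φ).closure := hJdef ▸ hJK
  have hJfg : J.FG := hJdef ▸ Ideal.FG.pow hJ₀fg
  have hJopen : ∀ m, IsOpen ((J ^ m : Ideal B) : Set B) := fun m => by
    rw [hJdef, ← pow_mul]
    exact isOpen_pow_of_isIdealOfDefinition hBpre hJ₀ (n * m)
  have hJzero : ∀ U : Ideal B, IsOpen (U : Set B) → ∃ m, J ^ m ≤ U := by
    intro U hU
    obtain ⟨m, hm, hle⟩ := exists_pow_le_of_isIdealOfDefinition hJ₀ hU
    refine ⟨m, ?_⟩
    rw [hJdef, ← pow_mul]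
    exact (Ideal.pow_le_pow_right (Nat.le_mul_of_pos_left m hn)).trans hle
  have h1 : J ≤ I.map φ ⊔ J ^ 2 := hJK'.trans (closure_le_sup_of_isOpen _ (hJopen 2))
  -- a finitely generated ideal `𝔞 ≤ I` with `J ≤ 𝔞B ⊔ J²`
  obtain ⟨𝔞, h𝔞fg, h𝔞I, h𝔞J⟩ : ∃ 𝔞 : Ideal A, 𝔞.FG ∧ 𝔞 ≤ I ∧ J ≤ 𝔞.map φ ⊔ J ^ 2 := by
    obtain ⟨r, f, hf⟩ := Submodule.fg_iff_exists_fin_generating_family.1 hJfg
    have hf' : Ideal.span (Set.range f) = J := hf
    have hfk : ∀ k, f k ∈ I.map φ ⊔ J ^ 2 := fun k => h1 (hf' ▸ Ideal.subset_span ⟨k, rfl⟩)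
    have hex : ∀ k, ∃ 𝔞 : Ideal A, 𝔞.FG ∧ 𝔞 ≤ I ∧ f k ∈ 𝔞.map φ ⊔ J ^ 2 := by
      intro k
      obtain ⟨x, hx, h, hh, hxh⟩ := Submodule.mem_sup.1 (hfk k)
      obtain ⟨𝔞, h1, h2, h3⟩ := exists_fg_le_of_mem_map φ hx
      exact ⟨𝔞, h1, h2, hxh ▸ Submodule.add_mem_sup h3 hh⟩
    choose 𝔞 h𝔞1 h𝔞2 h𝔞3 using hex
    refine ⟨⨆ k, 𝔞 k, Submodule.fg_iSup _ h𝔞1, iSup_le h𝔞2, ?_⟩
    have hspan : Ideal.span (Set.range f) ≤ (⨆ k, 𝔞 k).map φ ⊔ J ^ 2 := by
      rw [Ideal.span_le]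
      rintro _ ⟨k, rfl⟩
      have hle : (𝔞 k).map φ ⊔ J ^ 2 ≤ (⨆ k, 𝔞 k).map φ ⊔ J ^ 2 :=
        sup_le_sup_right (Ideal.map_mono (le_iSup 𝔞 k)) _
      exact hle (h𝔞3 k)
    rwa [hf'] at hspan
  -- Nakayama-type iteration
  have h2 : ∀ m, J ≤ 𝔞.map φ ⊔ J ^ (m + 1) := by
    intro m
    induction m with
    | zero => rw [zero_add, pow_one]; exact le_sup_right
    | succ m ih =>
      refine ih.trans (sup_le le_sup_left ?_)
      have : J ^ (m + 1) ≤ J ^ m * (𝔞.map φ ⊔ J ^ 2) := by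
        rw [pow_succ]
        exact Ideal.mul_mono_right h𝔞J
      refine this.trans ?_
      rw [Ideal.mul_sup]
      refine sup_le (le_sup_of_le_left Ideal.mul_le_right) (le_sup_of_le_right ?_)
      rw [← pow_add]
  have h3 : J ≤ (𝔞.map φ).closure := by
    intro x hx
    apply mem_closure_of_forall_mem_sup
    intro U hU
    obtain ⟨m, hm⟩ := hJzero U hU
    exact (sup_le_sup_left ((Ideal.pow_le_pow_right (Nat.le_succ m)).trans hm) _) (h2 m hx)
  -- `𝔞B` is closed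
  have hclosed : (𝔞.map φ).closure = 𝔞.map φ := by
    obtain ⟨s, a, ha⟩ := Submodule.fg_iff_exists_fin_generating_family.1 h𝔞fg
    have ha' : Ideal.span (Set.range a) = 𝔞 := ha
    have hmap : 𝔞.map φ = Ideal.span (Set.range (φ ∘ a)) := by
      rw [← ha', Ideal.map_span, Set.range_comp]
    apply le_antisymm _ (le_closure _)
    rw [hmap]
    apply closure_span_le_of_complete J
    · intro U hU
      obtain ⟨U', hU', hU'U⟩ := exists_open_ideal_subset hU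
      obtain ⟨m, hm⟩ := hJzero U' hU'
      refine ⟨m, fun x hx => hU'U ?_⟩
      exact closure_le_of_le_of_isClosed hm (isClosed_of_isOpen hU') hx
    · intro j
      rw [← hmap]
      refine isOpen_of_le ?_ (hJopen (j + 1))
      rw [pow_succ']
      exact (Ideal.mul_mono h3 (le_closure _)).trans (closure_mul_le _ _)
  have h4 : J ≤ 𝔞.map φ := hclosed ▸ h3
  have h𝔞open : IsOpen ((𝔞.map φ : Ideal B) : Set B) :=
    isOpen_of_le h4 (by simpa using hJopen 1)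
  -- the open ideal `I' = φ⁻¹(𝔞B)`
  obtain ⟨I', hI'def⟩ : ∃ I' : Ideal A, I' = (𝔞.map φ).comap φ := ⟨_, rfl⟩
  have hI'open : IsOpen (I' : Set A) := hI'def ▸ h𝔞open.preimage hφ.1.1
  have h𝔞I' : 𝔞 ≤ I' := hI'def ▸ Ideal.le_comap_map
  have hI'map : I'.map φ = 𝔞.map φ :=
    le_antisymm (hI'def ▸ Ideal.map_comap_le) (Ideal.map_mono h𝔞I')
  have hI'I : I' ≤ I := by
    have : I' ≤ (I.map φ).closure.comap φ := by
      rw [hI'def]
      exact Ideal.comap_mono ((Ideal.map_mono h𝔞I).trans (le_closure _))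
    rwa [comap_closure_map_eq hφ hI.1] at this
  have hI' : IsIdealOfDefinition A I' :=
    ⟨hI'open, fun U hU => let ⟨m, hm, h⟩ := hI.2 U hU
      ⟨m, hm, fun x hx => h (Ideal.pow_right_mono hI'I m hx)⟩⟩
  have hI'₂open : IsOpen (((I' ^ 2).closure : Ideal A) : Set A) :=
    isOpen_closure_pow_of_isWeaklyPreadic hAwp hI' 2
  have hff := hφ.2 _ hI'₂open
  have hle : I' ≤ 𝔞 ⊔ (I' ^ 2).closure := by
    intro x hx
    have e : (descentMap φ (I' ^ 2).closure).comp (Ideal.Quotient.mk (I' ^ 2).closure) =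
        (Ideal.Quotient.mk (((I' ^ 2).closure).map φ).closure).comp φ := by
      ext a
      rfl
    have h5 : descentMap φ (I' ^ 2).closure (Ideal.Quotient.mk (I' ^ 2).closure x) ∈
        (𝔞.map (Ideal.Quotient.mk (I' ^ 2).closure)).map (descentMap φ (I' ^ 2).closure) := by
      rw [Ideal.map_map, e, ← Ideal.map_map]
      show Ideal.Quotient.mk _ (φ x) ∈ _
      apply Ideal.mem_map_of_mem
      rw [← hI'map]
      exact Ideal.mem_map_of_mem φ hx
    have h6 : Ideal.Quotient.mk (I' ^ 2).closure x ∈ 𝔞.map (Ideal.Quotient.mk (I' ^ 2).closure) := by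
      letI := (descentMap φ (I' ^ 2).closure).toAlgebra
      haveI : Module.FaithfullyFlat (A ⧸ (I' ^ 2).closure)
          (B ⧸ (((I' ^ 2).closure).map φ).closure) := hff
      have := Ideal.comap_map_eq_self_of_faithfullyFlat
        (B := B ⧸ (((I' ^ 2).closure).map φ).closure)
        (𝔞.map (Ideal.Quotient.mk (I' ^ 2).closure))
      rw [← this]
      exact h5
    rwa [Ideal.mem_quotient_iff_mem_sup] at h6
  have hadic := isAdic_of_le_sup_closure_sq hAwa hI' h𝔞fg h𝔞I' hle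
  exact ⟨⟨⟨_, hadic⟩, inferInstance, inferInstance⟩, _, isIdealOfDefinition_of_isAdic hadic, h𝔞fg⟩

end Groth.Agent.Lib.Helper15.LT
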