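import Groth.Agent.Lib.Helper15.AcycComp
import Groth.Agent.Lib.Helper8.Hzl.Main

/-!
# Helper15: local acyclicity of composites

* `exists_lift_sh`: a local homomorphism lifts to strict henselizations.
* `exists_factor_sh`: a local homomorphism `SA → SC` of strict henselizations over `A → B → C`
  factors through any strict henselization of `B`.
* `onStrict_comp_iff`: two-out-of-three for `EtAcyc.OnStrictLocalizations`.
* `main_S3514`.
-/

set_option autoImplicit false
set_option backward.isDefEq.respectTransparency false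
universe u
open CategoryTheory CategoryTheory.Limits AlgebraicGeometry Opposite

namespace Groth.Agent.Lib.Helper15.LocAcycComp

open IsLocalRing

section Ring

lemma isLocalHom_of_residue {S T : Type*} [CommRing S] [IsLocalRing S] [CommRing T]
    [IsLocalRing T] (g : S →+* T) (τ : ResidueField S →+* ResidueField T)
    (h : ∀ x, residue T (g x) = τ (residue S x)) : IsLocalHom g := by
  constructor
  intro x hx
  by_contra hnu
  have h1 : residue S x = 0 := (residue_eq_zero_iff x).2 ((mem_maximalIdeal x).2 hnu)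
  have h2 : residue T (g x) = 0 := by rw [h, h1, map_zero]
  have h3 : g x ∈ maximalIdeal T := (residue_eq_zero_iff _).1 h2
  exact ((mem_maximalIdeal _).1 h3) hx

lemma exists_sh (R : Type u) [CommRing R] [IsLocalRing R] :
    ∃ (S : Type u) (_ : CommRing S) (_ : IsLocalRing S) (_ : Algebra R S)
      (_ : IsLocalHom (algebraMap R S)), Hensel.IsStrictHenselization R S :=
  ⟨Groth.Agent.Lib.Helper8.Hzl.SHens R, inferInstance, inferInstance, inferInstance,
    inferInstance, Groth.Agent.Lib.Helper8.Hzl.isStrictHenselization R⟩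

variable {A B C : Type u} [CommRing A] [IsLocalRing A] [CommRing B] [IsLocalRing B]
  [CommRing C] [IsLocalRing C]

theorem exists_lift_sh (f : A →+* B) [IsLocalHom f]
    (SA SB : Type u) [CommRing SA] [IsLocalRing SA] [Algebra A SA]
    [IsLocalHom (algebraMap A SA)] [Hensel.IsStrictHenselization A SA]
    [CommRing SB] [IsLocalRing SB] [Algebra B SB] [IsLocalHom (algebraMap B SB)]
    [Hensel.IsStrictHenselization B SB] :
    ∃ φ : SA →+* SB, IsLocalHom φ ∧
      φ.comp (algebraMap A SA) = (algebraMap B SB).comp f := by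
  obtain ⟨f', hf'⟩ : ∃ f' : A →+* SB, f' = (algebraMap B SB).comp f := ⟨_, rfl⟩
  haveI hfloc : IsLocalHom f' := by rw [hf']; exact RingHom.isLocalHom_comp _ _
  haveI : HenselianLocalRing SB := Hensel.IsStrictHenselization.henselian (R := B)
  have hscA := Hensel.IsStrictHenselization.isSepClosure (R := A) (S := SA)
  have hscB := Hensel.IsStrictHenselization.isSepClosure (R := B) (S := SB)
  haveI : IsSepClosed (ResidueField SB) := hscB.sep_closed
  haveI : Algebra.IsSeparable (ResidueField A) (ResidueField SA) := hscA.separable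
  letI : Algebra (ResidueField A) (ResidueField SB) := (ResidueField.map f').toAlgebra
  obtain ⟨τ₀⟩ : Nonempty (ResidueField SA →ₐ[ResidueField A] ResidueField SB) :=
    ⟨IsSepClosed.lift⟩
  have hτ : τ₀.toRingHom.comp (ResidueField.map (algebraMap A SA)) = ResidueField.map f' :=
    RingHom.ext fun x => τ₀.commutes x
  obtain ⟨φ, ⟨hφ, hres⟩, -⟩ := Hensel.IsStrictHenselization.universal (R := A) (S := SA) SB f'
    τ₀.toRingHom hτ
  exact ⟨φ, isLocalHom_of_residue φ τ₀.toRingHom hres, hφ.trans hf'⟩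

theorem exists_factor_sh (p : A →+* B) [IsLocalHom p] (q : B →+* C) [IsLocalHom q]
    (SA SB SC : Type u)
    [CommRing SA] [IsLocalRing SA] [Algebra A SA] [IsLocalHom (algebraMap A SA)]
    [Hensel.IsStrictHenselization A SA]
    [CommRing SB] [IsLocalRing SB] [Algebra B SB] [IsLocalHom (algebraMap B SB)]
    [Hensel.IsStrictHenselization B SB]
    [CommRing SC] [IsLocalRing SC] [Algebra C SC] [IsLocalHom (algebraMap C SC)]
    [Hensel.IsStrictHenselization C SC]
    (ψ : SA →+* SC) [IsLocalHom ψ]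
    (hψ : ∀ a : A, ψ (algebraMap A SA a) = algebraMap C SC (q (p a))) :
    ∃ (ψ' : SA →+* SB) (φ : SB →+* SC), IsLocalHom ψ' ∧ IsLocalHom φ ∧
      ψ'.comp (algebraMap A SA) = (algebraMap B SB).comp p ∧
      φ.comp (algebraMap B SB) = (algebraMap C SC).comp q ∧ φ.comp ψ' = ψ := by
  classical
  obtain ⟨f₁, hf₁⟩ : ∃ f₁ : B →+* SC, f₁ = (algebraMap C SC).comp q := ⟨_, rfl⟩
  haveI hf₁loc : IsLocalHom f₁ := by rw [hf₁]; exact RingHom.isLocalHom_comp _ _
  obtain ⟨f₀, hf₀⟩ : ∃ f₀ : A →+* SB, f₀ = (algebraMap B SB).comp p := ⟨_, rfl⟩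
  haveI hf₀loc : IsLocalHom f₀ := by rw [hf₀]; exact RingHom.isLocalHom_comp _ _
  obtain ⟨f₂, hf₂⟩ : ∃ f₂ : A →+* SC, f₂ = f₁.comp p := ⟨_, rfl⟩
  haveI hf₂loc : IsLocalHom f₂ := by rw [hf₂]; exact RingHom.isLocalHom_comp _ _
  haveI hSB : HenselianLocalRing SB := Hensel.IsStrictHenselization.henselian (R := B)
  haveI hSC : HenselianLocalRing SC := Hensel.IsStrictHenselization.henselian (R := C)
  have hscA := Hensel.IsStrictHenselization.isSepClosure (R := A) (S := SA)
  haveI hscB := Hensel.IsStrictHenselization.isSepClosure (R := B) (S := SB)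
  have hscC := Hensel.IsStrictHenselization.isSepClosure (R := C) (S := SC)
  haveI : IsSepClosed (ResidueField SC) := hscC.sep_closed
  haveI : Algebra.IsSeparable (ResidueField A) (ResidueField SA) := hscA.separable
  letI iBC : Algebra (ResidueField B) (ResidueField SC) := (ResidueField.map f₁).toAlgebra
  letI iAB : Algebra (ResidueField A) (ResidueField B) := (ResidueField.map p).toAlgebra
  letI iAC : Algebra (ResidueField A) (ResidueField SC) :=
    ((ResidueField.map f₁).comp (ResidueField.map p)).toAlgebra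
  haveI : IsScalarTower (ResidueField A) (ResidueField B) (ResidueField SC) :=
    IsScalarTower.of_algebraMap_eq (fun _ => rfl)
  -- the embedding of the residue field of `SB`
  obtain ⟨e⟩ : Nonempty (ResidueField SB ≃ₐ[ResidueField B]
      separableClosure (ResidueField B) (ResidueField SC)) :=
    ⟨IsSepClosure.equiv (ResidueField B) (ResidueField SB)
      (separableClosure (ResidueField B) (ResidueField SC))⟩
  obtain ⟨τ₀, hτ₀⟩ : ∃ τ₀ : ResidueField SB →+* ResidueField SC,
      ∀ b, τ₀ b = ((e b : separableClosure (ResidueField B) (ResidueField SC)) :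
        ResidueField SC) :=
    ⟨(algebraMap (separableClosure (ResidueField B) (ResidueField SC))
      (ResidueField SC)).comp e.toRingEquiv.toRingHom, fun b => rfl⟩
  have hτ₀B : ∀ b : ResidueField B,
      τ₀ (ResidueField.map (algebraMap B SB) b) = ResidueField.map f₁ b := by
    intro b
    rw [hτ₀]
    have h1 : e (algebraMap (ResidueField B) (ResidueField SB) b) =
        algebraMap (ResidueField B) (separableClosure (ResidueField B) (ResidueField SC)) b :=
      e.commutes b
    have h2 : ResidueField.map (algebraMap B SB) b =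
        algebraMap (ResidueField B) (ResidueField SB) b := by
      obtain ⟨b₀, rfl⟩ := IsLocalRing.residue_surjective b
      rfl
    rw [h2, h1]
    rfl
  have hτ₀comp : τ₀.comp (ResidueField.map (algebraMap B SB)) = ResidueField.map f₁ :=
    RingHom.ext hτ₀B
  obtain ⟨φ, ⟨hφ, hφres⟩, -⟩ := Hensel.IsStrictHenselization.universal (R := B) (S := SB) SC f₁
    τ₀ hτ₀comp
  -- the residue map of `ψ` lands in the separable closure
  have hcomm : ∀ a : ResidueField A,
      ResidueField.map ψ (algebraMap (ResidueField A) (ResidueField SA) a) =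
        algebraMap (ResidueField A) (ResidueField SC) a := by
    intro a
    obtain ⟨a₀, rfl⟩ := IsLocalRing.residue_surjective a
    show residue SC (ψ (algebraMap A SA a₀)) = residue SC (f₁ (p a₀))
    rw [hψ a₀, hf₁]
    rfl
  obtain ⟨ψA, hψA⟩ : ∃ ψA : ResidueField SA →ₐ[ResidueField A] ResidueField SC,
      ∀ α, ψA α = ResidueField.map ψ α :=
    ⟨{ ResidueField.map ψ with commutes' := hcomm }, fun _ => rfl⟩
  have hmem : ∀ α : ResidueField SA,
      ResidueField.map ψ α ∈ separableClosure (ResidueField B) (ResidueField SC) := by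
    intro α
    rw [mem_separableClosure_iff]
    have hα : IsSeparable (ResidueField A) α :=
      Algebra.IsSeparable.isSeparable (ResidueField A) α
    have h1 : IsSeparable (ResidueField A) (ψA α) :=
      IsSeparable.map ψA (ψA : ResidueField SA →+* ResidueField SC).injective hα
    rw [hψA] at h1
    exact IsSeparable.tower_top (ResidueField B) h1
  obtain ⟨τ', hτ'⟩ : ∃ τ' : ResidueField SA →+* ResidueField SB,
      ∀ α, τ₀ (τ' α) = ResidueField.map ψ α := by
    refine ⟨e.symm.toRingEquiv.toRingHom.comp ((ResidueField.map ψ).codRestrict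
      (separableClosure (ResidueField B) (ResidueField SC)) hmem), fun α => ?_⟩
    rw [hτ₀]
    show ((e (e.symm ⟨ResidueField.map ψ α, hmem α⟩) :
      separableClosure (ResidueField B) (ResidueField SC)) : ResidueField SC) = _
    rw [AlgEquiv.apply_symm_apply]
  have hτ'A : τ'.comp (ResidueField.map (algebraMap A SA)) = ResidueField.map f₀ := by
    refine RingHom.ext fun a => ?_
    obtain ⟨a₀, rfl⟩ := IsLocalRing.residue_surjective a
    apply τ₀.injective
    rw [RingHom.comp_apply, hτ']
    show residue SC (ψ (algebraMap A SA a₀)) = τ₀ (residue SB (f₀ a₀))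
    have h1 : residue SB (f₀ a₀) = ResidueField.map (algebraMap B SB) (residue B (p a₀)) := by
      rw [hf₀]
      rfl
    rw [h1, hτ₀B, hψ a₀]
    show residue SC (algebraMap C SC (q (p a₀))) = residue SC (f₁ (p a₀))
    rw [hf₁]
    rfl
  obtain ⟨ψ', ⟨hψ', hψ'res⟩, -⟩ := Hensel.IsStrictHenselization.universal (R := A) (S := SA) SB
    f₀ τ' hτ'A
  -- uniqueness
  have hcompat₂ : (ResidueField.map ψ).comp (ResidueField.map (algebraMap A SA)) =
      ResidueField.map f₂ := by
    refine RingHom.ext fun a => ?_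
    obtain ⟨a₀, rfl⟩ := IsLocalRing.residue_surjective a
    show residue SC (ψ (algebraMap A SA a₀)) = residue SC (f₂ a₀)
    rw [hψ a₀, hf₂, hf₁]
    rfl
  have huniq := Hensel.IsStrictHenselization.universal (R := A) (S := SA) SC f₂
    (ResidueField.map ψ) hcompat₂
  have hA : (φ.comp ψ').comp (algebraMap A SA) = f₂ ∧
      ∀ x : SA, residue SC ((φ.comp ψ') x) = ResidueField.map ψ (residue SA x) := by
    refine ⟨?_, fun x => ?_⟩
    · rw [RingHom.comp_assoc, hψ', hf₀, ← RingHom.comp_assoc, hφ, hf₂]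
    · rw [RingHom.comp_apply, hφres, hψ'res, hτ']
  have hB : ψ.comp (algebraMap A SA) = f₂ ∧
      ∀ x : SA, residue SC (ψ x) = ResidueField.map ψ (residue SA x) := by
    refine ⟨RingHom.ext fun a => ?_, fun x => rfl⟩
    rw [RingHom.comp_apply, hψ a, hf₂, hf₁]
    rfl
  refine ⟨ψ', φ, isLocalHom_of_residue ψ' τ' hψ'res, isLocalHom_of_residue φ τ₀ hφres,
    hψ'.trans hf₀, hφ.trans hf₁, huniq.unique hA hB⟩

end Ring

section Scheme

open EtAcyc

theorem onStrict_comp_iff (P : ∀ ⦃X' Y' : Scheme.{u}⦄, (X' ⟶ Y') → Prop)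
    (hP : ∀ ⦃A B C : Scheme.{u}⦄ (a : A ⟶ B) (b : B ⟶ C), P a → (P b ↔ P (a ≫ b)))
    {X Y Z : Scheme.{u}} (g : X ⟶ Y) (h : Y ⟶ Z) (hg : Function.Surjective g.base)
    (Hg : OnStrictLocalizations g P) :
    OnStrictLocalizations h P ↔ OnStrictLocalizations (g ≫ h) P := by
  constructor
  · intro Hh x RZ RX _ _ _ _ iAlgZ iLocZ iSHZ _ _ _ iAlgZX iLocZX hcompat
    letI jAlgZ : Algebra (Z.presheaf.stalk (h.base (g.base x))) RZ := iAlgZ
    haveI jLocZ : IsLocalHom (algebraMap (Z.presheaf.stalk (h.base (g.base x))) RZ) := iLocZ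
    haveI jSHZ : Hensel.IsStrictHenselization (Z.presheaf.stalk (h.base (g.base x))) RZ := iSHZ
    obtain ⟨RY, _, _, _, _, _⟩ := exists_sh (Y.presheaf.stalk (g.base x))
    have hcompat' : ∀ a : Z.presheaf.stalk (h.base (g.base x)),
        algebraMap RZ RX (algebraMap (Z.presheaf.stalk (h.base (g.base x))) RZ a) =
          algebraMap (X.presheaf.stalk x) RX
            ((g.stalkMap x).hom ((h.stalkMap (g.base x)).hom a)) := by
      intro a
      have e1 := DFunLike.congr_fun hcompat a
      have e3 : ((g ≫ h).stalkMap x).hom a =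
          (g.stalkMap x).hom ((h.stalkMap (g.base x)).hom a) :=
        congrArg (fun m => m.hom a) (Scheme.Hom.stalkMap_comp g h x)
      exact e1.trans (congrArg (algebraMap (X.presheaf.stalk x) RX) e3)
    obtain ⟨ψ', φ, hψ'loc, hφloc, h1, h2, h3⟩ := exists_factor_sh
      (h.stalkMap (g.base x)).hom (g.stalkMap x).hom RZ RY RX (algebraMap RZ RX) hcompat'
    letI a1 : Algebra RY RX := φ.toAlgebra
    letI a2 : Algebra RZ RY := ψ'.toAlgebra
    haveI : IsLocalHom (algebraMap RY RX) := hφloc
    haveI : IsLocalHom (algebraMap RZ RY) := hψ'loc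
    have P1 : P (Spec.map (CommRingCat.ofHom φ)) := Hg x RY RX h2
    have P2 : P (Spec.map (CommRingCat.ofHom ψ')) := Hh (g.base x) RZ RY h1
    have P3 := (hP _ _ P1).1 P2
    have e : Spec.map (CommRingCat.ofHom φ) ≫ Spec.map (CommRingCat.ofHom ψ') =
        Spec.map (CommRingCat.ofHom (algebraMap RZ RX)) := by
      rw [← Spec.map_comp, ← CommRingCat.ofHom_comp, h3]
    rw [← e]
    exact P3
  · intro Hgh y RZ RY _ _ _ _ iAlgZ iLocZ iSHZ _ _ _ iAlgZY iLocZY hcompat
    obtain ⟨x, rfl⟩ := hg y
    obtain ⟨RX, _, _, _, _, _⟩ := exists_sh (X.presheaf.stalk x)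
    obtain ⟨φ, hφloc, hφ⟩ := exists_lift_sh (g.stalkMap x).hom RY RX
    letI a1 : Algebra RY RX := φ.toAlgebra
    haveI : IsLocalHom (algebraMap RY RX) := hφloc
    letI a3 : Algebra RZ RX := (φ.comp (algebraMap RZ RY)).toAlgebra
    haveI : IsLocalHom (algebraMap RZ RX) :=
      show IsLocalHom (φ.comp (algebraMap RZ RY)) from RingHom.isLocalHom_comp _ _
    letI jAlgZ : Algebra (Z.presheaf.stalk ((g ≫ h).base x)) RZ := iAlgZ
    haveI jLocZ : IsLocalHom (algebraMap (Z.presheaf.stalk ((g ≫ h).base x)) RZ) := iLocZ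
    haveI jSHZ : Hensel.IsStrictHenselization (Z.presheaf.stalk ((g ≫ h).base x)) RZ := iSHZ
    have P1 : P (Spec.map (CommRingCat.ofHom φ)) := Hg x RY RX hφ
    have hc3 : (algebraMap RZ RX).comp (algebraMap (Z.presheaf.stalk ((g ≫ h).base x)) RZ) =
        (algebraMap (X.presheaf.stalk x) RX).comp ((g ≫ h).stalkMap x).hom := by
      refine RingHom.ext fun a => ?_
      have e1 := DFunLike.congr_fun hcompat a
      have e2 := DFunLike.congr_fun hφ ((h.stalkMap (g.base x)).hom a)
      have e3 : ((g ≫ h).stalkMap x).hom a =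
          (g.stalkMap x).hom ((h.stalkMap (g.base x)).hom a) :=
        congrArg (fun m => m.hom a) (Scheme.Hom.stalkMap_comp g h x)
      show φ ((algebraMap RZ RY) (algebraMap (Z.presheaf.stalk (h.base (g.base x))) RZ a)) =
        algebraMap (X.presheaf.stalk x) RX (((g ≫ h).stalkMap x).hom a)
      rw [e3]
      exact (congrArg φ e1).trans e2
    have P3 : P (Spec.map (CommRingCat.ofHom (φ.comp (algebraMap RZ RY)))) :=
      Hgh x RZ RX hc3
    have e : Spec.map (CommRingCat.ofHom (φ.comp (algebraMap RZ RY))) =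
        Spec.map (CommRingCat.ofHom φ) ≫ Spec.map (CommRingCat.ofHom (algebraMap RZ RY)) := by
      rw [CommRingCat.ofHom_comp, Spec.map_comp]
    rw [e] at P3
    exact (hP _ _ P1).2 P3

/-- S3514. -/
theorem main_S3514 {X Y Z : Scheme.{u}} (g : X ⟶ Y) (h : Y ⟶ Z)
    (hg : Function.Surjective g.base) (L : Set ℕ) (n : ℕ) :
    (IsLocAcyclicN g L n → (IsLocAcyclicN h L n ↔ IsLocAcyclicN (g ≫ h) L n)) ∧
      (IsLocZeroAcyclic g → (IsLocZeroAcyclic h ↔ IsLocZeroAcyclic (g ≫ h))) :=
  ⟨fun Hg => onStrict_comp_iff (fun _ _ f => IsAcyclicN f L n)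
      (fun _ _ _ a b => AcycComp.isAcyclicN_comp_iff a b L n) g h hg Hg,
    fun Hg => onStrict_comp_iff (fun _ _ f => IsZeroAcyclic f)
      (fun _ _ _ a b => AcycComp.isZeroAcyclic_comp_iff a b) g h hg Hg⟩

end Scheme

end Groth.Agent.Lib.Helper15.LocAcycComp
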