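import Groth.Agent.Lib.Helper15.RepWithPullback
import Groth.Agent.Lib.Helper15.OpenSubspace
import Groth.Agent.Lib.Helper15.MonoInj
import Groth.Agent.Lib.Helper16.SmoothEt
import Groth.Agent.Lib.Helper16.QuasiCompact
import Groth.Prelude.Def_AlgSpDec

/-!
# `LocP` is a pointwise condition

* `chart_mem_of_pointwise`: for `P` etale local on the source and target, the top arrow of a chart diagram
  has `P` as soon as every point of its source is also the chosen point of some chart diagram whose top arrow has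
  `P`;
* `exists_chart_diagram_through`: every point of an algebraic space lies on a chart diagram of a morphism.
-/

set_option autoImplicit false
universe u
open CategoryTheory CategoryTheory.Limits AlgebraicGeometry Opposite AlgSp Groth.Agent.Lib.Helper16

namespace Groth.Agent.Lib.Helper15

variable {S : Scheme.{u}}

theorem exists_yon_pullback_etale {F : Sp S} {T U : Over S} {t : (yon S).obj T ⟶ F}
    (ht : RepWith @Etale t) {b : (yon S).obj U ⟶ F} (hb : RepWith @Etale b) :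
    ∃ (V : Over S) (s : V ⟶ U) (h : V ⟶ T),
      IsPullback ((yon S).map h) ((yon S).map s) t b ∧ Etale s.left ∧ Etale h.left := by
  have sq : IsPullback ((yon S).map ((yon S).preimage (ht.rep.fst b))) ((yon S).map (ht.rep.snd b)) t b := by
    rw [Functor.map_preimage]
    exact ht.rep.isPullback b
  exact ⟨ht.rep.pullback b, ht.rep.snd b, (yon S).preimage (ht.rep.fst b), sq, ht.property_snd b,
    hb.property t _ _ sq.flip⟩

theorem repWith_etale_of_isOpenImmersion {F G : Sp S} {j : F ⟶ G} (hj : RepWith @IsOpenImmersion j) :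
    RepWith @Etale j := by
  refine (repWith_iff _ _).2 ⟨((repWith_iff _ _).1 hj).1, fun U V g fst snd sq => ?_⟩
  have : IsOpenImmersion snd.left := ((repWith_iff _ _).1 hj).2 g fst snd sq
  infer_instance

theorem chart_mem_of_pointwise {P : MorphismProperty Scheme.{u}} (hP : EtLocalST P) {F G : Sp S} (f : F ⟶ G)
    {U V : Over S} (a : (yon S).obj U ⟶ F) (b : (yon S).obj V ⟶ G) (h : U ⟶ V)
    (ha : RepWith @Etale a) (hb : RepWith @Etale b) (hab : a ≫ f = (yon S).map h ≫ b)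
    (H : ∀ u : ↥U.left, ∃ (U₁ V₁ : Over S) (a₁ : (yon S).obj U₁ ⟶ F) (b₁ : (yon S).obj V₁ ⟶ G)
      (h₁ : U₁ ⟶ V₁) (u₁ : ↥U₁.left), RepWith @Etale a₁ ∧ RepWith @Etale b₁ ∧
        a₁ ≫ f = (yon S).map h₁ ≫ b₁ ∧ Points.ofPt a₁ u₁ = Points.ofPt a u ∧ P h₁.left) :
    P h.left := by
  apply hP.ofCover
  intro u
  obtain ⟨U₁, V₁, a₁, b₁, h₁, u₁, ha₁, hb₁, hab₁, hpt, hPh₁⟩ := H u
  obtain ⟨A', sndA, r, sqA, hsndAe, hre⟩ := exists_yon_pullback_etale ha₁ ha
  obtain ⟨w, hw₁, hw₂⟩ := exists_point_of_isPullback_yon_yon sqA u₁ u hpt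
  obtain ⟨V', π, π₁, sqV, hπe, hπ₁e⟩ := exists_yon_pullback_etale hb₁ hb
  have hk : (yon S).map (r ≫ h₁) ≫ b₁ = (yon S).map (sndA ≫ h) ≫ b := by
    rw [Functor.map_comp, Functor.map_comp, Category.assoc, Category.assoc, ← hab₁, ← hab,
      ← Category.assoc, ← Category.assoc, sqA.w]
  let k : A' ⟶ V' :=
    (yon S).preimage (sqV.lift ((yon S).map (r ≫ h₁)) ((yon S).map (sndA ≫ h)) hk)
  have hk₁ : k ≫ π₁ = r ≫ h₁ :=
    (yon S).map_injective (by rw [Functor.map_comp, Functor.map_preimage, sqV.lift_fst])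
  have hk₂ : k ≫ π = sndA ≫ h :=
    (yon S).map_injective (by rw [Functor.map_comp, Functor.map_preimage, sqV.lift_snd])
  have h1 : P (r.left ≫ h₁.left) := hP.precomp _ _ hre hPh₁
  have e1 : k.left ≫ π₁.left = r.left ≫ h₁.left := congrArg CommaMorphism.left hk₁
  have e2 : k.left ≫ π.left = sndA.left ≫ h.left := congrArg CommaMorphism.left hk₂
  have h2 : P (k.left ≫ π₁.left) := by rw [e1]; exact h1
  have h3 : P k.left := hP.cancel _ _ hπ₁e h2
  have h4 : P (k.left ≫ π.left) := hP.postcomp _ _ hπe h3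
  rw [e2] at h4
  exact ⟨A'.left, sndA.left, hsndAe, ⟨w, hw₂⟩, h4⟩

theorem exists_chart_diagram_through {X Y : Sp S} (hX : IsAlgSpace X) (hY : IsAlgSpace Y) (f : X ⟶ Y)
    (x : Points X) :
    ∃ (U V : Over S) (a : (yon S).obj U ⟶ X) (b : (yon S).obj V ⟶ Y) (h : U ⟶ V) (u : ↥U.left),
      RepWith @Etale a ∧ RepWith @Etale b ∧ a ≫ f = (yon S).map h ≫ b ∧ Points.ofPt a u = x := by
  obtain ⟨V, b, hbe, hbs⟩ := hY.atlas
  obtain ⟨U₀, a₀, ha₀e, ha₀s⟩ := hX.atlas
  obtain ⟨U, p, h, sq, hpe, hps⟩ := exists_yon_pullback hbe hbs (a₀ ≫ f)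
  have hae : RepWith @Etale ((yon S).map p ≫ a₀) :=
    (RepWith @Etale).comp_mem _ _ ((repWith_yon_map_iff _ p).2 hpe) ha₀e
  have has : RepWith @Surjective ((yon S).map p ≫ a₀) :=
    (RepWith @Surjective).comp_mem _ _ ((repWith_yon_map_iff _ p).2 hps) ha₀s
  obtain ⟨u, hu⟩ := ofPt_surjective_of_surjective _ has x
  exact ⟨U, V, _, b, h, u, hae, hbe, by rw [Category.assoc]; exact sq.w.symm, hu⟩

end Groth.Agent.Lib.Helper15
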