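import Groth.Agent.Lib.Helper15.EffCartierChart
import Groth.Prelude.Def_W4stk3spdivLocPr
import Groth.Agent.S8853

/-!
# Locally principal closed subspaces: descent of local principality, complements

* `exists_away_span_eq`, `exists_span_eq_of_comap`: local principality descends along flat open maps;
* `isLocPrincipal_chart`: for a closed subspace locally principal on one etale surjective chart, its
  ideal on any scheme mapping to the space is locally principal;
* `range_left_eq_compl_support`: the pullback of the complementary open subspace to a scheme is the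
  complement of the support of the chart ideal;
* `isAffine_of_range_eq_compl_support`.
-/

set_option autoImplicit false
universe u
open CategoryTheory CategoryTheory.Limits AlgebraicGeometry Opposite AlgSp TopologicalSpace

namespace Groth.Agent.Lib.Helper15

section Algebra

variable {A B : Type u} [CommRing A] [CommRing B] [Algebra A B]

/-- If `A → B` is faithfully flat and `I B` is principal, then near every prime of `A` the ideal `I` is
principal. -/
theorem exists_away_span_eq [Module.FaithfullyFlat A B] (I : Ideal A) (b : B)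
    (hI : I.map (algebraMap A B) = Ideal.span {b}) (p : Ideal A) [p.IsPrime] :
    ∃ t : A, t ∉ p ∧ ∃ g ∈ I, ∀ (At : Type u) [CommRing At] [Algebra A At]
      [IsLocalization.Away t At], I.map (algebraMap A At) = Ideal.span {algebraMap A At g} := by
  obtain ⟨t, ht, g, hg, H1⟩ := exists_mul_le_span_singleton I b hI p
  refine ⟨t, ht, g, hg, fun At _ _ _ => ?_⟩
  refine le_antisymm ?_ ?_
  · rw [Ideal.map_le_iff_le_comap]
    intro x hx
    have h1 : t * x ∈ Ideal.span {g} :=
      H1 (Ideal.mul_mem_mul (Ideal.mem_span_singleton_self t) hx)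
    obtain ⟨c, hc⟩ := Ideal.mem_span_singleton'.mp h1
    have hu : IsUnit (algebraMap A At t) := IsLocalization.Away.algebraMap_isUnit t
    rw [Ideal.mem_comap, Ideal.mem_span_singleton']
    refine ⟨↑hu.unit⁻¹ * algebraMap A At c, ?_⟩
    rw [mul_assoc, ← map_mul, hc, map_mul, ← mul_assoc, IsUnit.val_inv_mul, one_mul]
  · rw [Ideal.span_singleton_le_iff_mem]
    exact Ideal.mem_map_of_mem _ hg

end Algebra

section Scheme

variable {X' X : Scheme.{u}}

/-- Pointwise descent of local principality along a flat open morphism. -/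
theorem exists_span_eq_of_comap (f : X' ⟶ X) [Flat f] (hopen : IsOpenMap f)
    (𝓘 : X.IdealSheafData) (x' : X')
    (h : ∃ V' : X'.affineOpens, x' ∈ V'.1 ∧ ∃ b : Γ(X', V'.1), (𝓘.comap f).ideal V' = Ideal.span {b}) :
    ∃ U : X.affineOpens, f x' ∈ U.1 ∧ ∃ a : Γ(X, U.1), 𝓘.ideal U = Ideal.span {a} := by
  obtain ⟨_, ⟨U₀', hU₀', rfl⟩, hxU₀, -⟩ :=
    X.isBasis_affineOpens.exists_subset_of_mem_open (Set.mem_univ (f x')) isOpen_univ
  let U₀ : X.affineOpens := ⟨U₀', hU₀'⟩
  obtain ⟨V', hx'V', b, hIb⟩ := h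
  obtain ⟨s₁, hs₁U₀, hx's₁⟩ := V'.2.exists_basicOpen_le (V := f ⁻¹ᵁ U₀.1) ⟨x', hxU₀⟩ hx'V'
  let V₁ : X'.affineOpens := X'.affineBasicOpen s₁
  obtain ⟨b₁, hIb₁⟩ : ∃ b₁ : Γ(X', V₁.1), (𝓘.comap f).ideal V₁ = Ideal.span {b₁} := by
    refine ⟨algebraMap Γ(X', V'.1) Γ(X', X'.basicOpen s₁) b, ?_⟩
    rw [← (𝓘.comap f).map_ideal_basicOpen V' s₁, hIb, Ideal.map_span, Set.image_singleton]
    rfl
  have hV₁U₀ : V₁.1 ≤ f ⁻¹ᵁ U₀.1 := hs₁U₀
  have hx'V₁ : x' ∈ V₁.1 := hx's₁
  let O : X.Opens := ⟨f '' (V₁.1 : Set X'), hopen _ V₁.1.2⟩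
  have hxO : f x' ∈ O := ⟨x', hx'V₁, rfl⟩
  obtain ⟨s, hsO, hxs⟩ := U₀.2.exists_basicOpen_le (V := O) ⟨f x', hxO⟩ hxU₀
  set s' : Γ(X', V₁.1) := (f.appLE U₀.1 V₁.1 hV₁U₀).hom s with hs'
  have hV₂ : X'.basicOpen s' = V₁.1 ⊓ f ⁻¹ᵁ (X.basicOpen s) :=
    Scheme.basicOpen_appLE f V₁.1 U₀.1 hV₁U₀ s
  let U₁ : X.affineOpens := X.affineBasicOpen s
  let V₂ : X'.affineOpens := X'.affineBasicOpen s'
  obtain ⟨b₂, hIb₂⟩ : ∃ b₂ : Γ(X', V₂.1), (𝓘.comap f).ideal V₂ = Ideal.span {b₂} := by
    refine ⟨algebraMap Γ(X', V₁.1) Γ(X', X'.basicOpen s') b₁, ?_⟩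
    rw [← (𝓘.comap f).map_ideal_basicOpen V₁ s', hIb₁, Ideal.map_span, Set.image_singleton]
    rfl
  have hV₂U₁ : V₂.1 ≤ f ⁻¹ᵁ U₁.1 := by
    show X'.basicOpen s' ≤ f ⁻¹ᵁ (X.basicOpen s)
    rw [hV₂]; exact inf_le_right
  let φ : Γ(X, U₁.1) →+* Γ(X', V₂.1) := (f.appLE U₁.1 V₂.1 hV₂U₁).hom
  have hφflat : φ.Flat := HasRingHomProperty.appLE (P := @Flat) f inferInstance U₁ V₂ hV₂U₁
  algebraize [φ]
  have hsurj : Function.Surjective (PrimeSpectrum.comap (algebraMap Γ(X, U₁.1) Γ(X', V₂.1))) := by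
    intro P
    have hy : U₁.2.fromSpec P ∈ U₁.1 := by
      rw [← SetLike.mem_coe, ← U₁.2.range_fromSpec]; exact ⟨P, rfl⟩
    obtain ⟨z, hz, hzy⟩ : U₁.2.fromSpec P ∈ O := hsO hy
    have hzV₂ : z ∈ V₂.1 := by
      show z ∈ X'.basicOpen s'
      rw [hV₂]
      exact ⟨hz, by show f z ∈ X.basicOpen s; rw [hzy]; exact hy⟩
    obtain ⟨Q, hQ⟩ : z ∈ Set.range V₂.2.fromSpec := by rw [V₂.2.range_fromSpec]; exact hzV₂
    refine ⟨Q, ?_⟩
    have hcomm := IsAffineOpen.SpecMap_appLE_fromSpec f U₁.2 V₂.2 hV₂U₁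
    have h1 : U₁.2.fromSpec ((Spec.map (f.appLE U₁.1 V₂.1 hV₂U₁)) Q) = U₁.2.fromSpec P := by
      rw [← Scheme.Hom.comp_apply, hcomm, Scheme.Hom.comp_apply, hQ, hzy]
    exact U₁.2.fromSpec.isOpenEmbedding.injective h1
  have : Module.FaithfullyFlat Γ(X, U₁.1) Γ(X', V₂.1) := Module.FaithfullyFlat.of_comap_surjective hsurj
  have hmap : (𝓘.ideal U₁).map (algebraMap Γ(X, U₁.1) Γ(X', V₂.1)) = Ideal.span {b₂} := by
    rw [← hIb₂, Helper3.ideal_comap_of_le f 𝓘 V₂ U₁ hV₂U₁]
    rfl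
  have hxU₁ : f x' ∈ U₁.1 := hxs
  let p : Ideal Γ(X, U₁.1) := Ideal.comap (X.presheaf.germ U₁.1 (f x') hxU₁).hom
    (IsLocalRing.maximalIdeal (X.presheaf.stalk (f x')))
  obtain ⟨t, ht, g, hg, H⟩ := exists_away_span_eq (A := Γ(X, U₁.1)) (B := Γ(X', V₂.1))
    (𝓘.ideal U₁) _ hmap p
  have hxt : f x' ∈ X.basicOpen t := by
    rw [Scheme.mem_basicOpen X t (f x') hxU₁]
    by_contra hnu
    exact ht (by
      show (X.presheaf.germ U₁.1 (f x') hxU₁).hom t ∈ IsLocalRing.maximalIdeal _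
      rw [IsLocalRing.mem_maximalIdeal, mem_nonunits_iff]
      exact hnu)
  have hloc := U₁.2.isLocalization_basicOpen t
  have h1 := H Γ(X, X.basicOpen t)
  refine ⟨X.affineBasicOpen t, hxt, algebraMap Γ(X, U₁.1) Γ(X, X.basicOpen t) g, ?_⟩
  rw [← 𝓘.map_ideal_basicOpen U₁ t]
  exact h1

/-- An open immersion into an affine scheme whose image is the complement of a locally principal closed
subscheme has affine source. -/
theorem isAffine_of_range_eq_compl_support {Z W : Scheme.{u}} [IsAffine Z] (s : W ⟶ Z) [IsOpenImmersion s]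
    (J : Z.IdealSheafData) (hJ : Curv2.IsLocPrincipal J) (h : Set.range s = ((J.support : Set Z))ᶜ) :
    IsAffine W := by
  have haff : IsAffineHom (Scheme.Opens.ι J.support.compl) := Groth.Agent.S8853.result J hJ
  have h1 : IsAffine (J.support.compl : Scheme.{u}) := isAffine_of_isAffineHom (Scheme.Opens.ι J.support.compl)
  have hr : Set.range s = Set.range (Scheme.Opens.ι J.support.compl) := by
    rw [h, Scheme.Opens.range_ι]; rfl
  let e := IsOpenImmersion.isoOfRangeEq s (Scheme.Opens.ι J.support.compl) hr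
  exact IsAffine.of_isIso e.hom

end Scheme

section Space

variable {S : Scheme.{u}}

/-- The image of the projection of a represented pullback, in terms of points. -/
theorem range_left_eq {F X : Sp S} {f : F ⟶ X} {Z₀ W : Over S} {g : (yon S).obj Z₀ ⟶ X} {snd : W ⟶ Z₀}
    {fst : (yon S).obj W ⟶ F} (sq : IsPullback fst ((yon S).map snd) f g) :
    Set.range snd.left = {z | Points.ofPt g z ∈ Set.range (Points.map f)} := by
  ext z
  constructor
  · rintro ⟨w, rfl⟩
    refine ⟨Points.ofPt fst w, ?_⟩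
    rw [Points.map_ofPt, sq.w, Groth.Agent.Lib.Helper16.ofPt_yon_map_comp]
  · rintro ⟨x, hx⟩
    obtain ⟨w, -, hw⟩ := Groth.Agent.Lib.Helper16.exists_point_of_isPullback_yon sq x z hx
    exact ⟨w, hw⟩

/-- The pullback of the complementary open subspace of a closed subspace to a scheme is the complement of
the support of the chart ideal. -/
theorem range_left_eq_compl_support {X D U : Sp S} {i : D ⟶ X} {j : U ⟶ X}
    (hU : Set.range (Points.map j) = (Set.range (Points.map i))ᶜ) {Z₀ : Over S}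
    {g : (yon S).obj Z₀ ⟶ X} {J : Z₀.left.IdealSheafData} {fstJ : (yon S).obj (subOver Z₀ J) ⟶ D}
    (sqJ : IsPullback fstJ ((yon S).map (subι Z₀ J)) i g) {W : Over S} {snd : W ⟶ Z₀}
    {fstU : (yon S).obj W ⟶ U} (sqU : IsPullback fstU ((yon S).map snd) j g) :
    Set.range snd.left = ((J.support : Set Z₀.left))ᶜ := by
  have h1 := range_left_eq sqU
  have h2 := range_left_eq sqJ
  have h3 : Set.range (subι Z₀ J).left = (J.support : Set Z₀.left) := J.range_subschemeι
  rw [h1, ← h3, h2, hU]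
  rfl

/-- If a closed subspace is locally principal on one etale surjective chart, then its ideal on any scheme
mapping to the space is locally principal. -/
theorem isLocPrincipal_chart {F D : Sp S} {i : D ⟶ F} {V : Over S} {φ : (yon S).obj V ⟶ F}
    (hφe : RepWith @Etale φ) (hφs : RepWith @Surjective φ) {I : V.left.IdealSheafData}
    {fstV : (yon S).obj (subOver V I) ⟶ D} (sqV : IsPullback fstV ((yon S).map (subι V I)) i φ)
    (hI : Curv2.IsLocPrincipal I) {Z₀ : Over S} {g : (yon S).obj Z₀ ⟶ F} {J : Z₀.left.IdealSheafData}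
    {fstJ : (yon S).obj (subOver Z₀ J) ⟶ D} (sqJ : IsPullback fstJ ((yon S).map (subι Z₀ J)) i g) :
    Curv2.IsLocPrincipal J := by
  intro z hz
  have sqW := hφe.rep.isPullback g
  have hpe : Etale (hφe.rep.snd g).left := hφe.property_snd g
  have hps : Surjective (hφe.rep.snd g).left := hφs.property g _ _ sqW
  let q : hφe.rep.pullback g ⟶ V := (yon S).preimage (hφe.rep.fst g)
  have hq : (yon S).map q = hφe.rep.fst g := Functor.map_preimage _ _
  rw [← hq] at sqW
  have hcomap := comap_eq_comap_of_charts sqV sqJ (hφe.rep.snd g) q sqW.w.symm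
  obtain ⟨w, rfl⟩ := (hφe.rep.snd g).left.surjective z
  have hw : q.left w ∈ I.support := by
    have h1 : w ∈ (J.comap (hφe.rep.snd g).left).support := by
      rw [Scheme.IdealSheafData.support_comap]; exact hz
    rw [hcomap, Scheme.IdealSheafData.support_comap] at h1
    exact h1
  obtain ⟨V', hwV', a, hIa⟩ := hI _ hw
  obtain ⟨_, ⟨W'', hW'', rfl⟩, hwW'', hW''V'⟩ :=
    (hφe.rep.pullback g).left.isBasis_affineOpens.exists_subset_of_mem_open
      (show w ∈ ((q.left ⁻¹ᵁ V'.1 : (hφe.rep.pullback g).left.Opens) : Set _) from hwV')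
      (q.left ⁻¹ᵁ V'.1).2
  have h2 : (I.comap q.left).ideal ⟨W'', hW''⟩ =
      Ideal.span {(q.left.appLE V'.1 W'' hW''V').hom a} := by
    rw [Groth.Agent.Lib.Helper3.ideal_comap_of_le q.left I ⟨W'', hW''⟩ V' hW''V', hIa, Ideal.map_span,
      Set.image_singleton]
  rw [← hcomap] at h2
  exact exists_span_eq_of_comap (hφe.rep.snd g).left (hφe.rep.snd g).left.isOpenMap J w
    ⟨⟨W'', hW''⟩, hwW'', _, h2⟩

end Space

end Groth.Agent.Lib.Helper15
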