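import Groth.Agent.Lib.Helper16.LocPGen
import Groth.Agent.Lib.Helper16.EtLocal
import Groth.Agent.Lib.Helper16.FibreProduct
import Groth.Agent.Lib.Helper16.Charts
import Groth.Agent.Lib.Helper16.Points
import Mathlib.CategoryTheory.MorphismProperty.Local

/-!
# Helper library (helper15): from locality at the source for schemes to locality on the source for `LocP`
-/

set_option autoImplicit false
universe u
open CategoryTheory CategoryTheory.Limits AlgebraicGeometry Opposite MorphismProperty

namespace Groth.Agent.Lib.Helper15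

open AlgSp Groth.Agent.Lib.Helper16

variable {S : Scheme.{u}}

/-- Cancellation of etale morphisms on the right for a class containing etale morphisms and stable under base change
and composition. -/
theorem EtLocalST_cancel {Q : MorphismProperty Scheme.{u}} (hQ : EtLocalST Q) {A B C : Scheme.{u}} (t : A ⟶ B)
    (ρ : B ⟶ C) (hρ : Etale ρ) (h : Q (t ≫ ρ)) : Q t := by
  have := hQ.baseChange
  have := hQ.mult
  have hle : (@Etale : MorphismProperty Scheme.{u}) ≤ Q.diagonal := by
    intro X Y f hf
    have : Etale f := hf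
    exact hQ.etale_le _ _ _ (inferInstanceAs (Etale (pullback.diagonal f)))
  have : Q.HasOfPostcompProperty @Etale :=
    (MorphismProperty.hasOfPostcompProperty_iff_le_diagonal).2 hle
  exact MorphismProperty.of_postcomp Q (W' := @Etale) t ρ hρ h

/-- `LocP Q` is stable under precomposition with etale charts. -/
theorem locP_chart_comp {Q : MorphismProperty Scheme.{u}} {X' X : Sp S} {U : Over S}
    (a : (yon S).obj U ⟶ X') (ha : RepWith @Etale a) (g : X' ⟶ X) (hg : LocP Q g) : LocP Q (a ≫ g) := by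
  intro U' W a' w k ha' hw comm
  exact hg (a' ≫ a) w k ((RepWith @Etale).comp_mem _ _ ha' ha) hw (by rw [Category.assoc, comm])

/-- If `P` is local at the source for a precoverage `K` of schemes containing the etale surjections and in which every
`Q`-morphism belongs to a covering, then `LocP P` is stable under precomposition with `LocP Q` morphisms. -/
theorem locP_comp_of_isLocalAtSource {P Q : MorphismProperty Scheme.{u}} {K : Precoverage Scheme.{u}}
    [P.IsLocalAtSource K] (hQ : EtLocalST Q)
    (hK1 : ∀ {A B : Scheme.{u}} (π : A ⟶ B), Etale π → Surjective π → Presieve.singleton π ∈ K B)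
    (hK2 : ∀ {A B : Scheme.{u}} (t : A ⟶ B), Q t → ∃ R ∈ K B, R t)
    {X' X Y : Sp S} (hX : IsAlgSpace X) (g : X' ⟶ X) (hg : LocP Q g) (f : X ⟶ Y) (hf : LocP P f) :
    LocP P (g ≫ f) := by
  intro U V a b h ha hb comm
  obtain ⟨W, w, hwe, hws⟩ := hX.atlas
  -- the pullback of the atlas to `U`
  obtain ⟨U', π, k', sq⟩ := hwe.rep (a ≫ g)
  obtain ⟨k, rfl⟩ := (yon S).map_surjective k'
  have hπe : Etale π.left := hwe.property _ _ _ sq
  have hπs : Surjective π.left := hws.property _ _ _ sq
  have hπ' : RepWith @Etale ((yon S).map π) := (repWith_yon_map_iff _ _).2 hπe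
  have hk : Q k.left :=
    locP_chart_comp a ha g hg ((yon S).map π) w k hπ' hwe sq.w.symm
  -- the pullback of the chart `V` to `W`
  obtain ⟨W', ρ, h'', sq2⟩ := hb.rep (w ≫ f)
  obtain ⟨h', rfl⟩ := (yon S).map_surjective h''
  have hρe : Etale ρ.left := hb.property _ _ _ sq2
  have hρ' : RepWith @Etale ((yon S).map ρ) := (repWith_yon_map_iff _ _).2 hρe
  have hPh' : P h'.left :=
    hf ((yon S).map ρ ≫ w) b h' ((RepWith @Etale).comp_mem _ _ hρ' hwe) hb
      (by rw [Category.assoc]; exact sq2.w.symm)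
  -- the induced morphism `U' ⟶ W'`
  have hcomp : (yon S).map (π ≫ h) ≫ b = (yon S).map k ≫ w ≫ f := by
    have e1 : (yon S).map k ≫ w = (yon S).map π ≫ a ≫ g := sq.w
    rw [Functor.map_comp, Category.assoc, ← comm, ← Category.assoc ((yon S).map k), e1]
    simp only [Category.assoc]
  obtain ⟨t, ht⟩ := (yon S).map_surjective (sq2.lift _ _ hcomp)
  have ht1 : t ≫ h' = π ≫ h := (yon S).map_injective (by
    rw [Functor.map_comp, ht, sq2.lift_fst])
  have ht2 : t ≫ ρ = k := (yon S).map_injective (by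
    rw [Functor.map_comp, ht, sq2.lift_snd])
  have hQt : Q t.left := by
    apply EtLocalST_cancel hQ t.left ρ.left hρe
    rw [← Over.comp_left, ht2]
    exact hk
  obtain ⟨R, hR, hRt⟩ := hK2 t.left hQt
  have h1 : P (t.left ≫ h'.left) := IsLocalAtSource.comp (P := P) hR t.left hRt hPh'
  rw [← Over.comp_left, ht1, Over.comp_left] at h1
  refine IsLocalAtSource.of_forall_comp (P := P) (hK1 π.left hπe hπs) ?_
  rintro _ _ ⟨⟩
  exact h1

/-- If `P` is local at the source for a precoverage `K` of schemes and every etale chart of `X` admits a `K`-covering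
by etale charts of the members of a family `g i : Xi i ⟶ X`, then `LocP P f` follows from `LocP P (g i ≫ f)`. -/
theorem locP_of_forall_comp_of_isLocalAtSource {P : MorphismProperty Scheme.{u}} {K : Precoverage Scheme.{u}}
    [P.IsLocalAtSource K] {ι : Type u} {X Y : Sp S} (Xi : ι → Sp S) (g : ∀ i, Xi i ⟶ X) (f : X ⟶ Y)
    (hlift : ∀ (U : Over S) (a : (yon S).obj U ⟶ X), RepWith @Etale a →
      ∃ (κ : Type u) (T : κ → Over S) (e : ∀ k, T k ⟶ U) (i : κ → ι) (l : ∀ k, (yon S).obj (T k) ⟶ Xi (i k)),
        (∀ k, RepWith @Etale (l k)) ∧ (∀ k, l k ≫ g (i k) = (yon S).map (e k) ≫ a) ∧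
        Presieve.ofArrows (fun k => (T k).left) (fun k => (e k).left) ∈ K U.left)
    (H : ∀ i, LocP P (g i ≫ f)) : LocP P f := by
  intro U V a b h ha hb comm
  obtain ⟨κ, T, e, i, l, hl, hle, hmem⟩ := hlift U a ha
  refine IsLocalAtSource.of_forall_comp (P := P) hmem ?_
  rintro _ _ ⟨k⟩
  have := H (i k) (l k) b (e k ≫ h) (hl k) hb (by
    rw [← Category.assoc, hle, Category.assoc, comm, Functor.map_comp, Category.assoc])
  rwa [Over.comp_left] at this


/-- Atlases of the base changes of a jointly surjective family of morphisms of algebraic spaces to a scheme. -/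
theorem exists_charts_of_jointly_surjective {X : Sp S} (hX : IsAlgSpace X) {ι : Type u}
    (Xi : ι → Sp S) (hXi : ∀ i, IsAlgSpace (Xi i)) (g : ∀ i, Xi i ⟶ X)
    (hsurj : ∀ x : Points X, ∃ i, x ∈ Set.range (Points.map (g i)))
    (U : Over S) (a : (yon S).obj U ⟶ X) :
    ∃ (T : ι → Over S) (e : ∀ i, T i ⟶ U) (a'' : ∀ i, (yon S).obj (T i) ⟶ pullback (g i) a),
      (∀ i, RepWith @Etale (a'' i)) ∧ (∀ i, RepWith @Surjective (a'' i)) ∧
      (∀ i, (yon S).map (e i) = a'' i ≫ pullback.snd (g i) a) ∧
      ∀ z : ↥U.left, ∃ i, z ∈ Set.range (e i).left := by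
  have hQ : ∀ i, IsAlgSpace (pullback (g i) a) := fun i =>
    isAlgSpace_of_isPullback (hXi i) hX.diag (IsAlgSpace.yon_obj U) (IsPullback.of_hasPullback (g i) a)
  choose T a'' hae has using fun i => (hQ i).atlas
  choose e he using fun i => (yon S).map_surjective (a'' i ≫ pullback.snd (g i) a)
  refine ⟨T, e, a'', hae, has, he, fun z => ?_⟩
  obtain ⟨i, xi, hxi⟩ := hsurj (Points.map a (Points.ofScheme U z))
  obtain ⟨q, -, hq⟩ := exists_point_of_isPullback (IsPullback.of_hasPullback (g i) a) xi
    (Points.ofScheme U z) hxi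
  obtain ⟨t, ht⟩ := ofPt_surjective_of_surjective (a'' i) (has i) q
  refine ⟨i, t, ?_⟩
  apply ofScheme_injective U
  rw [← map_yon_map_ofScheme, he, Points.map_comp, ← Points.ofPt_eq_map_ofScheme, ht, hq]

/-- The lifting data needed in `locP_of_forall_comp_of_isLocalAtSource`, for a jointly surjective family of `LocP Q`
morphisms and the precoverage of jointly surjective families of `Q'`-morphisms, `Q ≤ Q'`. -/
theorem exists_lift_precoverage {Q Q' : MorphismProperty Scheme.{u}} (hQ : EtLocalST Q) (hQQ' : Q ≤ Q')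
    {X : Sp S} (hX : IsAlgSpace X) {ι : Type u}
    (Xi : ι → Sp S) (hXi : ∀ i, IsAlgSpace (Xi i)) (g : ∀ i, Xi i ⟶ X) (hg : ∀ i, LocP Q (g i))
    (hsurj : ∀ x : Points X, ∃ i, x ∈ Set.range (Points.map (g i)))
    (U : Over S) (a : (yon S).obj U ⟶ X) (ha : RepWith @Etale a) :
    ∃ (κ : Type u) (T : κ → Over S) (e : ∀ k, T k ⟶ U) (i : κ → ι) (l : ∀ k, (yon S).obj (T k) ⟶ Xi (i k)),
      (∀ k, RepWith @Etale (l k)) ∧ (∀ k, l k ≫ g (i k) = (yon S).map (e k) ≫ a) ∧
      Presieve.ofArrows (fun k => (T k).left) (fun k => (e k).left) ∈ Scheme.precoverage Q' U.left := by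
  obtain ⟨T, e, a'', hae, has, he, hes⟩ := exists_charts_of_jointly_surjective hX Xi hXi g hsurj U a
  refine ⟨ι, T, e, id, fun i => a'' i ≫ pullback.fst (g i) a, fun i => ?_, fun i => ?_, ?_⟩
  · exact (RepWith @Etale).comp_mem _ _ (hae i)
      ((RepWith @Etale).of_isPullback (IsPullback.of_hasPullback (g i) a).flip ha)
  · show (a'' i ≫ pullback.fst (g i) a) ≫ g i = _
    rw [Category.assoc, pullback.condition, ← Category.assoc, he]
  · rw [Scheme.ofArrows_mem_precoverage_iff]
    refine ⟨hes, fun i => hQQ' _ ?_⟩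
    have hsnd : LocP Q (pullback.snd (g i) a) :=
      locP_of_isPullback hQ (hXi i) hX (IsPullback.of_hasPullback (g i) a) (hg i)
    exact hsnd (a'' i) (𝟙 _) (e i) (hae i) (repWith_id _ U) (by rw [Category.comp_id, he])

end Groth.Agent.Lib.Helper15
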