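import Groth.Agent.Lib.Helper15.LocalAtSource
import Groth.Agent.Lib.Helper16.FpqcMono
import Mathlib.AlgebraicGeometry.Sites.Fpqc

/-!
# Helper library (helper15): the lifting data for fpqc coverings of algebraic spaces
-/

set_option autoImplicit false
universe u
open CategoryTheory CategoryTheory.Limits AlgebraicGeometry Opposite MorphismProperty

namespace Groth.Agent.Lib.Helper15

open AlgSp Groth.Agent.Lib.Helper16

variable {S : Scheme.{u}}

/-- The lifting data needed in `locP_of_forall_comp_of_isLocalAtSource`, for an fpqc covering of algebraic spaces and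
the fpqc precoverage of schemes. -/
theorem exists_lift_fpqc {X : Sp S} (hX : IsAlgSpace X) {ι : Type u}
    (Xi : ι → Sp S) (hXi : ∀ i, IsAlgSpace (Xi i)) (g : ∀ i, Xi i ⟶ X) (hcov : IsFpqcCover Xi g)
    (U : Over S) (a : (yon S).obj U ⟶ X) (ha : RepWith @Etale a) :
    ∃ (κ : Type u) (T : κ → Over S) (e : ∀ k, T k ⟶ U) (i : κ → ι) (l : ∀ k, (yon S).obj (T k) ⟶ Xi (i k)),
      (∀ k, RepWith @Etale (l k)) ∧ (∀ k, l k ≫ g (i k) = (yon S).map (e k) ≫ a) ∧
      Presieve.ofArrows (fun k => (T k).left) (fun k => (e k).left) ∈ Scheme.fpqcPrecoverage U.left := by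
  have hsurj : ∀ x : Points X, ∃ i, x ∈ Set.range (Points.map (g i)) := fun x => by
    obtain ⟨i, yi, h⟩ := fpqcRefines_surjective Xi g hcov.2 x
    exact ⟨i, yi, h⟩
  obtain ⟨T, e, a'', hae, has, he, hes⟩ := exists_charts_of_jointly_surjective hX Xi hXi g hsurj U a
  refine ⟨ι, T, e, id, fun i => a'' i ≫ pullback.fst (g i) a, fun i => ?_, fun i => ?_, ?_, ?_⟩
  · exact (RepWith @Etale).comp_mem _ _ (hae i)
      ((RepWith @Etale).of_isPullback (IsPullback.of_hasPullback (g i) a).flip ha)
  · show (a'' i ≫ pullback.fst (g i) a) ≫ g i = _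
    rw [Category.assoc, pullback.condition, ← Category.assoc, he]
  · -- quasi-compactness of the covering
    refine (Scheme.presieve₀_mem_qcPrecoverage_iff
      (E := ⟨ι, fun i => (T i).left, fun i => (e i).left⟩)).2 ⟨fun {O} hO => ?_⟩
    have hOa : IsAffine (O : Scheme.{u}) := hO
    let Z : Over S := Over.mk (O.ι ≫ U.hom)
    let ιO : Z ⟶ U := Over.homMk O.ι rfl
    obtain ⟨m, W, c, hWa, hcf, hcs, hl⟩ := hcov.2 Z hOa ((yon S).map ιO ≫ a)
    choose i l hl using hl
    -- the induced morphisms to the fibre products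
    let z : ∀ j, (yon S).obj (W j) ⟶ pullback (g (i j)) a := fun j =>
      pullback.lift (l j) ((yon S).map (c j ≫ ιO)) (by rw [hl j, Functor.map_comp, Category.assoc])
    choose W' ε m' sq using fun j => (hae (i j)).rep (z j)
    choose mm hmm using fun j => (yon S).map_surjective (m' j)
    have hεe : ∀ j, Etale (ε j).left := fun j => (hae (i j)).property _ _ _ (sq j)
    have hεs : ∀ j, Surjective (ε j).left := fun j => (has (i j)).property _ _ _ (sq j)
    have hcomm : ∀ j, mm j ≫ e (i j) = ε j ≫ c j ≫ ιO := fun j => (yon S).map_injective (by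
      rw [Functor.map_comp, hmm, he, ← Category.assoc, (sq j).w, Category.assoc, pullback.lift_snd,
        ← Functor.map_comp])
    have hcomm' : ∀ j, (mm j).left ≫ (e (i j)).left = (ε j).left ≫ (c j).left ≫ O.ι := fun j => by
      have := congrArg CommaMorphism.left (hcomm j)
      simpa [ιO] using this
    -- compact opens of the `W' j` mapping onto `W j`
    have hV : ∀ j, ∃ V : TopologicalSpace.Opens ↥(W' j).left, IsCompact V.1 ∧
        (ε j).left '' V = Set.univ := fun j => by
      have : CompactSpace ↥(W j).left := by have := hWa j; infer_instance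
      have := hεe j
      exact IsOpenMap.exists_opens_image_eq_of_prespectralSpace (ε j).left.continuous
        (ε j).left.isOpenMap (by rw [(hεs j).surj.range_eq]) isOpen_univ isCompact_univ
    choose V hVc hVe using hV
    have key : IsCompactOpenCovered (fun j : Fin m => ((mm j).left ≫ (e (i j)).left : (W' j).left ⟶ U.left))
        (O : Set ↥U.left) := by
      refine IsCompactOpenCovered.of_finite (κ := Fin m) id V hVc ?_
      apply subset_antisymm
      · rintro x hx
        simp only [Set.mem_iUnion] at hx
        obtain ⟨j, v, -, rfl⟩ := hx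
        show ((mm j).left ≫ (e (i j)).left) v ∈ (O : Set ↥U.left)
        rw [hcomm' j]
        simp only [Scheme.Hom.comp_apply]
        exact (((ε j).left ≫ (c j).left) v).2
      · intro x hx
        obtain ⟨j, w, hw⟩ := hcs ⟨x, hx⟩
        have hw' : w ∈ (ε j).left '' (V j) := by rw [hVe j]; trivial
        obtain ⟨v, hv, rfl⟩ := hw'
        simp only [Set.mem_iUnion]
        refine ⟨j, v, hv, ?_⟩
        show ((mm j).left ≫ (e (i j)).left) v = x
        rw [hcomm' j]
        simp only [Scheme.Hom.comp_apply]
        rw [hw]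
        rfl
    exact IsCompactOpenCovered.of_comp (a := i) (fun j : Fin m => ((mm j).left ≫ (e (i j)).left : (W' j).left ⟶ U.left))
      (fun j => (mm j).left) (fun j => (mm j).left.continuous) (fun j => by ext v; simp)
      (fun i => (e i).left.continuous) O.2 key
  · rw [Scheme.ofArrows_mem_precoverage_iff]
    refine ⟨hes, fun i => ?_⟩
    have hsnd : LocP @Flat (pullback.snd (g i) a) :=
      locP_of_isPullback etLocalST_flat (hXi i) hX (IsPullback.of_hasPullback (g i) a) (hcov.1 i)
    exact hsnd (a'' i) (𝟙 _) (e i) (hae i) (repWith_id _ U) (by rw [Category.comp_id, he])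

end Groth.Agent.Lib.Helper15
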