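import Groth.Agent.Lib.Helper15.LocalAtSourceFpqc
import Groth.Agent.Lib.Helper16.LocPInst
import Groth.Agent.Lib.Helper16.SmoothEt

/-!
# Helper library (helper15): locality on the source of `LocP P` for the fpqc, fppf, smooth and etale coverings
-/

set_option autoImplicit false
universe u
open CategoryTheory CategoryTheory.Limits AlgebraicGeometry Opposite MorphismProperty

namespace Groth.Agent.Lib.Helper15

open AlgSp Groth.Agent.Lib.Helper16

variable {S : Scheme.{u}}

/-- Every morphism with `Q` is a member of a covering in the precoverage of jointly surjective `Q`-families. -/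
theorem exists_mem_precoverage {Q : MorphismProperty Scheme.{u}} [Q.ContainsIdentities] {A B : Scheme.{u}}
    (t : A ⟶ B) (ht : Q t) : ∃ R ∈ Scheme.precoverage Q B, R t := by
  let E : PreZeroHypercover.{u} B := (PreZeroHypercover.singleton.{u} t).sum (PreZeroHypercover.singleton.{u} (𝟙 B))
  refine ⟨E.presieve₀, (Scheme.presieve₀_mem_precoverage_iff E).2 ⟨fun x => ⟨Sum.inr ⟨⟩, x, rfl⟩, ?_⟩, ?_⟩
  · rintro (⟨⟩ | ⟨⟩)
    · exact ht
    · exact Q.id_mem B
  · exact Presieve.ofArrows.mk (ι := E.I₀) (Y := E.X) (f := E.f) (Sum.inl ⟨⟩)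

/-- Every flat morphism is a member of an fpqc covering. -/
theorem exists_mem_fpqcPrecoverage {A B : Scheme.{u}} (t : A ⟶ B) (ht : Flat t) :
    ∃ R ∈ Scheme.fpqcPrecoverage B, R t := by
  let E : PreZeroHypercover.{u} B := (PreZeroHypercover.singleton.{u} t).sum (PreZeroHypercover.singleton.{u} (𝟙 B))
  have hqc : QuasiCompactCover E := inferInstanceAs
    (QuasiCompactCover ((PreZeroHypercover.singleton.{u} t).sum (PreZeroHypercover.singleton.{u} (𝟙 B))))
  refine ⟨E.presieve₀, ⟨Scheme.presieve₀_mem_qcPrecoverage_iff.2 hqc,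
    (Scheme.presieve₀_mem_precoverage_iff E).2 ⟨fun x => ⟨Sum.inr ⟨⟩, x, rfl⟩, ?_⟩⟩, ?_⟩
  · rintro (⟨⟩ | ⟨⟩)
    · exact ht
    · exact (inferInstance : Flat (𝟙 B))
  · exact Presieve.ofArrows.mk (ι := E.I₀) (Y := E.X) (f := E.f) (Sum.inl ⟨⟩)

/-- Locality on the source for jointly surjective families of `LocP Q` morphisms, from locality at the source for the
precoverage of `Q`-morphisms of schemes. -/
theorem isLocalOnSource_locP_precoverage {P Q : MorphismProperty Scheme.{u}} (hQ : EtLocalST Q)
    [P.IsLocalAtSource (Scheme.precoverage Q)] :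
    IsLocalOnSource (S := S) (fun _ _ Y g => IsCover (LocP Q) Y g) (LocP P) := by
  have := hQ.mult
  intro ι X Xi g hX hXi hcov Y f hY
  constructor
  · intro hf i
    refine locP_comp_of_isLocalAtSource (K := Scheme.precoverage Q) hQ ?_ ?_ hX (g i) (hcov.1 i) f hf
    · intro A B π hπ hπs
      exact (Scheme.singleton_mem_precoverage_iff Q π).2 ⟨hπs.surj, hQ.etale_le _ _ _ hπ⟩
    · intro A B t ht
      exact exists_mem_precoverage t ht
  · intro H
    exact locP_of_forall_comp_of_isLocalAtSource (K := Scheme.precoverage Q) Xi g f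
      (fun U a ha => exists_lift_precoverage hQ le_rfl hX Xi hXi g hcov.1 hcov.2 U a ha) H

/-- Locality on the source for fpqc coverings of algebraic spaces. -/
theorem isLocalOnSource_locP_fpqc {P : MorphismProperty Scheme.{u}}
    [P.IsLocalAtSource Scheme.fpqcPrecoverage] :
    IsLocalOnSource (S := S) IsFpqcCover (LocP P) := by
  intro ι X Xi g hX hXi hcov Y f hY
  constructor
  · intro hf i
    refine locP_comp_of_isLocalAtSource (K := Scheme.fpqcPrecoverage) etLocalST_flat ?_ ?_ hX (g i) (hcov.1 i) f hf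
    · intro A B π hπ hπs
      exact Scheme.fppfPrecoverage_le_fpqcPrecoverage _ π.singleton_mem_fppfPrecoverage
    · intro A B t ht
      exact exists_mem_fpqcPrecoverage t ht
  · intro H
    exact locP_of_forall_comp_of_isLocalAtSource (K := Scheme.fpqcPrecoverage) Xi g f
      (fun U a ha => exists_lift_fpqc hX Xi hXi g hcov U a ha) H

end Groth.Agent.Lib.Helper15
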