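import Mathlib

/-!
# Helper15: horizontal composition of the degree-zero base change maps of O-modules (S14448)
-/

set_option autoImplicit false
set_option backward.isDefEq.respectTransparency false
universe u
open CategoryTheory AlgebraicGeometry AlgebraicGeometry.Scheme.Modules

namespace Groth.Agent.Lib.Helper15.ModBcComp

noncomputable section

section Basic

variable {A B C : Scheme.{u}} (a : A ⟶ B) (b : B ⟶ C)

lemma unit_comp' (G : C.Modules) :
    (pullbackPushforwardAdjunction (a ≫ b)).unit.app G ≫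
        (pushforward (a ≫ b)).map ((pullbackComp a b).inv.app G) =
      (pullbackPushforwardAdjunction b).unit.app G ≫
        (pushforward b).map ((pullbackPushforwardAdjunction a).unit.app ((pullback b).obj G)) ≫
        (pushforwardComp a b).hom.app ((pullback a).obj ((pullback b).obj G)) := by
  have h := unit_conjugateEquiv
    ((pullbackPushforwardAdjunction b).comp (pullbackPushforwardAdjunction a))
    (pullbackPushforwardAdjunction (a ≫ b)) (pullbackComp a b).inv G
  rw [conjugateEquiv_pullbackComp_inv, Adjunction.comp_unit_app] at h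
  exact h.symm.trans (Category.assoc _ _ _)

lemma unit_pullbackComp (G : C.Modules) {M : A.Modules}
    (φ : (pullback a).obj ((pullback b).obj G) ⟶ M) :
    (pullbackPushforwardAdjunction b).unit.app G ≫
        (pushforward b).map ((pullbackPushforwardAdjunction a).unit.app ((pullback b).obj G) ≫
          (pushforward a).map φ) ≫ (pushforwardComp a b).hom.app M =
      (pullbackPushforwardAdjunction (a ≫ b)).unit.app G ≫
        (pushforward (a ≫ b)).map ((pullbackComp a b).inv.app G ≫ φ) := by
  have n := (pushforwardComp a b).hom.naturality φ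
  simp only [Functor.comp_map] at n
  simp only [Functor.map_comp, Category.assoc]
  rw [reassoc_of% (unit_comp' a b G), n]

end Basic

section Square

variable {X Y X' Y' : Scheme.{u}} (f : X ⟶ Y) (g : Y' ⟶ Y) (f' : X' ⟶ Y') (g' : X' ⟶ X)
  (w : g' ≫ f = f' ≫ g)

/-- `g'_* ⋙ f_* ≅ f'_* ⋙ g_*` for a commutative square of schemes (O-modules). -/
def ΘM : pushforward g' ⋙ pushforward f ≅ pushforward f' ⋙ pushforward g :=
  pushforwardComp g' f ≪≫ pushforwardCongr w ≪≫ (pushforwardComp f' g).symm

/-- the adjoint form of the base change map -/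
def γM (F : X.Modules) :
    (pushforward f).obj F ⟶ (pushforward g).obj ((pushforward f').obj ((pullback g').obj F)) :=
  (pushforward f).map ((pullbackPushforwardAdjunction g').unit.app F) ≫
    (ΘM f g f' g' w).hom.app ((pullback g').obj F)

lemma γM_eq (F : X.Modules) :
    γM f g f' g' w F =
      (pushforward f).map ((pullbackPushforwardAdjunction g').unit.app F) ≫
        (pushforwardComp g' f).hom.app ((pullback g').obj F) ≫
        (pushforwardCongr w).hom.app ((pullback g').obj F) ≫
        (pushforwardComp f' g).inv.app ((pullback g').obj F) := rfl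

end Square

section Tower

variable {X Y Z U V W : Scheme.{u}} (f : X ⟶ Y) (g : Y ⟶ Z)
  (ξ : X ⟶ U) (η : Y ⟶ V) (ζ : Z ⟶ W) (φ : U ⟶ V) (ψ : V ⟶ W)
  (h₁ : f ≫ η = ξ ≫ φ) (h₂ : g ≫ ζ = η ≫ ψ) (hw : (f ≫ g) ≫ ζ = ξ ≫ (φ ≫ ψ))

lemma Θ_coh (N : X.Modules) :
    (pushforward ζ).map ((pushforwardComp f g).hom.app N) ≫
        (ΘM ζ (φ ≫ ψ) ξ (f ≫ g) hw).hom.app N =
      (ΘM ζ ψ η g h₂).hom.app ((pushforward f).obj N) ≫
        (pushforward ψ).map ((ΘM η φ ξ f h₁).hom.app N) ≫
        (pushforwardComp φ ψ).hom.app ((pushforward ξ).obj N) := by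
  apply Scheme.Modules.hom_ext
  intro O
  simp only [ΘM, Iso.trans_hom, Iso.symm_hom, NatTrans.comp_app, Hom.comp_app,
    pushforward_map_app, pushforwardComp_hom_app_app, pushforwardComp_inv_app_app,
    pushforwardCongr_hom_app_app, pushforward_obj_presheaf_map]
  repeat erw [Category.id_comp]
  repeat erw [Category.comp_id]
  erw [← Functor.map_comp]
  exact congrArg _ (Subsingleton.elim _ _)

lemma γM_comp (L : Z.Modules) :
    γM ζ (φ ≫ ψ) ξ (f ≫ g) hw L =
      γM ζ ψ η g h₂ L ≫ (pushforward ψ).map (γM η φ ξ f h₁ ((pullback g).obj L)) ≫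
        (pushforward ψ).map ((pushforward φ).map ((pushforward ξ).map
          ((pullbackComp f g).hom.app L))) ≫
        (pushforwardComp φ ψ).hom.app ((pushforward ξ).obj ((pullback (f ≫ g)).obj L)) := by
  have hu : (pullbackPushforwardAdjunction (f ≫ g)).unit.app L =
      (pullbackPushforwardAdjunction g).unit.app L ≫
        (pushforward g).map ((pullbackPushforwardAdjunction f).unit.app ((pullback g).obj L)) ≫
        (pushforwardComp f g).hom.app ((pullback f).obj ((pullback g).obj L)) ≫
        (pushforward (f ≫ g)).map ((pullbackComp f g).hom.app L) := by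
    have h3 : (pullbackComp f g).inv.app L ≫ (pullbackComp f g).hom.app L =
        𝟙 ((pullback (f ≫ g)).obj L) := Iso.inv_hom_id_app _ _
    have h := unit_comp' f g L
    calc (pullbackPushforwardAdjunction (f ≫ g)).unit.app L
        = ((pullbackPushforwardAdjunction (f ≫ g)).unit.app L ≫
            (pushforward (f ≫ g)).map ((pullbackComp f g).inv.app L)) ≫
            (pushforward (f ≫ g)).map ((pullbackComp f g).hom.app L) := by
          rw [Category.assoc, ← Functor.map_comp, h3, CategoryTheory.Functor.map_id]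
          exact (Category.comp_id _).symm
      _ = _ := by
          rw [h]
          simp only [Category.assoc]
  obtain ⟨α, hα⟩ : ∃ α, α = (pullbackComp f g).hom.app L := ⟨_, rfl⟩
  rw [← hα] at hu ⊢
  have n3 := (ΘM ζ (φ ≫ ψ) ξ (f ≫ g) hw).hom.naturality α
  have n2 := (ΘM ζ ψ η g h₂).hom.naturality
    ((pullbackPushforwardAdjunction f).unit.app ((pullback g).obj L))
  have n4 := (pushforwardComp φ ψ).hom.naturality ((pushforward ξ).map α)
  have co := Θ_coh f g ξ η ζ φ ψ h₁ h₂ hw ((pullback f).obj ((pullback g).obj L))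
  simp only [Functor.comp_map, Functor.comp_obj] at n3 n2 n4
  unfold γM
  rw [hu]
  simp only [Functor.map_comp, Category.assoc]
  rw [n3, reassoc_of% co, reassoc_of% n2, n4]

theorem main (L : Z.Modules) :
    (pullbackComp φ ψ).hom.app ((pushforward ζ).obj L) ≫
        (((pullbackPushforwardAdjunction (φ ≫ ψ)).homEquiv ((pushforward ζ).obj L)
            ((pushforward ξ).obj ((pullback (f ≫ g)).obj L))).symm
          (γM ζ (φ ≫ ψ) ξ (f ≫ g) hw L)) =
      (pullback φ).map (((pullbackPushforwardAdjunction ψ).homEquiv ((pushforward ζ).obj L)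
            ((pushforward η).obj ((pullback g).obj L))).symm (γM ζ ψ η g h₂ L)) ≫
        (((pullbackPushforwardAdjunction φ).homEquiv ((pushforward η).obj ((pullback g).obj L))
            ((pushforward ξ).obj ((pullback f).obj ((pullback g).obj L)))).symm
          (γM η φ ξ f h₁ ((pullback g).obj L))) ≫
        (pushforward ξ).map ((pullbackComp f g).hom.app L) := by
  obtain ⟨β₃, hβ₃⟩ : ∃ β₃, β₃ = ((pullbackPushforwardAdjunction (φ ≫ ψ)).homEquiv
      ((pushforward ζ).obj L) ((pushforward ξ).obj ((pullback (f ≫ g)).obj L))).symm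
      (γM ζ (φ ≫ ψ) ξ (f ≫ g) hw L) := ⟨_, rfl⟩
  obtain ⟨β₂, hβ₂⟩ : ∃ β₂, β₂ = ((pullbackPushforwardAdjunction ψ).homEquiv
      ((pushforward ζ).obj L) ((pushforward η).obj ((pullback g).obj L))).symm
      (γM ζ ψ η g h₂ L) := ⟨_, rfl⟩
  obtain ⟨β₁, hβ₁⟩ : ∃ β₁, β₁ = ((pullbackPushforwardAdjunction φ).homEquiv
      ((pushforward η).obj ((pullback g).obj L))
      ((pushforward ξ).obj ((pullback f).obj ((pullback g).obj L)))).symm
      (γM η φ ξ f h₁ ((pullback g).obj L)) := ⟨_, rfl⟩
  have e₃ : (pullbackPushforwardAdjunction (φ ≫ ψ)).unit.app ((pushforward ζ).obj L) ≫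
      (pushforward (φ ≫ ψ)).map β₃ = γM ζ (φ ≫ ψ) ξ (f ≫ g) hw L := by
    have := ((pullbackPushforwardAdjunction (φ ≫ ψ)).homEquiv _ _).apply_symm_apply
      (γM ζ (φ ≫ ψ) ξ (f ≫ g) hw L)
    rw [Adjunction.homEquiv_unit] at this
    rw [hβ₃]
    exact this
  have e₂ : (pullbackPushforwardAdjunction ψ).unit.app ((pushforward ζ).obj L) ≫
      (pushforward ψ).map β₂ = γM ζ ψ η g h₂ L := by
    have := ((pullbackPushforwardAdjunction ψ).homEquiv _ _).apply_symm_apply (γM ζ ψ η g h₂ L)
    rw [Adjunction.homEquiv_unit] at this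
    rw [hβ₂]
    exact this
  have e₁ : (pullbackPushforwardAdjunction φ).unit.app ((pushforward η).obj ((pullback g).obj L)) ≫
      (pushforward φ).map β₁ = γM η φ ξ f h₁ ((pullback g).obj L) := by
    have := ((pullbackPushforwardAdjunction φ).homEquiv _ _).apply_symm_apply
      (γM η φ ξ f h₁ ((pullback g).obj L))
    rw [Adjunction.homEquiv_unit] at this
    rw [hβ₁]
    exact this
  rw [← hβ₃, ← hβ₂, ← hβ₁]
  obtain ⟨α, hα⟩ : ∃ α, α = (pullbackComp f g).hom.app L := ⟨_, rfl⟩
  have key := γM_comp f g ξ η ζ φ ψ h₁ h₂ hw L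
  rw [← hα] at key ⊢
  refine ((pullbackPushforwardAdjunction φ).homEquiv _ _).injective ?_
  rw [Adjunction.homEquiv_unit, Adjunction.homEquiv_unit]
  have nφ := (pullbackPushforwardAdjunction φ).unit_naturality β₂
  have ra : (pullbackPushforwardAdjunction φ).unit.app ((pullback ψ).obj ((pushforward ζ).obj L)) ≫
      (pushforward φ).map ((pullback φ).map β₂ ≫ β₁ ≫ (pushforward ξ).map α) =
      β₂ ≫ γM η φ ξ f h₁ ((pullback g).obj L) ≫ (pushforward φ).map ((pushforward ξ).map α) := by
    simp only [Functor.map_comp]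
    rw [reassoc_of% nφ, reassoc_of% e₁]
  rw [ra]
  refine ((pullbackPushforwardAdjunction ψ).homEquiv _ _).injective ?_
  rw [Adjunction.homEquiv_unit, Adjunction.homEquiv_unit]
  have rb : (pullbackPushforwardAdjunction ψ).unit.app ((pushforward ζ).obj L) ≫
      (pushforward ψ).map (β₂ ≫ γM η φ ξ f h₁ ((pullback g).obj L) ≫
        (pushforward φ).map ((pushforward ξ).map α)) =
      γM ζ ψ η g h₂ L ≫ (pushforward ψ).map (γM η φ ξ f h₁ ((pullback g).obj L)) ≫
        (pushforward ψ).map ((pushforward φ).map ((pushforward ξ).map α)) := by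
    simp only [Functor.map_comp]
    rw [reassoc_of% e₂]
  rw [rb]
  refine (cancel_mono ((pushforwardComp φ ψ).hom.app
    ((pushforward ξ).obj ((pullback (f ≫ g)).obj L)))).1 ?_
  have hL := unit_pullbackComp φ ψ ((pushforward ζ).obj L)
    (M := (pushforward ξ).obj ((pullback (f ≫ g)).obj L))
    ((pullbackComp φ ψ).hom.app ((pushforward ζ).obj L) ≫ β₃)
  rw [Iso.inv_hom_id_app_assoc, e₃] at hL
  simp only [Category.assoc] at hL ⊢
  rw [hL, key]

end Tower

end

end Groth.Agent.Lib.Helper15.ModBcComp
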