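import Mathlib
import Groth.Agent.Lib.Helper15.ConstSec
import Groth.Agent.Lib.Helper15.NormalExt
import Groth.Agent.Lib.Helper13.EtaleRestr

/-!
# Helper15: on a normal scheme, `M_X ⟶ j_* j^* M_X` is an isomorphism for dense open immersions
(S3104, S0627)
-/

set_option autoImplicit false
set_option backward.isDefEq.respectTransparency false

universe u

open CategoryTheory CategoryTheory.Limits AlgebraicGeometry Opposite Topology

namespace Helper15.NormalPush

open Helper15.LcStruct Helper15.ConstSec Helper15.NormalExt Groth.Agent.Lib.Helper13.EtaleRestr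

theorem isIso_unit_of_bijective {U X : Scheme.{u}} (j : U ⟶ X) [IsOpenImmersion j]
    [EtCoh.BCCont j] (F : EtCoh.Ab X)
    (h : ∀ V : X.Etale, Function.Bijective (F.obj.map ((adjSites j).counit.app V).op)) :
    IsIso ((EtCoh.pullPushAdj j).unit.app F) := by
  have h1 : (EtCoh.pullPushAdj j).unit.app F ≫
      (EtCoh.push j).map ((pullIsoRestr j).hom.app F) = (restrPushAdj j).unit.app F :=
    Adjunction.unit_leftAdjointUniq_hom_app (EtCoh.pullPushAdj j) (restrPushAdj j) F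
  have h2 : IsIso ((restrPushAdj j).unit.app F) := by
    have hV : ∀ V : X.Etaleᵒᵖ, IsIso (((restrPushAdj j).unit.app F).hom.app V) := by
      intro V
      rw [ConcreteCategory.isIso_iff_bijective]
      have e : ((restrPushAdj j).unit.app F).hom.app V =
          F.obj.map ((adjSites j).counit.app V.unop).op := by
        simp [restrPushAdj]
      rw [e]
      exact h V.unop
    haveI : IsIso ((restrPushAdj j).unit.app F).hom := NatIso.isIso_of_isIso_app _
    haveI : IsIso ((sheafToPresheaf X.smallEtaleTopology AddCommGrpCat.{u + 1}).map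
        ((restrPushAdj j).unit.app F)) :=
      (inferInstance : IsIso ((restrPushAdj j).unit.app F).hom)
    exact isIso_of_reflects_iso _ (sheafToPresheaf X.smallEtaleTopology AddCommGrpCat.{u + 1})
  have h3 : (EtCoh.pullPushAdj j).unit.app F = (restrPushAdj j).unit.app F ≫
      inv ((EtCoh.push j).map ((pullIsoRestr j).hom.app F)) := by
    rw [← h1, Category.assoc, IsIso.hom_inv_id, Category.comp_id]
  rw [h3]
  infer_instance

theorem restrict_bijective_of_normal {X : Scheme.{u}} (hX : Pi1.IsNormalScheme X)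
    (Mg : AddCommGrpCat.{u+1}) {V W : X.Etale} (w : W ⟶ V) [IsOpenImmersion w.left]
    (hK : ∀ y : V.left, ∃ (N₀ : V.left.Opens) (O' : Set V.left), IsAffineOpen N₀ ∧ y ∈ N₀ ∧
        IsOpen O' ∧ IsCompact O' ∧ O' ⊆ (N₀ : Set V.left) ∧ O' ⊆ Set.range w.left.base ∧
        (N₀ : Set V.left) ⊆ closure O') :
    Function.Bijective ((cst X Mg).obj.map w.op) := by
  haveI : Etale V.hom := V.prop
  have hdom : ∀ y : V.left, IsDomain (V.left.presheaf.stalk y) :=
    fun y => isDomain_stalk_of_etale V.hom hX y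
  have hinj : Function.Injective w.left.base := w.left.isOpenEmbedding.injective
  refine restrict_bijective Mg w ?_ ?_
  · intro y
    obtain ⟨N₀, O', -, hy, -, -, -, hOr, hd⟩ := hK y
    exact closure_mono hOr (hd hy)
  · intro g hg y
    obtain ⟨N₀, O', hN₀, hy, hOo, hOc, hON, hOr, hd⟩ := hK y
    obtain ⟨g₀, hg₀⟩ : ∃ g₀ : V.left → Mg, ∀ a, g₀ (w.left.base a) = g a :=
      ⟨Function.extend w.left.base g (fun _ => 0), fun a => hinj.extend_apply g _ a⟩
    have hloc : ∀ x ∈ Set.range w.left.base, ∃ T : Set V.left, IsOpen T ∧ x ∈ T ∧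
        ∀ x' ∈ T, g₀ x' = g₀ x := by
      rintro _ ⟨a, rfl⟩
      obtain ⟨T, hTo, haT, hT⟩ := (IsLocallyConstant.iff_exists_open g).1 hg a
      refine ⟨w.left.base '' T, w.left.isOpenMap T hTo, ⟨a, haT, rfl⟩, ?_⟩
      rintro _ ⟨a', ha', rfl⟩
      rw [hg₀, hg₀]
      exact hT a' ha'
    obtain ⟨N, hNo, hyN, hNc, hNd⟩ := exists_nhd_const hdom N₀ hN₀ O' hOo hOc hON hd g₀
      (fun x hx => hloc x (hOr hx)) y hy
    refine ⟨N, hNo, hyN, ?_⟩
    have key : ∀ a : W.left, w.left.base a ∈ N → ∃ x ∈ N ∩ O', g₀ x = g a := by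
      intro a ha
      obtain ⟨T, hTo, haT, hT⟩ := hloc _ ⟨a, rfl⟩
      obtain ⟨x, ⟨hxT, -⟩, hxNO⟩ := (mem_closure_iff.1 (hNd ha)) _ (hTo.inter hNo) ⟨haT, ha⟩
      exact ⟨x, hxNO, (hT x hxT).trans (hg₀ a)⟩
    intro a b ha hb
    obtain ⟨x₁, hx₁, e₁⟩ := key a ha
    obtain ⟨x₂, hx₂, e₂⟩ := key b hb
    rw [← e₁, ← e₂]
    exact hNc x₁ hx₁ x₂ hx₂

theorem hK_of_quasiCompact {U X : Scheme.{u}} (j : U ⟶ X) [IsOpenImmersion j] [QuasiCompact j]
    (hj : Dense (Set.range j.base)) (V : X.Etale) (y : V.left) :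
    ∃ (N₀ : V.left.Opens) (O' : Set V.left), IsAffineOpen N₀ ∧ y ∈ N₀ ∧
        IsOpen O' ∧ IsCompact O' ∧ O' ⊆ (N₀ : Set V.left) ∧
        O' ⊆ Set.range (pullback.fst V.hom j).base ∧ (N₀ : Set V.left) ⊆ closure O' := by
  haveI : Etale V.hom := V.prop
  obtain ⟨N₀, hN₀, hyN₀, -⟩ := exists_isAffineOpen_mem_and_subset (x := y) (U := ⊤) trivial
  have hr : Set.range (pullback.fst V.hom j).base = V.hom.base ⁻¹' Set.range j.base :=
    Scheme.Pullback.range_fst V.hom j
  have hdense : Dense (Set.range (pullback.fst V.hom j).base) := by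
    rw [hr]; exact hj.preimage V.hom.isOpenMap
  refine ⟨N₀, (N₀ : Set V.left) ∩ Set.range (pullback.fst V.hom j).base, hN₀, hyN₀,
    N₀.isOpen.inter (pullback.fst V.hom j).isOpenEmbedding.isOpen_range, ?_,
    Set.inter_subset_left, Set.inter_subset_right, hdense.open_subset_closure_inter N₀.isOpen⟩
  rw [← Set.image_preimage_eq_inter_range]
  exact (QuasiCompact.isCompact_preimage (f := pullback.fst V.hom j) _ N₀.isOpen
    hN₀.isCompact).image (pullback.fst V.hom j).continuous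

theorem S3104 (X U : Scheme.{u}) (hX : Pi1.IsNormalScheme X)
    (j : U ⟶ X) [IsOpenImmersion j] [QuasiCompact j] (hj : Dense (Set.range j)) [EtCoh.BCCont j]
    (M : Type) [AddCommGroup M] :
    IsIso ((EtCoh.pullPushAdj j).unit.app (EtCoh.const X M)) := by
  refine isIso_unit_of_bijective j _ (fun V => ?_)
  haveI : IsOpenImmersion ((adjSites j).counit.app V).left :=
    inferInstanceAs (IsOpenImmersion (pullback.fst V.hom j))
  exact restrict_bijective_of_normal hX _ ((adjSites j).counit.app V)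
    (fun y => hK_of_quasiCompact j hj V y)

theorem hK_of_integral {X : Scheme.{u}} [IsIntegral X] (U : X.Opens) (hU : (U : Set X).Nonempty)
    (V : X.Etale) (y : V.left) :
    ∃ (N₀ : V.left.Opens) (O' : Set V.left), IsAffineOpen N₀ ∧ y ∈ N₀ ∧
        IsOpen O' ∧ IsCompact O' ∧ O' ⊆ (N₀ : Set V.left) ∧
        O' ⊆ Set.range (pullback.fst V.hom U.ι).base ∧ (N₀ : Set V.left) ⊆ closure O' := by
  haveI : Etale V.hom := V.prop
  obtain ⟨X₀, hX₀, hxX₀, -⟩ : ∃ X₀ : X.Opens, IsAffineOpen X₀ ∧ V.hom.base y ∈ X₀ ∧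
      X₀.1 ⊆ ((⊤ : X.Opens) : Set X) :=
    exists_isAffineOpen_mem_and_subset (X := X) (x := V.hom.base y) (U := ⊤) trivial
  obtain ⟨N₀, hN₀, hyN₀, hle⟩ :=
    exists_isAffineOpen_mem_and_subset (x := y) (U := V.hom ⁻¹ᵁ X₀) hxX₀
  have hle' : N₀ ≤ V.hom ⁻¹ᵁ X₀ := hle
  obtain ⟨x₁, hx₁U, hx₁X₀⟩ : ((U : Set X) ∩ (X₀ : Set X)).Nonempty :=
    nonempty_preirreducible_inter U.isOpen X₀.isOpen hU ⟨_, hxX₀⟩
  obtain ⟨f, hfU, hx₁f⟩ := hX₀.exists_basicOpen_le (V := U) ⟨x₁, hx₁U⟩ hx₁X₀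
  have hbo : V.left.basicOpen (V.hom.appLE X₀ N₀ hle' f) = N₀ ⊓ V.hom ⁻¹ᵁ (X.basicOpen f) :=
    Scheme.basicOpen_appLE V.hom N₀ X₀ hle' f
  have hDdense : Dense ((X.basicOpen f : X.Opens) : Set X) :=
    (X.basicOpen f).isOpen.dense ⟨x₁, hx₁f⟩
  have hpre : Dense (V.hom.base ⁻¹' ((X.basicOpen f : X.Opens) : Set X)) :=
    hDdense.preimage V.hom.isOpenMap
  refine ⟨N₀, ((V.left.basicOpen (V.hom.appLE X₀ N₀ hle' f) : V.left.Opens) : Set V.left),
    hN₀, hyN₀, (V.left.basicOpen _).isOpen, (hN₀.basicOpen _).isCompact, ?_, ?_, ?_⟩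
  · rw [hbo]
    exact Set.inter_subset_left
  · rw [hbo]
    rintro x ⟨-, hx⟩
    have hr : Set.range (pullback.fst V.hom U.ι).base = V.hom.base ⁻¹' Set.range U.ι.base :=
      Scheme.Pullback.range_fst V.hom U.ι
    rw [hr]
    show V.hom.base x ∈ Set.range U.ι.base
    rw [Scheme.Opens.range_ι]
    exact hfU hx
  · rw [hbo]
    exact hpre.open_subset_closure_inter N₀.isOpen

theorem S0627 (X : Scheme.{u}) [IsIntegral X]
    (hN : ∀ x : X, IsIntegrallyClosed (X.presheaf.stalk x)) (U : X.Opens)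
    (hU : (U : Set X).Nonempty) (M : Type) [AddCommGroup M] :
    IsIso ((EtCoh.pullPushAdj U.ι).unit.app (EtCoh.const X M)) := by
  have hX : Pi1.IsNormalScheme X := fun x => ⟨inferInstance, hN x⟩
  refine isIso_unit_of_bijective U.ι _ (fun V => ?_)
  haveI : IsOpenImmersion ((adjSites U.ι).counit.app V).left :=
    inferInstanceAs (IsOpenImmersion (pullback.fst V.hom U.ι))
  exact restrict_bijective_of_normal hX _ ((adjSites U.ι).counit.app V)
    (fun y => hK_of_integral U hU V y)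

end Helper15.NormalPush
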