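import Mathlib
import Groth.Agent.Lib.Helper15.Efface2
import Groth.Agent.Lib.Helper13.FlatPullback

/-!
# Helper15: constructibility descends along surjective morphisms of qcqs schemes (S0135)
-/

set_option autoImplicit false
set_option backward.isDefEq.respectTransparency false
universe u
open CategoryTheory CategoryTheory.Limits AlgebraicGeometry Opposite Abelian

namespace Helper15.SurjDescent

open Helper15.ConstrGen Helper15.CompactObj Helper15.IndConstr Helper15.Efface Helper15.Constr
  Groth.Agent.Lib.Helper13.StalkConservative Groth.Agent.Lib.Helper13.StalkPull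
  Groth.Agent.Lib.Helper13.FlatPullback

variable {X Y : Scheme.{u}} (f : X ⟶ Y)

/-- geometric points of `Y` coming from geometric points of `X` detect covers when `f` is
surjective. -/
lemma detectsCovers_of_surjective [Surjective f] :
    DetectsCovers (fun i : GeomPt X => Scheme.pointSmallEtale (i.ξ ≫ f)) := by
  intro U R hR
  obtain ⟨α, T, g, rfl⟩ := R.exists_eq_ofArrows
  rw [Scheme.ofArrows_mem_smallEtaleTopology_iff]
  ext x
  simp only [Set.mem_iUnion, Set.mem_range, Set.mem_univ, iff_true]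
  obtain ⟨x₀, hx₀⟩ := f.surjective (U.hom x)
  obtain ⟨i, hi⟩ : ∃ i : GeomPt X, (i.ξ ≫ f) default = U.hom x :=
    ⟨{ Ω := SeparableClosure (X.residueField x₀)
       ξ := (Scheme.SpecToEquivOfField (SeparableClosure (X.residueField x₀)) _).2
        ⟨x₀, CommRingCat.ofHom (algebraMap (X.residueField x₀) _)⟩ },
      by
        rw [Scheme.Hom.comp_apply, ← hx₀]
        congr 1
        simp [Scheme.SpecToEquivOfField]⟩
  obtain ⟨x', hx'⟩ := Scheme.pointSmallEtaleFiberObjToPreimage_surjective (i.ξ ≫ f) hi U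
    ⟨x, by simp⟩
  rw [Subtype.ext_iff] at hx'
  simp only [Functor.id_obj, Scheme.pointSmallEtaleFiberObjToPreimage_coe,
    Scheme.Etale.forget_obj_left] at hx'
  subst hx'
  obtain ⟨W, g', ⟨Z, p, _, ⟨a⟩, rfl⟩, y, rfl⟩ := hR i x'
  exact ⟨a, (Scheme.pointSmallEtaleFiberObjToPreimage (i.ξ ≫ f) hi (y ≫ p.hom)).1, rfl⟩

theorem jri_of_surjective [Surjective f] :
    JointlyReflectIsomorphisms (fun i : GeomPt X => EtCoh.stalk (i.ξ ≫ f)) :=
  jointlyReflectIsomorphisms (A := AddCommGrpCat.{u + 1}) (detectsCovers_of_surjective f)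

variable [EtCoh.BCCont f]

theorem eq_zero_of_pull_eq_zero [Surjective f] {A B : EtCoh.Ab Y} (φ : A ⟶ B)
    (h : (EtCoh.pull f).map φ = 0) : φ = 0 := by
  apply (jri_of_surjective f).jointlyFaithful.map_injective
  intro i
  have hn := (stalkPullIso f i.ξ).hom.naturality φ
  rw [Functor.map_zero]
  have h1 : (EtCoh.pull f ⋙ EtCoh.stalk i.ξ).map φ = 0 := by
    show (EtCoh.stalk i.ξ).map ((EtCoh.pull f).map φ) = 0
    rw [h, Functor.map_zero]
  rw [h1, zero_comp] at hn
  have h2 : (EtCoh.stalk (i.ξ ≫ f)).map φ =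
      (stalkPullIso f i.ξ).inv.app A ≫ (stalkPullIso f i.ξ).hom.app A ≫
        (EtCoh.stalk (i.ξ ≫ f)).map φ := by
    rw [← Category.assoc, ← NatTrans.comp_app, Iso.inv_hom_id, NatTrans.id_app, Category.id_comp]
  rw [h2, ← hn, comp_zero]

theorem epi_of_epi_pull [Surjective f] {A B : EtCoh.Ab Y} (φ : A ⟶ B)
    (h : Epi ((EtCoh.pull f).map φ)) : Epi φ := by
  apply Abelian.epi_of_cokernel_π_eq_zero
  apply eq_zero_of_pull_eq_zero f
  haveI : PreservesColimitsOfSize.{0, 0} (EtCoh.pull f) :=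
    (EtCoh.pullPushAdj f).leftAdjoint_preservesColimits
  rw [← cancel_epi ((EtCoh.pull f).map φ), ← Functor.map_comp, cokernel.condition,
    Functor.map_zero, comp_zero]

variable [CompactSpace X] [QuasiSeparatedSpace X] [CompactSpace Y] [QuasiSeparatedSpace Y]

theorem exists_epi_from_constructible [Surjective f] (F : EtCoh.Ab Y) (hT : EtCoh.IsTorsion F)
    (hG : EtPBC.IsConstructible ((EtCoh.pull f).obj F)) :
    ∃ (C : EtCoh.Ab Y) (π : C ⟶ F), EtPBC.IsConstructible C ∧ Epi π := by
  obtain ⟨hcol⟩ := isColimit_c₀ F hT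
  haveI : PreservesColimitsOfSize.{u+1, u+1} (EtCoh.pull f) :=
    (EtCoh.pullPushAdj f).leftAdjoint_preservesColimits
  have hcol' := isColimitOfPreserves (EtCoh.pull f) hcol
  haveI := fp_of_constructible_big _ hG
  obtain ⟨j, s, hs⟩ := IsFinitelyPresentable.exists_hom_of_isColimit hcol'
    (𝟙 ((EtCoh.pull f).obj F))
  refine ⟨(D₀ F).obj j, (c₀ F).ι.app j, ((eqv F).inverse.obj j).left.property, ?_⟩
  apply epi_of_epi_pull f
  have hs' : s ≫ (EtCoh.pull f).map ((c₀ F).ι.app j) = 𝟙 _ := hs
  exact epi_of_epi_fac hs'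

theorem S0135 (f : X ⟶ Y) [Surjective f] [EtCoh.BCCont f]
    (F : EtCoh.Ab Y) :
    EtPBC.IsConstructible F ↔ EtPBC.IsConstructible ((EtCoh.pull f).obj F) := by
  constructor
  · exact S0127 f F
  · intro hG
    haveI : (EtCoh.pull f).Additive := (EtCoh.pullPushAdj f).left_adjoint_additive
    -- `F` is killed by an integer
    obtain ⟨N, hN, kG⟩ := exists_killedBy _ hG
    have kF : EtCoh.KilledBy N F := by
      apply killedBy_of_nsmul_id
      apply eq_zero_of_pull_eq_zero f
      rw [Functor.map_nsmul, CategoryTheory.Functor.map_id]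
      exact nsmul_id_of_killedBy N _ kG
    have hT : EtCoh.IsTorsion F := isTorsion_of_killedBy N hN F kF
    obtain ⟨C, π, hC, hπ⟩ := exists_epi_from_constructible f F hT hG
    -- the kernel
    obtain ⟨N', hN', kC⟩ := exists_killedBy C hC
    have kK : EtCoh.KilledBy N' (kernel π) := killedBy_of_mono (kernel.ι π) N' kC
    have hTK : EtCoh.IsTorsion (kernel π) := isTorsion_of_killedBy N' hN' _ kK
    have hGC : EtPBC.IsConstructible ((EtCoh.pull f).obj C) := S0127 f C hC
    obtain ⟨M, hM, k1, k2⟩ := exists_common_killedBy _ _ hGC hG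
    have hGK : EtPBC.IsConstructible ((EtCoh.pull f).obj (kernel π)) :=
      constructible_of_iso (PreservesKernel.iso (EtCoh.pull f) π).symm
        (S0131 ((EtCoh.pull f).map π) M hM k1 k2 hGC hG).1
    obtain ⟨C', π', hC', hπ'⟩ := exists_epi_from_constructible f (kernel π) hTK hGK
    obtain ⟨M', hM', k1', k2'⟩ := exists_common_killedBy _ _ hC' hC
    have hcok : EtPBC.IsConstructible (cokernel (π' ≫ kernel.ι π)) :=
      (S0131 (π' ≫ kernel.ι π) M' hM' k1' k2' hC' hC).2
    have e1 : cokernel (π' ≫ kernel.ι π) ≅ cokernel (kernel.ι π) := cokernelEpiComp _ _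
    have e2 : cokernel (kernel.ι π) ≅ F :=
      (cokernelIsCokernel (kernel.ι π)).coconePointUniqueUpToIso
        (Abelian.epiIsCokernelOfKernel (limit.cone (parallelPair π 0)) (limit.isLimit _))
    exact constructible_of_iso (e1 ≪≫ e2) hcok

end Helper15.SurjDescent
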