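import Mathlib
import Groth.Prelude.Def_PBC
import Groth.Prelude.Def_EtCore
import Groth.Agent.Lib.Helper15.ClosedStalk
import Groth.Agent.Lib.Helper15.NormalPush
import Groth.Agent.Lib.Helper15.SurjDescent
import Groth.Agent.Lib.Helper15.AdicConstr
import Groth.Agent.Lib.Helper15.SubConst
import Groth.Agent.Lib.Helper15.ConstrGenA
import Groth.Agent.Lib.Helper12.IntegralDim

/-!
# Helper15: embedding a generically trivialised sheaf into `π_* M ⊕ F_f` (S13416)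
-/

set_option autoImplicit false
set_option backward.isDefEq.respectTransparency false
universe u

open CategoryTheory CategoryTheory.Limits AlgebraicGeometry Opposite

namespace Helper15.MonoBiprod

open Groth.Agent.Lib.Helper13 Groth.Agent.Lib.Helper13.StalkConservative
  Groth.Agent.Lib.Helper13.StalkPull Groth.Agent.Lib.Helper15.ClosedStalk
  Helper15.LcStruct Helper15.ConstrGen Helper15.Constr Helper15.SurjDescent

section sheaf

/-- If `g : f^* A ⟶ B` is a monomorphism on the stalk at `w`, then its adjunct `A ⟶ f_* B` is a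
monomorphism on the stalk at `w ≫ f`. -/
theorem mono_stalk_adjunct {X Y : Scheme.{u}} (f : X ⟶ Y) (A : EtCoh.Ab Y) (B : EtCoh.Ab X)
    (g : (EtCoh.pull f).obj A ⟶ B) {Ω : Type u} [Field Ω] [IsSepClosed Ω]
    (w : Spec (CommRingCat.of Ω) ⟶ X) (hg : Mono ((EtCoh.stalk w).map g)) :
    Mono ((EtCoh.stalk (w ≫ f)).map ((EtCoh.pullPushAdj f).homEquiv A B g)) := by
  obtain ⟨φ, hφ⟩ : ∃ φ : A ⟶ (EtCoh.push f).obj B, φ = (EtCoh.pullPushAdj f).homEquiv A B g :=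
    ⟨_, rfl⟩
  rw [← hφ]
  have h0 : ((EtCoh.pullPushAdj f).homEquiv A B).symm φ =
      (EtCoh.pull f).map φ ≫ (EtCoh.pullPushAdj f).counit.app B := by
    rw [Adjunction.homEquiv_counit]
  have h1 : (EtCoh.pull f).map φ ≫ (EtCoh.pullPushAdj f).counit.app B = g := by
    rw [← h0, hφ, Equiv.symm_apply_apply]
  have h2 : (EtCoh.stalk w).map ((EtCoh.pull f).map φ) ≫
      (EtCoh.stalk w).map ((EtCoh.pullPushAdj f).counit.app B) = (EtCoh.stalk w).map g := by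
    rw [← Functor.map_comp, h1]
  haveI := hg
  have hm : Mono ((EtCoh.stalk w).map ((EtCoh.pull f).map φ)) := mono_of_mono_fac h2
  haveI hm' : Mono ((EtCoh.pull f ⋙ EtCoh.stalk w).map φ) := hm
  rw [← NatIso.naturality_1 (stalkPullIso f w) φ]
  infer_instance

theorem killedBy_pull {X Y : Scheme.{u}} (f : X ⟶ Y) (n : ℕ) (G : EtCoh.Ab Y)
    (h : EtCoh.KilledBy n G) : EtCoh.KilledBy n ((EtCoh.pull f).obj G) := by
  apply killedBy_of_nsmul_id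
  have h0 := nsmul_id_of_killedBy n G h
  have h1 : (EtCoh.pull f).map (n • 𝟙 G) = n • 𝟙 ((EtCoh.pull f).obj G) := by
    rw [Functor.map_nsmul, (EtCoh.pull f).map_id]
  rw [← h1, h0, Functor.map_zero]

theorem const_killed {W : Scheme.{u}} [hne : Nonempty W] (M₀ : Type) [AddCommGroup M₀] (m : ℕ)
    (h : EtCoh.KilledBy m (EtCoh.const W M₀)) (x : M₀) : m • x = 0 := by
  haveI : Nonempty (EtCoh.top W).left := hne
  have hT := bot_not_mem_of_nonempty (EtCoh.top W)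
  have h1 := h (EtCoh.top W)
    (eta (AddCommGrpCat.of (ULift.{u+1} M₀)) (EtCoh.top W) (ULift.up x : ULift.{u+1} M₀))
  have h2 : eta (AddCommGrpCat.of (ULift.{u+1} M₀)) (EtCoh.top W)
      (m • (ULift.up x : ULift.{u+1} M₀)) = 0 :=
    (map_nsmul (eta (AddCommGrpCat.of (ULift.{u+1} M₀)) (EtCoh.top W)).hom m
      (ULift.up x : ULift.{u+1} M₀)).trans h1
  have h3 : m • (ULift.up x : ULift.{u+1} M₀) = 0 :=
    eta_injective _ _ hT
      (h2.trans (map_zero (eta (AddCommGrpCat.of (ULift.{u+1} M₀)) (EtCoh.top W)).hom).symm)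
  have h4 := congrArg ULift.down h3
  first
    | exact h4
    | simpa using h4

theorem kill {𝒰 Un : Scheme.{u}} (π : Un ⟶ 𝒰) (W : Un.Opens) [Nonempty ↥(↑W : Scheme.{u})]
    (F : EtCoh.Ab 𝒰) (m : ℕ) (hmF : EtCoh.KilledBy m F) (M₀ : Type) [AddCommGroup M₀]
    (e : (EtCoh.pull W.ι).obj ((EtCoh.pull π).obj F) ≅ EtCoh.const (↑W : Scheme.{u}) M₀)
    (x : M₀) : m • x = 0 :=
  const_killed M₀ m (killedBy_of_iso m e (killedBy_pull W.ι m _ (killedBy_pull π m F hmF))) x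

theorem main {𝒰 Un : Scheme.{u}} [IsLocallyNoetherian 𝒰] [IsIntegral Un]
    (hnorm : ∀ y : Un, IsIntegrallyClosed (Un.presheaf.stalk y))
    (π : Un ⟶ 𝒰) [Surjective π] (V : 𝒰.Opens)
    (hW : ((π ⁻¹ᵁ V : Un.Opens) : Set Un).Nonempty)
    (F : EtCoh.Ab 𝒰) (hF : EtPBC.IsConstructible F) (M₀ : Type) [AddCommGroup M₀]
    (e : (EtCoh.pull (π ⁻¹ᵁ V).ι).obj ((EtCoh.pull π).obj F) ≅
      EtCoh.const (↑(π ⁻¹ᵁ V) : Scheme.{u}) M₀) :
    ∃ (Ff : EtCoh.Ab 𝒰), EtPBC.IsConstructible Ff ∧ EtPBC.supp Ff ⊆ (V : Set 𝒰)ᶜ ∧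
      ∃ ι : F ⟶ (EtCoh.push π).obj (EtCoh.const Un M₀) ⊞ Ff, Mono ι := by
  obtain ⟨Zc, hZc⟩ : ∃ Z : TopologicalSpace.Closeds 𝒰, (Z : Set 𝒰) = (V : Set 𝒰)ᶜ :=
    ⟨⟨_, V.isOpen.isClosed_compl⟩, rfl⟩
  obtain ⟨Zs, i, hi, hir⟩ : ∃ (Zs : Scheme.{u}) (i : Zs ⟶ 𝒰), IsClosedImmersion i ∧
      Set.range i = (V : Set 𝒰)ᶜ := by
    refine ⟨_, (Scheme.IdealSheafData.vanishingIdeal Zc).subschemeι, inferInstance, ?_⟩
    rw [Scheme.IdealSheafData.range_subschemeι, Scheme.IdealSheafData.coe_support_vanishingIdeal,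
      hZc]
  haveI := hi
  obtain ⟨φ₂, hφ₂⟩ : ∃ φ₂ : F ⟶ (EtCoh.push i).obj ((EtCoh.pull i).obj F),
      φ₂ = (EtCoh.pullPushAdj i).unit.app F := ⟨_, rfl⟩
  have S1 : ∀ {Ω : Type u} [Field Ω] [IsSepClosed Ω] (ξ : Spec (CommRingCat.of Ω) ⟶ 𝒰),
      ξ default ∈ Set.range i → IsIso ((EtCoh.stalk ξ).map φ₂) := by
    intro Ω _ _ ξ hξ
    obtain ⟨ζ, hζ⟩ := exists_factor i ξ hξ
    rw [hφ₂]
    exact isIso_stalk_unit i F ξ ζ hζ
  have S2 : ∀ {Ω : Type u} [Field Ω] [IsSepClosed Ω] (ξ : Spec (CommRingCat.of Ω) ⟶ 𝒰),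
      ξ default ∉ Set.range i →
        IsZero ((EtCoh.stalk ξ).obj ((EtCoh.push i).obj ((EtCoh.pull i).obj F))) := by
    intro Ω _ _ ξ hξ
    exact isZero_stalk_of_vanish i _ (fun T hT => isZero_push_sections i _ T hT) ξ hξ
  haveI hepi : Epi φ₂ := by
    refine ((stalk_jointlyReflectIsomorphisms 𝒰).jointlyReflectEpimorphisms.epi_iff φ₂).2 ?_
    intro p
    show Epi ((EtCoh.stalk p.ξ).map φ₂)
    by_cases hp : p.ξ default ∈ Set.range i
    · haveI := S1 p.ξ hp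
      infer_instance
    · exact ⟨fun _ _ _ => (S2 p.ξ hp).eq_of_src _ _⟩
  have hFfc : EtPBC.IsConstructible ((EtCoh.push i).obj ((EtCoh.pull i).obj F)) :=
    quot_constructible 𝒰 φ₂ hF
  have hsupp : EtPBC.supp ((EtCoh.push i).obj ((EtCoh.pull i).obj F)) ⊆ (V : Set 𝒰)ᶜ := by
    rintro x ⟨Ω, hΩ, hsc, ξ, hξr, hnz⟩
    by_contra hx
    apply hnz
    refine S2 ξ ?_
    intro hmem
    have h1 : ξ default ∈ Set.range ξ := ⟨default, rfl⟩
    rw [hξr] at h1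
    have h2 : ξ default = x := h1
    rw [hir, h2] at hmem
    exact hx hmem
  haveI hu : IsIso ((EtCoh.pullPushAdj (π ⁻¹ᵁ V).ι).unit.app (EtCoh.const Un M₀)) :=
    Helper15.NormalPush.S0627 Un hnorm (π ⁻¹ᵁ V) hW M₀
  obtain ⟨u, hu'⟩ : ∃ u : EtCoh.const Un M₀ ⟶
      (EtCoh.push (π ⁻¹ᵁ V).ι).obj (EtCoh.const (↑(π ⁻¹ᵁ V) : Scheme.{u}) M₀), IsIso u :=
    ⟨(EtCoh.pullPushAdj (π ⁻¹ᵁ V).ι).unit.app (EtCoh.const Un M₀) ≫
      (EtCoh.push (π ⁻¹ᵁ V).ι).map (EtCore.pullConst (π ⁻¹ᵁ V).ι M₀).hom, inferInstance⟩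
  haveI := hu'
  obtain ⟨ψ₀, hψ₀⟩ : ∃ ψ₀ : (EtCoh.pull π).obj F ⟶
      (EtCoh.push (π ⁻¹ᵁ V).ι).obj (EtCoh.const (↑(π ⁻¹ᵁ V) : Scheme.{u}) M₀),
      ψ₀ = (EtCoh.pullPushAdj (π ⁻¹ᵁ V).ι).homEquiv _ _ e.hom := ⟨_, rfl⟩
  obtain ⟨ψ, hψ⟩ : ∃ ψ : (EtCoh.pull π).obj F ⟶ EtCoh.const Un M₀, ψ = ψ₀ ≫ inv u :=
    ⟨_, rfl⟩
  obtain ⟨φ₁, hφ₁⟩ : ∃ φ₁ : F ⟶ (EtCoh.push π).obj (EtCoh.const Un M₀),
      φ₁ = (EtCoh.pullPushAdj π).homEquiv _ _ ψ := ⟨_, rfl⟩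
  have key1 : ∀ p : GeomPt Un, p.ξ default ∈ ((π ⁻¹ᵁ V : Un.Opens) : Set Un) →
      Mono ((EtCoh.stalk (p.ξ ≫ π)).map φ₁) := by
    intro p hp
    have hrange : Set.range p.ξ ⊆ Set.range (π ⁻¹ᵁ V).ι := by
      rw [Scheme.Opens.range_ι]
      rintro _ ⟨t, rfl⟩
      rw [Subsingleton.elim t default]
      exact hp
    obtain ⟨w, hw⟩ : ∃ w : Spec (CommRingCat.of p.Ω) ⟶ (↑(π ⁻¹ᵁ V) : Scheme.{u}),
        w ≫ (π ⁻¹ᵁ V).ι = p.ξ :=
      ⟨IsOpenImmersion.lift (π ⁻¹ᵁ V).ι p.ξ hrange, IsOpenImmersion.lift_fac _ _ _⟩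
    have m0 : Mono ((EtCoh.stalk w).map e.hom) := inferInstance
    have m1 := mono_stalk_adjunct (π ⁻¹ᵁ V).ι _ _ e.hom w m0
    rw [hw] at m1
    haveI := m1
    have m2 : Mono ((EtCoh.stalk p.ξ).map ψ) := by
      rw [hψ, hψ₀, Functor.map_comp]
      infer_instance
    have m3 := mono_stalk_adjunct π F _ ψ p.ξ m2
    rw [hφ₁]
    exact m3
  refine ⟨_, hFfc, hsupp, biprod.lift φ₁ φ₂, ?_⟩
  refine ((jri_of_surjective π).jointlyReflectMonomorphisms.mono_iff (biprod.lift φ₁ φ₂)).2 ?_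
  intro p
  show Mono ((EtCoh.stalk (p.ξ ≫ π)).map (biprod.lift φ₁ φ₂))
  by_cases hp : p.ξ default ∈ ((π ⁻¹ᵁ V : Un.Opens) : Set Un)
  · haveI := key1 p hp
    have hfac : (EtCoh.stalk (p.ξ ≫ π)).map (biprod.lift φ₁ φ₂) ≫
        (EtCoh.stalk (p.ξ ≫ π)).map biprod.fst = (EtCoh.stalk (p.ξ ≫ π)).map φ₁ := by
      rw [← Functor.map_comp, biprod.lift_fst]
    exact mono_of_mono_fac hfac
  · have hp' : (p.ξ ≫ π) default ∈ Set.range i := by
      rw [hir]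
      exact fun h => hp h
    haveI := S1 (p.ξ ≫ π) hp'
    have hfac : (EtCoh.stalk (p.ξ ≫ π)).map (biprod.lift φ₁ φ₂) ≫
        (EtCoh.stalk (p.ξ ≫ π)).map biprod.snd = (EtCoh.stalk (p.ξ ≫ π)).map φ₂ := by
      rw [← Functor.map_comp, biprod.lift_snd]
    exact mono_of_mono_fac hfac

end sheaf

section ring

theorem finite_diff {A : Type*} [CommRing A] [IsDomain A] [IsNoetherianRing A]
    (hdim : ringKrullDim A ≤ 2) (O T : Set (PrimeSpectrum A))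
    (hO : ∀ p ∈ O, ¬ p.asIdeal.IsMaximal) (hT : IsOpen T) (hTne : T.Nonempty) :
    (O \ T).Finite := by
  obtain ⟨I, hI⟩ := (PrimeSpectrum.isClosed_iff_zeroLocus_ideal _).1 hT.isClosed_compl
  have hIne : I ≠ ⊥ := by
    rintro rfl
    obtain ⟨q, hq⟩ := hTne
    have hq' : q ∈ Tᶜ := by
      rw [hI, PrimeSpectrum.zeroLocus_bot]
      trivial
    exact hq' hq
  have hfin := Ideal.finite_minimalPrimes_of_isNoetherianRing A I
  refine Set.Finite.of_finite_image (f := PrimeSpectrum.asIdeal) (hfin.subset ?_)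
    (fun a _ b _ h => PrimeSpectrum.ext h)
  rintro _ ⟨p, ⟨hpO, hpT⟩, rfl⟩
  have hIp : I ≤ p.asIdeal := by
    have hp' : p ∈ Tᶜ := hpT
    rw [hI] at hp'
    exact SetLike.coe_subset_coe.1 ((PrimeSpectrum.mem_zeroLocus _ _).1 hp')
  obtain ⟨M, hM, hpM⟩ := Ideal.exists_le_maximal p.asIdeal p.2.ne_top
  have hlt : p.asIdeal < M := lt_of_le_of_ne hpM (fun h => hO p hpO (by rw [h]; exact hM))
  haveI := hM.isPrime
  haveI : p.asIdeal.IsPrime := p.2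
  have h1 : p.asIdeal.height + 1 ≤ M.height := Ideal.height_add_one_le_of_lt_of_isPrime hlt
  have h2 : (M.height : WithBot ℕ∞) ≤ 2 := Ideal.height_le_ringKrullDim_of_isPrime.trans hdim
  have h3 : M.height ≤ 2 := WithBot.coe_le_coe.1 h2
  have h4 : p.asIdeal.height ≤ 1 := by
    refine (ENat.add_le_add_iff_right ENat.one_ne_top).1 ?_
    rw [one_add_one_eq_two]
    exact h1.trans h3
  have h5 : 1 ≤ I.height := by
    rw [Order.one_le_iff_ne_zero]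
    intro h0
    exact hIne (Ideal.height_eq_zero_iff_eq_bot.1 h0)
  exact Ideal.mem_minimalPrimes_of_height_le hIp (h4.trans h5)

theorem finite_compl {A : Type u} [CommRing A] [IsDomain A] [IsNoetherianRing A]
    (hdim : ringKrullDim A ≤ 2) (U : (Spec (CommRingCat.of A)).Opens)
    (hU : ∀ x : ↥(Spec (CommRingCat.of A)), x ∈ U →
      ¬ IsClosed ({x} : Set ↥(Spec (CommRingCat.of A))))
    (V : (↑U : Scheme.{u}).Opens) (hV : Nonempty ↥(↑V : Scheme.{u})) :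
    ((V : Set ↥(↑U : Scheme.{u}))ᶜ).Finite := by
  have hopen : IsOpen (U.ι '' (V : Set ↥(↑U : Scheme.{u}))) :=
    U.ι.isOpenEmbedding.isOpenMap _ V.isOpen
  have hne : (U.ι '' (V : Set ↥(↑U : Scheme.{u}))).Nonempty := by
    obtain ⟨v⟩ := hV
    exact ⟨U.ι v.1, v.1, v.2, rfl⟩
  have hfin := finite_diff hdim (U : Set ↥(Spec (CommRingCat.of A)))
    (U.ι '' (V : Set ↥(↑U : Scheme.{u})))
    (fun p hp hmax => hU p hp ((PrimeSpectrum.isClosed_singleton_iff_isMaximal p).2 hmax))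
    hopen hne
  refine Set.Finite.of_finite_image (f := U.ι) (hfin.subset ?_)
    (U.ι.isOpenEmbedding.injective.injOn)
  rintro _ ⟨x, hx, rfl⟩
  refine ⟨?_, ?_⟩
  · have h1 : U.ι x ∈ Set.range U.ι := ⟨x, rfl⟩
    rw [Scheme.Opens.range_ι] at h1
    exact h1
  · rintro ⟨y, hy, hyx⟩
    have h2 := U.ι.isOpenEmbedding.injective hyx
    rw [h2] at hy
    exact hx hy

theorem ring_facts (k : Type u) [Field k] [CharZero k]
    (R₀ : Type u) [CommRing R₀] [IsDomain R₀] [Algebra k R₀]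
    [IsIntegrallyClosed R₀] (hnoeth : IsNoetherianRing R₀) (hdim : ringKrullDim R₀ = 2)
    (K : Type u) [Field K] [Algebra R₀ K] [Algebra (FractionRing R₀) K]
    [IsScalarTower R₀ (FractionRing R₀) K] [FiniteDimensional (FractionRing R₀) K] :
    IsNoetherianRing ↥(integralClosure R₀ K) ∧ ringKrullDim ↥(integralClosure R₀ K) ≤ 2 := by
  haveI := hnoeth
  haveI : CharZero R₀ := charZero_of_injective_algebraMap (algebraMap k R₀).injective
  haveI : CharZero (FractionRing R₀) :=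
    charZero_of_injective_algebraMap (IsFractionRing.injective R₀ (FractionRing R₀))
  refine ⟨integralClosure.isNoetherianRing (A := R₀) (K := FractionRing R₀) (L := K), ?_⟩
  rw [← hdim]
  exact Groth.Agent.Lib.Helper12.ringKrullDim_le_of_isIntegral

end ring

end Helper15.MonoBiprod
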