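import Mathlib

/-!
# Helper library (helper15): locally Noetherian descends along flat surjective open morphisms of schemes
-/

set_option autoImplicit false
universe u
open CategoryTheory CategoryTheory.Limits AlgebraicGeometry Opposite Topology TensorProduct

namespace Groth.Agent.Lib.Helper15

/-- A ring with a faithfully flat Noetherian algebra is Noetherian. -/
theorem isNoetherianRing_of_faithfullyFlat {R A : Type*} [CommRing R] [CommRing A] [Algebra R A]
    [Module.FaithfullyFlat R A] [IsNoetherianRing A] : IsNoetherianRing R := by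
  have h : IsNoetherian A (A ⊗[R] R) :=
    isNoetherian_of_linearEquiv (TensorProduct.AlgebraTensorModule.rid R A A).symm
  exact Submodule.IsNoetherian.of_isNoetherian_tensorProduct_of_faithfullyFlat (R := R) (M := R) (A := A) h

theorem isNoetherianRing_of_ringHom_faithfullyFlat {R A : Type*} [CommRing R] [CommRing A] (φ : R →+* A)
    (hφ : φ.FaithfullyFlat) [IsNoetherianRing A] : IsNoetherianRing R := by
  algebraize [φ]
  exact isNoetherianRing_of_faithfullyFlat (R := R) (A := A)

/-- The target of a flat, surjective, open morphism of schemes with locally Noetherian source is locally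
Noetherian. -/
theorem isLocallyNoetherian_of_flat_of_surjective {U V : Scheme.{u}} (h : U ⟶ V) [Flat h] [Surjective h]
    (hopen : IsOpenMap h) [IsLocallyNoetherian U] : IsLocallyNoetherian V := by
  have key : ∀ v : V, ∃ W : V.affineOpens, v ∈ W.1 ∧ IsNoetherianRing Γ(V, W.1) := by
    intro v
    obtain ⟨u, rfl⟩ := h.surjective v
    obtain ⟨O, hO, huO, -⟩ := exists_isAffineOpen_mem_and_subset (x := h u) (U := ⊤) trivial
    obtain ⟨A, hA, huA, hAO⟩ := exists_isAffineOpen_mem_and_subset (x := u) (U := h ⁻¹ᵁ O) huO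
    let I : V.Opens := ⟨h '' A, hopen _ A.isOpen⟩
    obtain ⟨r, hr1, hr2⟩ := hO.exists_basicOpen_le (V := I) ⟨h u, ⟨u, huA, rfl⟩⟩ huO
    have hW : IsAffineOpen (V.basicOpen r) := hO.basicOpen r
    have hA' : IsAffineOpen (U.basicOpen (h.appLE O A hAO r)) := hA.basicOpen _
    have hbo := Scheme.basicOpen_appLE h A O hAO r
    have hA'W : U.basicOpen (h.appLE O A hAO r) ≤ h ⁻¹ᵁ V.basicOpen r := by
      rw [hbo]; exact inf_le_right
    refine ⟨⟨V.basicOpen r, hW⟩, hr2, ?_⟩
    have hN : IsNoetherianRing Γ(U, U.basicOpen (h.appLE O A hAO r)) :=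
      IsLocallyNoetherian.component_noetherian ⟨_, hA'⟩
    refine isNoetherianRing_of_ringHom_faithfullyFlat
      (h.appLE (V.basicOpen r) (U.basicOpen (h.appLE O A hAO r)) hA'W).hom ?_
    rw [RingHom.FaithfullyFlat.iff_flat_and_comap_surjective]
    refine ⟨h.flat_appLE hW hA' _, ?_⟩
    intro p
    have hp : hW.fromSpec p ∈ (V.basicOpen r : Set V) := by
      rw [← hW.range_fromSpec]; exact ⟨p, rfl⟩
    obtain ⟨a, haA, haw⟩ := hr1 hp
    have haA' : a ∈ (U.basicOpen (h.appLE O A hAO r) : Set U) := by
      rw [hbo]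
      refine ⟨haA, ?_⟩
      show h a ∈ V.basicOpen r
      rw [haw]; exact hp
    rw [← hA'.range_fromSpec] at haA'
    obtain ⟨q, rfl⟩ := haA'
    refine ⟨q, ?_⟩
    have e := IsAffineOpen.SpecMap_appLE_fromSpec h hW hA' hA'W
    have e' := congrArg (fun k => k q) e
    simp only [Scheme.Hom.comp_apply] at e'
    rw [haw] at e'
    exact hW.fromSpec.isOpenEmbedding.injective e'
  choose W hW1 hW2 using key
  refine isLocallyNoetherian_of_affine_cover (S := W) ?_ hW2
  rw [eq_top_iff]
  intro v _
  exact TopologicalSpace.Opens.mem_iSup.2 ⟨v, hW1 v⟩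

end Groth.Agent.Lib.Helper15
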