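import Mathlib
import Groth.Prelude.Def_Disc

/-!
# Flat base change of the Noether different (helper15, for S2197)
-/

set_option autoImplicit false
universe u

namespace Groth.Agent.Lib.Helper15.NoetherDiffBC

open TensorProduct

section general

variable {A A' T T' : Type*} [CommRing A] [CommRing A'] [CommRing T] [CommRing T']
  [Algebra A A'] [Algebra A T] [Algebra A T'] [Algebra A' T'] [IsScalarTower A A' T']

/-- Annihilators of finitely generated ideals commute with flat base change (one inclusion). -/
theorem ann_map_le [Module.Flat A A'] (Φ : T →ₐ[A] T') (hΦ : IsBaseChange A' Φ.toLinearMap)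
    (I : Ideal T) (hI : I.FG) :
    Submodule.annihilator (Ideal.map Φ I) ≤ Ideal.map Φ (Submodule.annihilator I) := by
  classical
  obtain ⟨n, h, hh⟩ := Submodule.fg_iff_exists_fin_generating_family.1 hI
  obtain ⟨G, hG⟩ : ∃ G : T →ₗ[A] (Fin n → T), ∀ t k, G t k = h k * t :=
    ⟨LinearMap.pi (fun k => LinearMap.mulLeft A (h k)), fun t k => rfl⟩
  have hker : ∀ t, t ∈ LinearMap.ker G → t ∈ Submodule.annihilator I := by
    intro t ht
    rw [LinearMap.mem_ker] at ht
    rw [Submodule.mem_annihilator]
    intro y hy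
    rw [← hh] at hy
    refine Submodule.span_induction ?_ ?_ ?_ ?_ hy
    · rintro _ ⟨k, rfl⟩
      have := congrFun ht k
      rw [hG] at this
      rw [smul_eq_mul, mul_comm]; exact this
    · rw [smul_zero]
    · intro x y _ _ hx hy; rw [smul_add, hx, hy, add_zero]
    · intro a x _ hx; rw [smul_comm, hx, smul_zero]
  have hmem : ∀ z : A' ⊗[A] ↥(LinearMap.ker G),
      hΦ.equiv (AlgebraTensorModule.lTensor A' A' (LinearMap.ker G).subtype z) ∈
        Ideal.map Φ (Submodule.annihilator I) := by
    intro z
    induction z using TensorProduct.induction_on with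
    | zero => rw [map_zero, map_zero]; exact Ideal.zero_mem _
    | tmul a' t =>
      rw [AlgebraTensorModule.lTensor_tmul, IsBaseChange.equiv_tmul, Algebra.smul_def]
      exact Ideal.mul_mem_left _ _ (Ideal.mem_map_of_mem Φ (hker t.1 t.2))
    | add z w hz hw => rw [map_add, map_add]; exact Ideal.add_mem _ hz hw
  obtain ⟨ν, hν, hνinj⟩ : ∃ ν : A' ⊗[A] (Fin n → T) →ₗ[A'] (Fin n → T'),
      (∀ (a' : A') (f : Fin n → T) (k : Fin n), ν (a' ⊗ₜ f) k = a' • Φ (f k)) ∧
        Function.Injective ν := by
    refine ⟨(LinearMap.pi fun k => hΦ.equiv.toLinearMap ∘ₗ LinearMap.proj k) ∘ₗ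
      (TensorProduct.piRight A A' A' (fun _ : Fin n => T)).toLinearMap, ?_, ?_⟩
    · intro a' f k
      simp
    · intro y z hyz
      apply (TensorProduct.piRight A A' A' (fun _ : Fin n => T)).injective
      funext k
      apply hΦ.equiv.injective
      exact congrFun hyz k
  have hkey : ∀ z : A' ⊗[A] T,
      ν (AlgebraTensorModule.lTensor A' A' G z) = fun k => Φ (h k) * hΦ.equiv z := by
    intro z
    induction z using TensorProduct.induction_on with
    | zero => funext k; simp
    | tmul a' t =>
      funext k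
      rw [AlgebraTensorModule.lTensor_tmul, hν, hG, map_mul, IsBaseChange.equiv_tmul,
        mul_smul_comm]
      rfl
    | add z w hz hw =>
      rw [map_add, map_add, hz, hw, map_add]; funext k; simp [mul_add]
  intro e' he'
  rw [Submodule.mem_annihilator] at he'
  obtain ⟨x, hx⟩ : ∃ x, hΦ.equiv x = e' := hΦ.equiv.surjective e'
  have hGx : AlgebraTensorModule.lTensor A' A' G x = 0 := by
    apply hνinj
    rw [hkey, hx, map_zero]
    funext k
    have := he' (Φ (h k)) (Ideal.mem_map_of_mem Φ
      (by rw [← hh]; exact Submodule.subset_span ⟨k, rfl⟩))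
    rw [smul_eq_mul, mul_comm] at this
    exact this
  have hxr : x ∈ LinearMap.range
      (AlgebraTensorModule.lTensor A' A' (LinearMap.ker G).subtype) := by
    rw [← Module.Flat.ker_lTensor_eq A' A' G]
    exact hGx
  obtain ⟨z, hz⟩ := hxr
  rw [← hx, ← hz]
  exact hmem z

end general

section pushout

variable {A B A' B' : Type u} [CommRing A] [CommRing B]
    [CommRing A'] [CommRing B'] [Algebra A B] [Algebra A A'] [Algebra A B'] [Algebra B B']
    [Algebra A' B'] [IsScalarTower A B B'] [IsScalarTower A A' B']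

variable (A B A' B') in
/-- The natural map `B ⊗[A] B → B' ⊗[A'] B'`. -/
noncomputable def Phi : B ⊗[A] B →ₐ[A] B' ⊗[A'] B' :=
  Algebra.TensorProduct.lift
    (((Algebra.TensorProduct.includeLeft : B' →ₐ[A'] B' ⊗[A'] B').restrictScalars A).comp
      (IsScalarTower.toAlgHom A B B'))
    (((Algebra.TensorProduct.includeRight : B' →ₐ[A'] B' ⊗[A'] B').restrictScalars A).comp
      (IsScalarTower.toAlgHom A B B'))
    (fun _ _ => Commute.all _ _)

theorem Phi_tmul (b₁ b₂ : B) :
    Phi A B A' B' (b₁ ⊗ₜ b₂) = (algebraMap B B' b₁) ⊗ₜ[A'] (algebraMap B B' b₂) := by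
  unfold Phi
  rw [Algebra.TensorProduct.lift_tmul]
  simp [Algebra.TensorProduct.tmul_mul_tmul]

theorem lmul_Phi (t : B ⊗[A] B) :
    Algebra.TensorProduct.lmul' (S := B') A' (Phi A B A' B' t) =
      algebraMap B B' (Algebra.TensorProduct.lmul' (S := B) A t) := by
  induction t using TensorProduct.induction_on with
  | zero => simp
  | tmul b₁ b₂ => rw [Phi_tmul]; simp
  | add z w hz hw => rw [map_add, map_add, map_add, map_add, hz, hw]

theorem Phi_isBaseChange [Algebra.IsPushout A B A' B'] :
    IsBaseChange A' (Phi A B A' B').toLinearMap := by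
  have hβ : IsBaseChange A' (IsScalarTower.toAlgHom A B B').toLinearMap :=
    (Algebra.IsPushout.symm (inferInstance : Algebra.IsPushout A B A' B')).out
  have h1 := isBaseChange_tensorProduct_map (R := A) (S := A) (P := B) A' hβ
  refine IsBaseChange.of_equiv (h1.equiv ≪≫ₗ
    ((AlgebraTensorModule.cancelBaseChange A A' A' B' B).symm ≪≫ₗ
      AlgebraTensorModule.congr (LinearEquiv.refl A' B') hβ.equiv)) ?_
  intro t
  induction t using TensorProduct.induction_on with
  | zero => simp
  | tmul b₁ b₂ =>
    rw [AlgHom.toLinearMap_apply, Phi_tmul]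
    simp
  | add z w hz hw =>
    rw [TensorProduct.tmul_add, map_add, hz, hw, map_add]

theorem ideal_eq_map [Algebra.IsPushout A B A' B'] :
    KaehlerDifferential.ideal A' B' =
      Ideal.map (Phi A B A' B') (KaehlerDifferential.ideal A B) := by
  have hβ : IsBaseChange A' (IsScalarTower.toAlgHom A B B').toLinearMap :=
    (Algebra.IsPushout.symm (inferInstance : Algebra.IsPushout A B A' B')).out
  apply le_antisymm
  · rw [← KaehlerDifferential.span_range_eq_ideal A' B', Ideal.span_le]
    rintro _ ⟨x, rfl⟩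
    refine hβ.inductionOn x
      (fun x => (1 : B') ⊗ₜ[A'] x - x ⊗ₜ[A'] (1 : B') ∈
        Ideal.map (Phi A B A' B') (KaehlerDifferential.ideal A B)) ?_ ?_ ?_ ?_
    · show (1 : B') ⊗ₜ[A'] (0 : B') - (0 : B') ⊗ₜ[A'] (1 : B') ∈ _
      rw [TensorProduct.tmul_zero, TensorProduct.zero_tmul, sub_zero]
      exact Ideal.zero_mem _
    · intro b
      have h := Ideal.mem_map_of_mem (Phi A B A' B')
        (KaehlerDifferential.one_smul_sub_smul_one_mem_ideal A b)
      rw [map_sub, Phi_tmul, Phi_tmul, map_one] at h
      exact h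
    · intro a' x hx
      show (1 : B') ⊗ₜ[A'] (a' • x) - (a' • x) ⊗ₜ[A'] (1 : B') ∈ _
      have h2 : (1 : B') ⊗ₜ[A'] (a' • x) - (a' • x) ⊗ₜ[A'] (1 : B') =
          algebraMap A' (B' ⊗[A'] B') a' * ((1 : B') ⊗ₜ[A'] x - x ⊗ₜ[A'] (1 : B')) := by
        rw [← Algebra.smul_def, smul_sub, TensorProduct.smul_tmul', TensorProduct.smul_tmul',
          TensorProduct.tmul_smul, TensorProduct.smul_tmul']
      rw [h2]
      exact Ideal.mul_mem_left _ _ hx
    · intro x y hx hy
      show (1 : B') ⊗ₜ[A'] (x + y) - (x + y) ⊗ₜ[A'] (1 : B') ∈ _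
      rw [TensorProduct.tmul_add, TensorProduct.add_tmul, add_sub_add_comm]
      exact Ideal.add_mem _ hx hy
  · rw [Ideal.map_le_iff_le_comap]
    intro t ht
    rw [Ideal.mem_comap, RingHom.mem_ker, lmul_Phi]
    rw [RingHom.mem_ker] at ht
    rw [ht, map_zero]

theorem main [Algebra.IsPushout A B A' B'] [Algebra.FiniteType A B] [Module.Flat A A'] :
    Disc.noetherDifferent A' B' = (Disc.noetherDifferent A B).map (algebraMap B B') := by
  have hΦ := Phi_isBaseChange (A := A) (B := B) (A' := A') (B' := B')
  have hI' := ideal_eq_map (A := A) (B := B) (A' := A') (B' := B')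
  have hsurj : Function.Surjective (Algebra.TensorProduct.lmul' (S := B) A) :=
    fun b => ⟨b ⊗ₜ 1, by simp⟩
  have hsurj' : Function.Surjective (Algebra.TensorProduct.lmul' (S := B') A') :=
    fun b => ⟨b ⊗ₜ 1, by simp⟩
  have hann : ∀ e ∈ Submodule.annihilator (KaehlerDifferential.ideal A B),
      Phi A B A' B' e ∈ Submodule.annihilator (KaehlerDifferential.ideal A' B') := by
    intro e he
    rw [Submodule.mem_annihilator] at he ⊢
    intro y hy
    rw [hI'] at hy
    refine Submodule.span_induction ?_ ?_ ?_ ?_ hy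
    · rintro _ ⟨t, ht, rfl⟩
      have := he t ht
      rw [smul_eq_mul] at this ⊢
      rw [← map_mul, this, map_zero]
    · rw [smul_zero]
    · intro x y _ _ hx hy; rw [smul_add, hx, hy, add_zero]
    · intro a x _ hx; rw [smul_comm, hx, smul_zero]
  unfold Disc.noetherDifferent
  apply le_antisymm
  · intro y hy
    rw [Ideal.mem_map_iff_of_surjective _ hsurj'] at hy
    obtain ⟨e', he', rfl⟩ := hy
    have he'' : e' ∈ Ideal.map (Phi A B A' B')
        (Submodule.annihilator (KaehlerDifferential.ideal A B)) := by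
      apply ann_map_le (Phi A B A' B') hΦ _ (KaehlerDifferential.ideal_fg A B)
      rw [← hI']
      exact he'
    have hle : Ideal.map (Phi A B A' B') (Submodule.annihilator (KaehlerDifferential.ideal A B)) ≤
        Ideal.comap (Algebra.TensorProduct.lmul' (S := B') A')
          (Ideal.map (algebraMap B B') (Ideal.map (Algebra.TensorProduct.lmul' (S := B) A)
            (Submodule.annihilator (KaehlerDifferential.ideal A B)))) := by
      rw [Ideal.map_le_iff_le_comap]
      intro e he
      rw [Ideal.mem_comap, Ideal.mem_comap, lmul_Phi]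
      exact Ideal.mem_map_of_mem (algebraMap B B')
        (Ideal.mem_map_of_mem (Algebra.TensorProduct.lmul' (S := B) A) he)
    exact hle he''
  · rw [Ideal.map_le_iff_le_comap]
    intro d hd
    rw [Ideal.mem_map_iff_of_surjective _ hsurj] at hd
    obtain ⟨e, he, rfl⟩ := hd
    rw [Ideal.mem_comap, ← lmul_Phi (A' := A')]
    exact Ideal.mem_map_of_mem _ (hann e he)

end pushout

end Groth.Agent.Lib.Helper15.NoetherDiffBC
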