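import Mathlib
import Groth.Prelude.Def_W4bk4bump814p2PDiff

/-!
# The filtration `Σ^i` of Kähler differentials by `p^i`-th power differentials
`δ_i(x+y) - δ_i(x) - δ_i(y) = -∑_{j=1}^{i} δ_{i-j}(S_j(x,y))` with `S_j` the Witt addition polynomials
at Teichmüller representatives.
-/

set_option autoImplicit false
universe u v

open MvPolynomial

namespace Groth.Agent.Lib.Helper15.PDiffSigma

section Chain

variable {K : Type*} {A : Type*} {M : Type*} [CommRing K] [CommRing A] [Algebra K A]
  [AddCommGroup M] [Module A M] [Module K M] [IsScalarTower K A M]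

/-- chain rule for evaluation of integer polynomials -/
theorem chain {σ : Type*} [Fintype σ] [DecidableEq σ] (d : Derivation K A M) (g : σ → A)
    (f : MvPolynomial σ ℤ) :
    d (aeval g f) = ∑ b, aeval g (pderiv b f) • d (g b) := by
  induction f using MvPolynomial.induction_on with
  | C c =>
    have h1 : aeval g (C c : MvPolynomial σ ℤ) = ((c : ℤ) : A) := by
      rw [aeval_C, eq_intCast]
    rw [h1, Derivation.map_intCast]
    simp only [pderiv_C, map_zero, zero_smul, Finset.sum_const_zero]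
  | add f₁ f₂ h₁ h₂ =>
    simp only [map_add, add_smul, Finset.sum_add_distrib, h₁, h₂]
  | mul_X f i h =>
    rw [map_mul, aeval_X, Derivation.leibniz, h, Finset.smul_sum]
    have hb : ∀ b, aeval g (pderiv b (f * X i)) • d (g b) =
        (if b = i then aeval g f • d (g i) else 0) +
          g i • (aeval g (pderiv b f) • d (g b)) := by
      intro b
      rw [Derivation.leibniz, pderiv_X]
      by_cases hbi : b = i
      · subst hbi
        simp [add_smul, mul_smul]
      · simp [Pi.single_eq_of_ne (Ne.symm hbi), hbi, mul_smul]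
    rw [Finset.sum_congr rfl fun b _ => hb b, Finset.sum_add_distrib,
      Finset.sum_ite_eq' Finset.univ i, if_pos (Finset.mem_univ i)]

end Chain

section Witt

variable (p : ℕ) [hp : Fact p.Prime]

/-- substitution `(b, k) ↦ X b` if `k = 0`, else `0` (Teichmüller representatives) -/
noncomputable def gsub : Fin 2 × ℕ → MvPolynomial (Fin 2) ℤ :=
  fun bk => if bk.2 = 0 then X bk.1 else 0

/-- the Witt addition polynomials at Teichmüller representatives -/
noncomputable def S (j : ℕ) : MvPolynomial (Fin 2) ℤ := aeval gsub (WittVector.wittAdd p j)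

theorem S_zero : S p 0 = X 0 + X 1 := by
  rw [S, WittVector.wittAdd_zero, map_add, aeval_X, aeval_X]
  simp [gsub]

theorem ghost (n : ℕ) :
    ∑ i ∈ Finset.range (n + 1), (p : MvPolynomial (Fin 2) ℤ) ^ i * (S p i) ^ p ^ (n - i) =
      ∑ c : Fin 2, X c ^ p ^ n := by
  have h := congrArg (aeval gsub)
    (wittStructureInt_prop p (X 0 + X 1 : MvPolynomial (Fin 2) ℤ) n)
  rw [aeval_bind₁, aeval_wittPolynomial, map_add, bind₁_X_right, bind₁_X_right, map_add,
    aeval_rename, aeval_rename, aeval_wittPolynomial, aeval_wittPolynomial] at h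
  have key : ∀ b : Fin 2, ∑ i ∈ Finset.range (n + 1),
      (p : MvPolynomial (Fin 2) ℤ) ^ i * ((gsub ∘ Prod.mk b) i) ^ p ^ (n - i) = X b ^ p ^ n := by
    intro b
    rw [Finset.sum_eq_single 0]
    · simp [gsub]
    · intro i _ hi
      have : (gsub ∘ Prod.mk b) i = 0 := by simp [gsub, hi]
      rw [this, zero_pow (pow_ne_zero _ hp.out.ne_zero), mul_zero]
    · intro h0
      exact absurd (Finset.mem_range.mpr (Nat.succ_pos n)) h0
  rw [key 0, key 1] at h
  rw [Fin.sum_univ_two]
  exact h

theorem ghost_pderiv (n : ℕ) (b : Fin 2) :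
    ∑ i ∈ Finset.range (n + 1), (S p i) ^ (p ^ (n - i) - 1) * pderiv b (S p i) =
      X b ^ (p ^ n - 1) := by
  have hpn : (p : MvPolynomial (Fin 2) ℤ) ^ n ≠ 0 :=
    pow_ne_zero _ (by exact_mod_cast hp.out.ne_zero)
  apply mul_left_cancel₀ hpn
  have h := congrArg (pderiv b) (ghost p n)
  rw [map_sum, map_sum] at h
  have hterm : ∀ i ∈ Finset.range (n + 1),
      pderiv b ((p : MvPolynomial (Fin 2) ℤ) ^ i * (S p i) ^ p ^ (n - i)) =
      (p : MvPolynomial (Fin 2) ℤ) ^ n *
        ((S p i) ^ (p ^ (n - i) - 1) * pderiv b (S p i)) := by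
    intro i hi
    have hi' : i ≤ n := Nat.lt_succ_iff.mp (Finset.mem_range.mp hi)
    rw [Derivation.leibniz, Derivation.leibniz_pow, Derivation.leibniz_pow,
      Derivation.map_natCast]
    simp only [smul_zero, add_zero, smul_eq_mul, nsmul_eq_mul, Nat.cast_pow, mul_zero]
    rw [← mul_assoc, ← pow_add, Nat.add_sub_cancel' hi']
  have hX : ∀ c : Fin 2, pderiv b (X c ^ p ^ n : MvPolynomial (Fin 2) ℤ) =
      (p : MvPolynomial (Fin 2) ℤ) ^ n * (X c ^ (p ^ n - 1) *
        Pi.single (M := fun _ => MvPolynomial (Fin 2) ℤ) b 1 c) := by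
    intro c
    rw [Derivation.leibniz_pow, pderiv_X, nsmul_eq_mul, smul_eq_mul, Nat.cast_pow]
  rw [Finset.sum_congr rfl hterm, Finset.sum_congr rfl fun c _ => hX c, ← Finset.mul_sum,
    ← Finset.mul_sum] at h
  rw [h]
  congr 1
  simp [Pi.single_apply]

end Witt

section Delta

open W4bk4bump814p2

variable (K : Type u) (A : Type v) [CommRing K] [CommRing A] [Algebra K A] (p : ℕ)

theorem delta_zero (i : ℕ) : delta K A p i 0 = 0 := by
  rw [delta, map_zero, smul_zero]

/-- the additive subgroup generated by the `δ_j(x)`, `j < i` -/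
noncomputable def G (i : ℕ) : AddSubgroup (Ω[A⁄K]) :=
  AddSubgroup.closure (⋃ j ∈ Finset.range i, Set.range (delta K A p j))

theorem delta_mem_G {i j : ℕ} (hj : j < i) (x : A) : delta K A p j x ∈ G K A p i :=
  AddSubgroup.subset_closure (Set.mem_iUnion₂.mpr ⟨j, Finset.mem_range.mpr hj, x, rfl⟩)

theorem G_mono {i j : ℕ} (h : i ≤ j) : G K A p i ≤ G K A p j :=
  AddSubgroup.closure_mono (fun ω hω => by
    obtain ⟨k, hk, hx⟩ := Set.mem_iUnion₂.mp hω
    exact Set.mem_iUnion₂.mpr
      ⟨k, Finset.mem_range.mpr (lt_of_lt_of_le (Finset.mem_range.mp hk) h), hx⟩)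

variable [hp : Fact p.Prime]

theorem delta_formula (n : ℕ) (a b : A) :
    ∑ j ∈ Finset.range (n + 1), delta K A p (n - j) (aeval ![a, b] (S p j)) =
      delta K A p n a + delta K A p n b := by
  have hterm : ∀ j, delta K A p (n - j) (aeval ![a, b] (S p j)) =
      ∑ c : Fin 2, aeval ![a, b] ((S p j) ^ (p ^ (n - j) - 1) * pderiv c (S p j)) •
        KaehlerDifferential.D K A (![a, b] c) := by
    intro j
    rw [delta, chain (KaehlerDifferential.D K A) ![a, b] (S p j), Finset.smul_sum]
    refine Finset.sum_congr rfl fun c _ => ?_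
    rw [smul_smul, map_mul, map_pow]
  rw [Finset.sum_congr rfl fun j _ => hterm j, Finset.sum_comm]
  have h2 : ∀ c : Fin 2, ∑ j ∈ Finset.range (n + 1),
      aeval ![a, b] ((S p j) ^ (p ^ (n - j) - 1) * pderiv c (S p j)) •
        KaehlerDifferential.D K A (![a, b] c) =
      (![a, b] c) ^ (p ^ n - 1) • KaehlerDifferential.D K A (![a, b] c) := by
    intro c
    rw [← Finset.sum_smul, ← map_sum, ghost_pderiv, map_pow, aeval_X]
  rw [Finset.sum_congr rfl fun c _ => h2 c, Fin.sum_univ_two]
  rfl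

theorem defect_mem_G (i : ℕ) (x y : A) :
    delta K A p i (x + y) - delta K A p i x - delta K A p i y ∈ G K A p i := by
  have h := delta_formula K A p i x y
  rw [Finset.sum_range_succ', Nat.sub_zero, S_zero] at h
  have h0 : aeval ![x, y] (X 0 + X 1 : MvPolynomial (Fin 2) ℤ) = x + y := by
    simp
  rw [h0] at h
  have e : delta K A p i (x + y) - delta K A p i x - delta K A p i y =
      -∑ j ∈ Finset.range i, delta K A p (i - (j + 1)) (aeval ![x, y] (S p (j + 1))) := by
    rw [sub_sub, ← h]; abel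
  rw [e]
  refine neg_mem (sum_mem fun j hj => delta_mem_G K A p ?_ _)
  have := Finset.mem_range.mp hj
  omega

theorem sigma_eq_G (i : ℕ) : sigma K A p i = (G K A p i : Set (Ω[A⁄K])) := by
  induction i with
  | zero =>
    have : G K A p 0 = ⊥ := by
      rw [G]; simp
    rw [sigma_zero, this, AddSubgroup.coe_bot]
  | succ i ih =>
    ext ω
    rw [mem_sigma_succ, ih]
    simp only [SetLike.mem_coe]
    constructor
    · rintro ⟨x, hx⟩
      have h1 : ω = delta K A p i x + (ω - delta K A p i x) := by abel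
      rw [h1]
      exact add_mem (delta_mem_G K A p (Nat.lt_succ_self i) x) (G_mono K A p (Nat.le_succ i) hx)
    · intro hω
      refine AddSubgroup.closure_induction
        (p := fun ω _ => ∃ x, ω - delta K A p i x ∈ G K A p i) ?_ ?_ ?_ ?_ hω
      · intro ω' hω'
        obtain ⟨j, hj, a, rfl⟩ := Set.mem_iUnion₂.mp hω'
        rcases Nat.lt_succ_iff_lt_or_eq.mp (Finset.mem_range.mp hj) with hlt | rfl
        · exact ⟨0, by rw [delta_zero, sub_zero]; exact delta_mem_G K A p hlt a⟩
        · exact ⟨a, by rw [sub_self]; exact zero_mem _⟩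
      · exact ⟨0, by rw [delta_zero, sub_zero]; exact zero_mem _⟩
      · rintro ω₁ ω₂ _ _ ⟨x₁, h₁⟩ ⟨x₂, h₂⟩
        refine ⟨x₁ + x₂, ?_⟩
        have e : ω₁ + ω₂ - delta K A p i (x₁ + x₂) =
            (ω₁ - delta K A p i x₁) + (ω₂ - delta K A p i x₂) -
              (delta K A p i (x₁ + x₂) - delta K A p i x₁ - delta K A p i x₂) := by abel
        rw [e]
        exact sub_mem (add_mem h₁ h₂) (defect_mem_G K A p i x₁ x₂)
      · rintro ω₁ _ ⟨x₁, h₁⟩
        refine ⟨-x₁, ?_⟩
        have hd := defect_mem_G K A p i x₁ (-x₁)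
        rw [add_neg_cancel, delta_zero, zero_sub] at hd
        have e : -ω₁ - delta K A p i (-x₁) =
            -(ω₁ - delta K A p i x₁) + (-delta K A p i x₁ - delta K A p i (-x₁)) := by abel
        rw [e]
        exact add_mem (neg_mem h₁) hd

theorem pow_smul_delta [CharP K p] {i j : ℕ} (hj : j < i) (x a : A) :
    (x ^ p ^ i) • delta K A p j a = delta K A p j (x ^ p ^ (i - j) * a) := by
  have hm : p ^ j - 1 + 1 = p ^ j := Nat.sub_add_cancel (Nat.one_le_pow _ _ hp.out.pos)
  have hD : KaehlerDifferential.D K A (x ^ p ^ (i - j)) = 0 := by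
    rw [Derivation.leibniz_pow]
    have : ((p ^ (i - j) : ℕ) : K) = 0 := by
      rw [Nat.cast_pow, CharP.cast_eq_zero K p, zero_pow (Nat.sub_ne_zero_of_lt hj)]
    rw [← Nat.cast_smul_eq_nsmul K, this, zero_smul]
  have hz : (x ^ p ^ (i - j)) ^ (p ^ j - 1) * x ^ p ^ (i - j) = x ^ p ^ i := by
    rw [← pow_succ, hm, ← pow_mul, ← pow_add, Nat.sub_add_cancel hj.le]
  rw [delta, delta, Derivation.leibniz, hD, smul_zero, add_zero, smul_smul, smul_smul]
  congr 1
  rw [mul_pow, mul_right_comm, hz]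

theorem pow_smul_mem_G [CharP K p] (i : ℕ) (x : A) {ω : Ω[A⁄K]} (hω : ω ∈ G K A p i) :
    (x ^ p ^ i) • ω ∈ G K A p i := by
  refine AddSubgroup.closure_induction
    (p := fun ω _ => (x ^ p ^ i) • ω ∈ G K A p i) ?_ ?_ ?_ ?_ hω
  · intro ω' hω'
    obtain ⟨j, hj, a, rfl⟩ := Set.mem_iUnion₂.mp hω'
    have hj' := Finset.mem_range.mp hj
    show (x ^ p ^ i) • delta K A p j a ∈ _
    rw [pow_smul_delta K A p hj']
    exact delta_mem_G K A p hj' _
  · rw [smul_zero]; exact zero_mem _
  · intro y z _ _ hy hz; rw [smul_add]; exact add_mem hy hz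
  · intro y _ hy; rw [smul_neg]; exact neg_mem hy

end Delta

section Perfect

open W4bk4bump814p2

variable (K : Type u) (A : Type v) [Field K] [PerfectField K] [CommRing A] [Algebra K A] (p : ℕ)
  [hp : Fact p.Prime] [CharP K p]

theorem delta_smul (j : ℕ) (b : K) (a : A) :
    delta K A p j (b • a) = (b ^ p ^ j) • delta K A p j a := by
  have hm : p ^ j - 1 + 1 = p ^ j := Nat.sub_add_cancel (Nat.one_le_pow _ _ hp.out.pos)
  rw [delta, delta, smul_pow, Derivation.map_smul, smul_assoc, smul_comm (a ^ (p ^ j - 1)) b, smul_smul,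
    ← pow_succ, hm]

theorem smul_mem_G (i : ℕ) (c : K) {ω : Ω[A⁄K]} (hω : ω ∈ G K A p i) : c • ω ∈ G K A p i := by
  have : ExpChar K p := ExpChar.prime hp.out
  refine AddSubgroup.closure_induction
    (p := fun ω _ => c • ω ∈ G K A p i) ?_ ?_ ?_ ?_ hω
  · intro ω' hω'
    obtain ⟨j, hj, a, rfl⟩ := Set.mem_iUnion₂.mp hω'
    obtain ⟨b, hb⟩ := (iterateFrobeniusEquiv K p j).surjective c
    rw [iterateFrobeniusEquiv_def] at hb
    show c • delta K A p j a ∈ _
    rw [← hb, ← delta_smul]
    exact delta_mem_G K A p (Finset.mem_range.mp hj) _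
  · rw [smul_zero]; exact zero_mem _
  · intro x y _ _ hx hy; rw [smul_add]; exact add_mem hx hy
  · intro x _ hx; rw [smul_neg]; exact neg_mem hx

end Perfect

end Groth.Agent.Lib.Helper15.PDiffSigma
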