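import Groth.Prelude.Def_AlgSpRep

/-!
# Helper library (helper15): the sheaf condition for presheaves on `Over S` in terms of maps out of `h_T`
-/

set_option autoImplicit false
universe u
open CategoryTheory CategoryTheory.Limits AlgebraicGeometry Opposite

namespace Groth.Agent.Lib.Helper15

open AlgSp

variable {S : Scheme.{u}}

/-- The sheaf condition for one sieve, in terms of maps out of representable presheaves. -/
def PyonSheafFor (P : PSp S) {T : Over S} (R : Sieve T) : Prop :=
  ∀ (x : ∀ ⦃T' : Over S⦄ (f : T' ⟶ T), R f → ((pyon S).obj T' ⟶ P)),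
    (∀ ⦃T' T'' : Over S⦄ (f : T' ⟶ T) (g : T'' ⟶ T') (hf : R f),
      x (g ≫ f) (R.downward_closed hf g) = (pyon S).map g ≫ x f hf) →
    ∃! z : (pyon S).obj T ⟶ P, ∀ ⦃T' : Over S⦄ (f : T' ⟶ T) (hf : R f), (pyon S).map f ≫ z = x f hf

theorem isSheafFor_iff_pyonSheafFor (P : PSp S) {T : Over S} (R : Sieve T) :
    Presieve.IsSheafFor P R.arrows ↔ PyonSheafFor P R := by
  constructor
  · intro h x hx
    let x' : Presieve.FamilyOfElements P R.arrows := fun T' f hf => uliftYonedaEquiv (x f hf)
    have hx' : x'.Compatible := by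
      rw [Presieve.compatible_iff_sieveCompatible]
      intro T' T'' f g hf
      change uliftYonedaEquiv (x (g ≫ f) _) = P.map g.op (uliftYonedaEquiv (x f hf))
      rw [uliftYonedaEquiv_naturality, hx f g hf]
      rfl
    obtain ⟨t, ht, htu⟩ := h x' hx'
    refine ⟨uliftYonedaEquiv.symm t, ?_, ?_⟩
    · intro T' f hf
      have := ht f hf
      change (pyon S).map f.op.unop ≫ _ = _
      rw [← uliftYonedaEquiv_symm_map, this]
      exact Equiv.symm_apply_apply _ _
    · intro z' hz'
      have : uliftYonedaEquiv z' = t := by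
        apply htu
        intro T' f hf
        change P.map f.op (uliftYonedaEquiv z') = uliftYonedaEquiv (x f hf)
        rw [uliftYonedaEquiv_naturality]
        exact congrArg _ (hz' f hf)
      rw [← this, Equiv.symm_apply_apply]
  · intro h x' hx'
    rw [Presieve.compatible_iff_sieveCompatible] at hx'
    obtain ⟨z, hz, hzu⟩ := h (fun T' f hf => uliftYonedaEquiv.symm (x' f hf)) (by
      intro T' T'' f g hf
      change _ = (pyon S).map g.op.unop ≫ _
      rw [← uliftYonedaEquiv_symm_map, hx' f g hf])
    refine ⟨uliftYonedaEquiv z, ?_, ?_⟩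
    · intro T' f hf
      change P.map f.op (uliftYonedaEquiv z) = x' f hf
      rw [uliftYonedaEquiv_naturality]
      have := hz f hf
      change (pyon S).map f ≫ z = _ at this
      change uliftYonedaEquiv ((pyon S).map f ≫ z) = _
      rw [this, Equiv.apply_symm_apply]
    · intro t' ht'
      have : uliftYonedaEquiv.symm t' = z := by
        apply hzu
        intro T' f hf
        change (pyon S).map f.op.unop ≫ _ = _
        rw [← uliftYonedaEquiv_symm_map, ht' f hf]
      rw [← this, Equiv.apply_symm_apply]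

theorem isSheaf_iff_pyonSheafFor (P : PSp S) :
    Presheaf.IsSheaf (J S) P ↔ ∀ (T : Over S) (R : Sieve T), R ∈ J S T → PyonSheafFor P R := by
  rw [isSheaf_iff_isSheaf_of_type]
  constructor
  · intro h T R hR
    exact (isSheafFor_iff_pyonSheafFor P R).1 (h R hR)
  · intro h T R hR
    exact (isSheafFor_iff_pyonSheafFor P R).2 (h T R hR)

/-- The Yoneda bijection for presheaves on `Over S`, with universes fixed. -/
noncomputable abbrev ye {T : Over S} {P : PSp S} : ((pyon S).obj T ⟶ P) ≃ P.obj (op T) :=
  uliftYonedaEquiv.{u + 1}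

theorem ye_comp {T : Over S} {P Q : PSp S} (α : (pyon S).obj T ⟶ P) (β : P ⟶ Q) :
    ye (α ≫ β) = β.app _ (ye α) := uliftYonedaEquiv_comp α β

theorem ye_symm_comp {T : Over S} {P Q : PSp S} (x : P.obj (op T)) (β : P ⟶ Q) :
    ye.symm x ≫ β = ye.symm (β.app _ x) := uliftYonedaEquiv_symm_comp x β

/-- A commutative square of presheaves on `Over S` is cartesian as soon as it is so on points with values in
representable presheaves. -/
theorem isPullback_of_pyon {P X Y Z : PSp S} {fst : P ⟶ X} {snd : P ⟶ Y} {f : X ⟶ Z} {g : Y ⟶ Z}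
    (w : fst ≫ f = snd ≫ g)
    (h : ∀ (T : Over S) (x : (pyon S).obj T ⟶ X) (y : (pyon S).obj T ⟶ Y), x ≫ f = y ≫ g →
      ∃! p : (pyon S).obj T ⟶ P, p ≫ fst = x ∧ p ≫ snd = y) :
    IsPullback fst snd f g := by
  let c : P ⟶ pullback f g := pullback.lift fst snd w
  have hc : IsIso c := by
    have : ∀ T, IsIso (c.app T) := by
      intro T
      obtain ⟨T⟩ := T
      rw [isIso_iff_bijective]
      constructor
      · intro p₁ p₂ h12
        have h1 : ye.symm p₁ ≫ c = ye.symm p₂ ≫ c := by
          rw [ye_symm_comp, ye_symm_comp, h12]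
        have hf : ye.symm p₁ ≫ fst = ye.symm p₂ ≫ fst := by
          have := congrArg (· ≫ pullback.fst f g) h1
          simpa only [c, Category.assoc, pullback.lift_fst] using this
        have hs : ye.symm p₁ ≫ snd = ye.symm p₂ ≫ snd := by
          have := congrArg (· ≫ pullback.snd f g) h1
          simpa only [c, Category.assoc, pullback.lift_snd] using this
        obtain ⟨p, -, hpu⟩ := h T (ye.symm p₁ ≫ fst) (ye.symm p₁ ≫ snd)
          (by rw [Category.assoc, Category.assoc, w])
        have e1 := hpu (ye.symm p₁) ⟨rfl, rfl⟩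
        have e2 := hpu (ye.symm p₂) ⟨hf.symm, hs.symm⟩
        exact ye.symm.injective (e1.trans e2.symm)
      · intro q
        obtain ⟨p, ⟨hp1, hp2⟩, -⟩ := h T (ye.symm q ≫ pullback.fst f g)
          (ye.symm q ≫ pullback.snd f g)
          (by rw [Category.assoc, Category.assoc, pullback.condition])
        refine ⟨ye p, ?_⟩
        have : p ≫ c = ye.symm q := by
          apply pullback.hom_ext
          · rw [Category.assoc, pullback.lift_fst, hp1]
          · rw [Category.assoc, pullback.lift_snd, hp2]
        rw [← ye_comp, this, Equiv.apply_symm_apply]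
    exact NatIso.isIso_of_isIso_app c
  exact IsPullback.of_iso_pullback ⟨w⟩ (asIso c) (pullback.lift_fst _ _ _) (pullback.lift_snd _ _ _)

/-- The source of a map of presheaves representable by algebraic spaces into a sheaf is a sheaf. -/
theorem isSheaf_of_repBySp {F G : PSp S} (a : F ⟶ G)
    (ha : RepBySp a) (hG : Presheaf.IsSheaf (J S) G) :
    Presheaf.IsSheaf (J S) F := by
  rw [isSheaf_iff_pyonSheafFor]
  intro T R hR x hx
  -- the image family in `G` glues
  obtain ⟨ξ, hξ, hξu⟩ := (isSheaf_iff_pyonSheafFor G).1 hG T R hR (fun T' f hf => x f hf ≫ a) (by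
    intro T' T'' f g hf
    rw [hx f g hf, Category.assoc])
  have sq : IsPullback (pullback.fst a ξ) (pullback.snd a ξ) a ξ := IsPullback.of_hasPullback a ξ
  obtain ⟨hF', -⟩ := ha ξ (pullback.fst a ξ) (pullback.snd a ξ) sq
  obtain ⟨z, hz, hzu⟩ := (isSheaf_iff_pyonSheafFor (pullback a ξ)).1 hF' T R hR
    (fun T' f hf => pullback.lift (x f hf) ((AlgSp.pyon S).map f) (hξ f hf).symm) (by
      intro T' T'' f g hf
      apply pullback.hom_ext
      · rw [pullback.lift_fst, Category.assoc, pullback.lift_fst, hx f g hf]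
      · rw [pullback.lift_snd, Category.assoc, pullback.lift_snd, Functor.map_comp])
  refine ⟨z ≫ pullback.fst a ξ, ?_, ?_⟩
  · intro T' f hf
    rw [← Category.assoc, hz f hf, pullback.lift_fst]
  · intro x' hx'
    have h1 : x' ≫ a = ξ := by
      apply hξu
      intro T' f hf
      rw [← Category.assoc, hx' f hf]
    have h2 : pullback.lift x' (𝟙 _) (by rw [h1, Category.id_comp]) = z := by
      apply hzu
      intro T' f hf
      apply pullback.hom_ext
      · rw [Category.assoc, pullback.lift_fst, pullback.lift_fst, hx' f hf]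
      · rw [Category.assoc, pullback.lift_snd, pullback.lift_snd, Category.comp_id]
    rw [← h2, pullback.lift_fst]

/-- `RepBySp` is stable under base change. -/
theorem repBySp_of_isPullback {F G F' G' : PSp S} {a : F ⟶ G} {a' : F' ⟶ G'} {f : F' ⟶ F} {g : G' ⟶ G}
    (sq : IsPullback f a' a g) (ha : RepBySp a) : RepBySp a' := by
  intro U ξ F'' fst snd sq'
  exact ha (ξ ≫ g) (fst ≫ f) snd (sq'.paste_horiz sq)

end Groth.Agent.Lib.Helper15
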