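import Mathlib
import Groth.Prelude.Def_ProEtS
import Groth.Agent.Lib.Helper15.EtGlue

/-!
# Helper15: continuity of base change and of `eps` for the small pro-etale sites
-/

set_option autoImplicit false
open CategoryTheory CategoryTheory.Limits AlgebraicGeometry Opposite

namespace Groth.Agent.Lib.Helper15.ProEtCont

universe u

set_option backward.isDefEq.respectTransparency.types false

noncomputable instance preservesFiniteLimits_bcP {X Y : Scheme.{u}} (f : X ⟶ Y) :
    PreservesFiniteLimits (ProEtS.bcP f) := by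
  have h : PreservesFiniteLimits (ProEtS.bcP f ⋙ Scheme.ProEt.forget X) := by
    let e : ProEtS.bcP f ⋙ Scheme.ProEt.forget X ≅ Scheme.ProEt.forget Y ⋙ Over.pullback f :=
      MorphismProperty.Over.pullbackCompForgetIso (P := @WeaklyEtale) (Q := ⊤) f
    exact preservesFiniteLimits_of_natIso e.symm
  exact preservesFiniteLimits_of_reflects_of_preserves (ProEtS.bcP f) (Scheme.ProEt.forget X)

/-- For `g : V ⟶ U` in `Y.ProEt`, the square with corners `V ×_Y X, U ×_Y X, V, U` is cartesian. -/
theorem isPullback_bcP_map {X Y : Scheme.{u}} (f : X ⟶ Y) {U V : Y.ProEt} (g : V ⟶ U) :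
    IsPullback ((ProEtS.bcP f).map g).left
      (pullback.fst V.hom f : ((ProEtS.bcP f).obj V).left ⟶ V.left)
      (pullback.fst U.hom f : ((ProEtS.bcP f).obj U).left ⟶ U.left) g.left := by
  have e1 : ((ProEtS.bcP f).map g).left ≫ pullback.snd U.hom f = pullback.snd V.hom f := by
    dsimp [ProEtS.bcP]
    exact pullback.lift_snd _ _ _
  have e2 : g.left ≫ U.hom = V.hom := Over.w g.hom
  refine IsPullback.of_right (h₁₂ := pullback.snd U.hom f) (v₁₃ := f) (h₂₂ := U.hom) ?_ ?_
    (IsPullback.of_hasPullback U.hom f).flip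
  · exact (congrArg₂ (fun a d => IsPullback a (pullback.fst V.hom f) f d) e1 e2).mpr
      (IsPullback.of_hasPullback V.hom f).flip
  · dsimp [ProEtS.bcP]
    exact pullback.lift_fst _ _ _

instance isStableUnderBaseChange_precoverage (S : Scheme.{u}) :
    (Scheme.ProEt.precoverage S).IsStableUnderBaseChange := by
  unfold Scheme.ProEt.precoverage
  infer_instance

theorem pCont {X Y : Scheme.{u}} (f : X ⟶ Y) : ProEtS.PCont f := by
  refine Functor.isContinuous_toGrothendieck_of_pullbacksPreservedBy (F := ProEtS.bcP f)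
    (Scheme.ProEt.precoverage Y) (Scheme.ProEt.precoverage X) ?_
  intro V R hR
  obtain ⟨ι, Z, g, rfl⟩ := R.exists_eq_ofArrows
  simp only [Scheme.ProEt.precoverage, Precoverage.mem_comap_iff, Presieve.map_ofArrows] at hR ⊢
  exact Precoverage.mem_coverings_of_isPullback _ hR (pullback.fst V.hom f) _
    (fun i => pullback.fst (Z i).hom f) (fun i => isPullback_bcP_map f (g i))


noncomputable instance preservesFiniteLimits_eps (X : Scheme.{u}) :
    PreservesFiniteLimits (ProEtS.eps X) := by
  have h : PreservesFiniteLimits (ProEtS.eps X ⋙ Scheme.ProEt.forget X) := by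
    let e : ProEtS.eps X ⋙ Scheme.ProEt.forget X ≅ Scheme.Etale.forget X := Iso.refl _
    exact preservesFiniteLimits_of_natIso e.symm
  exact preservesFiniteLimits_of_reflects_of_preserves (ProEtS.eps X) (Scheme.ProEt.forget X)

theorem epsCont (X : Scheme.{u}) : ProEtS.EpsCont X := by
  haveI : RepresentablyFlat (ProEtS.eps X) := flat_of_preservesFiniteLimits _
  show (ProEtS.eps X).IsContinuous X.smallEtaleTopology (Scheme.ProEt.topology X)
  rw [Functor.isContinuous_iff_coverPreserving]
  constructor
  intro V S hS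
  rw [EtGlue.mem_iff] at hS
  obtain ⟨ι, Z, g, hSg⟩ := S.exists_eq_ofArrows
  subst hSg
  have hmem : Presieve.ofArrows (fun i => (ProEtS.eps X).obj (Z i))
      (fun i => (ProEtS.eps X).map (g i)) ∈
        Scheme.ProEt.precoverage X ((ProEtS.eps X).obj V) := by
    simp only [Scheme.ProEt.precoverage, Precoverage.mem_comap_iff, Presieve.map_ofArrows]
    apply Scheme.etalePrecoverage_le_proetalePrecoverage
    rw [Scheme.etalePrecoverage, Scheme.ofArrows_mem_precoverage_iff]
    refine ⟨fun v => ?_, fun i => ?_⟩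
    · obtain ⟨Z', g', z, hg', hz⟩ := hS v
      obtain ⟨W, a, b, hb, hab⟩ := hg'
      cases hb with
      | mk i => exact ⟨i, a.left z, by rw [← hz, ← hab]; rfl⟩
    · exact inferInstanceAs (Etale (g i).left)
  refine (Scheme.ProEt.topology X).superset_covering ?_
    (Precoverage.generate_mem_toGrothendieck hmem)
  rintro W f ⟨T, a, b, ⟨i⟩, rfl⟩
  exact ⟨Z i, g i, a, Sieve.ofArrows_mk _ _ i, rfl⟩

end Groth.Agent.Lib.Helper15.ProEtCont
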