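import Mathlib
import Groth.Prelude.Def_ProEtS
import Groth.Prelude.Def_EtShriek2

/-!
# Helper15: restriction along weakly etale monomorphisms on the pro-etale site

Mirror of `Helper13.EtaleRestr` for the small pro-etale sites.
-/

set_option autoImplicit false
open CategoryTheory CategoryTheory.Limits AlgebraicGeometry Opposite

namespace Groth.Agent.Lib.Helper15.ProEtRestr

universe u

variable {U X : Scheme.{u}} (j : U ⟶ X) [hj : WeaklyEtale j]

/-- Composition with a weakly etale `j` is left adjoint to base change along `j`. -/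
noncomputable def adjSitesP : ProEtS.compP j ⊣ ProEtS.bcP j :=
  MorphismProperty.Over.mapPullbackAdj (@WeaklyEtale) ⊤ j hj trivial

variable [ProEtS.JPCont j] [ProEtS.PCont j]

/-- `j^{-1}` (restriction) is left adjoint to `j_*`. -/
noncomputable def restrPushAdjP : ProEtS.restrP j ⊣ ProEtS.pushP j :=
  (adjSitesP j).sheafPushforwardContinuous (E := AddCommGrpCat.{u + 1}) (Scheme.ProEt.topology U)
    (Scheme.ProEt.topology X)

/-- The inverse image along a weakly etale morphism is restriction. -/
noncomputable def pullIsoRestrP : ProEtS.pullP j ≅ ProEtS.restrP j :=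
  (ProEtS.pullPushAdjP j).leftAdjointUniq (restrPushAdjP j)

set_option backward.isDefEq.respectTransparency.types false in
instance full_compP [Mono j] : (ProEtS.compP j).Full where
  map_surjective {V W} g := by
    have e : ((g.left : V.left ⟶ W.left) ≫ W.hom) ≫ j = V.hom ≫ j := by
      rw [Category.assoc]; exact MorphismProperty.Over.w g
    exact ⟨MorphismProperty.Over.homMk g.left ((cancel_mono j).1 e),
      MorphismProperty.Over.Hom.ext rfl⟩

set_option backward.isDefEq.respectTransparency.types false in
instance faithful_compP : (ProEtS.compP j).Faithful where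
  map_injective {_ _} _ _ h :=
    MorphismProperty.Over.Hom.ext (congrArg (fun k => k.left) h :)

section Mono

variable [Mono j]

instance isIso_unit_adjSitesP : IsIso (adjSitesP j).unit := inferInstance

/-- For a monomorphism `j`, `j^{-1} j_* ≅ id`. -/
noncomputable def pushRestrIsoP : ProEtS.pushP j ⋙ ProEtS.restrP j ≅ 𝟭 (ProEtS.AbP U) :=
  letI := Functor.isContinuous_comp (ProEtS.compP j) (ProEtS.bcP j) (Scheme.ProEt.topology U)
    (Scheme.ProEt.topology X) (Scheme.ProEt.topology U)
  Functor.sheafPushforwardContinuousComp (ProEtS.compP j) (ProEtS.bcP j) AddCommGrpCat.{u + 1}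
      (Scheme.ProEt.topology U) (Scheme.ProEt.topology X) (Scheme.ProEt.topology U) ≪≫
    Functor.sheafPushforwardContinuousId' (asIso (adjSitesP j).unit).symm AddCommGrpCat.{u + 1}
      (Scheme.ProEt.topology U)

instance isIso_counit_restrPushP : IsIso (restrPushAdjP j).counit :=
  (restrPushAdjP j).isIso_counit_of_iso (pushRestrIsoP j)

instance pushP_full : (ProEtS.pushP j).Full :=
  ((restrPushAdjP j).fullyFaithfulROfIsIsoCounit).full

instance pushP_faithful : (ProEtS.pushP j).Faithful :=
  ((restrPushAdjP j).fullyFaithfulROfIsIsoCounit).faithful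

instance isIso_counit_pullPushP : IsIso (ProEtS.pullPushAdjP j).counit := inferInstance

instance isIso_unit_extZeroP : IsIso (ProEtS.extZeroPAdj j).unit :=
  (Adjunction.Triple.isIso_unit_iff_isIso_counit
    (⟨ProEtS.extZeroPAdj j, restrPushAdjP j⟩ : Adjunction.Triple _ _ _)).2 inferInstance

end Mono


section Eps

variable {U X : Scheme.{u}} (j : U ⟶ X) [hj : Etale j]

set_option backward.isDefEq.respectTransparency.types false in
/-- The two ways from `U_et` to `X_proet` agree. -/
noncomputable def sitesIso :
    EtShriek.compEtale j ⋙ ProEtS.eps X ≅ ProEtS.eps U ⋙ ProEtS.compP j :=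
  NatIso.ofComponents (fun V => Iso.refl _) (by
    intro V W f
    apply MorphismProperty.Over.Hom.ext
    simp
    rfl)

variable [EtShriek.JCont j] [ProEtS.JPCont j] [ProEtS.EpsCont U] [ProEtS.EpsCont X]

/-- `j_et^{-1} ε_* ≅ ε_* j_proet^{-1}`. -/
noncomputable def rightIso :
    ProEtS.epsPush X ⋙ EtShriek.restrAlong j ≅ ProEtS.restrP j ⋙ ProEtS.epsPush U :=
  letI : (ProEtS.eps U ⋙ ProEtS.compP j).IsContinuous U.smallEtaleTopology
      (Scheme.ProEt.topology X) :=
    Functor.isContinuous_comp _ _ _ (Scheme.ProEt.topology U) _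
  Functor.sheafPushforwardContinuousComp' (F := EtShriek.compEtale j) (G := ProEtS.eps X)
      (FG := ProEtS.eps U ⋙ ProEtS.compP j) (sitesIso j) AddCommGrpCat.{u + 1}
      U.smallEtaleTopology X.smallEtaleTopology (Scheme.ProEt.topology X) ≪≫
    (Functor.sheafPushforwardContinuousComp (ProEtS.eps U) (ProEtS.compP j) AddCommGrpCat.{u + 1}
      U.smallEtaleTopology (Scheme.ProEt.topology U) (Scheme.ProEt.topology X)).symm

/-- `ε^{-1} j_! ≅ j_! ε^{-1}`. -/
noncomputable def leftIso :
    EtShriek.extZero j ⋙ ProEtS.epsPull X ≅ ProEtS.epsPull U ⋙ ProEtS.extZeroP j :=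
  Adjunction.leftAdjointUniq ((EtShriek.extZeroAdj j).comp (ProEtS.epsAdj X))
    (((ProEtS.epsAdj U).comp (ProEtS.extZeroPAdj j)).ofNatIsoRight (rightIso j).symm)

end Eps

end Groth.Agent.Lib.Helper15.ProEtRestr
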