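import Mathlib
import Groth.Prelude
import Groth.Agent.Lib.Helper7.CurveGG
import Groth.Agent.Lib.Helper7.PtSec
import Groth.Agent.Lib.Helper23.PtLin
import Groth.Agent.Lib.Helper23.PtDiv2
import Groth.Agent.Lib.Helper23.DegTensor
import Groth.Agent.Lib.Helper23.CurveD
import Groth.Agent.Lib.Helper26.RegularNormal

/-!
# Regular closed points on a proper integral curve: the ideal sheaf is invertible of degree
`-deg P`; a section vanishing at `P` bounds `deg P` by `deg L`

Sub-lemmas R3 and R5 for S16302.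
-/

set_option autoImplicit false
set_option linter.style.haveILetI false
universe u
open CategoryTheory CategoryTheory.Limits AlgebraicGeometry TopologicalSpace Opposite
open Scheme.Modules
open Groth.Agent.Lib.Helper3 Groth.Agent.Lib.Helper3.QCSec Groth.Agent.Lib.Helper3.InvGen
  Groth.Agent.Lib.Helper3.InvTensor
open Groth.Agent.Lib.Helper23.T2 Groth.Agent.Lib.Helper23.Curve Groth.Agent.Lib.Helper23.EffCart
  Groth.Agent.Lib.Helper23.DegTensor
open Groth.Agent.Lib.Helper7.CurvePair Groth.Agent.Lib.Helper7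

namespace Groth.Agent.Lib.Helper15.PtDegReg

variable (k : Type u) [Field k] {X : Scheme.{u}} [X.Over (Spec (CommRingCat.of k))] [IsIntegral X]
  [IsProper (X ↘ Spec (CommRingCat.of k))]

attribute [local instance] Curv2.resAlgebra

theorem idealMod_point (hdim : topologicalKrullDim X = 1) (P : X) (hPc : IsClosed ({P} : Set X))
    (hPreg : IsRegularLocalRing (X.presheaf.stalk P)) :
    PicF.IsInvertible (ClSub.idealMod (Scheme.IdealSheafData.vanishingIdeal ⟨{P}, hPc⟩)) ∧
    Curv2.deg k X (ClSub.idealMod (Scheme.IdealSheafData.vanishingIdeal ⟨{P}, hPc⟩)) 1 =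
      -(Module.finrank k (Coh.HH X (ClSub.quotMod
        (Scheme.IdealSheafData.vanishingIdeal ⟨{P}, hPc⟩)) 0) : ℤ) ∧
    0 < Module.finrank k (Coh.HH X (ClSub.quotMod
      (Scheme.IdealSheafData.vanishingIdeal ⟨{P}, hPc⟩)) 0) := by
  haveI := isNoetherian_of_isProper k X
  have hn : IsIntegrallyClosed (X.presheaf.stalk P) :=
    Groth.Agent.Lib.Helper26.RegularNormal.isIntegrallyClosed_of_isRegularLocalRing _
  obtain ⟨hInv, hdeg⟩ :=
    Groth.Agent.Lib.Helper23.PtDiv.isInvertible_and_deg_idealMod_point k X hdim P hPc hn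
  set Z := Scheme.IdealSheafData.vanishingIdeal ⟨{P}, hPc⟩ with hZ
  have hsupp : (Z.support : Set X) = {P} := Scheme.IdealSheafData.coe_support_vanishingIdeal _
  refine ⟨hInv, ?_, ?_⟩
  · rw [hdeg, Groth.Agent.Lib.Helper23.PtDiv.finrank_h0_quotMod_point k X P hPc]
  · haveI : Module.Finite k (Coh.HH X (ClSub.quotMod Z) 0) := finite_HH k _ (isCoh_quotMod Z) 0
    haveI : Nontrivial (Coh.HH X (ClSub.quotMod Z) 0) := by
      have hx : P ∈ Set.range Z.subschemeι := by
        rw [Z.range_subschemeι, hsupp]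
        rfl
      obtain ⟨z, hz⟩ := hx
      have h1 : Nontrivial Γ(Z.subscheme, Z.subschemeι ⁻¹ᵁ ⊤) :=
        @Scheme.component_nontrivial Z.subscheme (Z.subschemeι ⁻¹ᵁ ⊤) ⟨⟨z, trivial⟩⟩
      have h2 : Nontrivial (Γm (ClSub.quotMod Z)) := h1
      exact (H0equiv (ClSub.quotMod Z)).toEquiv.nontrivial
    exact Module.finrank_pos

theorem degPoint_le_of_notMem_genLocus (hdim : topologicalKrullDim X = 1) {L : X.Modules}
    (hL : PicF.IsInvertible L) (s : Coh.structureModule X ⟶ L) (hs : s ≠ 0) (Q : X)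
    (hQc : IsClosed ({Q} : Set X)) (hQreg : IsRegularLocalRing (X.presheaf.stalk Q))
    (hQ : Q ∉ CohB1.genLocus L s) :
    (Module.finrank k (Coh.HH X (ClSub.quotMod
      (Scheme.IdealSheafData.vanishingIdeal ⟨{Q}, hQc⟩)) 0) : ℤ) ≤ Curv2.deg k X L 1 := by
  obtain ⟨hI, hdegI, -⟩ := idealMod_point k hdim Q hQc hQreg
  set Z := Scheme.IdealSheafData.vanishingIdeal ⟨{Q}, hQc⟩ with hZ
  have hs' : InvAmple.globalHom L (sec s ⊤) = s :=
    hom_ext_sec _ _ (sec_globalHom_top L _)
  obtain ⟨n, hn'⟩ := Groth.Agent.Lib.Helper7.PtDiv.exists_lift_of_notMem_genLocus Q hQc hL (sec s ⊤) (by rw [hs']; exact hQ)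
  have hne : n ≠ 0 := by
    intro h0
    apply hs
    rw [← hs', ← hn', h0, map_zero]
    exact hom_ext_sec _ _ (by rw [sec_globalHom_top]; rfl)
  have hM : PicF.IsInvertible (CohB1.tensorMod (ClSub.idealMod Z) L) := isInvertible_tensorMod hI hL
  have ht : InvAmple.globalHom (CohB1.tensorMod (ClSub.idealMod Z) L) n ≠ 0 := by
    intro h0
    apply hne
    rw [← sec_globalHom_top (CohB1.tensorMod (ClSub.idealMod Z) L) n, h0]
    rfl
  have h1 := (deg_nonneg_of_section k hdim.le hM _ ht).1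
  have h2 := deg_tw k hdim.le (isFinLocFreeOfRank_one_of_isInvertible hI) hL
  rw [h2, hdegI] at h1
  push_cast at h1
  linarith

end Groth.Agent.Lib.Helper15.PtDegReg
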