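import Mathlib
import Groth.Agent.Lib.Helper21.PthRootO
import Groth.Agent.Lib.Helper8.Hzl.Regular
import Groth.Agent.Lib.Helper7.ArtObsBound

/-!
# Embedding dimension of `A[T_1..T_r]/(T_i^p + p c_i - f_i)`

For a Noetherian local ring `A` with residue characteristic `p` and `p ∈ 𝔪²`, the embedding
dimension of `B = A[T]/(T_i^p + p c_i(T_i) - f_i)` is at least that of `A`, with equality iff the
`1 ⊗ d f_i` are linearly independent in `K ⊗ Ω_{A/ℤ}`.  Built on Helper21's `PthRoot` library.
-/

set_option autoImplicit false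
set_option linter.style.haveILetI false

namespace Groth.Agent.Lib.Helper15.PthEdim

open IsLocalRing Polynomial TensorProduct
open Groth.Agent.Lib.Helper21.PthRoot

universe u

section general

variable {R : Type u} [CommRing R] [IsLocalRing R] [IsNoetherianRing R]

theorem ed_equiv {S : Type u} [CommRing S] [IsLocalRing S] (e : R ≃+* S) :
    (maximalIdeal S).spanFinrank = (maximalIdeal R).spanFinrank :=
  Groth.Agent.Lib.Helper7.ArtObsBound.spanFinrank_maximalIdeal_eq (e : R →+* S) e.surjective
    (by rw [RingHom.ker_coe_equiv]; exact bot_le)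

omit [IsNoetherianRing R] in
theorem isLocalRing_quot (t : R) (ht : t ∈ maximalIdeal R) : IsLocalRing (R ⧸ Ideal.span {t}) := by
  have hne : Ideal.span {t} ≠ ⊤ := by
    intro h
    exact (mem_maximalIdeal t).mp ht (Ideal.span_singleton_eq_top.mp h)
  haveI : Nontrivial (R ⧸ Ideal.span {t}) := Ideal.Quotient.nontrivial_iff.mpr hne
  exact IsLocalRing.of_surjective' (Ideal.Quotient.mk (Ideal.span {t})) Ideal.Quotient.mk_surjective

theorem ed_quot_of_mem_sq (t : R) (ht2 : t ∈ maximalIdeal R ^ 2)
    [IsLocalRing (R ⧸ Ideal.span {t})] :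
    (maximalIdeal (R ⧸ Ideal.span {t})).spanFinrank = (maximalIdeal R).spanFinrank :=
  Groth.Agent.Lib.Helper7.ArtObsBound.spanFinrank_maximalIdeal_eq
    (Ideal.Quotient.mk (Ideal.span {t})) Ideal.Quotient.mk_surjective
    (by rw [Ideal.mk_ker]; exact (Ideal.span_singleton_le_iff_mem _).mpr ht2)

theorem ed_le_quot_add_one (t : R) (ht : t ∈ maximalIdeal R) [IsLocalRing (R ⧸ Ideal.span {t})] :
    (maximalIdeal R).spanFinrank ≤ (maximalIdeal (R ⧸ Ideal.span {t})).spanFinrank + 1 := by
  classical
  have hπs : Function.Surjective (Ideal.Quotient.mk (Ideal.span {t})) :=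
    Ideal.Quotient.mk_surjective
  have hmap : (maximalIdeal R).map (Ideal.Quotient.mk (Ideal.span {t})) =
      maximalIdeal (R ⧸ Ideal.span {t}) := map_maximalIdeal_of_surjective _ hπs
  obtain ⟨s, hs1, hs2⟩ := Submodule.FG.exists_span_finset_card_eq_spanFinrank
    (IsNoetherian.noetherian (maximalIdeal (R ⧸ Ideal.span {t})))
  have hl : ∀ y : R ⧸ Ideal.span {t}, y ∈ s → ∃ x : R, x ∈ maximalIdeal R ∧
      Ideal.Quotient.mk (Ideal.span {t}) x = y := by
    intro y hy
    have hy' : y ∈ maximalIdeal (R ⧸ Ideal.span {t}) := by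
      rw [← hs2]
      exact Submodule.subset_span hy
    rw [← hmap] at hy'
    obtain ⟨x, hx, hxy⟩ := (Ideal.mem_map_iff_of_surjective _ hπs).mp hy'
    exact ⟨x, hx, hxy⟩
  choose! g hg using hl
  have hspan : Ideal.span ((insert t (s.image g) : Finset R) : Set R) = maximalIdeal R := by
    apply le_antisymm
    · rw [Ideal.span_le]
      intro x hx
      rw [Finset.coe_insert, Finset.coe_image] at hx
      rcases hx with rfl | ⟨y, hy, rfl⟩
      · exact ht
      · exact (hg y hy).1
    · intro x hx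
      have h1 : Ideal.Quotient.mk (Ideal.span {t}) x ∈ maximalIdeal (R ⧸ Ideal.span {t}) := by
        rw [← hmap]
        exact Ideal.mem_map_of_mem _ hx
      have h2 : ((s : Set (R ⧸ Ideal.span {t}))) =
          Ideal.Quotient.mk (Ideal.span {t}) '' (g '' (s : Set (R ⧸ Ideal.span {t}))) := by
        ext y
        constructor
        · intro hy
          exact ⟨g y, ⟨y, hy, rfl⟩, (hg y hy).2⟩
        · rintro ⟨_, ⟨y, hy, rfl⟩, rfl⟩
          rw [(hg y hy).2]
          exact hy
      rw [← hs2] at h1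
      have h3 : Ideal.Quotient.mk (Ideal.span {t}) x ∈
          (Ideal.span (g '' (s : Set (R ⧸ Ideal.span {t})))).map
            (Ideal.Quotient.mk (Ideal.span {t})) := by
        rw [Ideal.map_span, ← h2]
        exact h1
      obtain ⟨z, hz, hzx⟩ := (Ideal.mem_map_iff_of_surjective _ hπs).mp h3
      have h4 : x - z ∈ Ideal.span {t} := by
        rw [← Ideal.Quotient.eq_zero_iff_mem, map_sub, hzx, sub_self]
      have h5 : x = z + (x - z) := by ring
      rw [h5]
      apply Ideal.add_mem
      · refine Ideal.span_mono ?_ hz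
        intro w hw
        rw [Finset.coe_insert, Finset.coe_image]
        exact Set.mem_insert_of_mem _ hw
      · refine Ideal.span_mono ?_ h4
        intro w hw
        rw [Set.mem_singleton_iff] at hw
        rw [hw, Finset.coe_insert]
        exact Set.mem_insert _ _
  calc (maximalIdeal R).spanFinrank
      = (Ideal.span ((insert t (s.image g) : Finset R) : Set R)).spanFinrank := by rw [hspan]
    _ ≤ ((insert t (s.image g) : Finset R) : Set R).ncard :=
        Submodule.spanFinrank_span_le_ncard_of_finite (Finset.finite_toSet _)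
    _ = (insert t (s.image g) : Finset R).card := Set.ncard_coe_finset _
    _ ≤ (s.image g).card + 1 := Finset.card_insert_le _ _
    _ ≤ s.card + 1 := Nat.add_le_add_right Finset.card_image_le 1
    _ = (maximalIdeal (R ⧸ Ideal.span {t})).spanFinrank + 1 := by rw [hs1]

theorem ed_quot_add_one_le (t : R) (ht : t ∈ maximalIdeal R) (ht2 : t ∉ maximalIdeal R ^ 2)
    [IsLocalRing (R ⧸ Ideal.span {t})] :
    (maximalIdeal (R ⧸ Ideal.span {t})).spanFinrank + 1 ≤ (maximalIdeal R).spanFinrank := by
  classical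
  have hπs : Function.Surjective (Ideal.Quotient.mk (Ideal.span {t})) :=
    Ideal.Quotient.mk_surjective
  have hmap : (maximalIdeal R).map (Ideal.Quotient.mk (Ideal.span {t})) =
      maximalIdeal (R ⧸ Ideal.span {t}) := map_maximalIdeal_of_surjective _ hπs
  have hv0 : ((maximalIdeal R).toCotangent ⟨t, ht⟩ : CotangentSpace R) ≠ 0 := by
    rw [Ne, Ideal.toCotangent_eq_zero]
    exact ht2
  have hs : LinearIndepOn (ResidueField R)
      (fun a : maximalIdeal R => ((maximalIdeal R).toCotangent a : CotangentSpace R))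
      {(⟨t, ht⟩ : maximalIdeal R)} := LinearIndepOn.singleton hv0
  obtain ⟨b, -, hsb, hspan, hli⟩ := exists_linearIndepOn_extension (K := ResidueField R)
    (s := {(⟨t, ht⟩ : maximalIdeal R)}) (t := Set.univ) hs (Set.subset_univ _)
  have htb : (⟨t, ht⟩ : maximalIdeal R) ∈ b := hsb (Set.mem_singleton _)
  have h2 : Submodule.span (ResidueField R) ((maximalIdeal R).toCotangent '' b) = ⊤ := by
    rw [eq_top_iff]
    intro x _
    obtain ⟨a, rfl⟩ := Ideal.toCotangent_surjective _ x
    exact hspan ⟨a, Set.mem_univ _, rfl⟩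
  rw [CotangentSpace.span_image_eq_top_iff] at h2
  have h4 : Ideal.span (Subtype.val '' b) = maximalIdeal R := by
    apply le_antisymm
    · rw [Ideal.span_le]
      rintro _ ⟨a, -, rfl⟩
      exact a.2
    · intro x hx
      have h3 : (⟨x, hx⟩ : maximalIdeal R) ∈ Submodule.span R b := by
        rw [h2]
        exact Submodule.mem_top
      have := Submodule.apply_mem_span_image_of_mem_span (maximalIdeal R).subtype h3
      exact this
  have hfin : Finite b := hli.finite
  have hbfin : b.Finite := Set.toFinite b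
  have hcard : b.ncard ≤ Module.finrank (ResidueField R) (CotangentSpace R) := by
    have := Fintype.ofFinite b
    have h7 := hli.fintype_card_le_finrank
    rwa [← Nat.card_eq_fintype_card, Nat.card_coe_set_eq] at h7
  have h5 : Ideal.span (Ideal.Quotient.mk (Ideal.span {t}) '' (Subtype.val '' b)) =
      maximalIdeal (R ⧸ Ideal.span {t}) := by
    rw [← Ideal.map_span, h4]
    exact hmap
  have hQ : Ideal.span (Ideal.Quotient.mk (Ideal.span {t}) ''
      (Subtype.val '' (b \ {(⟨t, ht⟩ : maximalIdeal R)}))) =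
      maximalIdeal (R ⧸ Ideal.span {t}) := by
    rw [← h5]
    apply le_antisymm
    · apply Ideal.span_mono
      exact Set.image_mono (Set.image_mono Set.diff_subset)
    · rw [Ideal.span_le]
      rintro _ ⟨_, ⟨a, ha, rfl⟩, rfl⟩
      by_cases hat : a = ⟨t, ht⟩
      · have h0 : Ideal.Quotient.mk (Ideal.span {t}) (a : R) = 0 := by
          rw [hat]
          exact Ideal.Quotient.eq_zero_iff_mem.mpr (Ideal.mem_span_singleton_self t)
        rw [h0]
        exact Ideal.zero_mem _
      · exact Ideal.subset_span ⟨a.1, ⟨a, ⟨ha, hat⟩, rfl⟩, rfl⟩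
  have hb'fin : (b \ {(⟨t, ht⟩ : maximalIdeal R)}).Finite := hbfin.subset Set.diff_subset
  calc (maximalIdeal (R ⧸ Ideal.span {t})).spanFinrank + 1
      = (Ideal.span (Ideal.Quotient.mk (Ideal.span {t}) ''
          (Subtype.val '' (b \ {(⟨t, ht⟩ : maximalIdeal R)})))).spanFinrank + 1 := by rw [hQ]
    _ ≤ (Ideal.Quotient.mk (Ideal.span {t}) ''
          (Subtype.val '' (b \ {(⟨t, ht⟩ : maximalIdeal R)}))).ncard + 1 :=
        Nat.add_le_add_right
          (Submodule.spanFinrank_span_le_ncard_of_finite ((hb'fin.image _).image _)) 1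
    _ ≤ (b \ {(⟨t, ht⟩ : maximalIdeal R)}).ncard + 1 :=
        Nat.add_le_add_right
          (le_trans (Set.ncard_image_le (hb'fin.image _)) (Set.ncard_image_le hb'fin)) 1
    _ = b.ncard := Set.ncard_sdiff_singleton_add_one htb hbfin
    _ ≤ Module.finrank (ResidueField R) (CotangentSpace R) := hcard
    _ = (maximalIdeal R).spanFinrank :=
        (spanFinrank_maximalIdeal_eq_finrank_cotangentSpace R).symm

end general

section step

variable {A : Type u} [CommRing A] [IsLocalRing A] [IsNoetherianRing A] {p : ℕ}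
  [hp : Fact p.Prime] [CharP (ResidueField A) p] {c : A[X]} (hc : c.natDegree < p) (f : A)

theorem map_maximalIdeal_of_not_pow [IsLocalRing (AdjoinRoot (FF p c f))]
    (hnp : ∀ g : ResidueField A, g ^ p ≠ residue A f) :
    (maximalIdeal A).map (algebraMap A (AdjoinRoot (FF p c f))) =
      maximalIdeal (AdjoinRoot (FF p c f)) := by
  let K := ResidueField A
  have hirr : Irreducible (X ^ p - C (residue A f) : K[X]) :=
    X_pow_sub_C_irreducible_of_prime hp.out hnp
  let e := AdjoinRoot.quotEquivQuotMap (FF p c f) (maximalIdeal A)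
  have hmaxK : (Ideal.span {(X ^ p - C (residue A f) : K[X])}).IsMaximal :=
    PrincipalIdealRing.isMaximal_of_irreducible hirr
  have hfield : IsField ((A ⧸ maximalIdeal A)[X] ⧸
      Ideal.span {(FF p c f).map (Ideal.Quotient.mk (maximalIdeal A))}) := by
    have h := (Ideal.Quotient.maximal_ideal_iff_isField_quotient _).mp hmaxK
    rw [← FF_map_residue (c := c) f] at h
    exact h
  have hfield' : IsField (AdjoinRoot (FF p c f) ⧸
      (maximalIdeal A).map (AdjoinRoot.of (FF p c f))) :=
    e.toRingEquiv.toMulEquiv.isField hfield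
  have hmax' := Ideal.Quotient.maximal_of_isField _ hfield'
  rw [AdjoinRoot.algebraMap_eq]
  exact eq_maximalIdeal hmax'

include hc in
theorem step_notPow [IsLocalRing (AdjoinRoot (FF p c f))]
    (hnp : ∀ g : ResidueField A, g ^ p ≠ residue A f) :
    (maximalIdeal (AdjoinRoot (FF p c f))).spanFinrank = (maximalIdeal A).spanFinrank := by
  haveI := isLocalHom_of hc f
  haveI := free_adjoinRoot hc f
  haveI := finite_adjoinRoot hc f
  haveI : IsNoetherianRing (AdjoinRoot (FF p c f)) := Algebra.FiniteType.isNoetherianRing A _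
  exact Groth.Agent.Lib.Helper8.Hzl.spanFinrank_maximalIdeal_eq_of_flat
    (map_maximalIdeal_of_not_pow f hnp)

theorem sub_mem_max (g : A) (hg : residue A g ^ p = residue A f)
    [IsLocalRing (AdjoinRoot (FF p c f))] :
    AdjoinRoot.root (FF p c f) - AdjoinRoot.of (FF p c f) g ∈
      maximalIdeal (AdjoinRoot (FF p c f)) := by
  rw [mem_maximalIdeal, mem_nonunits_iff]
  intro hu
  have h1 : Ideal.span {AdjoinRoot.root (FF p c f) - AdjoinRoot.of (FF p c f) g} = ⊤ :=
    Ideal.span_singleton_eq_top.mpr hu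
  have h2 : Subsingleton (AdjoinRoot (FF p c f) ⧸
      Ideal.span {AdjoinRoot.root (FF p c f) - AdjoinRoot.of (FF p c f) g}) :=
    Ideal.Quotient.subsingleton_iff.mpr h1
  have h3 : Subsingleton (A ⧸ Ideal.span {(FF p c f).eval g}) :=
    (quotEquiv (FF p c f) g).symm.toEquiv.subsingleton
  have h4 : Ideal.span {(FF p c f).eval g} = ⊤ := Ideal.Quotient.subsingleton_iff.mp h3
  have h5 : IsUnit ((FF p c f).eval g) := Ideal.span_singleton_eq_top.mp h4
  exact (mem_maximalIdeal _).mp (eval_mem (c := c) f g hg) h5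

include hc in
theorem step_pow [IsLocalRing (AdjoinRoot (FF p c f))] (g : A)
    (hg : residue A g ^ p = residue A f) :
    ((FF p c f).eval g ∈ maximalIdeal A ^ 2 →
      (maximalIdeal (AdjoinRoot (FF p c f))).spanFinrank = (maximalIdeal A).spanFinrank + 1) ∧
    ((FF p c f).eval g ∉ maximalIdeal A ^ 2 →
      (maximalIdeal (AdjoinRoot (FF p c f))).spanFinrank = (maximalIdeal A).spanFinrank) := by
  haveI := finite_adjoinRoot hc f
  haveI : IsNoetherianRing (AdjoinRoot (FF p c f)) := Algebra.FiniteType.isNoetherianRing A _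
  have he := eval_mem (c := c) f g hg
  have hs := sub_mem_max (c := c) f g hg
  have hs2 := sub_notMem_sq (c := c) f g hg
  haveI l1 := isLocalRing_quot _ hs
  haveI l2 := isLocalRing_quot _ he
  have e1 := ed_le_quot_add_one _ hs
  have e2 := ed_quot_add_one_le _ hs hs2
  have e3 := ed_equiv (quotEquiv (FF p c f) g)
  constructor
  · intro h
    have e4 := ed_quot_of_mem_sq _ h
    omega
  · intro h
    have e4 := ed_le_quot_add_one _ he
    have e5 := ed_quot_add_one_le _ he h
    omega

include hc in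
theorem step [IsLocalRing (AdjoinRoot (FF p c f))] (hp2 : (p : A) ∈ maximalIdeal A ^ 2) :
    (maximalIdeal A).spanFinrank ≤ (maximalIdeal (AdjoinRoot (FF p c f))).spanFinrank ∧
    ((maximalIdeal (AdjoinRoot (FF p c f))).spanFinrank = (maximalIdeal A).spanFinrank ↔
      ∃ D : Derivation ℤ A (ResidueField A), D f ≠ 0) := by
  by_cases hpow : ∃ g₀ : ResidueField A, g₀ ^ p = residue A f
  · obtain ⟨g₀, hg₀⟩ := hpow
    obtain ⟨g, rfl⟩ := residue_surjective g₀
    obtain ⟨k1, k2⟩ := step_pow hc f g hg₀
    by_cases he2 : (FF p c f).eval g ∈ maximalIdeal A ^ 2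
    · have h1 := k1 he2
      refine ⟨by omega, ⟨fun h => by exfalso; omega, ?_⟩⟩
      rintro ⟨D, hD⟩
      exfalso
      have h3 := derivation_sq D _ he2
      rw [derivation_eval] at h3
      exact hD (neg_eq_zero.mp h3)
    · have h1 := k2 he2
      refine ⟨le_of_eq h1.symm, ⟨fun _ => ?_, fun _ => h1⟩⟩
      obtain ⟨D, hD⟩ := exists_derivation_ne_zero A p hp2 _ (eval_mem (c := c) f g hg₀) he2
      refine ⟨D, ?_⟩
      rw [derivation_eval] at hD
      exact fun h => hD (by rw [h, neg_zero])
  · have hnp : ∀ g : ResidueField A, g ^ p ≠ residue A f := fun g hg => hpow ⟨g, hg⟩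
    have h1 := step_notPow hc f hnp
    refine ⟨le_of_eq h1.symm, ⟨fun _ => ?_, fun _ => h1⟩⟩
    obtain ⟨δ, hδ⟩ := exists_derivation_field (p := p) (residue A f) hnp
    exact ⟨δ.compAlgebraMap A, hδ⟩

end step

theorem combine {a a1 b : ℕ} {P Q : Prop} (s1 : a ≤ a1) (s2 : a1 = a ↔ P) (i1 : a1 ≤ b)
    (i2 : b = a1 ↔ Q) : a ≤ b ∧ (b = a ↔ P ∧ Q) := by
  refine ⟨le_trans s1 i1, ⟨fun h => ?_, fun ⟨hP, hQ⟩ => ?_⟩⟩
  · have h1 : a1 = a := le_antisymm (le_of_le_of_eq i1 h) s1
    exact ⟨s2.mp h1, i2.mp (h.trans h1.symm)⟩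
  · exact (i2.mpr hQ).trans (s2.mpr hP)

section induction

variable (p : ℕ) [hp : Fact p.Prime]

theorem edim_aux (r : ℕ) : ∀ (A : Type u) [CommRing A] [IsLocalRing A] [IsNoetherianRing A]
    [CharP (ResidueField A) p] (_ : (p : A) ∈ maximalIdeal A ^ 2)
    (c : Fin r → A[X]) (_ : ∀ i, (c i).natDegree < p) (f : Fin r → A)
    [IsLocalRing (BQ fun i => FF p (c i) (f i))],
    (maximalIdeal A).spanFinrank ≤ (maximalIdeal (BQ fun i => FF p (c i) (f i))).spanFinrank ∧
    ((maximalIdeal (BQ fun i => FF p (c i) (f i))).spanFinrank = (maximalIdeal A).spanFinrank ↔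
      LinearIndependent (ResidueField A)
        (fun i => (1 : ResidueField A) ⊗ₜ[A] KaehlerDifferential.D ℤ A (f i))) := by
  induction r with
  | zero =>
    intro A _ _ _ _ hp2 c hc f _
    have h1 := ed_equiv (isoZero (fun i => FF p (c i) (f i))).toRingEquiv
    exact ⟨le_of_eq h1, ⟨fun _ => linearIndependent_empty_type, fun _ => h1.symm⟩⟩
  | succ r ih =>
    intro A _ _ _ _ hp2 c hc f hlocB0
    let G : Fin (r + 1) → A[X] := fun i => FF p (c i) (f i)
    haveI hlocB : IsLocalRing (BQ G) := hlocB0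
    haveI hloc : IsLocalRing (AdjoinRoot (G 0)) := isLocalRing_adjoinRoot (hc 0) (f 0)
    haveI hloc' : IsLocalRing (AdjoinRoot (FF p (c 0) (f 0))) := hloc
    haveI hchar : CharP (ResidueField (AdjoinRoot (G 0))) p := charP_residueField (hc 0) (f 0)
    haveI hfree : Module.Free A (AdjoinRoot (G 0)) := free_adjoinRoot (hc 0) (f 0)
    haveI hfin : Module.Finite A (AdjoinRoot (G 0)) := finite_adjoinRoot (hc 0) (f 0)
    haveI hnoeth : IsNoetherianRing (AdjoinRoot (G 0)) := Algebra.FiniteType.isNoetherianRing A _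
    have hp2' : (p : AdjoinRoot (G 0)) ∈ maximalIdeal (AdjoinRoot (G 0)) ^ 2 :=
      natCast_mem_sq (hc 0) (f 0) hp2
    have hG₁ : G₁ G = fun i => FF p ((c i.succ).map (AdjoinRoot.of (G 0)))
        (AdjoinRoot.of (G 0) (f i.succ)) := by
      funext i
      exact FF_map p _ _ _
    have hc' : ∀ i : Fin r, ((c i.succ).map (AdjoinRoot.of (G 0))).natDegree < p :=
      fun i => lt_of_le_of_lt (natDegree_map_le) (hc i.succ)
    obtain ⟨l1, l2, l3⟩ := local_aux p r (AdjoinRoot (G 0))
      (fun i => (c i.succ).map (AdjoinRoot.of (G 0))) hc'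
      (fun i => AdjoinRoot.of (G 0) (f i.succ))
    have l1' := l1
    rw [← hG₁] at l1
    haveI := l1
    haveI := l1'
    obtain ⟨s1, s2⟩ := step (hc 0) (f 0) hp2
    obtain ⟨i1, i2⟩ := ih (AdjoinRoot (G 0)) hp2'
      (fun i => (c i.succ).map (AdjoinRoot.of (G 0))) hc'
      (fun i => AdjoinRoot.of (G 0) (f i.succ))
    have hB1 : (maximalIdeal (BQ (G₁ G))).spanFinrank = (maximalIdeal (BQ G)).spanFinrank :=
      ed_equiv (isoAlg G).toRingEquiv
    have hB2 : (maximalIdeal (BQ fun i => FF p ((c i.succ).map (AdjoinRoot.of (G 0)))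
        (AdjoinRoot.of (G 0) (f i.succ)))).spanFinrank =
        (maximalIdeal (BQ (G₁ G))).spanFinrank :=
      ed_equiv (Ideal.quotEquivOfEq (congrArg relIdeal hG₁))
    have hB := hB2.trans hB1
    have key := combine s1 s2 (le_of_le_of_eq i1 hB)
      ⟨fun h => i2.mp (hB.trans h), fun h => hB.symm.trans (i2.mpr h)⟩
    exact ⟨key.1, key.2.trans (linearIndependent_succ_iff (hc 0) f).symm⟩

end induction

theorem main {A : Type u} [CommRing A] [IsArtinianRing A] [IsLocalRing A] (p : ℕ)
    [hp : Fact p.Prime] [CharP A p] {r : ℕ} (f : Fin r → A) :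
    ∃ _ : IsLocalRing (MvPolynomial (Fin r) A ⧸ Ideal.span (Set.range fun i =>
        (MvPolynomial.X i ^ p - MvPolynomial.C (f i) : MvPolynomial (Fin r) A))),
      (Module.finrank (ResidueField A) (CotangentSpace A) =
        Module.finrank (ResidueField (MvPolynomial (Fin r) A ⧸ Ideal.span (Set.range fun i =>
          (MvPolynomial.X i ^ p - MvPolynomial.C (f i) : MvPolynomial (Fin r) A))))
          (CotangentSpace (MvPolynomial (Fin r) A ⧸ Ideal.span (Set.range fun i =>
          (MvPolynomial.X i ^ p - MvPolynomial.C (f i) : MvPolynomial (Fin r) A)))) ↔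
        LinearIndependent (ResidueField A)
          (fun i => (1 : ResidueField A) ⊗ₜ[A] KaehlerDifferential.D ℤ A (f i))) := by
  haveI : CharP (ResidueField A) p :=
    (CharP.charP_iff_prime_eq_zero hp.out).mpr (by
      rw [← map_natCast (residue A), CharP.cast_eq_zero, map_zero])
  have hp2 : (p : A) ∈ maximalIdeal A ^ 2 := by
    rw [CharP.cast_eq_zero]
    exact Ideal.zero_mem _
  have hc : ∀ i : Fin r, ((fun _ => (0 : A[X])) i).natDegree < p := fun _ => by
    show (0 : A[X]).natDegree < p
    rw [natDegree_zero]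
    exact hp.out.pos
  have key : ∀ I : Ideal (MvPolynomial (Fin r) A),
      relIdeal (fun i => FF p ((fun _ => (0 : A[X])) i) (f i)) = I →
      ∃ _ : IsLocalRing (MvPolynomial (Fin r) A ⧸ I),
        (Module.finrank (ResidueField A) (CotangentSpace A) =
          Module.finrank (ResidueField (MvPolynomial (Fin r) A ⧸ I))
            (CotangentSpace (MvPolynomial (Fin r) A ⧸ I)) ↔
        LinearIndependent (ResidueField A)
          (fun i => (1 : ResidueField A) ⊗ₜ[A] KaehlerDifferential.D ℤ A (f i))) := by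
    intro I hI
    subst hI
    obtain ⟨l1, l2, l3⟩ := local_aux p r A (fun _ => (0 : A[X])) hc f
    refine ⟨l1, ?_⟩
    haveI := l1
    obtain ⟨a1, a2⟩ := edim_aux p r A hp2 (fun _ => (0 : A[X])) hc f
    have e1 := spanFinrank_maximalIdeal_eq_finrank_cotangentSpace A
    have e2 := spanFinrank_maximalIdeal_eq_finrank_cotangentSpace
      (BQ fun i => FF p ((fun _ => (0 : A[X])) i) (f i))
    constructor
    · intro h
      exact a2.mp (e2.trans (h.symm.trans e1.symm))
    · intro h
      exact e1.symm.trans ((a2.mpr h).symm.trans e2)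
  apply key
  have hfun : (fun i : Fin r => Polynomial.aeval (MvPolynomial.X i : MvPolynomial (Fin r) A)
      (FF p (0 : A[X]) (f i))) = fun i => MvPolynomial.X i ^ p - MvPolynomial.C (f i) := by
    funext i
    rw [FF, mul_zero, add_zero, map_sub, map_pow, Polynomial.aeval_X, Polynomial.aeval_C,
      MvPolynomial.algebraMap_eq]
  show Ideal.span (Set.range fun i : Fin r => Polynomial.aeval
    (MvPolynomial.X i : MvPolynomial (Fin r) A) (FF p (0 : A[X]) (f i))) = _
  rw [hfun]

end Groth.Agent.Lib.Helper15.PthEdim
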