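import Mathlib
import Groth.Prelude.Def_GSzGalSym
import Groth.Prelude.Def_Dix
import Groth.Agent.Lib.Helper13.FlatPullback
import Groth.Agent.Lib.Helper15.Hilbert90Et
import Groth.Agent.Lib.Helper15.ConstRat

/-!
# Helper15: `H^1` of a direct image, constant sheaves on the etale site of a field

* `ext_one_push_eq_zero`: if `H^1(Y, G) = 0` then `H^1(X, u_* G) = 0` (formal).
* `const_section_lift`: on `(Spec F)_et`, global sections of constant sheaves lift along surjections.
* `ext_one_const_eq_zero`: `H^1(Spec F, M) = 0` for a torsion-free abelian group `M`.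
-/

set_option autoImplicit false
set_option backward.isDefEq.respectTransparency false
universe u
open CategoryTheory CategoryTheory.Limits AlgebraicGeometry Opposite
open Groth.Agent.Lib.Helper13

namespace Groth.Agent.Lib.Helper15
namespace PushH1
open FieldSite Hilbert90Et

section Formal

/-- If `H^1(Y, G) = 0`, then `H^1(X, u_* G) = 0`. -/
theorem ext_one_push_eq_zero {X Y : Scheme.{u}} (u : Y ⟶ X) (G : EtCoh.Ab Y)
    (hG : ∀ y : Abelian.Ext (EtCoh.const Y ℤ) G 1, y = 0)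
    (y : Abelian.Ext (EtCoh.const X ℤ) ((EtCoh.push u).obj G) 1) : y = 0 := by
  haveI : PreservesFiniteLimits (EtCoh.pull u) := FlatPullback.pull_preservesFiniteLimits u
  obtain ⟨f, hf⟩ : ∃ f : G ⟶ Injective.under G, f = Injective.ι _ := ⟨_, rfl⟩
  haveI : Mono f := by rw [hf]; infer_instance
  have w : f ≫ cokernel.π f = 0 := cokernel.condition f
  have hS : (ShortComplex.mk f (cokernel.π f) w).ShortExact :=
    { exact := ShortComplex.exact_cokernel f
      mono_f := inferInstanceAs (Mono f)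
      epi_g := inferInstanceAs (Epi (cokernel.π f)) }
  haveI : Mono ((EtCoh.push u).map f) := inferInstance
  haveI : Injective ((EtCoh.push u).obj (Injective.under G)) :=
    (EtCoh.push u).injective_obj_of_injective inferInstance
  have w' : (EtCoh.push u).map f ≫ cokernel.π ((EtCoh.push u).map f) = 0 :=
    cokernel.condition _
  have hS' : (ShortComplex.mk ((EtCoh.push u).map f)
      (cokernel.π ((EtCoh.push u).map f)) w').ShortExact :=
    { exact := ShortComplex.exact_cokernel _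
      mono_f := inferInstanceAs (Mono ((EtCoh.push u).map f))
      epi_g := inferInstanceAs (Epi (cokernel.π ((EtCoh.push u).map f))) }
  have h1 : y.comp (Abelian.Ext.mk₀ ((EtCoh.push u).map f)) (add_zero 1) = 0 :=
    Abelian.Ext.eq_zero_of_injective _
  obtain ⟨x₃, hx₃⟩ := Abelian.Ext.covariant_sequence_exact₁ _ hS' y h1 (zero_add 1)
  obtain ⟨φ, rfl⟩ := (Abelian.Ext.mk₀_bijective _ _).surjective x₃
  have hz : (EtCoh.push u).map f ≫ (EtCoh.push u).map (cokernel.π f) = 0 := by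
    rw [← Functor.map_comp, w, Functor.map_zero]
  obtain ⟨c, hc⟩ : ∃ c : cokernel ((EtCoh.push u).map f) ⟶ (EtCoh.push u).obj (cokernel f),
      c = cokernel.desc ((EtCoh.push u).map f) ((EtCoh.push u).map (cokernel.π f)) hz := ⟨_, rfl⟩
  have hπc : cokernel.π ((EtCoh.push u).map f) ≫ c = (EtCoh.push u).map (cokernel.π f) := by
    rw [hc]; exact cokernel.π_desc _ _ _
  haveI : Mono c := by
    have hex : ((ShortComplex.mk f (cokernel.π f) w).map (EtCoh.push u)).Exact :=
      hS.exact.map_of_mono_of_preservesKernel _ hS.mono_f inferInstance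
    rw [hc]
    exact hex.mono_cokernelDesc
  obtain ⟨e, -⟩ : ∃ e : (EtCoh.pull u).obj (EtCoh.const X ℤ) ≅ EtCoh.const Y ℤ, True :=
    ⟨EtCore.pullConst u ℤ, trivial⟩
  obtain ⟨adj, -⟩ : ∃ adj : EtCoh.pull u ⊣ EtCoh.push u, True := ⟨EtCoh.pullPushAdj u, trivial⟩
  have key : ∃ ψ'' : EtCoh.const Y ℤ ⟶ Injective.under G,
      ψ'' ≫ cokernel.π f = e.inv ≫ (adj.homEquiv _ _).symm (φ ≫ c) := by
    have h0 : (Abelian.Ext.mk₀ (e.inv ≫ (adj.homEquiv _ _).symm (φ ≫ c))).comp hS.extClass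
        (zero_add 1) = 0 := hG _
    obtain ⟨x₂, hx₂⟩ := Abelian.Ext.covariant_sequence_exact₃ _ hS _ (zero_add 1) h0
    obtain ⟨ψ'', rfl⟩ := (Abelian.Ext.mk₀_bijective _ _).surjective x₂
    refine ⟨ψ'', ?_⟩
    apply (Abelian.Ext.mk₀_bijective _ _).injective
    rw [← Abelian.Ext.mk₀_comp_mk₀]
    exact hx₂
  obtain ⟨ψ'', hψ''⟩ := key
  have hψ : adj.homEquiv _ _ (e.hom ≫ ψ'') ≫ (EtCoh.push u).map (cokernel.π f) = φ ≫ c := by
    rw [← Adjunction.homEquiv_naturality_right, Category.assoc, hψ'', Iso.hom_inv_id_assoc,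
      Equiv.apply_symm_apply]
  have hφ : adj.homEquiv _ _ (e.hom ≫ ψ'') ≫ cokernel.π ((EtCoh.push u).map f) = φ := by
    rw [← cancel_mono c, Category.assoc, hπc, hψ]
  have hce : (Abelian.Ext.mk₀ (cokernel.π ((EtCoh.push u).map f))).comp hS'.extClass
      (zero_add 1) = 0 := hS'.comp_extClass
  rw [← hx₃, ← hφ, ← Abelian.Ext.mk₀_comp_mk₀_assoc, hce, Abelian.Ext.comp_zero]

/-- Lifting morphisms out of `ℤ_X` along a map which is surjective on global sections. -/
theorem lift_hom_of_lift_section {X : Scheme.{u}} {I Q : EtCoh.Ab X} (g : I ⟶ Q)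
    (h : ∀ s : Q.obj.obj (op (EtCoh.top X)),
      ∃ t : I.obj.obj (op (EtCoh.top X)), g.hom.app (op (EtCoh.top X)) t = s)
    (φ : EtCoh.const X ℤ ⟶ Q) : ∃ ψ : EtCoh.const X ℤ ⟶ I, ψ ≫ g = φ := by
  obtain ⟨t, ht⟩ := h (((EtCore.constAdj X).homEquiv _ _ φ).hom (ULift.up 1))
  refine ⟨((EtCore.constAdj X).homEquiv _ _).symm (secHom I t), ?_⟩
  apply ((EtCore.constAdj X).homEquiv _ _).injective
  rw [Adjunction.homEquiv_naturality_right, Equiv.apply_symm_apply]
  apply hom_ext_uliftZ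
  show g.hom.app (op (EtCoh.top X)) ((1 : ℤ) • t) = _
  rw [one_zsmul, ht]

end Formal

section Const
variable {F : Type u} [Field F]

/-- The constant sheaf functor. -/
noncomputable abbrev Cst (Y : Scheme.{u}) : AddCommGrpCat.{u+1} ⥤ EtCoh.Ab Y :=
  constantSheaf Y.smallEtaleTopology AddCommGrpCat.{u+1}

/-- The constant presheaf. -/
abbrev cP (Y : Scheme.{u}) (A : AddCommGrpCat.{u+1}) : Y.Etaleᵒᵖ ⥤ AddCommGrpCat.{u+1} :=
  (Functor.const _).obj A

/-- The canonical map from the constant presheaf to the constant sheaf. -/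
noncomputable def η (Y : Scheme.{u}) (A : AddCommGrpCat.{u+1}) :
    cP Y A ⟶ ((Cst Y).obj A).obj :=
  toSheafify Y.smallEtaleTopology (cP Y A)

instance (Y : Scheme.{u}) (A : AddCommGrpCat.{u+1}) :
    Presheaf.IsLocallySurjective Y.smallEtaleTopology (η Y A) := by
  unfold η
  infer_instance

theorem const_section_lift {A B : AddCommGrpCat.{u+1}} (p : A ⟶ B) (hp : Function.Surjective p)
    (s : ((Cst (X F)).obj B).obj.obj (op (EtCoh.top (X F)))) :
    ∃ t : ((Cst (X F)).obj A).obj.obj (op (EtCoh.top (X F))),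
      ((Cst (X F)).map p).hom.app (op (EtCoh.top (X F))) t = s := by
  have hmem := Presheaf.imageSieve_mem (X F).smallEtaleTopology (η (X F) B) s
  rw [EtGlue.mem_iff] at hmem
  obtain ⟨Z, gZ, z, ⟨mB, hmB⟩, -⟩ := hmem (default : PrimeSpectrum F)
  obtain ⟨K, _, _, _, _, k, p₀, -⟩ := exists_field_point F Z z
  obtain ⟨L, _, _, _, _, _, ⟨ι⟩⟩ := exists_galois_closure F K
  obtain ⟨π, hπ⟩ : ∃ π : sp F L ⟶ EtCoh.top (X F), π = (spHom ι ≫ k) ≫ gZ := ⟨_, rfl⟩
  obtain ⟨mA, hmA⟩ := hp mB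
  have hsV : (η (X F) B).app (op (sp F L)) mB = ((Cst (X F)).obj B).obj.map π.op s := by
    rw [hπ, op_comp, Functor.map_comp_apply, ← hmB]
    exact NatTrans.naturality_apply (η (X F) B) (spHom ι ≫ k).op mB
  obtain ⟨t', ht'⟩ : ∃ t' : ((Cst (X F)).obj A).obj.obj (op (sp F L)),
      t' = (η (X F) A).app (op (sp F L)) mA := ⟨_, rfl⟩
  have hinv : ∀ σ : L ≃ₐ[F] L, ((Cst (X F)).obj A).obj.map (act σ).op t' = t' := by
    intro σ
    rw [ht']
    exact (NatTrans.naturality_apply (η (X F) A) (act σ).op mA).symm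
  obtain ⟨t₀, ht₀⟩ := descent
    ((sheafCompose (X F).smallEtaleTopology (forget AddCommGrpCat.{u+1})).obj ((Cst (X F)).obj A))
    L π t' hinv
  refine ⟨t₀, ?_⟩
  refine eq_top_of_sp
    ((sheafCompose (X F).smallEtaleTopology (forget AddCommGrpCat.{u+1})).obj ((Cst (X F)).obj B))
    L π _ _ ?_
  show ((Cst (X F)).obj B).obj.map π.op
      (((Cst (X F)).map p).hom.app (op (EtCoh.top (X F))) t₀) =
    ((Cst (X F)).obj B).obj.map π.op s
  rw [← NatTrans.naturality_apply]
  have h1 : ((Cst (X F)).obj A).obj.map π.op t₀ = t' := ht₀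
  rw [h1, ht', ← hsV, ← hmA]
  exact (congrArg (fun α : cP (X F) A ⟶ ((Cst (X F)).obj B).obj => α.app (op (sp F L)) mA)
    (toSheafify_naturality (X F).smallEtaleTopology ((Functor.const _).map p))).symm

lemma nsmul_id_apply (A : AddCommGrpCat.{u+1}) (n : ℕ) (c : A) :
    (n • 𝟙 A : A ⟶ A).hom c = n • c := by
  induction n with
  | zero => rw [zero_nsmul, zero_nsmul]; rfl
  | succ k ih =>
    rw [succ_nsmul, succ_nsmul]
    show (k • 𝟙 A : A ⟶ A).hom c + (𝟙 A : A ⟶ A).hom c = _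
    rw [ih]; rfl

variable (F) in
/-- `H^1(Spec F, M) = 0` for a torsion-free abelian group `M`. -/
theorem ext_one_const_eq_zero (M : Type) [AddCommGroup M] [IsAddTorsionFree M]
    (x : Abelian.Ext (EtCoh.const (X F) ℤ) (EtCoh.const (X F) M) 1) : x = 0 := by
  obtain ⟨n, hn, hx⟩ := isOfFinAddOrder_iff_nsmul_eq_zero.1
    (TransferEfface.main_S7743 F (EtCoh.const (X F) M) 1 Nat.one_pos x)
  obtain ⟨μ, hμ⟩ : ∃ μ : AddCommGrpCat.of (ULift.{u+1} M) ⟶ AddCommGrpCat.of (ULift.{u+1} M),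
      μ = n • 𝟙 _ := ⟨_, rfl⟩
  haveI : Mono μ := by
    rw [AddCommGrpCat.mono_iff_injective]
    intro a b hab
    have e : ∀ c : ULift.{u+1} M, μ c = n • c := by
      intro c; rw [hμ]; exact nsmul_id_apply (AddCommGrpCat.of (ULift.{u+1} M)) n c
    rw [e, e] at hab
    have h2 : n • a.down = n • b.down := congrArg ULift.down hab
    exact ULift.ext _ _ (nsmul_right_injective hn.ne' h2)
  have w : μ ≫ cokernel.π μ = 0 := cokernel.condition μ
  have hS₀ : (ShortComplex.mk μ (cokernel.π μ) w).ShortExact :=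
    { exact := ShortComplex.exact_cokernel μ
      mono_f := inferInstanceAs (Mono μ)
      epi_g := inferInstanceAs (Epi (cokernel.π μ)) }
  haveI := ConstRat.const_pfl (X F)
  haveI := ConstRat.const_pfc (X F)
  have hS := hS₀.map_of_exact (Cst (X F))
  have hCμ : (Cst (X F)).map μ = n • 𝟙 _ := by
    rw [hμ, Functor.map_nsmul, CategoryTheory.Functor.map_id]
  have h1 : x.comp (Abelian.Ext.mk₀ ((Cst (X F)).map μ)) (add_zero 1) = 0 := by
    rw [hCμ, TransferApps.comp_mk₀_nsmul_id, hx]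
  obtain ⟨x₃, hx₃⟩ := Abelian.Ext.covariant_sequence_exact₁ _ hS x h1 (zero_add 1)
  obtain ⟨φ, rfl⟩ := (Abelian.Ext.mk₀_bijective _ _).surjective x₃
  have hsurj : Function.Surjective (cokernel.π μ) :=
    (AddCommGrpCat.epi_iff_surjective _).mp inferInstance
  obtain ⟨ψ, hψ⟩ := lift_hom_of_lift_section ((Cst (X F)).map (cokernel.π μ))
    (const_section_lift (cokernel.π μ) hsurj) φ
  have hce : (Abelian.Ext.mk₀ ((Cst (X F)).map (cokernel.π μ))).comp hS.extClass
      (zero_add 1) = 0 := hS.comp_extClass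
  rw [← hx₃, ← hψ, ← Abelian.Ext.mk₀_comp_mk₀_assoc, hce, Abelian.Ext.comp_zero]

end Const

/-- S3243. -/
theorem main_S3243 (X : Scheme.{u}) (x : X) (M : Type) [AddCommGroup M] [IsAddTorsionFree M] :
    Subsingleton (EtCoh.H X
      ((Dix.skyPush X x).obj (EtCoh.const (Spec (X.residueField x)) M)) 1) := by
  have h0 : ∀ y : EtCoh.H X
      ((Dix.skyPush X x).obj (EtCoh.const (Spec (X.residueField x)) M)) 1, y = 0 :=
    fun y => ext_one_push_eq_zero (X.fromSpecResidueField x) _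
      (fun z => ext_one_const_eq_zero (X.residueField x) M z) y
  exact ⟨fun a b => (h0 a).trans (h0 b).symm⟩

/-- First half of S5712. -/
theorem H1_skyPush_Gm (X : Scheme.{u}) (x : X) :
    Subsingleton (EtCoh.H X
      ((Dix.skyPush X x).obj (EtCoh.Gm (Spec (X.residueField x)))) 1) := by
  have h0 : ∀ y : EtCoh.H X
      ((Dix.skyPush X x).obj (EtCoh.Gm (Spec (X.residueField x)))) 1, y = 0 :=
    fun y => ext_one_push_eq_zero (X.fromSpecResidueField x) _
      (fun z => ext_one_Gm_eq_zero (X.residueField x) z) y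
  exact ⟨fun a b => (h0 a).trans (h0 b).symm⟩

end PushH1
end Groth.Agent.Lib.Helper15
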