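import Mathlib
import Groth.Prelude.Def_GSzGalSym
import Groth.Prelude.Def_Dix
import Groth.Prelude.Def_EtLim
import Groth.Agent.Lib.Helper13.FlatPullback
import Groth.Agent.Lib.Helper15.FieldSiteRel
import Groth.Agent.Lib.Helper15.PushH1
import Groth.Agent.Lib.Helper15.HpullTrans

/-!
# Helper15: the map `H^n(X, u_* F) → H^n(Y, F)` and connecting homomorphisms; S5712

* `Hpull_comp_extClass`: pullback on cohomology is compatible with connecting homomorphisms.
* `HofPush_comp_extClass`: the same for `EtLim.HofPush`.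
* `HofPush_one_eq_zero`: `H^1(X, u_* A) → H^1(Y, A)` is injective (formal).
* `HofPush_two_injective`: `H^2(X, u_* A) → H^2(Y, A)` is injective if `A ↪ I` with `I` injective
  and `u_* I → u_* (I/A)` epi.
* `main_S5712`.
-/

set_option autoImplicit false
set_option backward.isDefEq.respectTransparency false
universe w v' u' u
open CategoryTheory CategoryTheory.Limits AlgebraicGeometry Opposite

namespace Groth.Agent.Lib.Helper15
namespace PushH2

lemma ext_aux {C : Type u'} [Category.{v'} C] [Abelian C] [HasExt.{w} C]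
    {W V A₁ A₃ B₁ B₃ : C} {n m : ℕ}
    (a : Abelian.Ext W V 0) (z : Abelian.Ext V A₃ n) (ε₁ : Abelian.Ext A₃ A₁ 1)
    (τ₁ : Abelian.Ext A₁ B₁ 0) (τ₃ : Abelian.Ext A₃ B₃ 0) (ε₂ : Abelian.Ext B₃ B₁ 1)
    (hnat : ε₁.comp τ₁ (add_zero 1) = τ₃.comp ε₂ (zero_add 1)) (h : n + 1 = m) :
    (a.comp (z.comp ε₁ h) (zero_add m)).comp τ₁ (add_zero m) =
      ((a.comp z (zero_add n)).comp τ₃ (add_zero n)).comp ε₂ h := by
  rw [Abelian.Ext.comp_assoc_of_third_deg_zero, Abelian.Ext.comp_assoc_of_third_deg_zero, hnat,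
    Abelian.Ext.comp_assoc_of_second_deg_zero,
    Abelian.Ext.comp_assoc a z (τ₃.comp ε₂ (zero_add 1)) (zero_add n) h (by lia)]

section Formal
variable {X Y : Scheme.{u}} (u : Y ⟶ X) [PreservesFiniteLimits (EtCoh.pull u)]

lemma HofPush_apply (F : EtCoh.Ab Y) (n : ℕ) (y : EtCoh.H X ((EtCoh.push u).obj F) n) :
    EtLim.HofPush u F n y = (EtCore.Hpull u ((EtCoh.push u).obj F) n y).comp
      (Abelian.Ext.mk₀ ((EtCoh.pullPushAdj u).counit.app F)) (add_zero n) := rfl

/-- Pullback on cohomology is compatible with connecting homomorphisms. -/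
theorem Hpull_comp_extClass {A₁ A₂ A₃ : EtCoh.Ab X} {B₁ B₂ B₃ : EtCoh.Ab Y}
    (f₁ : A₁ ⟶ A₂) (g₁ : A₂ ⟶ A₃) (w₁ : f₁ ≫ g₁ = 0)
    (hS₁ : (ShortComplex.mk f₁ g₁ w₁).ShortExact)
    (f₂ : B₁ ⟶ B₂) (g₂ : B₂ ⟶ B₃) (w₂ : f₂ ≫ g₂ = 0)
    (hS₂ : (ShortComplex.mk f₂ g₂ w₂).ShortExact)
    (t₁ : (EtCoh.pull u).obj A₁ ⟶ B₁) (t₂ : (EtCoh.pull u).obj A₂ ⟶ B₂)
    (t₃ : (EtCoh.pull u).obj A₃ ⟶ B₃)
    (c₁₂ : (EtCoh.pull u).map f₁ ≫ t₂ = t₁ ≫ f₂) (c₂₃ : (EtCoh.pull u).map g₁ ≫ t₃ = t₂ ≫ g₂)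
    {n m : ℕ} (h : n + 1 = m) (z : EtCoh.H X A₃ n) :
    (EtCore.Hpull u A₁ m (z.comp hS₁.extClass h)).comp (Abelian.Ext.mk₀ t₁) (add_zero m) =
      ((EtCore.Hpull u A₃ n z).comp (Abelian.Ext.mk₀ t₃) (add_zero n)).comp hS₂.extClass h := by
  obtain ⟨φ, hφ₁, hφ₃⟩ : ∃ φ : (ShortComplex.mk f₁ g₁ w₁).map (EtCoh.pull u) ⟶
      ShortComplex.mk f₂ g₂ w₂, φ.τ₁ = t₁ ∧ φ.τ₃ = t₃ :=
    ⟨{ τ₁ := t₁, τ₂ := t₂, τ₃ := t₃, comm₁₂ := c₁₂.symm, comm₂₃ := c₂₃.symm }, rfl, rfl⟩
  have hnat := ShortComplex.ShortExact.extClass_naturality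
    (hS₁.map_of_exact (EtCoh.pull u)) hS₂ φ
  rw [hφ₁, hφ₃] at hnat
  have e1 : EtCore.Hpull u A₁ m (z.comp hS₁.extClass h) =
      (Abelian.Ext.mk₀ (EtCore.pullConst u ℤ).inv).comp
        ((z.mapExactFunctor (EtCoh.pull u)).comp
          (hS₁.map_of_exact (EtCoh.pull u)).extClass h) (zero_add m) := by
    rw [HpullTrans.Hpull_apply, Abelian.Ext.mapExactFunctor_comp,
      Abelian.Ext.mapExactFunctor_extClass]
  rw [e1, HpullTrans.Hpull_apply]
  exact ext_aux _ _ _ _ _ _ hnat h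

/-- `EtLim.HofPush` is compatible with connecting homomorphisms. -/
theorem HofPush_comp_extClass {A I C : EtCoh.Ab Y} (f : A ⟶ I) (g : I ⟶ C) (w : f ≫ g = 0)
    (hS : (ShortComplex.mk f g w).ShortExact) {C' : EtCoh.Ab X}
    (g' : (EtCoh.push u).obj I ⟶ C') (w' : (EtCoh.push u).map f ≫ g' = 0)
    (hS' : (ShortComplex.mk ((EtCoh.push u).map f) g' w').ShortExact)
    (cm : C' ⟶ (EtCoh.push u).obj C) (hcm : g' ≫ cm = (EtCoh.push u).map g)
    {n m : ℕ} (h : n + 1 = m) (z : EtCoh.H X C' n) :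
    EtLim.HofPush u A m (z.comp hS'.extClass h) =
      ((EtCore.Hpull u C' n z).comp (Abelian.Ext.mk₀ ((EtCoh.pull u).map cm ≫
        (EtCoh.pullPushAdj u).counit.app C)) (add_zero n)).comp hS.extClass h := by
  rw [HofPush_apply]
  refine Hpull_comp_extClass u _ _ w' hS' f g w hS _ ((EtCoh.pullPushAdj u).counit.app I) _
    ?_ ?_ h z
  · exact (EtCoh.pullPushAdj u).counit.naturality f
  · rw [← Category.assoc, ← Functor.map_comp, hcm]
    exact (EtCoh.pullPushAdj u).counit.naturality g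

/-- `H^1(X, u_* A) → H^1(Y, A)` is injective. -/
theorem HofPush_one_eq_zero (A : EtCoh.Ab Y) (y : EtCoh.H X ((EtCoh.push u).obj A) 1)
    (hy : EtLim.HofPush u A 1 y = 0) : y = 0 := by
  obtain ⟨f, hf⟩ : ∃ f : A ⟶ Injective.under A, f = Injective.ι _ := ⟨_, rfl⟩
  haveI : Mono f := by rw [hf]; infer_instance
  have w : f ≫ cokernel.π f = 0 := cokernel.condition f
  have hS : (ShortComplex.mk f (cokernel.π f) w).ShortExact :=
    { exact := ShortComplex.exact_cokernel f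
      mono_f := inferInstanceAs (Mono f)
      epi_g := inferInstanceAs (Epi (cokernel.π f)) }
  haveI : Mono ((EtCoh.push u).map f) := inferInstance
  haveI : Injective ((EtCoh.push u).obj (Injective.under A)) :=
    (EtCoh.push u).injective_obj_of_injective inferInstance
  have w' : (EtCoh.push u).map f ≫ cokernel.π ((EtCoh.push u).map f) = 0 :=
    cokernel.condition _
  have hS' : (ShortComplex.mk ((EtCoh.push u).map f)
      (cokernel.π ((EtCoh.push u).map f)) w').ShortExact :=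
    { exact := ShortComplex.exact_cokernel _
      mono_f := inferInstanceAs (Mono ((EtCoh.push u).map f))
      epi_g := inferInstanceAs (Epi (cokernel.π ((EtCoh.push u).map f))) }
  have h1 : y.comp (Abelian.Ext.mk₀ ((EtCoh.push u).map f)) (add_zero 1) = 0 :=
    Abelian.Ext.eq_zero_of_injective _
  obtain ⟨x₃, hx₃⟩ := Abelian.Ext.covariant_sequence_exact₁ _ hS' y h1 (zero_add 1)
  obtain ⟨φ, rfl⟩ := (Abelian.Ext.mk₀_bijective _ _).surjective x₃
  have hz : (EtCoh.push u).map f ≫ (EtCoh.push u).map (cokernel.π f) = 0 := by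
    rw [← Functor.map_comp, w, Functor.map_zero]
  obtain ⟨c, hc⟩ : ∃ c : cokernel ((EtCoh.push u).map f) ⟶ (EtCoh.push u).obj (cokernel f),
      c = cokernel.desc ((EtCoh.push u).map f) ((EtCoh.push u).map (cokernel.π f)) hz := ⟨_, rfl⟩
  have hπc : cokernel.π ((EtCoh.push u).map f) ≫ c = (EtCoh.push u).map (cokernel.π f) := by
    rw [hc]; exact cokernel.π_desc _ _ _
  haveI : Mono c := by
    have hex : ((ShortComplex.mk f (cokernel.π f) w).map (EtCoh.push u)).Exact :=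
      hS.exact.map_of_mono_of_preservesKernel _ hS.mono_f inferInstance
    rw [hc]
    exact hex.mono_cokernelDesc
  have hdelta := HofPush_comp_extClass u f (cokernel.π f) w hS
    (cokernel.π ((EtCoh.push u).map f)) w' hS' c hπc (zero_add 1) (Abelian.Ext.mk₀ φ)
  rw [hx₃, hy] at hdelta
  have hR : (EtCore.Hpull u _ 0 (Abelian.Ext.mk₀ φ)).comp
      (Abelian.Ext.mk₀ ((EtCoh.pull u).map c ≫ (EtCoh.pullPushAdj u).counit.app _))
        (add_zero 0) =
      Abelian.Ext.mk₀ ((EtCore.pullConst u ℤ).inv ≫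
        ((EtCoh.pullPushAdj u).homEquiv _ _).symm (φ ≫ c)) := by
    rw [HpullTrans.Hpull_apply, Abelian.Ext.mapExactFunctor_mk₀, Abelian.Ext.mk₀_comp_mk₀,
      Abelian.Ext.mk₀_comp_mk₀, Adjunction.homEquiv_counit, Functor.map_comp]
    simp only [Category.assoc]
  rw [hR] at hdelta
  obtain ⟨x₂, hx₂⟩ := Abelian.Ext.covariant_sequence_exact₃ _ hS _ (zero_add 1) hdelta.symm
  obtain ⟨ψ'', rfl⟩ := (Abelian.Ext.mk₀_bijective _ _).surjective x₂
  have hψ'' : ψ'' ≫ cokernel.π f = (EtCore.pullConst u ℤ).inv ≫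
      ((EtCoh.pullPushAdj u).homEquiv _ _).symm (φ ≫ c) := by
    apply (Abelian.Ext.mk₀_bijective _ _).injective
    rw [← Abelian.Ext.mk₀_comp_mk₀]
    exact hx₂
  have hψ : (EtCoh.pullPushAdj u).homEquiv _ _ ((EtCore.pullConst u ℤ).hom ≫ ψ'') ≫
      (EtCoh.push u).map (cokernel.π f) = φ ≫ c := by
    rw [← Adjunction.homEquiv_naturality_right, Category.assoc, hψ'', Iso.hom_inv_id_assoc,
      Equiv.apply_symm_apply]
  have hφ : (EtCoh.pullPushAdj u).homEquiv _ _ ((EtCore.pullConst u ℤ).hom ≫ ψ'') ≫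
      cokernel.π ((EtCoh.push u).map f) = φ := by
    rw [← cancel_mono c, Category.assoc, hπc, hψ]
  have hce : (Abelian.Ext.mk₀ (cokernel.π ((EtCoh.push u).map f))).comp hS'.extClass
      (zero_add 1) = 0 := hS'.comp_extClass
  rw [← hx₃, ← hφ, ← Abelian.Ext.mk₀_comp_mk₀_assoc, hce, Abelian.Ext.comp_zero]

/-- `H^2(X, u_* A) → H^2(Y, A)` is injective as soon as `u_*` keeps `I → I/A` epi for an
injective `I ⊇ A`. -/
theorem HofPush_two_injective {A I C : EtCoh.Ab Y} (f : A ⟶ I) (g : I ⟶ C) (w : f ≫ g = 0)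
    (hS : (ShortComplex.mk f g w).ShortExact) [Injective I]
    (hepi : Epi ((EtCoh.push u).map g)) :
    Function.Injective (EtLim.HofPush u A 2) := by
  rw [injective_iff_map_eq_zero]
  intro y hy
  haveI : Mono f := hS.mono_f
  haveI : Mono ((EtCoh.push u).map f) := inferInstance
  haveI : Injective ((EtCoh.push u).obj I) :=
    (EtCoh.push u).injective_obj_of_injective inferInstance
  have w' : (EtCoh.push u).map f ≫ (EtCoh.push u).map g = 0 := by
    rw [← Functor.map_comp, w, Functor.map_zero]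
  have hS' : (ShortComplex.mk ((EtCoh.push u).map f) ((EtCoh.push u).map g) w').ShortExact :=
    { exact := hS.exact.map_of_mono_of_preservesKernel _ hS.mono_f inferInstance
      mono_f := inferInstanceAs (Mono ((EtCoh.push u).map f))
      epi_g := hepi }
  have h1 : y.comp (Abelian.Ext.mk₀ ((EtCoh.push u).map f)) (add_zero 2) = 0 :=
    Abelian.Ext.eq_zero_of_injective _
  obtain ⟨z, hz⟩ := Abelian.Ext.covariant_sequence_exact₁ _ hS' y h1 (show 1 + 1 = 2 from rfl)
  have hdelta := HofPush_comp_extClass u f g w hS ((EtCoh.push u).map g) w' hS' (𝟙 _)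
    (Category.comp_id _) (show 1 + 1 = 2 from rfl) z
  rw [hz, hy] at hdelta
  have hz1 : EtLim.HofPush u C 1 z = 0 := by
    obtain ⟨x₂, hx₂⟩ := Abelian.Ext.covariant_sequence_exact₃ _ hS _
      (show 1 + 1 = 2 from rfl) hdelta.symm
    have hx₂0 : x₂ = 0 := Abelian.Ext.eq_zero_of_injective _
    rw [hx₂0, Abelian.Ext.zero_comp, CategoryTheory.Functor.map_id, Category.id_comp] at hx₂
    rw [HofPush_apply]
    exact hx₂.symm
  have hz0 := HofPush_one_eq_zero u C z hz1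
  rw [← hz, hz0, Abelian.Ext.zero_comp]

end Formal

/-- S5712. -/
theorem main_S5712 (X : Scheme.{u}) (x : X)
    [PreservesFiniteLimits (EtCoh.pull (X.fromSpecResidueField x))] :
    Subsingleton (EtCoh.H X
      ((Dix.skyPush X x).obj (EtCoh.Gm (Spec (X.residueField x)))) 1) ∧
    Function.Injective (EtLim.HofPush (X.fromSpecResidueField x)
      (EtCoh.Gm (Spec (X.residueField x))) 2) := by
  refine ⟨PushH1.H1_skyPush_Gm X x, ?_⟩
  obtain ⟨f, hf⟩ : ∃ f : EtCoh.Gm (Spec (X.residueField x)) ⟶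
      Injective.under (EtCoh.Gm (Spec (X.residueField x))), f = Injective.ι _ := ⟨_, rfl⟩
  haveI : Mono f := by rw [hf]; infer_instance
  have w : f ≫ cokernel.π f = 0 := cokernel.condition f
  have hS : (ShortComplex.mk f (cokernel.π f) w).ShortExact :=
    { exact := ShortComplex.exact_cokernel f
      mono_f := inferInstanceAs (Mono f)
      epi_g := inferInstanceAs (Epi (cokernel.π f)) }
  exact HofPush_two_injective _ f (cokernel.π f) w hS
    (FieldSiteRel.epi_push_map (F := X.residueField x) (X.fromSpecResidueField x) f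
      (cokernel.π f) w hS)

end PushH2
end Groth.Agent.Lib.Helper15
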