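import Groth.Agent.Lib.Helper11.SD1
import Groth.Prelude.Def_SGA1

set_option autoImplicit false

namespace Groth.Agent.Lib.Helper15.QF1old

open CategoryTheory CategoryTheory.Limits AlgebraicGeometry Opposite
open Groth.Agent.Lib.Helper11

universe w u

theorem univSubmersive_of_finite_surjective {X Y : Scheme.{u}} (f : X ⟶ Y) [IsFinite f]
    [Surjective f] : SGA1.UnivSubmersive f := by
  intro X' Y' i₁ i₂ f' hpb
  have h1 : IsFinite f' := MorphismProperty.of_isPullback (P := @IsFinite) hpb.flip ‹_›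
  have h2 : Surjective f' := MorphismProperty.of_isPullback (P := @Surjective) hpb.flip ‹_›
  exact f'.isClosedMap.isQuotientMap f'.continuous f'.surjective

theorem main {X S : Scheme.{u}} (q : X ⟶ S) [IsFinite q] [Surjective q] {G : Type u} [Group G]
    [Finite G] (ρ : G →* Aut X) (hρ : ∀ g : G, (ρ g).hom ≫ q = q)
    (htrans : ∀ (Ω : Type u) [Field Ω] [IsAlgClosed Ω] (τ₁ τ₂ : Spec (CommRingCat.of Ω) ⟶ X),
      τ₁ ≫ q = τ₂ ≫ q → ∃ g : G, τ₁ ≫ (ρ g).hom = τ₂)
    (F : Scheme.{u}ᵒᵖ ⥤ Type w)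
    (hF : ∀ ⦃T : Scheme.{u}⦄ (E : PreZeroHypercover.{u} T), Finite E.I₀ →
      (∀ i, LocallyOfFiniteType (E.f i)) → (∀ i, QuasiCompact (E.f i)) →
      (∀ i, LocallyQuasiFinite (E.f i)) → SGA1.UnivSubmersive (Sigma.desc E.f) →
      Presieve.IsSheafFor F E.presieve₀) :
    Function.Injective (F.map q.op) ∧
      Set.range (F.map q.op) =
        {f : F.obj (Opposite.op X) | ∀ g : G, F.map (ρ g).hom.op f = f} := by
  -- cover 1
  let E₁ : PreZeroHypercover.{u} S := ⟨PUnit.{u+1}, fun _ => X, fun _ => q⟩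
  have hE₁ : Presieve.IsSheafFor F E₁.presieve₀ := by
    refine hF E₁ (inferInstanceAs (Finite PUnit)) (fun _ => inferInstanceAs (LocallyOfFiniteType q))
      (fun _ => inferInstanceAs (QuasiCompact q)) (fun _ => inferInstanceAs (LocallyQuasiFinite q)) ?_
    have h1 : IsFinite (Sigma.desc E₁.f) :=
      SD1.isFinite_sigmaDesc_aux _ _ _ _ (fun _ => inferInstanceAs (IsFinite q))
    have h2 : Surjective (Sigma.desc E₁.f) := by
      have h3 : Sigma.ι E₁.X PUnit.unit ≫ Sigma.desc E₁.f = q := Sigma.ι_desc _ _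
      have : Surjective (Sigma.ι E₁.X PUnit.unit ≫ Sigma.desc E₁.f) := by rw [h3]; infer_instance
      exact Surjective.of_comp (Sigma.ι E₁.X PUnit.unit) _
    exact univSubmersive_of_finite_surjective _
  -- cover 2
  let υ : G → (X ⟶ pullback q q) := fun σ =>
    pullback.lift (𝟙 X) (ρ σ).hom (by rw [Category.id_comp, hρ])
  have hυ₁ : ∀ σ, υ σ ≫ pullback.fst q q = 𝟙 X := fun σ => pullback.lift_fst _ _ _
  have hυ₂ : ∀ σ, υ σ ≫ pullback.snd q q = (ρ σ).hom := fun σ => pullback.lift_snd _ _ _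
  have hυfin : ∀ σ, IsFinite (υ σ) := fun σ => by
    have : IsFinite (υ σ ≫ pullback.fst q q) := by rw [hυ₁]; infer_instance
    exact IsFinite.of_comp (υ σ) (pullback.fst q q)
  let E₂ : PreZeroHypercover.{u} (pullback q q) := ⟨G, fun _ => X, υ⟩
  have hE₂ : Presieve.IsSheafFor F E₂.presieve₀ := by
    refine hF E₂ ‹Finite G› (fun σ => ?_) (fun σ => ?_) (fun σ => ?_) ?_
    · have := hυfin σ; exact inferInstanceAs (LocallyOfFiniteType (υ σ))
    · have := hυfin σ; exact inferInstanceAs (QuasiCompact (υ σ))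
    · have := hυfin σ; exact inferInstanceAs (LocallyQuasiFinite (υ σ))
    obtain ⟨h1, h2⟩ := SD1.main' q ρ htrans (𝟙 X) q (Category.id_comp q) (Sigma.desc υ)
      (fun σ => by rw [Sigma.ι_desc_assoc, hυ₁])
      (fun σ => by rw [Sigma.ι_desc_assoc, hυ₂, Category.id_comp])
    exact univSubmersive_of_finite_surjective _
  have sep₁ := hE₁.isSeparatedFor
  have sep₂ := hE₂.isSeparatedFor
  constructor
  · intro s t hst
    refine sep₁.ext ?_
    rintro Y f ⟨i⟩
    exact hst
  · ext f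
    constructor
    · rintro ⟨s, rfl⟩ g
      change F.map (ρ g).hom.op (F.map q.op s) = F.map q.op s
      rw [← FunctorToTypes.map_comp_apply, ← op_comp, hρ]
    · intro hf
      have hcomp : F.map (pullback.fst q q).op f = F.map (pullback.snd q q).op f := by
        refine sep₂.ext ?_
        rintro Y k ⟨σ⟩
        change F.map (υ σ).op (F.map (pullback.fst q q).op f) =
          F.map (υ σ).op (F.map (pullback.snd q q).op f)
        rw [← FunctorToTypes.map_comp_apply, ← FunctorToTypes.map_comp_apply, ← op_comp,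
          ← op_comp, hυ₁, hυ₂, hf σ, op_id, FunctorToTypes.map_id_apply]
      obtain ⟨t, ht, -⟩ := ((Presieve.isSheafFor_arrows_iff_pullbacks F E₁.f).mp hE₁) (fun _ => f)
        (fun _ _ => hcomp)
      exact ⟨t, ht PUnit.unit⟩

end Groth.Agent.Lib.Helper15.QF1old
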