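import Mathlib

/-!
# Helper library (helper15): quasi-finiteness descends along faithfully flat base change
-/

set_option autoImplicit false
universe u
open CategoryTheory CategoryTheory.Limits AlgebraicGeometry Opposite Topology MorphismProperty TensorProduct

namespace Groth.Agent.Lib.Helper15

section
variable {R S : Type*} [CommRing R] [CommRing S] [Algebra R S]

/-- If `A ⊗[R] S` is quasi-finite over `A` and `A` is faithfully flat over `R`, then `S` is quasi-finite
over `R`. -/
theorem quasiFinite_of_baseChange_of_faithfullyFlat (A : Type*) [CommRing A] [Algebra R A]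
    [Module.FaithfullyFlat R A] [Algebra.QuasiFinite A (A ⊗[R] S)] : Algebra.QuasiFinite R S := by
  refine ⟨fun p hp => ?_⟩
  obtain ⟨⟨P, hP⟩, hPp⟩ := PrimeSpectrum.comap_surjective_of_faithfullyFlat (B := A) ⟨p, hp⟩
  have hpP : p = P.under R := by
    have := congrArg PrimeSpectrum.asIdeal hPp
    exact this.symm
  subst hpP
  let := Localization.AtPrime.algebraOfLiesOver (P.under R) P
  let e : P.Fiber (A ⊗[R] S) ≃ₐ[P.ResidueField]
      P.ResidueField ⊗[(P.under R).ResidueField] ((P.under R).Fiber S) :=
    (Algebra.TensorProduct.cancelBaseChange _ _ _ _ _).trans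
      (Algebra.TensorProduct.cancelBaseChange _ _ _ _ _).symm
  have : Module.Finite P.ResidueField
      (P.ResidueField ⊗[(P.under R).ResidueField] ((P.under R).Fiber S)) :=
    .of_surjective e.toLinearMap e.surjective
  exact Module.Finite.of_finite_tensorProduct_of_faithfullyFlat P.ResidueField

end

theorem quasiFinite_codescendsAlong_faithfullyFlat :
    RingHom.CodescendsAlong RingHom.QuasiFinite RingHom.FaithfullyFlat := by
  refine .mk _ RingHom.QuasiFinite.respectsIso fun R S T _ _ _ _ _ h h' ↦ ?_
  rw [RingHom.quasiFinite_algebraMap] at h' ⊢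
  rw [RingHom.faithfullyFlat_algebraMap_iff] at h
  exact quasiFinite_of_baseChange_of_faithfullyFlat S

instance locallyQuasiFinite_descendsAlong :
    DescendsAlong @LocallyQuasiFinite (@Surjective ⊓ @Flat ⊓ @QuasiCompact) :=
  HasRingHomProperty.descendsAlong_flat quasiFinite_codescendsAlong_faithfullyFlat

end Groth.Agent.Lib.Helper15
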