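import Groth.Agent.Lib.Helper15.GeomFibre
import Groth.Prelude.Def_AlgSpSub
import Groth.Agent.Lib.Helper16.ChartDiagram
import Groth.Agent.Lib.Helper22.SmoothRed

/-!
# Helper library (helper15): reducedness of algebraic spaces along flat surjective / smooth morphisms
-/

set_option autoImplicit false
universe u
open CategoryTheory CategoryTheory.Limits AlgebraicGeometry Opposite

namespace Groth.Agent.Lib.Helper15

open AlgSp Groth.Agent.Lib.Helper16

variable {S : Scheme.{u}}

/-- In a chart diagram over a surjective morphism with surjective source chart, the top arrow is surjective. -/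
theorem surjective_of_chart_diagram {X Y : Sp S} (f : X ⟶ Y) (hs : IsSurjectiveMor f) {V U₀ U : Over S}
    (b : (yon S).obj V ⟶ Y) (a₀ : (yon S).obj U₀ ⟶ X) (has : RepWith @Surjective a₀)
    (h : U ⟶ V) (c : U ⟶ U₀)
    (sq : IsPullback ((yon S).map h) ((yon S).map c) b (a₀ ≫ f)) : Surjective h.left := by
  constructor
  intro v
  obtain ⟨x, hx⟩ := hs (Points.ofPt b v)
  obtain ⟨u₀, rfl⟩ := ofPt_surjective_of_surjective a₀ has x
  obtain ⟨w, hw, -⟩ := exists_point_of_isPullback_yon_yon sq v u₀ (by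
    rw [← hx, Points.map_ofPt])
  exact ⟨w, hw⟩

/-- Reducedness descends along flat surjective morphisms of algebraic spaces. -/
theorem isReducedSp_of_locP_flat_of_surjective {X Y : Sp S} (hY : IsAlgSpace Y) (f : X ⟶ Y)
    (hfl : LocP @Flat f) (hs : IsSurjectiveMor f) (hX : IsReducedSp X) : IsReducedSp Y := by
  obtain ⟨U₀, a₀, hae, has, hU₀⟩ := hX
  obtain ⟨V, b, hbe, hbs⟩ := hY.atlas
  obtain ⟨U, h, c, h1, h2, hce, sq, -⟩ := exists_chart_diagram f b hbe a₀ hae
  haveI : IsReduced U₀.left := hU₀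
  haveI : Etale c.left := hce
  haveI : IsReduced U.left := Groth.Agent.Lib.Helper22.SmoothRed.isReduced_of_smooth c.left
  haveI : Flat h.left := hfl _ _ h h1 hbe h2
  haveI : Surjective h.left := surjective_of_chart_diagram f hs b a₀ has h c sq
  exact ⟨V, b, hbe, hbs, isReduced_of_flat_of_surjective h.left⟩

/-- Reducedness ascends along smooth morphisms of algebraic spaces. -/
theorem isReducedSp_of_locP_smooth {X Y : Sp S} (hX : IsAlgSpace X) (f : X ⟶ Y)
    (hf : LocP @Smooth f) (hY : IsReducedSp Y) : IsReducedSp X := by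
  obtain ⟨V, b, hbe, hbs, hV⟩ := hY
  obtain ⟨U₀, a₀, hae, has⟩ := hX.atlas
  obtain ⟨U, h, c, h1, h2, -, -, h3⟩ := exists_chart_diagram f b hbe a₀ hae
  haveI : IsReduced V.left := hV
  haveI : Smooth h.left := hf _ _ h h1 hbe h2
  exact ⟨U, (yon S).map c ≫ a₀, h1, h3 hbs has,
    Groth.Agent.Lib.Helper22.SmoothRed.isReduced_of_smooth h.left⟩

theorem locP_flat_of_locP_smooth {X Y : Sp S} (f : X ⟶ Y) (hf : LocP @Smooth f) : LocP @Flat f := by
  intro U V a b h ha hb e
  haveI : Smooth h.left := hf a b h ha hb e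
  infer_instance

end Groth.Agent.Lib.Helper15
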