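import Groth.Agent.Lib.Helper15.EffCartierChart

/-!
# Products of charts

* `mem_of_isPullback_of_isPullback`: in a category with pullbacks and for a class `P` of morphisms stable
  under base change and composition, the morphism `A ×_Y B ⟶ X ×_Y Y'` induced by `a : A ⟶ X` and
  `c : B ⟶ Y'` in `P` is in `P`;
* `exists_yon_pullback`: base change of an atlas along a morphism from a scheme, with the projection to the
  atlas written as `h` of a morphism of schemes.
-/

set_option autoImplicit false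
universe u
open CategoryTheory CategoryTheory.Limits AlgebraicGeometry Opposite AlgSp

namespace Groth.Agent.Lib.Helper15

theorem mem_of_isPullback_of_isPullback {C : Type*} [Category C] [HasPullbacks C]
    (P : MorphismProperty C) [P.IsStableUnderBaseChange] [P.IsStableUnderComposition]
    {X Y Y' X' A B W : C} {f : X ⟶ Y} {g : Y' ⟶ Y} {g' : X' ⟶ X} {f' : X' ⟶ Y'}
    (hX' : IsPullback g' f' f g) {a : A ⟶ X} {c : B ⟶ Y'} (ha : P a) (hc : P c)
    {p₁ : W ⟶ A} {p₂ : W ⟶ B} (hW : IsPullback p₁ p₂ (a ≫ f) (c ≫ g))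
    (ψ : W ⟶ X') (h₁ : ψ ≫ g' = p₁ ≫ a) (h₂ : ψ ≫ f' = p₂ ≫ c) : P ψ := by
  have sqM : IsPullback (pullback.fst a g') (pullback.snd a g') a g' := IsPullback.of_hasPullback a g'
  have sqM' : IsPullback (pullback.fst a g') (pullback.snd a g' ≫ f') (a ≫ f) g :=
    sqM.paste_vert hX'
  have hw : p₁ ≫ a ≫ f = (p₂ ≫ c) ≫ g := by rw [Category.assoc]; exact hW.w
  let ℓ : W ⟶ pullback a g' := sqM'.lift p₁ (p₂ ≫ c) hw
  have hℓ₁ : ℓ ≫ pullback.fst a g' = p₁ := sqM'.lift_fst _ _ _
  have hℓ₂ : ℓ ≫ pullback.snd a g' ≫ f' = p₂ ≫ c := sqM'.lift_snd _ _ _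
  have sqL : IsPullback ℓ p₂ (pullback.snd a g' ≫ f') c :=
    IsPullback.of_right (by rw [hℓ₁]; exact hW) hℓ₂ sqM'
  have hPℓ : P ℓ := P.of_isPullback sqL.flip hc
  have hPs : P (pullback.snd a g') := P.of_isPullback sqM ha
  have hψ : ψ = ℓ ≫ pullback.snd a g' := by
    apply hX'.hom_ext
    · rw [h₁, Category.assoc, ← sqM.w, ← Category.assoc, hℓ₁]
    · rw [h₂, Category.assoc, hℓ₂]
  rw [hψ]
  exact P.comp_mem _ _ hPℓ hPs

variable {S : Scheme.{u}}

/-- Base change of an etale surjective chart along a morphism from a scheme. -/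
theorem exists_yon_pullback {F : Sp S} {T : Over S} {t : (yon S).obj T ⟶ F} (hte : RepWith @Etale t)
    (hts : RepWith @Surjective t) {U : Over S} (b : (yon S).obj U ⟶ F) :
    ∃ (V : Over S) (s : V ⟶ U) (h : V ⟶ T),
      IsPullback ((yon S).map h) ((yon S).map s) t b ∧ Etale s.left ∧ Surjective s.left := by
  refine ⟨hte.rep.pullback b, hte.rep.snd b, (yon S).preimage (hte.rep.fst b), ?_, hte.property_snd b,
    hts.property b _ _ (hte.rep.isPullback b)⟩
  rw [Functor.map_preimage]
  exact hte.rep.isPullback b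

end Groth.Agent.Lib.Helper15
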