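import Mathlib
import Groth.Prelude.Def_Found
import Groth.Prelude.Def_FDesc
import Groth.Prelude.Def_EGA43
import Groth.Agent.Lib.Helper12.SecCompBC
import Groth.Agent.S3404
import Groth.Agent.S9358

/-!
# Helper library (helper12): universal openness along section components of constant dimension
-/

set_option autoImplicit false
universe u v
open AlgebraicGeometry CategoryTheory CategoryTheory.Limits

namespace Groth.Agent.Lib.Helper15.SecCompUOold

open Groth.Agent.Lib.Helper12.SecComp Groth.Agent.Lib.Helper12.SecCompBC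

variable {X Y : Scheme.{u}} (f : X ⟶ Y) [LocallyOfFinitePresentation f] (g : Y ⟶ X)
  (hg : g ≫ f = 𝟙 Y)

include hg in
/-- If the section components of the fibres of `f` are geometrically irreducible and their
dimension is constant near `y`, then `f` is universally open at the points of the section
component over `y`. -/
theorem isUnivOpenAt_of_fibreDimAt_const
    (hgi : ∀ (y : Y) (K : Type u) [Field K] [Algebra (IsLocalRing.ResidueField (Y.presheaf.stalk y)) K],
      IsIrreducible ((FBase.bcπ (f.fiberToSpecResidueField y) K ≫ f.fiberι y).base ⁻¹'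
        (connectedComponentIn (f.base ⁻¹' {y}) (g.base y))))
    (y : Y)
    (hc : ∃ V ∈ nhds y, ∀ z ∈ V, FlatMor.fibreDimAt f (g.base z) = FlatMor.fibreDimAt f (g.base y)) :
    ∀ x ∈ connectedComponentIn (f.base ⁻¹' {y}) (g.base y), EGA43.IsUnivOpenAt f x := by
  intro x hx Y' g' x' hx'
  set f' := pullback.snd f g' with hf'
  set p₁ := pullback.fst f g' with hp₁
  haveI : LocallyOfFinitePresentation f' :=
    MorphismProperty.pullback_snd (P := @LocallyOfFinitePresentation) f g' inferInstance
  haveI : LocallyOfFiniteType f' := inferInstance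
  have hsq : IsPullback p₁ f' f g' := IsPullback.of_hasPullback f g'
  have hdim : ∀ t : ↥(pullback f g'), FlatMor.fibreDimAt f' t = FlatMor.fibreDimAt f (p₁.base t) :=
    (Groth.Agent.S9358.result f g' p₁ f' hsq 0).1
  -- the components upstairs
  have hP : ∀ y'' : Y', connectedComponentIn (f'.base ⁻¹' {y''}) (sec' f g' g hg y'') =
      {t : ↥(pullback f g') | f' t = y'' ∧
        p₁ t ∈ connectedComponentIn (f.base ⁻¹' {g' y''}) (g (g' y''))} ∧
      IsIrreducible (connectedComponentIn (f'.base ⁻¹' {y''}) (sec' f g' g hg y'')) := by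
    intro y''
    have h1 := isIrreducible_fibre_pullback f g' y''
      (connectedComponentIn (f.base ⁻¹' {g' y''}) (g (g' y'')))
      (@hgi (g' y'') (Y'.residueField y'') _ (g'.residueFieldMap y'').hom.toAlgebra)
    have h2 := connectedComponentIn_pullback f g' g hg y'' (IsPreirreducible.isPreconnected h1.2)
    exact ⟨h2, h2 ▸ h1⟩
  set y' := f' x' with hy'
  have hgy' : g' y' = y := by
    have h1 : g' y' = f (p₁ x') := (fst_snd_apply f g' x').symm
    rw [h1, hx']
    have h2 : x ∈ f.base ⁻¹' {y} := connectedComponentIn_subset _ _ hx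
    exact h2
  have hx'C : x' ∈ connectedComponentIn (f'.base ⁻¹' {y'}) (sec' f g' g hg y') := by
    rw [(hP y').1]
    refine ⟨rfl, ?_⟩
    rw [hgy', hx']
    exact hx
  -- apply the generization criterion
  refine ((Groth.Agent.S3404.result f' x').2 inferInstance).mpr ?_
  intro y'' hy''
  obtain ⟨V, hV, hVc⟩ := hc
  have hsy : ∀ t : Y', f' (sec' f g' g hg t) = t := sec'_snd_apply f g' g hg
  have hCe : ∀ t : Y', connectedComponentIn (f'.base ⁻¹' {t}) (sec' f g' g hg t) =
      connectedComponentIn (f'.base ⁻¹' {f'.base (sec' f g' g hg t)}) (sec' f g' g hg t) := by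
    intro t
    have := hsy t
    rw [this]
  have hirr1 := (hP y').2
  have hirr2 := (hP y'').2
  rw [hCe] at hirr1 hirr2
  obtain ⟨ξ, hξC, hξ⟩ := exists_generic_of_isIrreducible f' (sec' f g' g hg y') hirr1
  obtain ⟨ξ', hξC', hξ'⟩ := exists_generic_of_isIrreducible f' (sec' f g' g hg y'') hirr2
  have hd1 : FlatMor.fibreDimAt f' (sec' f g' g hg y') = FlatMor.fibreDimAt f (g y) := by
    rw [hdim]
    have : p₁.base (sec' f g' g hg y') = g (g' y') := sec'_fst_apply f g' g hg y'
    rw [this, hgy']
  have hd2 : FlatMor.fibreDimAt f' (sec' f g' g hg y'') = FlatMor.fibreDimAt f (g y) := by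
    rw [hdim]
    have : p₁.base (sec' f g' g hg y'') = g (g' y'') := sec'_fst_apply f g' g hg y''
    rw [this]
    apply hVc
    have h3 : g' y'' ⤳ g' y' := hy''.map g'.continuous
    rw [hgy'] at h3
    exact mem_of_mem_nhds (h3.nhds_le_nhds hV)
  have hsp : ξ' ⤳ ξ := specializes_generic_of_fibreDimAt_le f' (sec' f g' g hg y')
    (sec' f g' g hg y'') ξ ξ' (hy''.map (sec' f g' g hg).continuous) hξC hξ hξC' hξ'
    (by rw [hd1, hd2])
  refine ⟨ξ', ?_, ?_⟩
  · refine hsp.trans (hξ x' ?_)
    rw [← hCe]
    exact hx'C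
  · have h4 : ξ' ∈ f'.base ⁻¹' {f'.base (sec' f g' g hg y'')} := connectedComponentIn_subset _ _ hξC'
    have h5 : f'.base ξ' = f'.base (sec' f g' g hg y'') := h4
    rw [h5]
    exact hsy y''

end Groth.Agent.Lib.Helper15.SecCompUOold
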