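import Groth.Agent.Lib.Helper16.Charts
import Mathlib.AlgebraicGeometry.Morphisms.Separated

/-!
# Helper library (helper15): fibre products of charts are monomorphically embedded in the product
-/

set_option autoImplicit false
universe u
open CategoryTheory CategoryTheory.Limits AlgebraicGeometry Opposite Topology

namespace Groth.Agent.Lib.Helper15

open AlgSp

variable {S : Scheme.{u}}

/-- If `h_V = h_A ×_F h_B`, then `V ⟶ A ×_S B` is a monomorphism of schemes. -/
theorem mono_lift_of_isPullback_yon {F : Sp S} {V A B : Over S} (p : V ⟶ A) (q : V ⟶ B)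
    (f : (yon S).obj A ⟶ F) (g : (yon S).obj B ⟶ F)
    (sq : IsPullback ((yon S).map p) ((yon S).map q) f g) :
    Mono (pullback.lift p.left q.left (by rw [Over.w, Over.w]) : V.left ⟶ pullback A.hom B.hom) := by
  constructor
  intro W w₁ w₂ h
  have h1 : w₁ ≫ p.left = w₂ ≫ p.left := by
    have := congrArg (· ≫ pullback.fst A.hom B.hom) h
    simpa only [Category.assoc, pullback.lift_fst] using this
  have h2 : w₁ ≫ q.left = w₂ ≫ q.left := by
    have := congrArg (· ≫ pullback.snd A.hom B.hom) h
    simpa only [Category.assoc, pullback.lift_snd] using this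
  have hW : w₁ ≫ V.hom = w₂ ≫ V.hom := by
    rw [← Over.w p, ← Category.assoc, h1, Category.assoc]
  let W' : Over S := Over.mk (w₁ ≫ V.hom)
  let w₁' : W' ⟶ V := Over.homMk w₁ rfl
  let w₂' : W' ⟶ V := Over.homMk w₂ hW.symm
  have e : (yon S).map w₁' = (yon S).map w₂' := by
    apply sq.hom_ext
    · rw [← Functor.map_comp, ← Functor.map_comp]
      congr 1
      exact Over.OverMorphism.ext h1
    · rw [← Functor.map_comp, ← Functor.map_comp]
      congr 1
      exact Over.OverMorphism.ext h2
  have := (yon S).map_injective e
  exact congrArg (fun φ : W' ⟶ V => φ.left) this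

end Groth.Agent.Lib.Helper15
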