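import Mathlib
import Groth.Agent.Lib.Helper15.GenericPush
import Groth.Agent.Lib.Helper13.EdgeInIso
import Groth.Agent.Lib.Helper13.DerivedExact
import Groth.Agent.Lib.Helper13.FlatPullback

/-!
# Helper15: direct images from the spectrum of a separably closed field are exact; vanishing of
`R^q f_* M_X` for `X` normal integral with separably closed function field (S0628)
-/

set_option autoImplicit false
set_option backward.isDefEq.respectTransparency false

universe u

open CategoryTheory CategoryTheory.Limits AlgebraicGeometry Opposite Topology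

namespace Helper15.SepPointPush

open Helper15.LcStruct Helper15.GenericPush Groth.Agent.Lib.Helper15

section Point

variable (K : Type u) [Field K] [IsSepClosed K]

/-- The point of `Spec K`. -/
abbrev pt : ↥(Spec (CommRingCat.of K)) := default

theorem exists_section (U : (Spec (CommRingCat.of K)).Etale) (u : U.left) :
    ∃ a : EtCoh.top (Spec (CommRingCat.of K)) ⟶ U, a.left (pt K) = u := by
  have : Etale U.hom := U.prop
  obtain ⟨l, hl, hlu⟩ := Scheme.exists_fac_of_etale_of_isSepClosed U.hom
    (𝟙 (Spec (CommRingCat.of K))) u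
    (Subsingleton.elim (α := ↥(Spec (CommRingCat.of K))) _ _)
  exact ⟨MorphismProperty.Over.homMk l hl trivial, hlu⟩

theorem mem_of_covering (U : (Spec (CommRingCat.of K)).Etale) (S : Sieve U)
    (hS : S ∈ (Spec (CommRingCat.of K)).smallEtaleTopology U)
    (a : EtCoh.top (Spec (CommRingCat.of K)) ⟶ U) : S a := by
  have hS' := (Spec (CommRingCat.of K)).smallEtaleTopology.pullback_stable a hS
  rw [EtGlue.mem_iff] at hS'
  obtain ⟨Z, g, z, hg, -⟩ := hS' (pt K)
  obtain ⟨b, -⟩ := exists_section K Z z
  have hb : b ≫ g = 𝟙 _ := (EtCore.topIsTerminal _).hom_ext _ _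
  have h1 : S ((b ≫ g) ≫ a) := by
    rw [Category.assoc]
    exact S.downward_closed hg b
  rwa [hb, Category.id_comp] at h1

theorem sections_surjective {F G : EtCoh.Ab (Spec (CommRingCat.of K))} (φ : F ⟶ G) [Epi φ]
    (U : (Spec (CommRingCat.of K)).Etale) : Function.Surjective (φ.hom.app (op U)) := by
  intro s
  have : Sheaf.IsLocallySurjective φ := (Sheaf.isLocallySurjective_iff_epi' AddCommGrpCat.{u + 1} φ).2 inferInstance
  have hS := Presheaf.imageSieve_mem (Spec (CommRingCat.of K)).smallEtaleTopology φ.hom s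
  choose a ha using fun u : U.left => exists_section K U u
  have hlift : ∀ u, ∃ t : F.obj.obj (op (EtCoh.top (Spec (CommRingCat.of K)))),
      φ.hom.app _ t = G.obj.map (a u).op s :=
    fun u => mem_of_covering K U _ hS (a u)
  choose t ht using hlift
  have hmono : ∀ u, Mono (a u).left := by
    intro u
    have hw : (a u).left ≫ U.hom = 𝟙 _ := MorphismProperty.Over.w (a u)
    exact mono_of_mono_fac hw
  obtain ⟨t₀, ht₀, -⟩ := EtGlue.glueAb F
    (fun _ : U.left => EtCoh.top (Spec (CommRingCat.of K))) a hmono
    (by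
      intro u u' huu' p q
      have hp : p = pt K := Subsingleton.elim (α := ↥(Spec (CommRingCat.of K))) _ _
      have hq : q = pt K := Subsingleton.elim (α := ↥(Spec (CommRingCat.of K))) _ _
      rw [hp, hq, ha u, ha u']
      exact huu')
    (fun x => ⟨x, pt K, ha x⟩) t
  refine ⟨t₀, ?_⟩
  apply EtGlue.eq_of_locally_ab G
  intro u
  refine ⟨EtCoh.top _, a u, pt K, ha u, ?_⟩
  rw [← EtGlue.ab_hom_nat φ (a u).op t₀, ht₀ u, ht u]

variable {Z : Scheme.{u}} (h : Spec (CommRingCat.of K) ⟶ Z)

theorem push_preservesEpi {F G : EtCoh.Ab (Spec (CommRingCat.of K))} (φ : F ⟶ G) [Epi φ] :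
    Epi ((EtCoh.push h).map φ) := by
  have : Presheaf.IsLocallySurjective Z.smallEtaleTopology ((EtCoh.push h).map φ).hom :=
    Presheaf.isLocallySurjective_of_surjective _ _
      (fun W => sections_surjective K φ ((EtCoh.bc h).obj W.unop))
  have : Sheaf.IsLocallySurjective ((EtCoh.push h).map φ) := ‹_›
  exact Sheaf.epi_of_isLocallySurjective _

instance push_preservesFiniteLimits : PreservesFiniteLimits (EtCoh.push h) := by
  have : PreservesLimitsOfSize.{0, 0} (EtCoh.push h) :=
    (EtCoh.pullPushAdj h).rightAdjoint_preservesLimits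
  infer_instance

theorem preservesFiniteColimits_of_preservesEpi {A A' : Type*} [Category A] [Category A']
    [Abelian A] [Abelian A'] (F : A ⥤ A') [PreservesFiniteLimits F]
    (h : ∀ {X Y : A} (f : X ⟶ Y), Epi f → Epi (F.map f)) : PreservesFiniteColimits F := by
  have : F.Additive := Functor.additive_of_preserves_binary_products _
  rw [Functor.preservesFiniteColimits_iff_forall_exact_map_and_epi]
  intro S hS
  have := hS.epi_g
  exact ⟨((Functor.preservesFiniteLimits_iff_forall_exact_map_and_mono F).1 inferInstance S hS).1,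
    h S.g inferInstance⟩

theorem push_preservesFiniteColimits : PreservesFiniteColimits (EtCoh.push h) :=
  preservesFiniteColimits_of_preservesEpi _
    (fun φ hφ => by have := hφ; exact push_preservesEpi K h φ)

theorem isZero_Rpush (N : EtCoh.Ab (Spec (CommRingCat.of K))) (n : ℕ) :
    IsZero ((EtCoh.Rpush h (n + 1)).obj N) := by
  have := push_preservesFiniteColimits K h
  exact Groth.Agent.Lib.Helper13.DerivedExact.isZero_rightDerived_succ_of_exact (EtCoh.push h) n N

end Point

section Main

theorem S0628 {X Y : Scheme.{u}} (f : X ⟶ Y) [IsIntegral X]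
    (hN : ∀ x : X, IsIntegrallyClosed (X.presheaf.stalk x)) [IsSepClosed X.functionField]
    (M : Type) [AddCommGroup M] (q : ℕ) (hq : 1 ≤ q) :
    IsZero ((EtCoh.Rpush f q).obj (EtCoh.const X M)) := by
  obtain ⟨n, rfl⟩ : ∃ n, q = n + 1 := ⟨q - 1, by omega⟩
  have hX : Pi1.IsNormalScheme X := fun x => ⟨inferInstance, hN x⟩
  obtain ⟨g, hg⟩ : ∃ g : Spec (CommRingCat.of X.functionField) ⟶ X,
      g = X.fromSpecStalk (genericPoint X) := ⟨_, rfl⟩
  haveI : IsPreimmersion g := by rw [hg]; infer_instance
  have hrange : Set.range g.base = {genericPoint X} := by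
    rw [hg]
    have h : Set.range (X.fromSpecStalk (genericPoint X)).base = {y | y ⤳ genericPoint X} :=
      Scheme.range_fromSpecStalk
    refine h.trans ?_
    ext y
    constructor
    · intro hy
      exact ((show y ⤳ genericPoint X from hy).antisymm (genericPoint_specializes y)).eq
    · rintro rfl
      exact specializes_rfl
  haveI hiso : IsIso (rho g (AddCommGrpCat.of (ULift.{u + 1} M))) :=
    isIso_rho_generic hX g hrange _
  refine IsZero.of_iso ?_ ((EtCoh.Rpush f (n + 1)).mapIso
    (asIso (rho g (AddCommGrpCat.of (ULift.{u + 1} M)))))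
  haveI : PreservesFiniteLimits (EtCoh.pull g) :=
    Groth.Agent.Lib.Helper13.FlatPullback.pull_preservesFiniteLimits g
  haveI : (EtCoh.pull g).PreservesMonomorphisms := inferInstance
  haveI : (EtCoh.push g).PreservesInjectiveObjects :=
    Functor.preservesInjectiveObjects_of_adjunction_of_preservesMonomorphisms
      (EtCoh.pullPushAdj g)
  haveI := Groth.Agent.Lib.Helper13.EdgeInIso.isIso_edgeIn (EtCoh.push g) (EtCoh.push f)
    (cst _ (AddCommGrpCat.of (ULift.{u + 1} M)))
    (fun k => isZero_Rpush X.functionField g _ k) (n + 1)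
  refine IsZero.of_iso ?_ (asIso (RDer.edgeIn (EtCoh.push g) (EtCoh.push f) (n + 1)
    (cst _ (AddCommGrpCat.of (ULift.{u + 1} M)))))
  refine IsZero.of_iso ?_ ((RDer.rightDerivedIso (EtCoh.pushComp f g) (n + 1)).app _)
  exact isZero_Rpush X.functionField (g ≫ f) _ n

end Main

end Helper15.SepPointPush
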