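import Mathlib
import Groth.Prelude.Def_Hens2
import Groth.Agent.S12237
import Groth.Agent.Lib.Helper8.Hzl.IndEtaleUniq
import Groth.Agent.Lib.Helper8.Hzl.IndEtaleLike
import Groth.Agent.Lib.Helper8.Hzl.FibreSeparable
import Groth.Agent.Lib.Helper8.Hzl.Transfer

/-!
# Helper library (helper15): specialization maps between strict localizations

Ring level: maps from a strict henselization `R` of a local ring `O` to a henselian local ring `T`
over an arbitrary ring map `f : O → T` are determined by (and exist for) the induced map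
`R → κ(T)`; if `κ(T)` is separably closed such a map `R → κ(T)` over `f` exists.

Scheme level: dictionary between `X`-morphisms `Spec A → Spec R` (with `R` over `O_{X,x}`) and ring maps.
-/

set_option autoImplicit false
universe u
open CategoryTheory AlgebraicGeometry IsLocalRing TensorProduct

namespace Groth.Agent.Lib.Helper15.StrictLocSpec

open Groth.Agent.Lib.Helper8.Hzl

section Ring

/-- A strict henselization admits an algebra map to any separably closed field over the base. -/
theorem exists_algHom_to_sepClosed (O R : Type u) [CommRing O] [IsLocalRing O] [CommRing R]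
    [IsLocalRing R] [Algebra O R] [IsLocalHom (algebraMap O R)] [Hensel.IsStrictHenselization O R]
    (K : Type u) [Field K] [IsSepClosed K] [Algebra O K] : Nonempty (R →ₐ[O] K) := by
  have hind : IndEtaleLike O R := strictHenselization_indEtaleLike O R
  have hbc : IndEtaleLike K (K ⊗[O] R) := hind.baseChange K
  haveI : Module.FaithfullyFlat O R := strictHenselization_faithfullyFlat O R
  haveI : Nontrivial (K ⊗[O] R) := inferInstance
  obtain ⟨M, hM⟩ := Ideal.exists_maximal (K ⊗[O] R)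
  letI : Field ((K ⊗[O] R) ⧸ M) := Ideal.Quotient.field M
  obtain ⟨π, hπ⟩ : ∃ π : (K ⊗[O] R) →ₐ[K] ((K ⊗[O] R) ⧸ M), Function.Surjective π :=
    ⟨Ideal.Quotient.mkₐ K M, Ideal.Quotient.mkₐ_surjective K M⟩
  haveI : Algebra.IsSeparable K ((K ⊗[O] R) ⧸ M) := hbc.isSeparable_of_surjective π hπ
  have hsurj := IsSepClosed.algebraMap_surjective K ((K ⊗[O] R) ⧸ M)
  obtain ⟨e⟩ : Nonempty (K ≃ₐ[K] ((K ⊗[O] R) ⧸ M)) :=
    ⟨AlgEquiv.ofBijective (Algebra.ofId K _) ⟨(algebraMap K _).injective, hsurj⟩⟩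
  exact ⟨((e.symm.toAlgHom.restrictScalars O).comp
    ((π.restrictScalars O).comp Algebra.TensorProduct.includeRight))⟩

variable (O R T : Type u) [CommRing O] [IsLocalRing O] [CommRing R] [IsLocalRing R] [Algebra O R]
  [IsLocalHom (algebraMap O R)] [Hensel.IsStrictHenselization O R] [CommRing T]
  [HenselianLocalRing T] (f : O →+* T)

/-- uniqueness -/
theorem ringHom_unique (φ₁ φ₂ : R →+* T) (h₁ : φ₁.comp (algebraMap O R) = f)
    (h₂ : φ₂.comp (algebraMap O R) = f)
    (h : (residue T).comp φ₁ = (residue T).comp φ₂) : φ₁ = φ₂ := by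
  letI : Algebra O T := f.toAlgebra
  obtain ⟨v, hv⟩ : ∃ v : T →ₐ[O] ResidueField T, ∀ t, v t = residue T t :=
    ⟨IsScalarTower.toAlgHom O T (ResidueField T), fun t => rfl⟩
  have hvs : Function.Surjective v := fun y => by
    obtain ⟨t, rfl⟩ := residue_surjective y
    exact ⟨t, hv t⟩
  have hkv : RingHom.ker v.toRingHom = maximalIdeal T := by
    ext t
    rw [RingHom.mem_ker, ← ker_residue, RingHom.mem_ker]
    show v t = 0 ↔ _
    rw [hv]
  obtain ⟨Φ₁, hΦ₁⟩ : ∃ Φ₁ : R →ₐ[O] T, ∀ r, Φ₁ r = φ₁ r :=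
    ⟨{ φ₁ with commutes' := fun a => RingHom.congr_fun h₁ a }, fun r => rfl⟩
  obtain ⟨Φ₂, hΦ₂⟩ : ∃ Φ₂ : R →ₐ[O] T, ∀ r, Φ₂ r = φ₂ r :=
    ⟨{ φ₂ with commutes' := fun a => RingHom.congr_fun h₂ a }, fun r => rfl⟩
  obtain ⟨Ψ, -, hu⟩ := existsUnique_algHom_of_isIndEtale v hvs hkv R
    (Groth.Agent.S12237.result O R) (v.comp Φ₁)
  have e1 : Φ₁ = Ψ := hu Φ₁ rfl
  have e2 : Φ₂ = Ψ := by
    apply hu Φ₂
    ext r
    show v (Φ₂ r) = v (Φ₁ r)
    rw [hv, hv, hΦ₁, hΦ₂]
    exact (RingHom.congr_fun h r).symm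
  ext r
  rw [← hΦ₁, ← hΦ₂, e1, e2]

/-- existence -/
theorem ringHom_exists (w₀ : R →+* ResidueField T)
    (h : w₀.comp (algebraMap O R) = (residue T).comp f) :
    ∃ φ : R →+* T, φ.comp (algebraMap O R) = f ∧ (residue T).comp φ = w₀ := by
  letI : Algebra O T := f.toAlgebra
  obtain ⟨v, hv⟩ : ∃ v : T →ₐ[O] ResidueField T, ∀ t, v t = residue T t :=
    ⟨IsScalarTower.toAlgHom O T (ResidueField T), fun t => rfl⟩
  have hvs : Function.Surjective v := fun y => by
    obtain ⟨t, rfl⟩ := residue_surjective y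
    exact ⟨t, hv t⟩
  have hkv : RingHom.ker v.toRingHom = maximalIdeal T := by
    ext t
    rw [RingHom.mem_ker, ← ker_residue, RingHom.mem_ker]
    show v t = 0 ↔ _
    rw [hv]
  obtain ⟨W₀, hW₀⟩ : ∃ W₀ : R →ₐ[O] ResidueField T, ∀ r, W₀ r = w₀ r :=
    ⟨{ w₀ with commutes' := fun a => RingHom.congr_fun h a }, fun r => rfl⟩
  obtain ⟨Ψ, hΨ, -⟩ := existsUnique_algHom_of_isIndEtale v hvs hkv R
    (Groth.Agent.S12237.result O R) W₀
  refine ⟨Ψ.toRingHom, ?_, ?_⟩
  · ext a
    exact Ψ.commutes a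
  · ext r
    have := DFunLike.congr_fun hΨ r
    show residue T (Ψ r) = w₀ r
    rw [← hv, ← hW₀]
    exact this

/-- existence of a map to the residue field -/
theorem residueHom_exists [IsSepClosed (ResidueField T)] :
    ∃ w₀ : R →+* ResidueField T, w₀.comp (algebraMap O R) = (residue T).comp f := by
  letI : Algebra O T := f.toAlgebra
  obtain ⟨w⟩ := exists_algHom_to_sepClosed O R (ResidueField T)
  refine ⟨w.toRingHom, ?_⟩
  ext a
  exact w.commutes a

end Ring

section Sch

variable (X : Scheme.{u})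

/-- ring maps out of the stalk are determined by the morphisms to `X` -/
theorem ringHom_ext_of_fromSpecStalk {x : X} {A : Type u} [CommRing A]
    (ψ₁ ψ₂ : (X.presheaf.stalk x) →+* A)
    (h : Spec.map (CommRingCat.ofHom ψ₁) ≫ X.fromSpecStalk x =
      Spec.map (CommRingCat.ofHom ψ₂) ≫ X.fromSpecStalk x) : ψ₁ = ψ₂ := by
  rw [cancel_mono] at h
  have h2 := Spec.map_injective h
  have h3 := congrArg CommRingCat.Hom.hom h2
  exact h3

theorem exists_ringHom_of_hom {A B : Type u} [CommRing A] [CommRing B]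
    (g : Spec (CommRingCat.of B) ⟶ Spec (CommRingCat.of A)) :
    ∃ φ : A →+* B, Spec.map (CommRingCat.ofHom φ) = g :=
  ⟨(Spec.preimage g).hom, by rw [CommRingCat.ofHom_hom]; exact Spec.map_preimage g⟩

variable (x : X) (R : Type u) [CommRing R] [Algebra (X.presheaf.stalk x) R]

theorem comp_specOf {A : Type u} [CommRing A] (φ : R →+* A) :
    Spec.map (CommRingCat.ofHom φ) ≫ Hens2.specOf X x R =
      Spec.map (CommRingCat.ofHom (φ.comp (algebraMap (X.presheaf.stalk x) R))) ≫
        X.fromSpecStalk x := by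
  rw [CommRingCat.ofHom_comp, Spec.map_comp, Category.assoc]

theorem specOf_eq_of_specializes {x' : X} (hsp : x' ⤳ x) (R' : Type u) [CommRing R']
    [Algebra (X.presheaf.stalk x') R'] :
    Hens2.specOf X x' R' =
      Spec.map (CommRingCat.ofHom ((algebraMap (X.presheaf.stalk x') R').comp
        (X.presheaf.stalkSpecializes hsp).hom)) ≫ X.fromSpecStalk x := by
  rw [CommRingCat.ofHom_comp, Spec.map_comp, Category.assoc, CommRingCat.ofHom_hom,
    Scheme.SpecMap_stalkSpecializes_fromSpecStalk]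

theorem specializes_of_comp {x' : X} {T : Scheme.{u}} (m : T ⟶ Spec (CommRingCat.of R)) (t : T)
    (h : (m ≫ Hens2.specOf X x R) t = x') : x' ⤳ x := by
  have hmem : x' ∈ Set.range (X.fromSpecStalk x) := by
    refine ⟨(Spec.map (CommRingCat.ofHom (algebraMap (X.presheaf.stalk x) R))) (m t), ?_⟩
    rw [← h]
    simp only [Scheme.Hom.comp_apply]
  rw [Scheme.range_fromSpecStalk] at hmem
  exact hmem

theorem specOf_closedPoint [IsLocalRing R] [IsLocalHom (algebraMap (X.presheaf.stalk x) R)] :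
    (Hens2.specOf X x R) (closedPoint R) = x := by
  haveI : IsLocalRing ↑(CommRingCat.of R) := inferInstanceAs (IsLocalRing R)
  haveI : IsLocalHom (CommRingCat.ofHom (algebraMap (X.presheaf.stalk x) R)).hom :=
    inferInstanceAs (IsLocalHom (algebraMap (X.presheaf.stalk x) R))
  have h1 : (Spec.map (CommRingCat.ofHom (algebraMap (X.presheaf.stalk x) R)))
      (closedPoint R) = closedPoint (X.presheaf.stalk x) :=
    Spec_closedPoint (f := CommRingCat.ofHom (algebraMap (X.presheaf.stalk x) R))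
  have h3 : (X.fromSpecStalk x) (closedPoint (X.presheaf.stalk x)) = x :=
    Scheme.fromSpecStalk_closedPoint
  exact (Scheme.Hom.comp_apply _ _ _).trans
    ((congrArg (fun p => (X.fromSpecStalk x) p) h1).trans h3)

end Sch

end Groth.Agent.Lib.Helper15.StrictLocSpec
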