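import Mathlib
import Groth.Prelude.Def_Hensel
import Groth.Agent.Lib.Helper8.Hzl.TensorSHens
import Groth.Agent.Lib.Helper15.StrictLocSpec

/-!
# Helper library (helper15): strict henselizations of local rings essentially of finite type

Ring-level core: if `S` is a finitely generated `R`-algebra, `q` a prime of `S` over `p`, the
residue field extension `κ(p) → κ(q)` is algebraic, `Rh` a strict henselization of `R_p` and `A`
a strict henselization of `S_q`, then `A` is a strict henselization of the local ring of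
`Rh ⊗[R] S` at a *maximal* ideal lying over the maximal ideal of `Rh`.
-/

set_option autoImplicit false
universe u
open IsLocalRing TensorProduct

namespace Groth.Agent.Lib.Helper15.ShClosedPt

open Groth.Agent.Lib.Helper8.Hzl

theorem isLocalHom_ringEquiv {A B : Type*} [CommRing A] [CommRing B] (e : A ≃+* B) :
    IsLocalHom (e : A →+* B) :=
  ⟨fun a ha => by
    have h1 : IsUnit (e.symm (e a)) := ha.map e.symm
    rwa [e.symm_apply_apply] at h1⟩

/-- Transport of a strict henselization along a ring isomorphism of the base. -/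
theorem transport (O₁ O₂ A : Type u) [CommRing O₁] [IsLocalRing O₁] [CommRing O₂] [IsLocalRing O₂]
    [CommRing A] [IsLocalRing A] [Algebra O₂ A] [IsLocalHom (algebraMap O₂ A)]
    [Hensel.IsStrictHenselization O₂ A] (e : O₁ ≃+* O₂) :
    ∃ (_ : Algebra O₁ A) (_ : IsLocalHom (algebraMap O₁ A)),
      Hensel.IsStrictHenselization O₁ A := by
  haveI he : IsLocalHom (e : O₁ →+* O₂) := isLocalHom_ringEquiv e
  haveI hes : IsLocalHom (e.symm : O₂ →+* O₁) := isLocalHom_ringEquiv e.symm
  letI alg₁ : Algebra O₁ A := ((algebraMap O₂ A).comp (e : O₁ →+* O₂)).toAlgebra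
  haveI loc₁ : IsLocalHom (algebraMap O₁ A) :=
    inferInstanceAs (IsLocalHom ((algebraMap O₂ A).comp (e : O₁ →+* O₂)))
  letI alg₂ : Algebra O₂ O₁ := (e.symm : O₂ →+* O₁).toAlgebra
  haveI loc₂ : IsLocalHom (algebraMap O₂ O₁) := hes
  haveI : IsScalarTower O₂ O₁ A := IsScalarTower.of_algebraMap_eq' (by
    ext x
    show algebraMap O₂ A x = algebraMap O₂ A (e (e.symm x))
    rw [e.apply_symm_apply])
  refine ⟨alg₁, loc₁, isStrictHenselization_of_factor O₂ A O₁ ?_⟩
  intro T _ _ g _ τ _ h hh _
  ext x
  have h1 := RingHom.congr_fun hh (e x)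
  have h2 : h (algebraMap O₂ A (e x)) = g (e.symm (e x)) := h1
  rw [e.symm_apply_apply] at h2
  exact h2

/-- Trimming a polynomial with a nonzero root to one with unit constant coefficient. -/
theorem exists_unit_coeff {B Ω : Type*} [CommRing B] [Field Ω] (g : B →+* Ω)
    (hg : ∀ b : B, g b ≠ 0 → IsUnit b) (β : Ω) (hβ : β ≠ 0) (Q : Polynomial B)
    (hQ : Q.map g ≠ 0) (hroot : Q.eval₂ g β = 0) :
    ∃ P : Polynomial B, IsUnit (P.coeff 0) ∧ P.eval₂ g β = 0 := by
  obtain ⟨q, hq1, hq2⟩ :=
    Polynomial.exists_eq_pow_rootMultiplicity_mul_and_not_dvd (Q.map g) hQ 0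
  rw [Polynomial.C_0, sub_zero] at hq1 hq2
  obtain ⟨m, hm⟩ : ∃ m, m = Polynomial.rootMultiplicity 0 (Q.map g) := ⟨_, rfl⟩
  rw [← hm] at hq1
  have hlift : q ∈ Polynomial.lifts g := by
    rw [Polynomial.lifts_iff_coeff_lifts]
    intro n
    have h1 : q.coeff n = (Q.map g).coeff (n + m) := by
      rw [hq1, Polynomial.coeff_X_pow_mul]
    rw [h1, Polynomial.coeff_map]
    exact ⟨_, rfl⟩
  obtain ⟨P, hP⟩ := (Polynomial.mem_lifts q).mp hlift
  refine ⟨P, hg _ ?_, ?_⟩
  · have h1 : g (P.coeff 0) = q.coeff 0 := by rw [← hP, Polynomial.coeff_map]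
    rw [h1]
    intro h0
    exact hq2 (Polynomial.X_dvd_iff.mpr h0)
  · rw [Polynomial.eval₂_eq_eval_map, hP]
    have h1 : (Q.map g).eval β = 0 := by rw [Polynomial.eval_map]; exact hroot
    rw [hq1, Polynomial.eval_mul, Polynomial.eval_pow, Polynomial.eval_X] at h1
    exact (mul_eq_zero.mp h1).resolve_left (pow_ne_zero _ hβ)

/-- A criterion for the kernel of a map to a field to be maximal. -/
theorem ker_isMaximal_of_roots {B D Ω : Type*} [CommRing B] [CommRing D] [Field Ω] [Algebra B D]
    (π : D →+* Ω)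
    (H : ∀ d : D, π d ≠ 0 → ∃ P : Polynomial B, IsUnit (P.coeff 0) ∧
      Polynomial.eval₂ (π.comp (algebraMap B D)) (π d) P = 0) :
    (RingHom.ker π).IsMaximal := by
  rw [Ideal.isMaximal_iff]
  refine ⟨fun h1 => ?_, fun J x hJ hx hxJ => ?_⟩
  · rw [RingHom.mem_ker, map_one] at h1
    exact one_ne_zero h1
  · have hx' : π x ≠ 0 := fun h0 => hx ((RingHom.mem_ker).mpr h0)
    obtain ⟨P, hu, hP⟩ := H x hx'
    have hdecomp : P.divX * Polynomial.X + Polynomial.C (P.coeff 0) = P :=
      Polynomial.divX_mul_X_add P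
    have h2 : π (Polynomial.eval₂ (algebraMap B D) x P.divX * x + algebraMap B D (P.coeff 0))
        = 0 := by
      rw [map_add, map_mul, Polynomial.hom_eval₂]
      have h3 : Polynomial.eval₂ (π.comp (algebraMap B D)) (π x)
          (P.divX * Polynomial.X + Polynomial.C (P.coeff 0)) = 0 := by
        rw [hdecomp]; exact hP
      rw [Polynomial.eval₂_add, Polynomial.eval₂_mul, Polynomial.eval₂_X, Polynomial.eval₂_C]
        at h3
      exact h3
    have h4 : Polynomial.eval₂ (algebraMap B D) x P.divX * x + algebraMap B D (P.coeff 0) ∈ J :=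
      hJ ((RingHom.mem_ker).mpr h2)
    have h6 : Polynomial.eval₂ (algebraMap B D) x P.divX * x ∈ J := J.mul_mem_left _ hxJ
    have h5 : algebraMap B D (P.coeff 0) ∈ J := (Ideal.add_mem_iff_right J h6).mp h4
    exact (Ideal.eq_top_iff_one J).mp (Ideal.eq_top_of_isUnit_mem J h5 (hu.map _))

section Tensor

variable (R : Type u) [CommRing R] (S : Type u) [CommRing S] [Algebra R S]
  (p : Ideal R) [p.IsPrime] (q : Ideal S) [q.IsPrime] [q.LiesOver p]
  (Rh : Type u) [CommRing Rh] [IsLocalRing Rh] [Algebra (Localization.AtPrime p) Rh]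
  [IsLocalHom (algebraMap (Localization.AtPrime p) Rh)]
  [Algebra R Rh] [IsScalarTower R (Localization.AtPrime p) Rh]
  (Sh : Type u) [CommRing Sh] [IsLocalRing Sh] [Algebra (Localization.AtPrime q) Sh]
  [IsLocalHom (algebraMap (Localization.AtPrime q) Sh)]
  [Algebra S Sh] [IsScalarTower S (Localization.AtPrime q) Sh] [Algebra R Sh] [IsScalarTower R S Sh]
  [Algebra Rh Sh] [IsScalarTower R Rh Sh]
  [hR : Hensel.IsStrictHenselization (Localization.AtPrime p) Rh]
  [hS : Hensel.IsStrictHenselization (Localization.AtPrime q) Sh]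

include p q in
/-- `Sh` is a strict henselization of the local ring of `Rh ⊗[R] S` at `tensorPrime`. -/
theorem tensorLoc_strict :
    ∃ (_ : Algebra (Localization.AtPrime (tensorPrime R S Rh Sh)) Sh)
      (_ : IsLocalHom (algebraMap (Localization.AtPrime (tensorPrime R S Rh Sh)) Sh)),
      Hensel.IsStrictHenselization (Localization.AtPrime (tensorPrime R S Rh Sh)) Sh := by
  letI alg : Algebra (Localization.AtPrime (tensorPrime R S Rh Sh)) Sh :=
    (locTo R S Rh Sh).toAlgebra
  haveI loc : IsLocalHom (algebraMap (Localization.AtPrime (tensorPrime R S Rh Sh)) Sh) :=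
    isLocalHom_locTo R S Rh Sh
  letI : Algebra (Localization.AtPrime q) (Localization.AtPrime (tensorPrime R S Rh Sh)) :=
    (fromLoc R S q Rh Sh).toAlgebra
  haveI : IsLocalHom (algebraMap (Localization.AtPrime q)
      (Localization.AtPrime (tensorPrime R S Rh Sh))) :=
    isLocalHom_fromLoc R S q Rh Sh
  haveI : IsScalarTower (Localization.AtPrime q) (Localization.AtPrime (tensorPrime R S Rh Sh))
      Sh := IsScalarTower.of_algebraMap_eq' (locTo_comp_fromLoc R S q Rh Sh).symm
  exact ⟨alg, loc, isStrictHenselization_of_factor (Localization.AtPrime q) Sh _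
      (fun T _ _ g hg τ hτ h hh hres =>
        comp_locTo_eq_strict R S p q Rh Sh T g hg τ
          (fun d => DFunLike.congr_fun hτ (residue _ d)) h hh hres)⟩

end Tensor

/-- The ring-level core. -/
theorem core (R : Type u) [CommRing R] (S : Type u) [CommRing S] [Algebra R S]
    [Algebra.FiniteType R S]
    (p : Ideal R) [p.IsPrime] (q : Ideal S) [q.IsPrime] [q.LiesOver p]
    (hint : (Ideal.ResidueField.map p q (algebraMap R S) Ideal.LiesOver.over).IsIntegral)
    (Rh : Type u) [CommRing Rh] [IsLocalRing Rh] [Algebra (Localization.AtPrime p) Rh]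
    [IsLocalHom (algebraMap (Localization.AtPrime p) Rh)]
    [hR : Hensel.IsStrictHenselization (Localization.AtPrime p) Rh]
    (A : Type u) [CommRing A] [IsLocalRing A] [Algebra (Localization.AtPrime q) A]
    [IsLocalHom (algebraMap (Localization.AtPrime q) A)]
    [hS : Hensel.IsStrictHenselization (Localization.AtPrime q) A] :
    ∃ (D : Type u) (_ : CommRing D) (φ : Rh →+* D) (_ : φ.FiniteType)
      (P : Ideal D) (_ : P.IsMaximal) (_ : P.comap φ = maximalIdeal Rh)
      (_ : Algebra (Localization.AtPrime P) A)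
      (_ : IsLocalHom (algebraMap (Localization.AtPrime P) A)),
      Hensel.IsStrictHenselization (Localization.AtPrime P) A := by
  classical
  haveI : HenselianLocalRing A := hS.henselian
  haveI hsc : IsSepClosed (ResidueField A) := hS.isSepClosure.sep_closed
  obtain ⟨lr, hlr⟩ : ∃ lr : Localization.AtPrime p →+* Localization.AtPrime q,
      lr = Localization.localRingHom p q (algebraMap R S) Ideal.LiesOver.over := ⟨_, rfl⟩
  obtain ⟨f, hf⟩ : ∃ f : Localization.AtPrime p →+* A,
      f = (algebraMap (Localization.AtPrime q) A).comp lr := ⟨_, rfl⟩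
  obtain ⟨w₀, hw₀⟩ := StrictLocSpec.residueHom_exists (Localization.AtPrime p) Rh A f
  obtain ⟨φ, hφ1, -⟩ := StrictLocSpec.ringHom_exists (Localization.AtPrime p) Rh A f w₀ hw₀
  letI aRRh : Algebra R Rh := ((algebraMap (Localization.AtPrime p) Rh).comp
    (algebraMap R (Localization.AtPrime p))).toAlgebra
  haveI : IsScalarTower R (Localization.AtPrime p) Rh := IsScalarTower.of_algebraMap_eq' rfl
  letI aSA : Algebra S A := ((algebraMap (Localization.AtPrime q) A).comp
    (algebraMap S (Localization.AtPrime q))).toAlgebra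
  haveI : IsScalarTower S (Localization.AtPrime q) A := IsScalarTower.of_algebraMap_eq' rfl
  letI aRA : Algebra R A := ((algebraMap S A).comp (algebraMap R S)).toAlgebra
  haveI : IsScalarTower R S A := IsScalarTower.of_algebraMap_eq' rfl
  letI aRhA : Algebra Rh A := φ.toAlgebra
  have hφr : ∀ r : R, φ (algebraMap R Rh r) = algebraMap R A r := by
    intro r
    have h1 := RingHom.congr_fun hφ1 (algebraMap R (Localization.AtPrime p) r)
    have h2 : φ (algebraMap (Localization.AtPrime p) Rh
        (algebraMap R (Localization.AtPrime p) r)) =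
        f (algebraMap R (Localization.AtPrime p) r) := h1
    rw [hf, RingHom.comp_apply, hlr, Localization.localRingHom_to_map] at h2
    exact h2
  haveI : IsScalarTower R Rh A := IsScalarTower.of_algebraMap_eq' (by
    ext r
    exact (hφr r).symm)
  haveI hloc : IsLocalHom (algebraMap Rh A) := isLocalHom_of_strict R S p q Rh A
  -- the map to the residue field of `A`
  obtain ⟨ψh, hψh⟩ : ∃ ψh : Rh →+* ResidueField A,
      ψh = (residue A).comp (algebraMap Rh A) := ⟨_, rfl⟩
  have hψunit : ∀ y : Rh, ψh y ≠ 0 → IsUnit y := by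
    intro y hy
    rw [hψh] at hy
    have h1 : IsUnit (algebraMap Rh A y) := (residue_ne_zero_iff_isUnit _).mp hy
    exact isUnit_of_map_unit (algebraMap Rh A) y h1
  -- integrality of the residue field of `A` over that of `Rh`
  obtain ⟨a, ha⟩ : ∃ a : p.ResidueField →+* q.ResidueField,
      a = Ideal.ResidueField.map p q (algebraMap R S) Ideal.LiesOver.over := ⟨_, rfl⟩
  have hb : (algebraMap q.ResidueField (ResidueField A)).IsIntegral := by
    haveI : Algebra.IsSeparable q.ResidueField (ResidueField A) := hS.isSepClosure.separable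
    intro x
    exact Algebra.IsSeparable.isIntegral q.ResidueField x
  have hba : ((algebraMap q.ResidueField (ResidueField A)).comp a).IsIntegral :=
    RingHom.IsIntegral.trans a _ (by rw [ha]; exact hint) hb
  obtain ⟨dd, hdd⟩ : ∃ dd : ResidueField Rh →+* ResidueField A,
      dd = ResidueField.map (algebraMap Rh A) := ⟨_, rfl⟩
  have hcomp : dd.comp (algebraMap p.ResidueField (ResidueField Rh)) =
      (algebraMap q.ResidueField (ResidueField A)).comp a := by
    apply Ideal.Quotient.ringHom_ext
    ext x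
    rw [hdd, ha]
    show ResidueField.map (algebraMap Rh A)
        (residue Rh (algebraMap (Localization.AtPrime p) Rh x)) =
      residue A (algebraMap (Localization.AtPrime q) A
        (Localization.localRingHom p q (algebraMap R S) Ideal.LiesOver.over x))
    rw [ResidueField.map_residue]
    have h1 := RingHom.congr_fun hφ1 x
    have h2 : algebraMap Rh A (algebraMap (Localization.AtPrime p) Rh x) = f x := h1
    rw [h2, hf, hlr]
    rfl
  have hdint : dd.IsIntegral :=
    RingHom.IsIntegral.tower_top _ dd (by rw [hcomp]; exact hba)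
  have hψdd : ψh = dd.comp (residue Rh) := by
    rw [hψh, hdd]
    ext y
    show residue A (algebraMap Rh A y) = ResidueField.map (algebraMap Rh A) (residue Rh y)
    rw [ResidueField.map_residue]
  -- maximality
  obtain ⟨π, hπ⟩ : ∃ π : (Rh ⊗[R] S) →+* ResidueField A,
      π = (residue A).comp (tensorTo R S Rh A).toRingHom := ⟨_, rfl⟩
  have hker : tensorPrime R S Rh A = RingHom.ker π := by
    ext d
    rw [RingHom.mem_ker, hπ, Ideal.mem_comap]
    show _ ↔ residue A (tensorTo R S Rh A d) = 0
    rw [residue_eq_zero_iff]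
  have hπφ : π.comp (algebraMap Rh (Rh ⊗[R] S)) = ψh := by
    rw [hπ, hψh]
    ext y
    show residue A (tensorTo R S Rh A (algebraMap Rh (Rh ⊗[R] S) y)) =
      residue A (algebraMap Rh A y)
    rw [Algebra.TensorProduct.algebraMap_apply, tensorTo_tmul, map_one, mul_one]
    rfl
  have hmax : (tensorPrime R S Rh A).IsMaximal := by
    rw [hker]
    apply ker_isMaximal_of_roots (B := Rh) π
    intro d hd
    rw [hπφ]
    obtain ⟨Pb, hPbm, hPbr⟩ := hdint (π d)
    obtain ⟨Q, hQ⟩ := Polynomial.map_surjective (residue Rh) residue_surjective Pb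
    apply exists_unit_coeff ψh hψunit (π d) hd Q
    · rw [hψdd, ← Polynomial.map_map, hQ]
      exact (hPbm.map dd).ne_zero
    · rw [hψdd, ← Polynomial.eval₂_map, hQ]
      exact hPbr
  have hcomap : (tensorPrime R S Rh A).comap (algebraMap Rh (Rh ⊗[R] S)) = maximalIdeal Rh := by
    ext y
    rw [Ideal.mem_comap, hker, RingHom.mem_ker]
    have h1 : π (algebraMap Rh (Rh ⊗[R] S) y) = ψh y := RingHom.congr_fun hπφ y
    rw [h1, hψh]
    show residue A (algebraMap Rh A y) = 0 ↔ _
    rw [residue_eq_zero_iff]
    constructor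
    · intro h
      rw [mem_maximalIdeal, mem_nonunits_iff]
      intro hy
      exact h (hy.map (algebraMap Rh A))
    · intro h
      exact map_nonunit (algebraMap Rh A) y h
  have hft : (algebraMap Rh (Rh ⊗[R] S)).FiniteType :=
    RingHom.finiteType_algebraMap.mpr inferInstance
  obtain ⟨alg, loc, hsh⟩ := tensorLoc_strict R S p q Rh A
  exact ⟨Rh ⊗[R] S, inferInstance, algebraMap Rh (Rh ⊗[R] S), hft, tensorPrime R S Rh A, hmax,
    hcomap, alg, loc, hsh⟩

end Groth.Agent.Lib.Helper15.ShClosedPt
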