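import Mathlib
import Groth.Agent.Lib.Helper15.ShClosedPt

/-!
# Helper library (helper15): transcendence bases inside a finitely generated algebra over a local
ring, and the ring-level statement "a strict henselization of an essentially finite type local
ring is a strict henselization at a closed point".
-/

set_option autoImplicit false
universe u
open IsLocalRing TensorProduct

namespace Groth.Agent.Lib.Helper15.ShClosedPt

open Groth.Agent.Lib.Helper8.Hzl

/-- Algebraic over a subalgebra contained in the range of a field map gives integral elements. -/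
theorem isIntegralElem_of_subalgebra {κ K L : Type*} [Field κ] [Field K] [Field L] [Algebra κ L]
    (a : K →+* L) (T : Subalgebra κ L) (hT : ∀ z ∈ T, z ∈ Set.range a) (y : L)
    (hy : IsAlgebraic T y) : a.IsIntegralElem y := by
  obtain ⟨P', hP'0, hP'⟩ := hy
  have hlift : P'.map (algebraMap T L) ∈ Polynomial.lifts a := by
    rw [Polynomial.lifts_iff_coeff_lifts]
    intro n
    rw [Polynomial.coeff_map]
    exact hT _ (P'.coeff n).2
  obtain ⟨Pb, hPb⟩ := (Polynomial.mem_lifts _).mp hlift
  have hne : Pb ≠ 0 := by
    intro h0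
    rw [h0, Polynomial.map_zero] at hPb
    have hinj : Function.Injective (algebraMap T L) := fun x y h => Subtype.ext h
    exact hP'0 (Polynomial.map_injective _ hinj (by rw [← hPb, Polynomial.map_zero]))
  have hroot : Polynomial.eval₂ a y Pb = 0 := by
    rw [Polynomial.eval₂_eq_eval_map, hPb, Polynomial.eval_map, ← Polynomial.aeval_def]
    exact hP'
  exact ⟨Pb * Polynomial.C Pb.leadingCoeff⁻¹, Polynomial.monic_mul_leadingCoeff_inv hne, by
    rw [Polynomial.eval₂_mul, hroot, zero_mul]⟩

section Base

variable (Rb : Type u) [CommRing Rb] [IsLocalRing Rb] (S : Type u) [CommRing S] [Algebra Rb S]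
  (q : Ideal S) [q.IsPrime] [hq : q.LiesOver (maximalIdeal Rb)]

theorem isLocalHom_base : IsLocalHom (algebraMap Rb (Localization.AtPrime q)) := ⟨fun a ha => by
  by_contra hna
  have h1 : a ∈ maximalIdeal Rb := (mem_maximalIdeal a).mpr hna
  have h2 : algebraMap Rb S a ∈ q := by
    rw [hq.over] at h1
    exact h1
  have h3 : algebraMap S (Localization.AtPrime q) (algebraMap Rb S a) ∈
      maximalIdeal (Localization.AtPrime q) :=
    (IsLocalization.AtPrime.to_map_mem_maximal_iff _ q _).mpr h2
  rw [← IsScalarTower.algebraMap_apply Rb S (Localization.AtPrime q)] at h3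
  exact h3 ha⟩

/-- Choice of a polynomial subalgebra over which the residue field of `q` is algebraic. -/
theorem exists_polyBase [Algebra.FiniteType Rb S] :
    ∃ (ι : Type u) (_ : Finite ι) (s : ι → S),
      q.comap (MvPolynomial.aeval s : MvPolynomial ι Rb →ₐ[Rb] S).toRingHom =
        Ideal.map MvPolynomial.C (maximalIdeal Rb) ∧
      (Ideal.ResidueField.map
        (q.comap (MvPolynomial.aeval s : MvPolynomial ι Rb →ₐ[Rb] S).toRingHom) q
        (MvPolynomial.aeval s : MvPolynomial ι Rb →ₐ[Rb] S).toRingHom rfl).IsIntegral := by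
  classical
  haveI := isLocalHom_base Rb S q
  obtain ⟨σ, hσ⟩ := (Algebra.FiniteType.out : (⊤ : Subalgebra Rb S).FG)
  obtain ⟨ρ, hρ⟩ : ∃ ρ : S →+* q.ResidueField, ρ = algebraMap S q.ResidueField := ⟨_, rfl⟩
  have hρC : ∀ r : Rb, ρ (algebraMap Rb S r) =
      algebraMap (ResidueField Rb) q.ResidueField (residue Rb r) := by
    intro r
    rw [hρ, IsScalarTower.algebraMap_apply S (Localization.AtPrime q) q.ResidueField,
      ← IsScalarTower.algebraMap_apply Rb S (Localization.AtPrime q)]
    rfl
  obtain ⟨G, hG⟩ : ∃ G : Set q.ResidueField, G = ρ '' (σ : Set S) := ⟨_, rfl⟩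
  have hGfin : G.Finite := by rw [hG]; exact (σ.finite_toSet).image ρ
  -- the image of `S` lies in the subalgebra generated by `G`
  have himg : ∀ x : S, ρ x ∈ Algebra.adjoin (ResidueField Rb) G := by
    intro x
    have hx : x ∈ Algebra.adjoin Rb (σ : Set S) := by rw [hσ]; exact Algebra.mem_top
    induction hx using Algebra.adjoin_induction with
    | mem x hx =>
      exact Algebra.subset_adjoin (by rw [hG]; exact Set.mem_image_of_mem ρ hx)
    | algebraMap r => rw [hρC]; exact Subalgebra.algebraMap_mem _ _
    | add x y _ _ hx hy => rw [map_add]; exact Subalgebra.add_mem _ hx hy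
    | mul x y _ _ hx hy => rw [map_mul]; exact Subalgebra.mul_mem _ hx hy
  haveI halgG : Algebra.IsAlgebraic (Algebra.adjoin (ResidueField Rb) G) q.ResidueField := by
    constructor
    intro y
    obtain ⟨z, rfl⟩ := residue_surjective y
    obtain ⟨x, t, rfl⟩ := IsLocalization.exists_mk'_eq q.primeCompl z
    have hspec : residue (Localization.AtPrime q)
        (IsLocalization.mk' (Localization.AtPrime q) x t) * ρ t = ρ x := by
      rw [hρ, IsScalarTower.algebraMap_apply S (Localization.AtPrime q) q.ResidueField,
        IsScalarTower.algebraMap_apply S (Localization.AtPrime q) q.ResidueField]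
      show residue _ _ * residue _ _ = residue _ _
      rw [← map_mul, IsLocalization.mk'_spec]
    have ht0 : ρ (t : S) ≠ 0 := by
      rw [hρ]
      intro h0
      exact t.2 (Ideal.algebraMap_residueField_eq_zero.mp h0)
    obtain ⟨ct, hct⟩ : ∃ ct : Algebra.adjoin (ResidueField Rb) G, (ct : q.ResidueField) = ρ t :=
      ⟨⟨ρ t, himg t⟩, rfl⟩
    obtain ⟨cx, hcx⟩ : ∃ cx : Algebra.adjoin (ResidueField Rb) G, (cx : q.ResidueField) = ρ x :=
      ⟨⟨ρ x, himg x⟩, rfl⟩
    refine ⟨Polynomial.C ct * Polynomial.X - Polynomial.C cx, ?_, ?_⟩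
    · intro h0
      have h1 : (Polynomial.C ct * Polynomial.X - Polynomial.C cx).coeff 1 = ct := by
        rw [Polynomial.coeff_sub, Polynomial.coeff_C_mul, Polynomial.coeff_X_one, mul_one,
          Polynomial.coeff_C]
        simp
      rw [h0, Polynomial.coeff_zero] at h1
      apply ht0
      rw [← hct, ← h1]
      rfl
    · rw [map_sub, map_mul, Polynomial.aeval_C, Polynomial.aeval_C, Polynomial.aeval_X]
      show (ct : q.ResidueField) * _ - (cx : q.ResidueField) = 0
      rw [hct, hcx, mul_comm, hspec, sub_self]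
  haveI : FaithfulSMul (ResidueField Rb) q.ResidueField :=
    (faithfulSMul_iff_algebraMap_injective _ _).mpr
      (algebraMap (ResidueField Rb) q.ResidueField).injective
  obtain ⟨u, huG, hu⟩ := exists_isTranscendenceBasis_subset (R := ResidueField Rb) G
  haveI hufin : Finite u := (hGfin.subset huG).to_subtype
  have hex : ∀ i : u, ∃ x : S, ρ x = (i : q.ResidueField) := by
    intro i
    have h1 := huG i.2
    rw [hG] at h1
    obtain ⟨x, -, hx⟩ := h1
    exact ⟨x, hx⟩
  choose s hs using hex
  have hstar : ∀ f : MvPolynomial u Rb, ρ (MvPolynomial.aeval s f) =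
      MvPolynomial.aeval (fun i : u => (i : q.ResidueField))
        (MvPolynomial.map (residue Rb) f) := by
    intro f
    have h1 : ρ.comp (MvPolynomial.aeval s : MvPolynomial u Rb →ₐ[Rb] S).toRingHom =
        ((MvPolynomial.aeval (fun i : u => (i : q.ResidueField)) :
          MvPolynomial u (ResidueField Rb) →ₐ[ResidueField Rb] q.ResidueField).toRingHom).comp
          (MvPolynomial.map (residue Rb)) := by
      apply MvPolynomial.ringHom_ext
      · intro r
        simp only [RingHom.comp_apply, AlgHom.toRingHom_eq_coe, RingHom.coe_coe,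
          MvPolynomial.aeval_C, MvPolynomial.map_C]
        exact hρC r
      · intro i
        simp only [RingHom.comp_apply, AlgHom.toRingHom_eq_coe, RingHom.coe_coe,
          MvPolynomial.aeval_X, MvPolynomial.map_X]
        exact hs i
    exact RingHom.congr_fun h1 f
  refine ⟨u, hufin, s, ?_, ?_⟩
  · ext f
    rw [Ideal.mem_comap, MvPolynomial.mem_map_C_iff]
    show MvPolynomial.aeval s f ∈ q ↔ _
    rw [← Ideal.algebraMap_residueField_eq_zero (I := q), ← hρ, hstar]
    have hinj : Function.Injective (MvPolynomial.aeval (fun i : u => (i : q.ResidueField)) :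
        MvPolynomial u (ResidueField Rb) →ₐ[ResidueField Rb] q.ResidueField) := hu.1
    rw [map_eq_zero_iff _ hinj, MvPolynomial.ext_iff]
    constructor
    · intro h m
      have h1 := h m
      rw [MvPolynomial.coeff_map, MvPolynomial.coeff_zero] at h1
      exact (residue_eq_zero_iff _).mp h1
    · intro h m
      rw [MvPolynomial.coeff_map, MvPolynomial.coeff_zero]
      exact (residue_eq_zero_iff _).mpr (h m)
  · obtain ⟨a, ha⟩ : ∃ a : (q.comap (MvPolynomial.aeval s :
          MvPolynomial u Rb →ₐ[Rb] S).toRingHom).ResidueField →+* q.ResidueField,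
        a = Ideal.ResidueField.map
          (q.comap (MvPolynomial.aeval s : MvPolynomial u Rb →ₐ[Rb] S).toRingHom) q
          (MvPolynomial.aeval s : MvPolynomial u Rb →ₐ[Rb] S).toRingHom rfl := ⟨_, rfl⟩
    rw [← ha]
    have haC : ∀ g : MvPolynomial u Rb, a (algebraMap (MvPolynomial u Rb)
        (q.comap (MvPolynomial.aeval s : MvPolynomial u Rb →ₐ[Rb] S).toRingHom).ResidueField g) =
        ρ (MvPolynomial.aeval s g) := by
      intro g
      rw [ha, Ideal.ResidueField.map_algebraMap, hρ]
      rfl
    have hrange : ∀ z ∈ Algebra.adjoin (ResidueField Rb)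
        (Set.range (Subtype.val : u → q.ResidueField)), z ∈ Set.range a := by
      intro z hz
      induction hz using Algebra.adjoin_induction with
      | mem z hz =>
        obtain ⟨i, rfl⟩ := hz
        refine ⟨algebraMap (MvPolynomial u Rb) (q.comap (MvPolynomial.aeval s :
          MvPolynomial u Rb →ₐ[Rb] S).toRingHom).ResidueField (MvPolynomial.X i), ?_⟩
        rw [haC, MvPolynomial.aeval_X]
        exact hs i
      | algebraMap c =>
        obtain ⟨r, rfl⟩ := residue_surjective c
        refine ⟨algebraMap (MvPolynomial u Rb) (q.comap (MvPolynomial.aeval s :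
          MvPolynomial u Rb →ₐ[Rb] S).toRingHom).ResidueField (MvPolynomial.C r), ?_⟩
        rw [haC, MvPolynomial.aeval_C]
        exact hρC r
      | add x y _ _ hx hy =>
        obtain ⟨x', rfl⟩ := hx
        obtain ⟨y', rfl⟩ := hy
        exact ⟨x' + y', map_add a x' y'⟩
      | mul x y _ _ hx hy =>
        obtain ⟨x', rfl⟩ := hx
        obtain ⟨y', rfl⟩ := hy
        exact ⟨x' * y', map_mul a x' y'⟩
    intro y
    exact isIntegralElem_of_subalgebra a _ hrange y ((hu.isAlgebraic).isAlgebraic y)

end Base

set_option maxHeartbeats 1000000 in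
/-- Ring-level statement. -/
theorem ring_core (Rb : Type u) [CommRing Rb] [IsLocalRing Rb] (S : Type u) [CommRing S]
    [Algebra Rb S] [Algebra.FiniteType Rb S] (q : Ideal S) [q.IsPrime]
    [q.LiesOver (maximalIdeal Rb)]
    (A : Type u) [CommRing A] [IsLocalRing A] [Algebra (Localization.AtPrime q) A]
    [IsLocalHom (algebraMap (Localization.AtPrime q) A)]
    [Hensel.IsStrictHenselization (Localization.AtPrime q) A] :
    ∃ (ι : Type u) (_ : Finite ι) (p : Ideal (MvPolynomial ι Rb)) (_ : p.IsPrime)
      (_ : p = Ideal.map MvPolynomial.C (maximalIdeal Rb))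
      (D : Type u) (_ : CommRing D) (φ : SHens (Localization.AtPrime p) →+* D) (_ : φ.FiniteType)
      (P : Ideal D) (_ : P.IsMaximal)
      (_ : P.comap φ = maximalIdeal (SHens (Localization.AtPrime p)))
      (_ : Algebra (Localization.AtPrime P) A)
      (_ : IsLocalHom (algebraMap (Localization.AtPrime P) A)),
      Hensel.IsStrictHenselization (Localization.AtPrime P) A := by
  obtain ⟨ι, hι, s, hcomap, hint⟩ := exists_polyBase Rb S q
  obtain ⟨ev, hev⟩ : ∃ ev : MvPolynomial ι Rb →+* S,
      ev = (MvPolynomial.aeval s : MvPolynomial ι Rb →ₐ[Rb] S).toRingHom := ⟨_, rfl⟩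
  rw [← hev] at hcomap hint
  letI : Algebra (MvPolynomial ι Rb) S := ev.toAlgebra
  haveI : IsScalarTower Rb (MvPolynomial ι Rb) S := IsScalarTower.of_algebraMap_eq' (by
    ext r
    show algebraMap Rb S r = ev (algebraMap Rb (MvPolynomial ι Rb) r)
    rw [hev, MvPolynomial.algebraMap_eq]
    show algebraMap Rb S r = MvPolynomial.aeval s (MvPolynomial.C r)
    rw [MvPolynomial.aeval_C])
  haveI : Algebra.FiniteType (MvPolynomial ι Rb) S :=
    Algebra.FiniteType.of_restrictScalars_finiteType Rb _ S
  haveI hlo : q.LiesOver (q.comap ev) := ⟨rfl⟩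
  haveI := isStrictHenselization (Localization.AtPrime (q.comap ev))
  obtain ⟨D, iD, φ, hφ, P, hP, hPc, alg, loc, hsh⟩ :=
    core (MvPolynomial ι Rb) S (q.comap ev) q hint (SHens (Localization.AtPrime (q.comap ev))) A
  exact ⟨ι, hι, q.comap ev, inferInstance, hcomap, D, iD, φ, hφ,
    P, hP, hPc, alg, loc, hsh⟩

end Groth.Agent.Lib.Helper15.ShClosedPt
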