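import Mathlib
import Groth.Agent.Lib.Helper8.Hzl.DVR
import Groth.Agent.Lib.Helper15.ShClosedPtTr

/-!
# Helper library (helper15): scheme-level wrappers for `ShClosedPt`
-/

set_option autoImplicit false
universe u
open CategoryTheory AlgebraicGeometry IsLocalRing TensorProduct

namespace Groth.Agent.Lib.Helper15.ShClosedPt

open Groth.Agent.Lib.Helper8.Hzl

/-- From a point of a scheme locally of finite type over a local ring, lying over the closed
point, to a prime of a finitely generated algebra. -/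
theorem input_side (Rb : Type u) [CommRing Rb] [IsLocalRing Rb] {X : Scheme.{u}}
    (f : X ⟶ Spec (CommRingCat.of Rb)) [LocallyOfFiniteType f] (x : X)
    (hx : f.base x = ((closedPoint Rb : PrimeSpectrum Rb) : ↥(Spec (CommRingCat.of Rb)))) :
    ∃ (S : Type u) (_ : CommRing S) (_ : Algebra Rb S) (_ : Algebra.FiniteType Rb S)
      (q : Ideal S) (_ : q.IsPrime) (_ : q.LiesOver (maximalIdeal Rb)),
      Nonempty (Localization.AtPrime q ≃+* X.presheaf.stalk x) := by
  obtain ⟨U, hU, hxU, -⟩ := exists_isAffineOpen_mem_and_subset (X := X) (x := x) (U := ⊤)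
    (TopologicalSpace.Opens.mem_top x)
  have e : U ≤ f ⁻¹ᵁ ⊤ := le_top
  obtain ⟨ψ, hψ⟩ : ∃ ψ : Rb →+* Γ(X, U), ψ = (f.appLE ⊤ U e).hom.comp
      (Scheme.ΓSpecIso (CommRingCat.of Rb)).inv.hom := ⟨_, rfl⟩
  have hψft : ψ.FiniteType := by
    rw [hψ]
    refine RingHom.FiniteType.comp (f.finiteType_appLE (isAffineOpen_top _) hU e) ?_
    apply RingHom.FiniteType.of_surjective
    exact (ConcreteCategory.bijective_of_isIso (Scheme.ΓSpecIso (CommRingCat.of Rb)).inv).2
  letI algS : Algebra Rb Γ(X, U) := ψ.toAlgebra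
  haveI hftS : Algebra.FiniteType Rb Γ(X, U) := hψft
  have hspec : Spec.map (CommRingCat.ofHom ψ) = hU.fromSpec ≫ f := by
    have h1 := IsAffineOpen.SpecMap_appLE_fromSpec f
      (isAffineOpen_top (Spec (CommRingCat.of Rb))) hU e
    rw [IsAffineOpen.fromSpec_top, Scheme.isoSpec_Spec_inv] at h1
    rw [← h1, hψ, CommRingCat.ofHom_comp, CommRingCat.ofHom_hom, CommRingCat.ofHom_hom,
      Spec.map_comp]
  have hlo : (hU.primeIdealOf ⟨x, hxU⟩).asIdeal.LiesOver (maximalIdeal Rb) := by
    constructor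
    have h1 : (Spec.map (CommRingCat.ofHom ψ)).base (hU.primeIdealOf ⟨x, hxU⟩) = f.base x := by
      rw [hspec]
      exact congrArg (fun z => f.base z) (hU.fromSpec_primeIdealOf ⟨x, hxU⟩)
    rw [hx] at h1
    have h2 : (PrimeSpectrum.comap ψ (hU.primeIdealOf ⟨x, hxU⟩)).asIdeal =
        (closedPoint Rb).asIdeal := congrArg (fun z : PrimeSpectrum Rb => z.asIdeal) h1
    exact h2.symm
  letI algst : Algebra Γ(X, U) (X.presheaf.stalk x) :=
    TopCat.Presheaf.algebra_section_stalk X.presheaf ⟨x, hxU⟩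
  haveI hlocst : IsLocalization.AtPrime (X.presheaf.stalk x)
      (hU.primeIdealOf ⟨x, hxU⟩).asIdeal := hU.isLocalization_stalk ⟨x, hxU⟩
  exact ⟨Γ(X, U), inferInstance, algS, hftS, (hU.primeIdealOf ⟨x, hxU⟩).asIdeal, inferInstance,
    hlo, ⟨(IsLocalization.algEquiv (hU.primeIdealOf ⟨x, hxU⟩).asIdeal.primeCompl
      (Localization.AtPrime (hU.primeIdealOf ⟨x, hxU⟩).asIdeal)
      (X.presheaf.stalk x)).toRingEquiv⟩⟩

/-- From a maximal ideal of a finitely generated algebra over a local ring to a closed point of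
an affine scheme of finite type. -/
theorem output_side (Rb' : Type u) [CommRing Rb'] [IsLocalRing Rb'] (D : Type u) [CommRing D]
    (φ : Rb' →+* D) (hφ : φ.FiniteType) (P : Ideal D) [hP : P.IsMaximal]
    (hPc : P.comap φ = maximalIdeal Rb')
    (A : Type u) [CommRing A] [IsLocalRing A] [Algebra (Localization.AtPrime P) A]
    [IsLocalHom (algebraMap (Localization.AtPrime P) A)]
    [Hensel.IsStrictHenselization (Localization.AtPrime P) A] :
    ∃ (X' : Scheme.{u}) (f' : X' ⟶ Spec (CommRingCat.of Rb')) (_ : LocallyOfFiniteType f')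
      (_ : QuasiCompact f') (x' : X') (_ : IsClosed ({x'} : Set X'))
      (_ : f'.base x' = ((closedPoint Rb' : PrimeSpectrum Rb') : ↥(Spec (CommRingCat.of Rb'))))
      (_ : Algebra (X'.presheaf.stalk x') A) (_ : IsLocalHom (algebraMap (X'.presheaf.stalk x') A)),
      Hensel.IsStrictHenselization (X'.presheaf.stalk x') A := by
  obtain ⟨xP, hxP⟩ : ∃ xP : PrimeSpectrum D, xP.asIdeal = P := ⟨⟨P, hP.isPrime⟩, rfl⟩
  subst hxP
  have hft : LocallyOfFiniteType (Spec.map (CommRingCat.ofHom φ)) :=
    (HasRingHomProperty.Spec_iff (P := @LocallyOfFiniteType)).mpr hφ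
  have hcl : IsClosed ({xP} : Set (PrimeSpectrum D)) :=
    (PrimeSpectrum.isClosed_singleton_iff_isMaximal _).mpr hP
  have hbase : (Spec.map (CommRingCat.ofHom φ)).base xP =
      ((closedPoint Rb' : PrimeSpectrum Rb') : ↥(Spec (CommRingCat.of Rb'))) := by
    apply PrimeSpectrum.ext
    exact hPc
  letI : Algebra D ((Spec (CommRingCat.of D)).presheaf.stalk xP) :=
    StructureSheaf.stalkAlgebra D xP
  haveI : IsLocalization.AtPrime ((Spec (CommRingCat.of D)).presheaf.stalk xP) xP.asIdeal :=
    StructureSheaf.IsLocalization.to_stalk D xP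
  haveI : IsLocalRing ((Spec (CommRingCat.of D)).presheaf.stalk xP) :=
    inferInstanceAs (IsLocalRing ((Spec (CommRingCat.of D)).presheaf.stalk
      (show ↥(Spec (CommRingCat.of D)) from xP)))
  obtain ⟨est, -⟩ : ∃ est : ((Spec (CommRingCat.of D)).presheaf.stalk xP) ≃+*
      Localization.AtPrime xP.asIdeal, True :=
    ⟨(IsLocalization.algEquiv xP.asIdeal.primeCompl (Localization.AtPrime xP.asIdeal)
      ((Spec (CommRingCat.of D)).presheaf.stalk xP)).toRingEquiv.symm, trivial⟩
  obtain ⟨alg, loc, hsh⟩ := transport ((Spec (CommRingCat.of D)).presheaf.stalk xP)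
    (Localization.AtPrime xP.asIdeal) A est
  exact ⟨Spec (CommRingCat.of D), Spec.map (CommRingCat.ofHom φ), hft, inferInstance, xP, hcl,
    hbase, alg, loc, hsh⟩

/-- The local ring of `R[t₁,…,tₙ]` at the prime `m_R[t]` is a discrete valuation ring when `R` is. -/
theorem isDVR_localization_map_C (R : Type u) [CommRing R] [IsDomain R]
    [IsDiscreteValuationRing R] (ι : Type u) [Finite ι] (p : Ideal (MvPolynomial ι R)) [p.IsPrime]
    (hp : p = Ideal.map MvPolynomial.C (maximalIdeal R)) :
    IsNoetherianRing (Localization.AtPrime p) ∧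
      ∃ _ : IsDomain (Localization.AtPrime p), IsDiscreteValuationRing (Localization.AtPrime p) := by
  obtain ⟨ϖ, hϖ⟩ := IsDiscreteValuationRing.exists_irreducible R
  have hmax : maximalIdeal R = Ideal.span {ϖ} := hϖ.maximalIdeal_eq
  have hp' : p = Ideal.span {MvPolynomial.C ϖ} := by
    rw [hp, hmax, Ideal.map_span, Set.image_singleton]
  haveI hnoeth : IsNoetherianRing (Localization.AtPrime p) :=
    IsLocalization.isNoetherianRing p.primeCompl _ inferInstance
  haveI hdom : IsDomain (Localization.AtPrime p) :=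
    IsLocalization.isDomain_localization p.primeCompl_le_nonZeroDivisors
  have hinj : Function.Injective (algebraMap (MvPolynomial ι R) (Localization.AtPrime p)) :=
    IsLocalization.injective _ p.primeCompl_le_nonZeroDivisors
  have h1 : maximalIdeal (Localization.AtPrime p) =
      Ideal.span {algebraMap (MvPolynomial ι R) (Localization.AtPrime p) (MvPolynomial.C ϖ)} := by
    rw [← Localization.AtPrime.map_eq_maximalIdeal]
    exact (congrArg (Ideal.map (algebraMap (MvPolynomial ι R) (Localization.AtPrime p))) hp').trans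
      (by rw [Ideal.map_span, Set.image_singleton])
  have hnf : ¬ IsField (Localization.AtPrime p) := by
    rw [IsLocalRing.isField_iff_maximalIdeal_eq, h1, Ideal.span_singleton_eq_bot]
    intro h0
    have h2 : MvPolynomial.C ϖ = (0 : MvPolynomial ι R) := hinj (by rw [h0, map_zero])
    have h3 : ϖ = 0 := MvPolynomial.C_injective ι R (by rw [h2, map_zero])
    exact hϖ.ne_zero h3
  have hpr : Submodule.IsPrincipal (maximalIdeal (Localization.AtPrime p)) := ⟨⟨_, h1⟩⟩
  exact ⟨hnoeth, hdom,
    ((IsDiscreteValuationRing.TFAE (Localization.AtPrime p) hnf).out 0 4).mpr hpr⟩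

end Groth.Agent.Lib.Helper15.ShClosedPt
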