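import Mathlib
import Groth.Agent.Lib.Helper15.ShClosedPtSch

/-!
# Helper library (helper15): strict henselizations of finite type local rings are strict
henselizations at closed points (over a field, over a discrete valuation ring)
-/

set_option autoImplicit false
universe u
open CategoryTheory AlgebraicGeometry IsLocalRing TensorProduct

namespace Groth.Agent.Lib.Helper15.ShClosedPt

open Groth.Agent.Lib.Helper8.Hzl

theorem maximalIdeal_shens_eq_bot (R₀ : Type u) [CommRing R₀] (p : Ideal R₀) [p.IsPrime]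
    (hp0 : p = ⊥) : maximalIdeal (SHens (Localization.AtPrime p)) = ⊥ := by
  haveI hRh := isStrictHenselization (Localization.AtPrime p)
  have hmΛ : IsLocalRing.maximalIdeal (Localization.AtPrime p) = ⊥ := by
    rw [← Localization.AtPrime.map_eq_maximalIdeal, Ideal.map_eq_bot_iff_le_ker]
    exact hp0.le.trans bot_le
  have h1 := strictHenselization_map_maximalIdeal (Localization.AtPrime p)
    (SHens (Localization.AtPrime p))
  rw [← h1, Ideal.map_eq_bot_iff_le_ker, hmΛ]
  exact bot_le

theorem field_result (k : Type u) [Field k] {X : Scheme.{u}}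
    (f : X ⟶ Spec (CommRingCat.of k)) [LocallyOfFiniteType f] (x : X)
    (A : Type u) [CommRing A] [IsLocalRing A] [Algebra (X.presheaf.stalk x) A]
    [IsLocalHom (algebraMap (X.presheaf.stalk x) A)]
    [Hensel.IsStrictHenselization (X.presheaf.stalk x) A] :
    ∃ (k' : Type u) (_ : Field k') (_ : IsSepClosed k') (X' : Scheme.{u})
      (f' : X' ⟶ Spec (CommRingCat.of k'))
      (_ : LocallyOfFiniteType f') (_ : QuasiCompact f') (x' : X') (_ : IsClosed ({x'} : Set X'))
      (_ : Algebra (X'.presheaf.stalk x') A) (_ : IsLocalHom (algebraMap (X'.presheaf.stalk x') A)),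
      Hensel.IsStrictHenselization (X'.presheaf.stalk x') A := by
  classical
  have hx : f.base x = ((IsLocalRing.closedPoint k : PrimeSpectrum k) :
      ↥(Spec (CommRingCat.of k))) := Subsingleton.elim _ _
  obtain ⟨S, iS, aS, ftS, q, hq, hlo, ⟨e⟩⟩ := input_side k f x hx
  obtain ⟨alg₀, loc₀, hsh₀⟩ := transport (Localization.AtPrime q) (X.presheaf.stalk x) A e
  obtain ⟨ι, hι, p, hp, hpeq, D, iD, φ, hφ, P, hP, hPc, alg, loc, hsh⟩ := ring_core k S q A
  haveI hRh := isStrictHenselization (Localization.AtPrime p)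
  have hm0 : IsLocalRing.maximalIdeal k = ⊥ := IsLocalRing.maximalIdeal_eq_bot
  have hp0 : p = ⊥ := by rw [hpeq, hm0, Ideal.map_bot]
  have hmRh := maximalIdeal_shens_eq_bot (MvPolynomial ι k) p hp0
  have hinj : Function.Injective (IsLocalRing.residue (SHens (Localization.AtPrime p))) := by
    rw [RingHom.injective_iff_ker_eq_bot, IsLocalRing.ker_residue, hmRh]
  obtain ⟨eres, -⟩ : ∃ eres : SHens (Localization.AtPrime p) ≃+*
      IsLocalRing.ResidueField (SHens (Localization.AtPrime p)), True :=
    ⟨RingEquiv.ofBijective (IsLocalRing.residue _) ⟨hinj, IsLocalRing.residue_surjective⟩,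
      trivial⟩
  have hsc : IsSepClosed (IsLocalRing.ResidueField (SHens (Localization.AtPrime p))) :=
    hRh.isSepClosure.sep_closed
  obtain ⟨φ', hφ'def⟩ : ∃ φ' : IsLocalRing.ResidueField (SHens (Localization.AtPrime p)) →+* D,
      φ' = φ.comp (eres.symm : IsLocalRing.ResidueField (SHens (Localization.AtPrime p)) →+*
        SHens (Localization.AtPrime p)) := ⟨_, rfl⟩
  have hφ' : φ'.FiniteType := by
    rw [hφ'def]
    exact hφ.comp (RingHom.FiniteType.of_surjective _ eres.symm.surjective)
  have hPc' : P.comap φ' = IsLocalRing.maximalIdeal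
      (IsLocalRing.ResidueField (SHens (Localization.AtPrime p))) :=
    (Ideal.eq_bot_of_prime _).trans (Ideal.eq_bot_of_prime _).symm
  obtain ⟨X', f', hft, hqc, x', hcl, -, alg', loc', hsh'⟩ :=
    output_side (IsLocalRing.ResidueField (SHens (Localization.AtPrime p))) D φ' hφ' P hPc' A
  exact ⟨IsLocalRing.ResidueField (SHens (Localization.AtPrime p)),
    inferInstance, hsc, X', f', hft, hqc, x', hcl, alg', loc', hsh'⟩

theorem dvr_result (R : Type u) [CommRing R] [IsDomain R]
    [IsDiscreteValuationRing R] {X : Scheme.{u}} (f : X ⟶ Spec (CommRingCat.of R))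
    [LocallyOfFiniteType f] (x : X)
    (hx : f.base x = ((IsLocalRing.closedPoint R : PrimeSpectrum R) : ↥(Spec (CommRingCat.of R))))
    (A : Type u) [CommRing A] [IsLocalRing A] [Algebra (X.presheaf.stalk x) A]
    [IsLocalHom (algebraMap (X.presheaf.stalk x) A)]
    [Hensel.IsStrictHenselization (X.presheaf.stalk x) A] :
    ∃ (R' : Type u) (_ : CommRing R') (_ : IsDomain R') (_ : IsDiscreteValuationRing R')
      (_ : HenselianLocalRing R')
      (_ : IsSepClosed (IsLocalRing.ResidueField R'))
      (X' : Scheme.{u}) (f' : X' ⟶ Spec (CommRingCat.of R')) (_ : LocallyOfFiniteType f')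
      (_ : QuasiCompact f')
      (x' : X') (_ : IsClosed ({x'} : Set X'))
      (_ : f'.base x' = ((IsLocalRing.closedPoint R' : PrimeSpectrum R') :
        ↥(Spec (CommRingCat.of R'))))
      (_ : Algebra (X'.presheaf.stalk x') A) (_ : IsLocalHom (algebraMap (X'.presheaf.stalk x') A)),
      Hensel.IsStrictHenselization (X'.presheaf.stalk x') A := by
  classical
  obtain ⟨S, iS, aS, ftS, q, hq, hlo, ⟨e⟩⟩ := input_side R f x hx
  obtain ⟨alg₀, loc₀, hsh₀⟩ := transport (Localization.AtPrime q) (X.presheaf.stalk x) A e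
  obtain ⟨ι, hι, p, hp, hpeq, D, iD, φ, hφ, P, hP, hPc, alg, loc, hsh⟩ := ring_core R S q A
  haveI hRh := isStrictHenselization (Localization.AtPrime p)
  obtain ⟨hnoeth, hdomΛ, hdvrΛ⟩ := isDVR_localization_map_C R ι p hpeq
  obtain ⟨hdom, hdvr⟩ := (strictHenselization_isDVR_iff (Localization.AtPrime p)
    (SHens (Localization.AtPrime p))).mp ⟨hdomΛ, hdvrΛ⟩
  have hsc : IsSepClosed (IsLocalRing.ResidueField (SHens (Localization.AtPrime p))) :=
    hRh.isSepClosure.sep_closed
  obtain ⟨X', f', hft, hqc, x', hcl, hbase, alg', loc', hsh'⟩ :=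
    output_side (SHens (Localization.AtPrime p)) D φ hφ P hPc A
  exact ⟨SHens (Localization.AtPrime p), inferInstance, hdom, hdvr,
    inferInstance, hsc, X', f', hft, hqc, x', hcl, hbase, alg', loc', hsh'⟩

end Groth.Agent.Lib.Helper15.ShClosedPt
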