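import Mathlib
import Groth.Prelude.Def_SGA4b
import Groth.Agent.S0634

/-!
# The unit `F → f_* f^* F` for sheaves of sets on small etale sites

Type-valued version of the skyscraper argument of `S0634`: if two sections of `F` have the same
image under the unit, then they agree on an etale neighbourhood of (the image of) every geometric
point of the source.  Consequently the unit is a monomorphism when `f` is surjective.
-/

set_option autoImplicit false
open CategoryTheory CategoryTheory.Limits AlgebraicGeometry Opposite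
universe u

namespace Groth.Agent.Lib.Helper15
namespace ShUnit

open Groth.Agent.S0634 Groth.Agent.Lib.Helper15.EtGlue

section

variable {T S : Scheme.{u}} (f : T ⟶ S) {Ω : Type u} [Field Ω] [IsSepClosed Ω]
  (yb : Spec (CommRingCat.of Ω) ⟶ T)

/-- The skyscraper presheaf of sets pushed forward. -/
noncomputable abbrev SK (A : Type (u + 1)) : S.Etaleᵒᵖ ⥤ Type (u + 1) :=
  (EtCoh.bc f).op ⋙ (Scheme.pointSmallEtale yb).skyscraperPresheaf A

noncomputable def πK (A : Type (u + 1)) (V : S.Etale)
    (w : (Scheme.pointSmallEtale yb).fiber.obj ((EtCoh.bc f).obj V)) :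
    (SK f yb A).obj (op V) ⟶ A :=
  Pi.π (fun _ : (Scheme.pointSmallEtale yb).fiber.obj ((EtCoh.bc f).obj V) => A) w

lemma SK_map_π (A : Type (u + 1)) {V V' : S.Etale} (g : V' ⟶ V)
    (w' : (Scheme.pointSmallEtale yb).fiber.obj ((EtCoh.bc f).obj V')) :
    (SK f yb A).map g.op ≫ πK f yb A V' w' =
      πK f yb A V ((Scheme.pointSmallEtale yb).fiber.map ((EtCoh.bc f).map g) w') :=
  (Pi.map'_comp_π _ _ _).trans (Category.comp_id _)

/-- The map from `F` to the pushed-forward skyscraper with value the stalk of `F`. -/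
noncomputable def phi (F : EtDesc.Sh S) :
    F.obj ⟶ SK f yb ((Scheme.pointSmallEtale (yb ≫ f)).presheafFiber.obj F.obj) where
  app V := Pi.lift (fun w =>
    (Scheme.pointSmallEtale (yb ≫ f)).toPresheafFiber V.unop (rho f yb V.unop w) F.obj)
  naturality V V' g := by
    refine Pi.hom_ext _ _ (fun w' => ?_)
    have h1 := SK_map_π f yb ((Scheme.pointSmallEtale (yb ≫ f)).presheafFiber.obj F.obj) g.unop w'
    have h2 := (Scheme.pointSmallEtale (yb ≫ f)).toPresheafFiber_w g.unop
      (rho f yb V'.unop w') F.obj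
    rw [rho_nat] at h2
    refine (Category.assoc _ _ _).trans ?_
    refine Eq.trans ?_ (Category.assoc _ _ _).symm
    refine Eq.trans (congrArg (F.obj.map g ≫ ·) (Pi.lift_π _ _)) ?_
    refine Eq.trans h2 ?_
    refine Eq.trans (Pi.lift_π (fun w =>
      (Scheme.pointSmallEtale (yb ≫ f)).toPresheafFiber V.unop (rho f yb V.unop w) F.obj)
      ((Scheme.pointSmallEtale yb).fiber.map ((EtCoh.bc f).map g.unop) w')).symm ?_
    exact (congrArg (_ ≫ ·) h1).symm

lemma phi_π (F : EtDesc.Sh S) (V : S.Etale)
    (w : (Scheme.pointSmallEtale yb).fiber.obj ((EtCoh.bc f).obj V)) (x : F.obj.obj (op V)) :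
    πK f yb _ V w ((phi f yb F).app (op V) x) =
      (Scheme.pointSmallEtale (yb ≫ f)).toPresheafFiber V (rho f yb V w) F.obj x := by
  have h := ConcreteCategory.congr_hom (Pi.lift_π (fun w =>
      (Scheme.pointSmallEtale (yb ≫ f)).toPresheafFiber V (rho f yb V w) F.obj) w) x
  exact (ConcreteCategory.comp_apply _ _ _).symm.trans h

set_option backward.isDefEq.respectTransparency.types false in
/-- If the images of `s` and `t` under the unit agree then `s` and `t` agree on an etale
neighbourhood of the image of any lift `w₀` of the geometric point `yb` to `T ×_S V`. -/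
lemma exists_nbhd_of_unit_eq (F : EtDesc.Sh S) (V : S.Etale) (s t : F.obj.obj (op V))
    (w₀ : (Scheme.pointSmallEtale yb).fiber.obj ((EtCoh.bc f).obj V))
    (h : ((EtDesc.adjSh f).unit.app F).hom.app (op V) s =
          ((EtDesc.adjSh f).unit.app F).hom.app (op V) t) :
    ∃ (Y : S.Etale) (g : Y ⟶ V) (y : (Scheme.pointSmallEtale (yb ≫ f)).fiber.obj Y),
      (Scheme.pointSmallEtale (yb ≫ f)).fiber.map g y = rho f yb V w₀ ∧
        F.obj.map g.op s = F.obj.map g.op t := by
  let A := (Scheme.pointSmallEtale (yb ≫ f)).presheafFiber.obj F.obj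
  let G : EtDesc.Sh T := (Scheme.pointSmallEtale yb).skyscraperSheaf A
  let φ' : F ⟶ (EtDesc.pushSh f).obj G := ⟨phi f yb F⟩
  let ψ := ((EtDesc.adjSh f).homEquiv F G).symm φ'
  have e : (EtDesc.adjSh f).unit.app F ≫ (EtDesc.pushSh f).map ψ = φ' := by
    have e0 := (EtDesc.adjSh f).homEquiv_unit (X := F) (Y := G) (f := ψ)
    exact e0.symm.trans (Equiv.apply_symm_apply _ _)
  have key : ∀ x : F.obj.obj (op V), (phi f yb F).app (op V) x =
      ((EtDesc.pushSh f).map ψ).hom.app (op V)
        (((EtDesc.adjSh f).unit.app F).hom.app (op V) x) := by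
    intro x
    have e2 := congrArg (fun m : F ⟶ (EtDesc.pushSh f).obj G => m.hom.app (op V) x) e
    exact e2.symm
  have hphi : (phi f yb F).app (op V) s = (phi f yb F).app (op V) t := by
    rw [key s, key t, h]
  have hg : πK f yb A V w₀ ((phi f yb F).app (op V) s) =
      πK f yb A V w₀ ((phi f yb F).app (op V) t) := by rw [hphi]
  rw [phi_π, phi_π] at hg
  rw [(Scheme.pointSmallEtale (yb ≫ f)).toPresheafFiber_eq_iff' (P := F.obj)] at hg
  obtain ⟨Y, g, y, hy, hst⟩ := hg
  exact ⟨Y, g, y, hy, hst⟩

end

/-- Sections of a sheaf of sets: injectivity on all sections gives a monomorphism. -/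
lemma mono_of_injective_sh {X : Scheme.{u}} {F G : EtDesc.Sh X} (φ : F ⟶ G)
    (h : ∀ U : X.Etaleᵒᵖ, Function.Injective (φ.hom.app U)) : Mono φ := by
  have : ∀ U, Mono (φ.hom.app U) := fun U => (mono_iff_injective _).mpr (h U)
  have : Mono φ.hom := NatTrans.mono_of_mono_app _
  exact Sheaf.Hom.mono_of_presheaf_mono _ _ φ

lemma injective_of_mono_sh {X : Scheme.{u}} {F G : EtDesc.Sh X} (ψ : F ⟶ G) [Mono ψ]
    (V : X.Etaleᵒᵖ) : Function.Injective (ψ.hom.app V) := by
  have : Mono ((sheafToPresheaf X.smallEtaleTopology (Type (u + 1)) ⋙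
      (evaluation _ _).obj V).map ψ) := inferInstance
  exact (mono_iff_injective _).mp this

set_option backward.isDefEq.respectTransparency.types false in
/-- For a surjective morphism the unit `F → f_* f^* F` is a monomorphism. -/
theorem mono_unit_of_surjective {T S : Scheme.{u}} (f : T ⟶ S)
    (hf : Function.Surjective f.base) (F : EtDesc.Sh S) :
    Mono ((EtDesc.adjSh f).unit.app F) := by
  apply mono_of_injective_sh
  rintro ⟨V⟩ s t h
  apply EtGlue.eq_of_locally F s t
  intro v
  obtain ⟨t₀, ht₀⟩ := hf (V.hom.base v)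
  obtain ⟨p, hp1, -⟩ := Scheme.Pullback.exists_preimage_pullback (f := V.hom) (g := f) v t₀ ht₀.symm
  let wb : Spec (CommRingCat.of (SeparableClosure ((pullback V.hom f).residueField p))) ⟶
      pullback V.hom f :=
    (Scheme.SpecToEquivOfField (SeparableClosure ((pullback V.hom f).residueField p)) _).2
      ⟨p, CommRingCat.ofHom (algebraMap ((pullback V.hom f).residueField p) _)⟩
  have hwb : wb.base default = p := by simp [wb, Scheme.SpecToEquivOfField]
  let w₀ : (Scheme.pointSmallEtale (wb ≫ pullback.snd V.hom f)).fiber.obj ((EtCoh.bc f).obj V) :=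
    Over.homMk wb rfl
  obtain ⟨Y, g, y, hy, hst⟩ :=
    exists_nbhd_of_unit_eq f (wb ≫ pullback.snd V.hom f) F V s t w₀ h
  refine ⟨Y, g, y.left.base (default : Spec (CommRingCat.of
    (SeparableClosure ((pullback V.hom f).residueField p)))), ?_, hst⟩
  have h1 : y.left ≫ g.left = wb ≫ pullback.fst V.hom f := congrArg (fun m => m.left) hy
  have h2 := congrArg (fun m : Spec (CommRingCat.of
    (SeparableClosure ((pullback V.hom f).residueField p))) ⟶ V.left => m.base default) h1
  refine h2.trans ?_
  show (pullback.fst V.hom f).base (wb.base default) = v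
  rw [hwb, hp1]

end ShUnit
end Groth.Agent.Lib.Helper15
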