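import Mathlib
import Groth.Prelude.Def_W4c2movlemaddchowShuffle

/-!
# Shuffle decomposition lemmas (helper15)
-/

namespace Helper15.Shuffle

open W4c2movlemaddchow Equiv

theorem pinv {α : Type*} (σ : Perm α) (x : α) : σ (σ⁻¹ x) = x := σ.apply_symm_apply x

theorem extRight_castAdd (a t : ℕ) (σ : Perm (Fin a)) (x : Fin a) :
    extRight a t σ (Fin.castAdd t x) = Fin.castAdd t (σ x) := by
  simp [extRight, Equiv.permCongr_apply]

theorem extRight_natAdd (a t : ℕ) (σ : Perm (Fin a)) (l : Fin t) :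
    extRight a t σ (Fin.natAdd a l) = Fin.natAdd a l := by
  simp [extRight, Equiv.permCongr_apply]

theorem extRight_inv_castAdd (a t : ℕ) (σ : Perm (Fin a)) (x : Fin a) :
    (extRight a t σ)⁻¹ (Fin.castAdd t x) = Fin.castAdd t (σ⁻¹ x) := by
  rw [Equiv.Perm.inv_def, Equiv.symm_apply_eq, extRight_castAdd, pinv]

theorem extRight_inv_natAdd (a t : ℕ) (σ : Perm (Fin a)) (l : Fin t) :
    (extRight a t σ)⁻¹ (Fin.natAdd a l) = Fin.natAdd a l := by
  rw [Equiv.Perm.inv_def, Equiv.symm_apply_eq, extRight_natAdd]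

theorem strictMono_left {a t : ℕ} (τ : Perm (Fin (a + t)))
    (h : Monotone fun i : Fin a => τ (Fin.castAdd t i)) :
    StrictMono fun i : Fin a => τ (Fin.castAdd t i) :=
  h.strictMono_of_injective (fun _ _ hxy => Fin.castAdd_injective _ _ (τ.injective hxy))

theorem strictMono_right {a t : ℕ} (τ : Perm (Fin (a + t)))
    (h : Monotone fun i : Fin t => τ (Fin.natAdd a i)) :
    StrictMono fun i : Fin t => τ (Fin.natAdd a i) :=
  h.strictMono_of_injective (fun _ _ hxy => Fin.natAdd_injective _ _ (τ.injective hxy))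

theorem mapsTo_right (r s t : ℕ) (τ : Perm (Fin (r + s + t))) (σ : Perm (Fin (r + s)))
    (hτ : IsShuffle₂ (r + s) t τ) (hσ : IsShuffle₂ r s σ) :
    IsShuffle₃ r s t (τ * extRight (r + s) t σ) := by
  refine ⟨?_, ?_, ?_⟩
  · intro i i' h
    simp only [Perm.mul_apply, extRight_castAdd]
    exact hτ.1 (hσ.1 h)
  · intro i i' h
    simp only [Perm.mul_apply, extRight_castAdd]
    exact hτ.1 (hσ.2 h)
  · intro i i' h
    simp only [Perm.mul_apply, extRight_natAdd]
    exact hτ.2 h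

theorem injOn_right (r s t : ℕ) (τ₁ τ₂ : Perm (Fin (r + s + t))) (σ₁ σ₂ : Perm (Fin (r + s)))
    (hτ₁ : IsShuffle₂ (r + s) t τ₁) (hτ₂ : IsShuffle₂ (r + s) t τ₂)
    (heq : τ₁ * extRight (r + s) t σ₁ = τ₂ * extRight (r + s) t σ₂) : τ₁ = τ₂ ∧ σ₁ = σ₂ := by
  have hf1 := strictMono_left τ₁ hτ₁.1
  have hf2 := strictMono_left τ₂ hτ₂.1
  have hcomp : ∀ x, τ₁ (Fin.castAdd t (σ₁ x)) = τ₂ (Fin.castAdd t (σ₂ x)) := by
    intro x
    have := congrArg (fun p : Perm (Fin (r + s + t)) => p (Fin.castAdd t x)) heq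
    simpa only [Perm.mul_apply, extRight_castAdd] using this
  have hrange : Set.range (fun i => τ₁ (Fin.castAdd t i)) =
      Set.range (fun i => τ₂ (Fin.castAdd t i)) := by
    ext y
    constructor
    · rintro ⟨i, rfl⟩
      refine ⟨σ₂ (σ₁⁻¹ i), ?_⟩
      have := hcomp (σ₁⁻¹ i)
      rw [pinv] at this
      exact this.symm
    · rintro ⟨i, rfl⟩
      refine ⟨σ₁ (σ₂⁻¹ i), ?_⟩
      have := hcomp (σ₂⁻¹ i)
      rw [pinv] at this
      exact this
  have hfeq := (hf1.range_inj hf2).mp hrange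
  have hσ : σ₁ = σ₂ := by
    refine Equiv.ext fun x => ?_
    have h1 := hcomp x
    have h2 := congrFun hfeq (σ₂ x)
    exact hf1.injective (h1.trans h2.symm)
  subst hσ
  exact ⟨mul_right_cancel heq, rfl⟩

theorem surjOn_right (r s t : ℕ) (ν : Perm (Fin (r + s + t))) (hν : IsShuffle₃ r s t ν) :
    ∃ (τ : Perm (Fin (r + s + t))) (σ : Perm (Fin (r + s))), IsShuffle₂ (r + s) t τ ∧
      IsShuffle₂ r s σ ∧ τ * extRight (r + s) t σ = ν := by
  classical
  obtain ⟨f, hf⟩ : ∃ f : Fin (r + s) → Fin (r + s + t), ∀ a, f a = ν (Fin.castAdd t a) :=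
    ⟨_, fun _ => rfl⟩
  have hfinj : Function.Injective f := fun x y h => by
    rw [hf, hf] at h; exact Fin.castAdd_injective _ _ (ν.injective h)
  obtain ⟨S, hS⟩ : ∃ S : Finset (Fin (r + s + t)), S = Finset.univ.image f := ⟨_, rfl⟩
  have hcard : S.card = r + s := by
    rw [hS, Finset.card_image_of_injective _ hfinj, Finset.card_univ, Fintype.card_fin]
  have hmem : ∀ a, f a ∈ S := fun a => by
    rw [hS]; exact Finset.mem_image_of_mem f (Finset.mem_univ a)
  obtain ⟨e, -⟩ : ∃ e : Fin (r + s) ≃o {x // x ∈ S}, True := ⟨S.orderIsoOfFin hcard, trivial⟩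
  have hσbij : Function.Bijective (fun a : Fin (r + s) => e.symm ⟨f a, hmem a⟩) := by
    rw [← Finite.injective_iff_bijective]
    intro x y h
    have := e.symm.injective h
    exact hfinj (Subtype.ext_iff.mp this)
  obtain ⟨σ, hσ⟩ : ∃ σ : Perm (Fin (r + s)), ∀ a, σ a = e.symm ⟨f a, hmem a⟩ :=
    ⟨Equiv.ofBijective _ hσbij, fun _ => rfl⟩
  have hσe : ∀ a, (e (σ a) : Fin (r + s + t)) = f a := by
    intro a; rw [hσ, OrderIso.apply_symm_apply]
  refine ⟨ν * (extRight (r + s) t σ)⁻¹, σ, ⟨?_, ?_⟩, ⟨?_, ?_⟩, ?_⟩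
  · have key : ∀ a, (ν * (extRight (r + s) t σ)⁻¹) (Fin.castAdd t a) = e a := by
      intro a
      rw [Perm.mul_apply, extRight_inv_castAdd, ← hf, ← hσe, pinv]
    intro a a' h
    simp only [key]
    exact e.monotone h
  · intro l l' h
    simp only [Perm.mul_apply, extRight_inv_natAdd]
    exact hν.2.2 h
  · intro i i' h
    have h1 : f (Fin.castAdd s i) ≤ f (Fin.castAdd s i') := by
      rw [hf, hf]; exact hν.1 h
    rw [← hσe, ← hσe] at h1
    exact e.le_iff_le.mp (Subtype.coe_le_coe.mp h1)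
  · intro i i' h
    have h1 : f (Fin.natAdd r i) ≤ f (Fin.natAdd r i') := by
      rw [hf, hf]; exact hν.2.1 h
    rw [← hσe, ← hσe] at h1
    exact e.le_iff_le.mp (Subtype.coe_le_coe.mp h1)
  · rw [inv_mul_cancel_right]

theorem sign_extRight (a t : ℕ) (σ : Perm (Fin a)) :
    Perm.sign (extRight a t σ) = Perm.sign σ := by
  unfold extRight
  rw [Perm.sign_permCongr]
  exact (Perm.sign_sumCongr σ (Equiv.refl (Fin t))).trans
    (by rw [Perm.sign_refl, _root_.mul_one])

section Left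

variable (r s t : ℕ)

/-- the reassociation equivalence -/
abbrev cc : Fin (r + s + t) ≃ Fin (r + (s + t)) := finCongr (Nat.add_assoc r s t)

/-- extend by the identity on the first `r` letters -/
def extL (r u : ℕ) (σ : Perm (Fin u)) : Perm (Fin (r + u)) :=
  finSumFinEquiv.permCongr ((Equiv.refl (Fin r)).sumCongr σ)

theorem extL_castAdd (r u : ℕ) (σ : Perm (Fin u)) (i : Fin r) :
    extL r u σ (Fin.castAdd u i) = Fin.castAdd u i := by
  simp [extL, Equiv.permCongr_apply]

theorem extL_natAdd (r u : ℕ) (σ : Perm (Fin u)) (j : Fin u) :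
    extL r u σ (Fin.natAdd r j) = Fin.natAdd r (σ j) := by
  simp [extL, Equiv.permCongr_apply]

theorem extLeft_eq (σ : Perm (Fin (s + t))) (x : Fin (r + s + t)) :
    extLeft r s t σ x = (cc r s t).symm (extL r (s + t) σ (cc r s t x)) := rfl

/-- first block -/
def inL (i : Fin r) : Fin (r + s + t) := (cc r s t).symm (Fin.castAdd (s + t) i)

/-- last two blocks -/
def inR (j : Fin (s + t)) : Fin (r + s + t) := (cc r s t).symm (Fin.natAdd r j)

theorem extLeft_inL (σ : Perm (Fin (s + t))) (i : Fin r) :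
    extLeft r s t σ (inL r s t i) = inL r s t i := by
  unfold inL
  rw [extLeft_eq, Equiv.apply_symm_apply, extL_castAdd]

theorem extLeft_inR (σ : Perm (Fin (s + t))) (j : Fin (s + t)) :
    extLeft r s t σ (inR r s t j) = inR r s t (σ j) := by
  unfold inR
  rw [extLeft_eq, Equiv.apply_symm_apply, extL_natAdd]

theorem extLeft_inv_inL (σ : Perm (Fin (s + t))) (i : Fin r) :
    (extLeft r s t σ)⁻¹ (inL r s t i) = inL r s t i := by
  rw [Equiv.Perm.inv_def, Equiv.symm_apply_eq, extLeft_inL]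

theorem extLeft_inv_inR (σ : Perm (Fin (s + t))) (j : Fin (s + t)) :
    (extLeft r s t σ)⁻¹ (inR r s t j) = inR r s t (σ⁻¹ j) := by
  rw [Equiv.Perm.inv_def, Equiv.symm_apply_eq, extLeft_inR, pinv]

theorem inL_eq (i : Fin r) : inL r s t i = Fin.castAdd t (Fin.castAdd s i) :=
  Fin.ext (by simp [inL])

theorem inR_castAdd (j : Fin s) :
    inR r s t (Fin.castAdd t j) = Fin.castAdd t (Fin.natAdd r j) :=
  Fin.ext (by simp [inR])

theorem inR_natAdd (l : Fin t) :
    inR r s t (Fin.natAdd s l) = Fin.natAdd (r + s) l :=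
  Fin.ext (by simp [inR] <;> omega)

theorem inR_injective : Function.Injective (inR r s t) :=
  fun _ _ h => Fin.natAdd_injective _ _ ((cc r s t).symm.injective h)

theorem cc_le (a b : Fin (r + s + t)) : cc r s t a ≤ cc r s t b ↔ a ≤ b := Iff.rfl

theorem isShuffle₃_iff (ν : Perm (Fin (r + s + t))) : IsShuffle₃ r s t ν ↔
    Monotone (fun i => ν (inL r s t i)) ∧
      Monotone (fun j : Fin s => ν (inR r s t (Fin.castAdd t j))) ∧
        Monotone (fun l : Fin t => ν (inR r s t (Fin.natAdd s l))) := by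
  simp only [IsShuffle₃, inL_eq, inR_castAdd, inR_natAdd]

theorem isShuffle₂_conj_iff (τ : Perm (Fin (r + s + t))) :
    IsShuffle₂ r (s + t) ((finCongr (Nat.add_assoc r s t)).permCongr τ) ↔
      Monotone (fun i => τ (inL r s t i)) ∧ Monotone (fun j => τ (inR r s t j)) := by
  constructor
  · rintro ⟨h1, h2⟩
    refine ⟨fun i i' h => ?_, fun j j' h => ?_⟩
    · have := h1 h
      simp only [Equiv.permCongr_apply] at this
      exact (cc_le r s t _ _).mp this
    · have := h2 h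
      simp only [Equiv.permCongr_apply] at this
      exact (cc_le r s t _ _).mp this
  · rintro ⟨h1, h2⟩
    refine ⟨fun i i' h => ?_, fun j j' h => ?_⟩
    · simp only [Equiv.permCongr_apply]
      exact (cc_le r s t _ _).mpr (h1 h)
    · simp only [Equiv.permCongr_apply]
      exact (cc_le r s t _ _).mpr (h2 h)

theorem sign_extLeft (σ : Perm (Fin (s + t))) :
    Perm.sign (extLeft r s t σ) = Perm.sign σ := by
  unfold extLeft
  rw [Perm.sign_permCongr, Perm.sign_permCongr]
  exact (Perm.sign_sumCongr (Equiv.refl (Fin r)) σ).trans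
    (by rw [Perm.sign_refl, _root_.one_mul])

theorem mapsTo_left (τ : Perm (Fin (r + s + t))) (σ : Perm (Fin (s + t)))
    (hτ : IsShuffle₂ r (s + t) ((finCongr (Nat.add_assoc r s t)).permCongr τ))
    (hσ : IsShuffle₂ s t σ) :
    IsShuffle₃ r s t (τ * extLeft r s t σ) := by
  have hτ' := (isShuffle₂_conj_iff r s t τ).mp hτ
  rw [isShuffle₃_iff]
  refine ⟨?_, ?_, ?_⟩
  · intro i i' h
    simp only [Perm.mul_apply, extLeft_inL]
    exact hτ'.1 h
  · intro j j' h
    simp only [Perm.mul_apply, extLeft_inR]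
    exact hτ'.2 (hσ.1 h)
  · intro l l' h
    simp only [Perm.mul_apply, extLeft_inR]
    exact hτ'.2 (hσ.2 h)

theorem injOn_left (τ₁ τ₂ : Perm (Fin (r + s + t))) (σ₁ σ₂ : Perm (Fin (s + t)))
    (hτ₁ : IsShuffle₂ r (s + t) ((finCongr (Nat.add_assoc r s t)).permCongr τ₁))
    (hτ₂ : IsShuffle₂ r (s + t) ((finCongr (Nat.add_assoc r s t)).permCongr τ₂))
    (heq : τ₁ * extLeft r s t σ₁ = τ₂ * extLeft r s t σ₂) : τ₁ = τ₂ ∧ σ₁ = σ₂ := by
  have h1 := ((isShuffle₂_conj_iff r s t τ₁).mp hτ₁).2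
  have h2 := ((isShuffle₂_conj_iff r s t τ₂).mp hτ₂).2
  have hinj : Function.Injective (inR r s t) := inR_injective r s t
  have hf1 : StrictMono fun j => τ₁ (inR r s t j) :=
    h1.strictMono_of_injective (fun _ _ hxy => hinj (τ₁.injective hxy))
  have hf2 : StrictMono fun j => τ₂ (inR r s t j) :=
    h2.strictMono_of_injective (fun _ _ hxy => hinj (τ₂.injective hxy))
  have hcomp : ∀ x, τ₁ (inR r s t (σ₁ x)) = τ₂ (inR r s t (σ₂ x)) := by
    intro x
    have := congrArg (fun p : Perm (Fin (r + s + t)) => p (inR r s t x)) heq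
    simpa only [Perm.mul_apply, extLeft_inR] using this
  have hrange : Set.range (fun j => τ₁ (inR r s t j)) =
      Set.range (fun j => τ₂ (inR r s t j)) := by
    ext y
    constructor
    · rintro ⟨i, rfl⟩
      refine ⟨σ₂ (σ₁⁻¹ i), ?_⟩
      have := hcomp (σ₁⁻¹ i)
      rw [pinv] at this
      exact this.symm
    · rintro ⟨i, rfl⟩
      refine ⟨σ₁ (σ₂⁻¹ i), ?_⟩
      have := hcomp (σ₂⁻¹ i)
      rw [pinv] at this
      exact this
  have hfeq := (hf1.range_inj hf2).mp hrange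
  have hσ : σ₁ = σ₂ := by
    refine Equiv.ext fun x => ?_
    have e1 := hcomp x
    have e2 := congrFun hfeq (σ₂ x)
    exact hf1.injective (e1.trans e2.symm)
  subst hσ
  exact ⟨mul_right_cancel heq, rfl⟩

theorem surjOn_left (ν : Perm (Fin (r + s + t))) (hν : IsShuffle₃ r s t ν) :
    ∃ (τ : Perm (Fin (r + s + t))) (σ : Perm (Fin (s + t))),
      IsShuffle₂ r (s + t) ((finCongr (Nat.add_assoc r s t)).permCongr τ) ∧
      IsShuffle₂ s t σ ∧ τ * extLeft r s t σ = ν := by
  classical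
  rw [isShuffle₃_iff] at hν
  obtain ⟨f, hf⟩ : ∃ f : Fin (s + t) → Fin (r + s + t), ∀ a, f a = ν (inR r s t a) :=
    ⟨_, fun _ => rfl⟩
  have hfinj : Function.Injective f := fun x y h => by
    rw [hf, hf] at h; exact inR_injective r s t (ν.injective h)
  obtain ⟨S, hS⟩ : ∃ S : Finset (Fin (r + s + t)), S = Finset.univ.image f := ⟨_, rfl⟩
  have hcard : S.card = s + t := by
    rw [hS, Finset.card_image_of_injective _ hfinj, Finset.card_univ, Fintype.card_fin]
  have hmem : ∀ a, f a ∈ S := fun a => by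
    rw [hS]; exact Finset.mem_image_of_mem f (Finset.mem_univ a)
  obtain ⟨e, -⟩ : ∃ e : Fin (s + t) ≃o {x // x ∈ S}, True := ⟨S.orderIsoOfFin hcard, trivial⟩
  have hσbij : Function.Bijective (fun a : Fin (s + t) => e.symm ⟨f a, hmem a⟩) := by
    rw [← Finite.injective_iff_bijective]
    intro x y h
    have := e.symm.injective h
    exact hfinj (Subtype.ext_iff.mp this)
  obtain ⟨σ, hσ⟩ : ∃ σ : Perm (Fin (s + t)), ∀ a, σ a = e.symm ⟨f a, hmem a⟩ :=
    ⟨Equiv.ofBijective _ hσbij, fun _ => rfl⟩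
  have hσe : ∀ a, (e (σ a) : Fin (r + s + t)) = f a := by
    intro a; rw [hσ, OrderIso.apply_symm_apply]
  refine ⟨ν * (extLeft r s t σ)⁻¹, σ, ?_, ⟨?_, ?_⟩, ?_⟩
  · refine (isShuffle₂_conj_iff r s t _).mpr ⟨?_, ?_⟩
    · intro i i' h
      simp only [Perm.mul_apply, extLeft_inv_inL]
      exact hν.1 h
    · have key : ∀ a, (ν * (extLeft r s t σ)⁻¹) (inR r s t a) = e a := by
        intro a
        rw [Perm.mul_apply, extLeft_inv_inR, ← hf, ← hσe, pinv]
      intro a a' h
      simp only [key]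
      exact e.monotone h
  · intro j j' h
    have h1 : f (Fin.castAdd t j) ≤ f (Fin.castAdd t j') := by
      rw [hf, hf]; exact hν.2.1 h
    rw [← hσe, ← hσe] at h1
    exact e.le_iff_le.mp (Subtype.coe_le_coe.mp h1)
  · intro l l' h
    have h1 : f (Fin.natAdd s l) ≤ f (Fin.natAdd s l') := by
      rw [hf, hf]; exact hν.2.2 h
    rw [← hσe, ← hσe] at h1
    exact e.le_iff_le.mp (Subtype.coe_le_coe.mp h1)
  · rw [inv_mul_cancel_right]

end Left

end Helper15.Shuffle
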