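import Mathlib

/-!
# Helper15: the skeleton filtration of a simplicial object of an abelian category (S6818)
-/

set_option autoImplicit false
set_option backward.isDefEq.respectTransparency false
universe v u
open CategoryTheory CategoryTheory.Limits Opposite

namespace Groth.Agent.Lib.Helper15.SimplicialSkel

variable {A : Type u} [Category.{v} A] [Abelian A]

lemma le_kernel_iff {X Y : A} (S : Subobject X) (r : X ⟶ Y) :
    S ≤ kernelSubobject r ↔ S.arrow ≫ r = 0 := by
  constructor
  · intro h
    rw [← Subobject.ofLE_arrow h, Category.assoc, kernelSubobject_arrow_comp, comp_zero]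
  · intro h
    exact Subobject.le_of_comm (factorThruKernelSubobject r S.arrow h)
      (factorThruKernelSubobject_comp_arrow r S.arrow h)

lemma image_le_kernel_iff {W X Y : A} (f : W ⟶ X) (r : X ⟶ Y) :
    imageSubobject f ≤ kernelSubobject r ↔ f ≫ r = 0 := by
  constructor
  · intro h
    have h2 := (le_kernel_iff _ r).mp h
    rw [← imageSubobject_arrow_comp f, Category.assoc, h2, comp_zero]
  · intro h
    exact imageSubobject_le f (factorThruKernelSubobject r f h)
      (factorThruKernelSubobject_comp_arrow r f h)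

lemma image_le_of_comp_cokernel {W X : A} (T : Subobject X) (f : W ⟶ X)
    (h : f ≫ cokernel.π T.arrow = 0) : imageSubobject f ≤ T :=
  imageSubobject_le f (Abelian.monoLift T.arrow f h) (Abelian.monoLift_comp T.arrow f h)

lemma comp_cokernel_of_image_le {W X : A} (T : Subobject X) (f : W ⟶ X)
    (h : imageSubobject f ≤ T) : f ≫ cokernel.π T.arrow = 0 := by
  rw [← imageSubobject_arrow_comp f, ← Subobject.ofLE_arrow h]
  simp only [Category.assoc, cokernel.condition, comp_zero]

lemma exists_proj (U : SimplicialObject A) (k : ℕ) :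
    ∃ p : U.obj (op (SimplexCategory.mk (k + 1))) ⟶ U.obj (op (SimplexCategory.mk (k + 1))),
      (AlgebraicTopology.NormalizedMooreComplex.objX U (k + 1)).arrow ≫ p =
        (AlgebraicTopology.NormalizedMooreComplex.objX U (k + 1)).arrow ∧
      ∀ j : Fin (k + 1), U.σ j ≫ p = 0 := by
  refine ⟨(AlgebraicTopology.DoldKan.PInfty (X := U)).f (k + 1), ?_, fun j => ?_⟩
  · have h := HomologicalComplex.congr_hom
      (AlgebraicTopology.DoldKan.inclusionOfMooreComplexMap_comp_PInfty U) (k + 1)
    rw [HomologicalComplex.comp_f, AlgebraicTopology.inclusionOfMooreComplexMap_f] at h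
    exact h
  · exact AlgebraicTopology.DoldKan.σ_comp_PInfty U j

theorem main (U : SimplicialObject A) (n : ℕ)
    (U' : ∀ m : ℕ, Subobject (U.obj (op (SimplexCategory.mk m))))
    (hU' : ∀ m : ℕ, IsLUB (Set.range (fun φ : Σ i : Fin (n + 1),
      (SimplexCategory.mk m ⟶ SimplexCategory.mk i) => imageSubobject (U.map φ.2.op))) (U' m)) :
    (∀ (m m' : ℕ) (ψ : SimplexCategory.mk m' ⟶ SimplexCategory.mk m),
      imageSubobject ((U' m).arrow ≫ U.map ψ.op) ≤ U' m') ∧
    (∀ i : ℕ, i ≤ n → U' i = ⊤) ∧
    (∀ m : ℕ, n < m → U' m ⊓ AlgebraicTopology.NormalizedMooreComplex.objX U m = ⊥) := by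
  refine ⟨?_, ?_, ?_⟩
  · intro m m' ψ
    apply image_le_of_comp_cokernel
    rw [Category.assoc, ← le_kernel_iff]
    refine (hU' m).2 ?_
    rintro _ ⟨φ, rfl⟩
    show imageSubobject (U.map φ.2.op) ≤ kernelSubobject _
    rw [image_le_kernel_iff, ← Category.assoc, ← Functor.map_comp, ← op_comp]
    exact comp_cokernel_of_image_le _ _ ((hU' m').1 ⟨⟨φ.1, ψ ≫ φ.2⟩, rfl⟩)
  · intro i hi
    rw [eq_top_iff]
    have h := (hU' i).1 ⟨⟨⟨i, Nat.lt_succ_of_le hi⟩, 𝟙 (SimplexCategory.mk i)⟩, rfl⟩
    have e : imageSubobject (U.map (𝟙 (SimplexCategory.mk i)).op) = ⊤ := by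
      rw [op_id, CategoryTheory.Functor.map_id, imageSubobject_mono, Subobject.top_eq_id]
    rw [← e]
    exact h
  · intro m hm
    obtain ⟨k, rfl⟩ : ∃ k, m = k + 1 := ⟨m - 1, by lia⟩
    obtain ⟨p, hp1, hp2⟩ := exists_proj U k
    have hle : U' (k + 1) ≤ kernelSubobject p := by
      refine (hU' (k + 1)).2 ?_
      rintro _ ⟨φ, rfl⟩
      show imageSubobject (U.map φ.2.op) ≤ kernelSubobject _
      rw [image_le_kernel_iff]
      have hninj : ¬ Function.Injective φ.2.toOrderHom := by
        intro hinj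
        have hc := Fintype.card_le_of_injective _ hinj
        simp only [Fintype.card_fin, SimplexCategory.len_mk] at hc
        have := φ.1.2
        lia
      obtain ⟨j, θ', hθ⟩ := SimplexCategory.eq_σ_comp_of_not_injective φ.2 hninj
      have hσ : U.map φ.2.op = U.map θ'.op ≫ U.σ j := by
        rw [hθ, op_comp, Functor.map_comp]
        all_goals rfl
      rw [hσ, Category.assoc, hp2 j, comp_zero]
    obtain ⟨Q, hQ⟩ : ∃ Q, Q = U' (k + 1) ⊓
        AlgebraicTopology.NormalizedMooreComplex.objX U (k + 1) := ⟨_, rfl⟩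
    rw [← hQ]
    have h1 : Q ≤ kernelSubobject p := by rw [hQ]; exact inf_le_left.trans hle
    have h2 : Q ≤ AlgebraicTopology.NormalizedMooreComplex.objX U (k + 1) := by
      rw [hQ]; exact inf_le_right
    have e1 : Q.arrow ≫ p = 0 := (le_kernel_iff Q p).mp h1
    have e2 : Q.arrow ≫ p = Q.arrow := by
      rw [← Subobject.ofLE_arrow h2, Category.assoc, hp1]
    have e3 : Q.arrow = 0 := e2.symm.trans e1
    rw [← Subobject.mk_arrow Q, Subobject.mk_eq_bot_iff_zero]
    exact e3

end Groth.Agent.Lib.Helper15.SimplicialSkel
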