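import Mathlib

set_option autoImplicit false
set_option backward.isDefEq.respectTransparency false

universe u v

namespace Groth.Agent.Lib.Helper15.SkMoore

open CategoryTheory CategoryTheory.Limits Opposite HomologicalComplex AlgebraicTopology
  AlgebraicTopology.DoldKan

section Double

variable {C : Type*} [Category C] [HasZeroMorphisms C] [HasZeroObject C]

open scoped Classical in
/-- Constructor for morphisms to a homological complex `double f hi₀₁`. -/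
noncomputable def mkHomToDouble {X₀ X₁ : C} {f : X₀ ⟶ X₁} {ι : Type*} {c : ComplexShape ι}
    {i₀ i₁ : ι} (hi₀₁ : c.Rel i₀ i₁) (h : i₀ ≠ i₁) {K : HomologicalComplex C c}
    (φ₀ : K.X i₀ ⟶ X₀) (φ₁ : K.X i₁ ⟶ X₁)
    (comm : K.d i₀ i₁ ≫ φ₁ = φ₀ ≫ f)
    (hφ : ∀ (k : ι), c.Rel k i₀ → K.d k i₀ ≫ φ₀ = 0) : K ⟶ double f hi₀₁ where
  f k :=
    if hk₀ : k = i₀ then
      eqToHom (by rw [hk₀]) ≫ φ₀ ≫ (doubleXIso₀ f hi₀₁).inv ≫ eqToHom (by rw [hk₀])
    else if hk₁ : k = i₁ then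
      eqToHom (by rw [hk₁]) ≫ φ₁ ≫ (doubleXIso₁ f hi₀₁ h).inv ≫ eqToHom (by rw [hk₁])
    else 0
  comm' k₀ k₁ hk := by
    by_cases h₁ : k₁ = i₁
    · subst h₁
      obtain rfl := c.prev_eq hk hi₀₁
      rw [dif_pos rfl, dif_neg h.symm, dif_pos rfl]
      simp only [eqToHom_refl, Category.id_comp, Category.comp_id, Category.assoc,
        double_d f hi₀₁ h, Iso.inv_hom_id_assoc]
      rw [reassoc_of% comm]
    · by_cases h₀ : k₁ = i₀
      · subst h₀
        rw [dif_pos rfl]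
        simp only [eqToHom_refl, Category.id_comp, Category.comp_id]
        rw [reassoc_of% (hφ k₀ hk), zero_comp, double_d_eq_zero₁ _ _ _ _ h, comp_zero]
      · apply (isZero_double_X f hi₀₁ k₁ h₀ h₁).eq_of_tgt

lemma mkHomToDouble_f₁ {X₀ X₁ : C} {f : X₀ ⟶ X₁} {ι : Type*} {c : ComplexShape ι}
    {i₀ i₁ : ι} (hi₀₁ : c.Rel i₀ i₁) (h : i₀ ≠ i₁) {K : HomologicalComplex C c}
    (φ₀ : K.X i₀ ⟶ X₀) (φ₁ : K.X i₁ ⟶ X₁)
    (comm : K.d i₀ i₁ ≫ φ₁ = φ₀ ≫ f)
    (hφ : ∀ (k : ι), c.Rel k i₀ → K.d k i₀ ≫ φ₀ = 0) :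
    (mkHomToDouble hi₀₁ h φ₀ φ₁ comm hφ).f i₁ = φ₁ ≫ (doubleXIso₁ f hi₀₁ h).inv := by
  dsimp [mkHomToDouble]
  rw [dif_neg h.symm, if_pos rfl, Category.id_comp, Category.comp_id]

end Double

variable {A : Type u} [Category.{v} A] [Abelian A]

lemma isZero_Γ₀_obj (K : ChainComplex A ℕ) (m : ℕ) (hK : ∀ j, j ≤ m → IsZero (K.X j))
    (Δ : SimplexCategoryᵒᵖ) (hΔ : Δ.unop.len ≤ m) : IsZero ((Γ₀.obj K).obj Δ) := by
  rw [IsZero.iff_id_eq_zero]
  apply (Γ₀.splitting K).hom_ext'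
  intro B
  apply (hK _ ?_).eq_of_src
  have : Epi B.e := inferInstance
  exact (SimplexCategory.len_le_of_epi B.e).trans hΔ

lemma hom_sk_eq (m : ℕ)
    [∀ F : (SimplexCategory.Truncated m)ᵒᵖ ⥤ A,
      (SimplexCategory.Truncated.inclusion m).op.HasLeftKanExtension F]
    (U : SimplicialObject.Truncated A m) (Y : SimplicialObject A)
    (hY : ∀ Δ : SimplexCategoryᵒᵖ, Δ.unop.len ≤ m → IsZero (Y.obj Δ))
    (f g : (SimplicialObject.Truncated.sk m).obj U ⟶ Y) : f = g := by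
  apply (((SimplexCategory.Truncated.inclusion m).op.lanAdjunction A).homEquiv U Y).injective
  ext Δ
  exact (hY _ Δ.unop.2).eq_of_tgt _ _

theorem main (m : ℕ)
    [∀ F : (SimplexCategory.Truncated m)ᵒᵖ ⥤ A,
      (SimplexCategory.Truncated.inclusion m).op.HasLeftKanExtension F]
    (U : SimplicialObject.Truncated A m) (n : ℕ) (hn : m < n) :
    AlgebraicTopology.NormalizedMooreComplex.objX ((SimplicialObject.Truncated.sk m).obj U) n
      = ⊥ := by
  obtain ⟨X, hX⟩ : ∃ X, X = (SimplicialObject.Truncated.sk m).obj U := ⟨_, rfl⟩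
  rw [← hX]
  have key : ∀ (K : ChainComplex A ℕ), (∀ j, j ≤ m → IsZero (K.X j)) →
      ∀ (φ : (normalizedMooreComplex A).obj X ⟶ K), φ = 0 := by
    intro K hK φ
    have e := (CategoryTheory.Abelian.DoldKan.equivalence (A := A)).toAdjunction.homEquiv X K
    apply e.injective
    subst hX
    exact hom_sk_eq m U _ (fun Δ hΔ => isZero_Γ₀_obj K m hK Δ hΔ) _ _
  obtain ⟨C, hC⟩ : ∃ C, C = (normalizedMooreComplex A).obj X := ⟨_, rfl⟩
  have hrel : (ComplexShape.down ℕ).Rel (n + 1) n := rfl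
  have hne : n + 1 ≠ n := by lia
  have hΦ := key (double (𝟙 (C.X n)) hrel)
    (fun j hj => isZero_double_X _ _ j (by lia) (by lia))
    (hC ▸ mkHomToDouble hrel hne (C.d (n + 1) n) (𝟙 _) (by simp)
      (fun k _ => C.d_comp_d _ _ _))
  subst hC
  have h1 := HomologicalComplex.congr_hom hΦ n
  rw [mkHomToDouble_f₁] at h1
  simp only [Category.id_comp, HomologicalComplex.zero_f] at h1
  have hz : IsZero (((normalizedMooreComplex A).obj X).X n) := by
    rw [IsZero.iff_id_eq_zero, ← (doubleXIso₁ (𝟙 _) hrel hne).inv_hom_id, h1, zero_comp]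
  have harrow : (NormalizedMooreComplex.objX X n).arrow = 0 := hz.eq_of_src _ _
  rw [← Subobject.mk_arrow (NormalizedMooreComplex.objX X n), Subobject.mk_eq_bot_iff_zero]
  exact harrow

end Groth.Agent.Lib.Helper15.SkMoore
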