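import Mathlib
import Groth.Agent.Lib.Helper15.SkMoore

set_option autoImplicit false
set_option backward.isDefEq.respectTransparency false

universe u v

namespace Groth.Agent.Lib.Helper15.SkCounit

open CategoryTheory CategoryTheory.Limits Opposite AlgebraicTopology

section Fin

variable (n : ℕ)

/-- the (opposite of the) inclusion of the truncated simplex category -/
abbrev L : (SimplexCategory.Truncated n)ᵒᵖ ⥤ SimplexCategoryᵒᵖ :=
  (SimplexCategory.Truncated.inclusion n).op

/-- the object of the comma category attached to `φ : [m] ⟶ [i]`, `i ≤ n` -/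
def mkObj (Y : SimplexCategoryᵒᵖ) (φ : Σ i : Fin (n + 1), (Y.unop ⟶ SimplexCategory.mk i)) :
    CostructuredArrow (L n) Y :=
  CostructuredArrow.mk (S := L n) (T := Y)
    (Y := op (⟨SimplexCategory.mk φ.1, by simpa using Nat.lt_succ_iff.mp φ.1.2⟩ :
      SimplexCategory.Truncated n))
    (show op (SimplexCategory.mk φ.1) ⟶ op Y.unop from φ.2.op)

lemma mkObj_surjective (Y : SimplexCategoryᵒᵖ) : Function.Surjective (mkObj n Y) := fun x =>
  ⟨⟨⟨x.left.unop.obj.len, Nat.lt_succ_of_le x.left.unop.property⟩, x.hom.unop⟩, rfl⟩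

instance (Y : SimplexCategoryᵒᵖ) : Finite (CostructuredArrow (L n) Y) :=
  Finite.of_surjective _ (mkObj_surjective n Y)

instance (Y : SimplexCategoryᵒᵖ) (x y : CostructuredArrow (L n) Y) : Finite (x ⟶ y) :=
  Finite.of_injective (fun f => f.left.unop.hom) (fun f g h => by
    apply CostructuredArrow.hom_ext
    apply Quiver.Hom.unop_inj
    exact InducedCategory.hom_ext h)

noncomputable instance (Y : SimplexCategoryᵒᵖ) : FinCategory (CostructuredArrow (L n) Y) where
  fintypeObj := Fintype.ofFinite _
  fintypeHom _ _ := Fintype.ofFinite _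

end Fin

variable {A : Type u} [Category.{v} A] [Abelian A]

instance (n : ℕ) (F : (SimplexCategory.Truncated n)ᵒᵖ ⥤ A) :
    (L n).HasPointwiseLeftKanExtension F := fun _ => inferInstance

/-- cocone with point a subobject through which all the legs factor -/
noncomputable def coconeOfFactor {J : Type*} [Category J] {D : J ⥤ A} (c : Cocone D) {Z : A} (f : c.pt ⟶ Z)
    (S : Subobject Z) (t : ∀ j, D.obj j ⟶ (S : A))
    (ht : ∀ j, t j ≫ S.arrow = c.ι.app j ≫ f) : Cocone D where
  pt := (S : A)
  ι :=
    { app := t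
      naturality := fun j j' u => by
        rw [← cancel_mono S.arrow]
        simp only [Category.assoc, ht, Functor.const_obj_obj,
          Functor.const_obj_map, Category.comp_id]
        rw [c.w_assoc] }

lemma isLUB_image_of_isColimit {J : Type*} [Category J] {D : J ⥤ A} (c : Cocone D)
    (hc : IsColimit c) {Z : A} (f : c.pt ⟶ Z) :
    IsLUB (Set.range (fun j : J => imageSubobject (c.ι.app j ≫ f))) (imageSubobject f) := by
  constructor
  · rintro _ ⟨j, rfl⟩
    exact imageSubobject_comp_le _ _
  · intro S hS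
    have hS' : ∀ j, imageSubobject (c.ι.app j ≫ f) ≤ S := fun j => hS ⟨j, rfl⟩
    have t : ∀ j, {g : D.obj j ⟶ (S : A) // g ≫ S.arrow = c.ι.app j ≫ f} := fun j =>
      ⟨factorThruImageSubobject (c.ι.app j ≫ f) ≫ Subobject.ofLE _ _ (hS' j), by simp⟩
    refine imageSubobject_le f (hc.desc (coconeOfFactor c f S (fun j => (t j).1)
      (fun j => (t j).2))) (hc.hom_ext (fun j => ?_))
    rw [hc.fac_assoc]
    exact (t j).2

theorem core (U : SimplicialObject A) (n : ℕ)
    [∀ F : (SimplexCategory.Truncated n)ᵒᵖ ⥤ A,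
      (SimplexCategory.Truncated.inclusion n).op.HasLeftKanExtension F]
    (η : (L n ⋙ U) ⟶ L n ⋙ (L n).lan.obj (L n ⋙ U))
    [((L n).lan.obj (L n ⋙ U)).IsLeftKanExtension η]
    (ε : (L n).lan.obj (L n ⋙ U) ⟶ U)
    (tri : ∀ Δ, η.app Δ ≫ ε.app ((L n).obj Δ) = 𝟙 _) (m : ℕ) :
    Mono (ε.app (op (SimplexCategory.mk m))) ∧
      IsLUB (Set.range (fun φ : Σ i : Fin (n + 1), (SimplexCategory.mk m ⟶ SimplexCategory.mk i) =>
        imageSubobject (U.map φ.2.op))) (imageSubobject (ε.app (op (SimplexCategory.mk m)))) := by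
  have hE := (L n).isPointwiseLeftKanExtensionOfIsLeftKanExtension ((L n).lan.obj (L n ⋙ U)) η
  have hη : IsIso η := hE.isIso_hom
  have hεiso : ∀ Δ, IsIso (ε.app ((L n).obj Δ)) := fun Δ => by
    haveI : IsIso (η.app Δ ≫ ε.app ((L n).obj Δ)) := by rw [tri]; infer_instance
    exact IsIso.of_isIso_comp_left (η.app Δ) _
  constructor
  · have hN : Mono ((normalizedMooreComplex A).map ε) := by
      apply HomologicalComplex.mono_of_mono_f
      intro k
      by_cases hk : k ≤ n
      · have hiso : IsIso (ε.app (op (SimplexCategory.mk k))) :=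
          hεiso (op ⟨SimplexCategory.mk k, by simpa using hk⟩)
        have fac : ((normalizedMooreComplex A).map ε).f k ≫
            (NormalizedMooreComplex.objX U k).arrow =
            (NormalizedMooreComplex.objX ((L n).lan.obj (L n ⋙ U)) k).arrow ≫
              ε.app (op (SimplexCategory.mk k)) := by
          simp
        haveI : Mono ((NormalizedMooreComplex.objX ((L n).lan.obj (L n ⋙ U)) k).arrow ≫
              ε.app (op (SimplexCategory.mk k))) := mono_comp _ _
        exact mono_of_mono_fac fac
      · have hbot := SkMoore.main n (L n ⋙ U) k (by lia)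
        have hz : IsZero ((NormalizedMooreComplex.objX ((L n).lan.obj (L n ⋙ U)) k : A)) := by
          rw [show NormalizedMooreComplex.objX ((L n).lan.obj (L n ⋙ U)) k = ⊥ from hbot]
          exact IsZero.of_iso (isZero_zero A) Subobject.botCoeIsoZero
        exact ⟨fun _ _ _ => hz.eq_of_tgt _ _⟩
    have hε : Mono ε :=
      (CategoryTheory.Abelian.DoldKan.equivalence (A := A)).functor.mono_of_mono_map (f := ε) hN
    exact (NatTrans.mono_iff_mono_app ε).1 hε _
  · have h1 := isLUB_image_of_isColimit _ (hE (op (SimplexCategory.mk m)))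
      (ε.app (op (SimplexCategory.mk m)))
    have hcomp : ∀ g : CostructuredArrow (L n) (op (SimplexCategory.mk m)),
        ((Functor.LeftExtension.mk _ η).coconeAt (op (SimplexCategory.mk m))).ι.app g ≫
          ε.app (op (SimplexCategory.mk m)) = U.map g.hom := fun g => by
      show (η.app g.left ≫ ((L n).lan.obj (L n ⋙ U)).map g.hom) ≫ ε.app _ = _
      rw [Category.assoc, ε.naturality, ← Category.assoc, tri, Category.id_comp]
    have hset : Set.range (fun g : CostructuredArrow (L n) (op (SimplexCategory.mk m)) =>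
        imageSubobject (((Functor.LeftExtension.mk _ η).coconeAt (op (SimplexCategory.mk m))).ι.app g ≫
          ε.app (op (SimplexCategory.mk m)))) =
        Set.range (fun φ : Σ i : Fin (n + 1), (SimplexCategory.mk m ⟶ SimplexCategory.mk i) =>
          imageSubobject (U.map φ.2.op)) := by
      ext S
      constructor
      · rintro ⟨g, rfl⟩
        refine ⟨⟨⟨g.left.unop.obj.len, Nat.lt_succ_of_le g.left.unop.property⟩, g.hom.unop⟩, ?_⟩
        show imageSubobject (U.map g.hom) = _
        simp only [hcomp g]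
      · rintro ⟨φ, rfl⟩
        refine ⟨mkObj n _ φ, ?_⟩
        show imageSubobject (_ ≫ ε.app (op (SimplexCategory.mk m))) = imageSubobject (U.map φ.2.op)
        simp only [hcomp (mkObj n _ φ)]
        rfl
    rw [hset] at h1
    exact h1

theorem main (U : SimplicialObject A) (n : ℕ)
    (U' : ∀ m : ℕ, Subobject (U.obj (op (SimplexCategory.mk m))))
    (hU' : ∀ m : ℕ, IsLUB (Set.range (fun φ : Σ i : Fin (n + 1),
      (SimplexCategory.mk m ⟶ SimplexCategory.mk i) => imageSubobject (U.map φ.2.op))) (U' m))
    [∀ F : (SimplexCategory.Truncated n)ᵒᵖ ⥤ A,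
      (SimplexCategory.Truncated.inclusion n).op.HasLeftKanExtension F] (m : ℕ) :
    Mono (((SimplicialObject.skAdj n).counit.app U).app (op (SimplexCategory.mk m))) ∧
      imageSubobject (((SimplicialObject.skAdj n).counit.app U).app (op (SimplexCategory.mk m)))
        = U' m := by
  have hunit : (SimplicialObject.skAdj (C := A) n).unit = (L n).lanUnit :=
    Functor.lanAdjunction_unit _ _
  haveI : ((L n).lan.obj (L n ⋙ U)).IsLeftKanExtension
      ((SimplicialObject.skAdj (C := A) n).unit.app (L n ⋙ U)) := by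
    rw [hunit]; infer_instance
  have tri : ∀ Δ, ((SimplicialObject.skAdj (C := A) n).unit.app (L n ⋙ U)).app Δ ≫
      ((SimplicialObject.skAdj n).counit.app U).app ((L n).obj Δ) = 𝟙 _ := fun Δ =>
    congr_app ((SimplicialObject.skAdj (C := A) n).right_triangle_components U) Δ
  obtain ⟨h1, h2⟩ := core U n ((SimplicialObject.skAdj (C := A) n).unit.app (L n ⋙ U))
    ((SimplicialObject.skAdj n).counit.app U) tri m
  exact ⟨h1, h2.unique (hU' m)⟩

end Groth.Agent.Lib.Helper15.SkCounit
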