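import Mathlib

/-!
# The slice theorem for locally nilpotent derivations (helper15)
-/

namespace Helper15.Slice

open Polynomial Finset
open scoped Classical

universe u

variable {A : Type u} [CommRing A] [Algebra ℚ A] (D : Derivation ℚ A A)

theorem eq_zero_of_smul {M : Type*} [AddCommGroup M] [Module ℚ M] {q : ℚ} (hq : q ≠ 0) {z : M}
    (h : q • z = 0) : z = 0 := by
  have : z = (q⁻¹ * q) • z := by rw [inv_mul_cancel₀ hq, one_smul]
  rw [this, mul_smul, h, smul_zero]

/-- iterates of `D` -/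
def dn (n : ℕ) (x : A) : A := ((D : A →ₗ[ℚ] A) ^ n) x

theorem dn_zero (x : A) : dn D 0 x = x := by
  unfold dn; rw [pow_zero, Module.End.one_apply]

theorem dn_succ (n : ℕ) (x : A) : dn D (n + 1) x = D (dn D n x) := by
  unfold dn; rw [pow_succ', Module.End.mul_apply]; rfl

theorem dn_succ' (n : ℕ) (x : A) : dn D (n + 1) x = dn D n (D x) := by
  unfold dn; rw [pow_succ, Module.End.mul_apply]; rfl

theorem dn_add (n : ℕ) (x y : A) : dn D n (x + y) = dn D n x + dn D n y := by
  unfold dn; exact map_add _ _ _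

theorem dn_map_zero (n : ℕ) : dn D n (0 : A) = 0 := by unfold dn; exact map_zero _

theorem dn_eq_zero_of_le {x : A} {N n : ℕ} (h : dn D N x = 0) (hn : N ≤ n) : dn D n x = 0 := by
  obtain ⟨k, rfl⟩ := Nat.exists_eq_add_of_le hn
  clear hn
  induction k with
  | zero => exact h
  | succ k ih => rw [← Nat.add_assoc, dn_succ, ih, map_zero]

theorem leibniz_dn (n : ℕ) (x y : A) :
    dn D n (x * y) = ∑ ij ∈ antidiagonal n, n.choose ij.1 • (dn D ij.1 x * dn D ij.2 y) := by
  induction n with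
  | zero => simp [dn_zero]
  | succ n ih =>
    rw [Finset.sum_antidiagonal_choose_succ_nsmul (M := A) (fun i j => dn D i x * dn D j y) n,
      dn_succ, ih, map_sum]
    have h : ∀ ij ∈ antidiagonal n, D (n.choose ij.1 • (dn D ij.1 x * dn D ij.2 y)) =
        n.choose ij.1 • (dn D ij.1 x * dn D (ij.2 + 1) y) +
          n.choose ij.2 • (dn D (ij.1 + 1) x * dn D ij.2 y) := by
      intro ij hij
      rw [map_nsmul, Derivation.leibniz, smul_eq_mul, smul_eq_mul, ← dn_succ, ← dn_succ, smul_add]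
      congr 1
      rw [Nat.choose_symm_of_eq_add (mem_antidiagonal.1 hij).symm, mul_comm]
    rw [sum_congr rfl h, sum_add_distrib]

section Nil

/-- the exponential map, as a function -/
noncomputable def Φfun (hnil : ∀ x : A, ∃ n : ℕ, dn D n x = 0) (x : A) : A[X] :=
  ∑ n ∈ range (Nat.find (hnil x)), monomial n ((n.factorial : ℚ)⁻¹ • dn D n x)

theorem coeff_Φfun (hnil : ∀ x : A, ∃ n : ℕ, dn D n x = 0) (x : A) (m : ℕ) :
    (Φfun D hnil x).coeff m = (m.factorial : ℚ)⁻¹ • dn D m x := by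
  unfold Φfun
  rw [finset_sum_coeff]
  simp only [coeff_monomial]
  rw [Finset.sum_ite_eq']
  split_ifs with h
  · rfl
  · rw [dn_eq_zero_of_le D (Nat.find_spec (hnil x)) (by simpa using h), smul_zero]

theorem Φfun_eq (hnil : ∀ x : A, ∃ n : ℕ, dn D n x = 0) (x : A) (N : ℕ) (hN : dn D N x = 0) :
    Φfun D hnil x = ∑ n ∈ range N, monomial n ((n.factorial : ℚ)⁻¹ • dn D n x) := by
  ext m
  rw [coeff_Φfun, finset_sum_coeff]
  simp only [coeff_monomial]
  rw [Finset.sum_ite_eq']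
  split_ifs with h
  · rfl
  · rw [dn_eq_zero_of_le D hN (by simpa using h), smul_zero]

/-- the exponential map `x ↦ Σ (1/n!) Dⁿ x Tⁿ` -/
noncomputable def Φ (hnil : ∀ x : A, ∃ n : ℕ, dn D n x = 0) : A →+* A[X] where
  toFun := Φfun D hnil
  map_one' := by
    ext m
    rw [coeff_Φfun, coeff_one]
    rcases m with _ | m
    · simp [dn_zero]
    · rw [dn_succ', D.map_one_eq_zero, dn_map_zero, smul_zero, if_neg (Nat.succ_ne_zero m)]
  map_mul' x y := by
    ext m
    rw [coeff_Φfun, coeff_mul, leibniz_dn, Finset.smul_sum]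
    refine sum_congr rfl fun ij hij => ?_
    rw [coeff_Φfun, coeff_Φfun]
    obtain ⟨i, j⟩ := ij
    have hij' : i + j = m := mem_antidiagonal.1 hij
    subst hij'
    simp only
    rw [← Nat.cast_smul_eq_nsmul ℚ, smul_smul, smul_mul_smul_comm]
    congr 1
    have h1 : ((i + j).choose i : ℚ) * (i.factorial : ℚ) * (j.factorial : ℚ) =
        ((i + j).factorial : ℚ) := by
      have h0 := Nat.add_choose_mul_factorial_mul_factorial i j
      rw [← Nat.choose_symm_add] at h0
      exact_mod_cast h0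
    have hi : (i.factorial : ℚ) ≠ 0 := Nat.cast_ne_zero.mpr (Nat.factorial_ne_zero i)
    have hj : (j.factorial : ℚ) ≠ 0 := Nat.cast_ne_zero.mpr (Nat.factorial_ne_zero j)
    have hm : ((i + j).factorial : ℚ) ≠ 0 := Nat.cast_ne_zero.mpr (Nat.factorial_ne_zero _)
    rw [inv_mul_eq_iff_eq_mul₀ hm, ← h1]
    have h2 : ((i + j).choose i : ℚ) * (i.factorial : ℚ) * (j.factorial : ℚ) *
        ((i.factorial : ℚ)⁻¹ * (j.factorial : ℚ)⁻¹) =
        ((i + j).choose i : ℚ) * ((i.factorial : ℚ) * (i.factorial : ℚ)⁻¹) *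
          ((j.factorial : ℚ) * (j.factorial : ℚ)⁻¹) := by ring
    rw [h2, mul_inv_cancel₀ hi, mul_inv_cancel₀ hj, _root_.mul_one, _root_.mul_one]
  map_zero' := by
    ext m
    rw [coeff_Φfun, dn_map_zero, smul_zero, coeff_zero]
  map_add' x y := by
    ext m
    rw [coeff_add, coeff_Φfun, coeff_Φfun, coeff_Φfun, dn_add, smul_add]


theorem Φfun_a (hnil : ∀ x : A, ∃ n : ℕ, dn D n x = 0) {a : A} (ha : D a = 1) :
    Φfun D hnil a = C a + X := by
  ext m
  rw [coeff_Φfun, coeff_add, coeff_C, coeff_X]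
  rcases m with _ | _ | m
  · simp [dn_zero]
  · simp [dn_succ, dn_zero, ha]
  · rw [dn_succ', dn_succ', ha, D.map_one_eq_zero, dn_map_zero, smul_zero, if_neg (by omega),
      if_neg (by omega), add_zero]

theorem partial_deriv {a : A} (ha : D a = 1) (x : A) (N : ℕ) :
    D (∑ n ∈ range (N + 1), ((n.factorial : ℚ)⁻¹ • dn D n x) * (-a) ^ n) =
      ((N.factorial : ℚ)⁻¹ • dn D (N + 1) x) * (-a) ^ N := by
  obtain ⟨b, hbdef⟩ : ∃ b : A, b = -a := ⟨_, rfl⟩
  have hb : D b = -1 := by rw [hbdef, map_neg, ha]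
  rw [← hbdef]
  induction N with
  | zero =>
    rw [Finset.sum_range_one]
    simp only [Nat.factorial_zero, Nat.cast_one, inv_one, one_smul, pow_zero, _root_.mul_one,
      dn_zero]
    rw [dn_succ, dn_zero]
  | succ N ih =>
    rw [Finset.sum_range_succ, map_add, ih, D.leibniz, D.leibniz_pow, hb, D.map_smul, ← dn_succ]
    have h1 : (N.factorial : ℚ) ≠ 0 := Nat.cast_ne_zero.mpr (Nat.factorial_ne_zero N)
    have h2 : ((N : ℚ) + 1) ≠ 0 := by positivity
    have hc : ((N.factorial : ℚ)⁻¹) • dn D (N + 1) x =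
        (N + 1) • (((N + 1).factorial : ℚ)⁻¹ • dn D (N + 1) x) := by
      rw [← Nat.cast_smul_eq_nsmul ℚ, smul_smul]
      congr 1
      rw [Nat.factorial_succ]
      push_cast
      rw [mul_inv, ← mul_assoc, mul_inv_cancel₀ h2, _root_.one_mul]
    rw [hc]
    simp only [Nat.add_sub_cancel, smul_eq_mul, nsmul_eq_mul]
    ring

theorem D_eps (hnil : ∀ x : A, ∃ n : ℕ, dn D n x = 0) {a : A} (ha : D a = 1) (x : A) :
    D (eval (-a) (Φfun D hnil x)) = 0 := by
  obtain ⟨N, hN⟩ := hnil x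
  have hN1 : dn D (N + 1) x = 0 := dn_eq_zero_of_le D hN (Nat.le_succ N)
  rw [Φfun_eq D hnil x (N + 1) hN1, eval_finset_sum]
  simp only [eval_monomial]
  rw [partial_deriv D ha x N, hN1, smul_zero, zero_mul]

theorem L1 {a : A} (ha : D a = 1) (k : ℕ) (y : A) :
    dn D (k + 1) (a * y) = a * dn D (k + 1) y + (k + 1) • dn D k y := by
  induction k with
  | zero =>
    rw [dn_succ, dn_zero, D.leibniz, ha, dn_succ, dn_zero]
    simp only [smul_eq_mul, zero_add, one_smul, one_nsmul, _root_.mul_one]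
  | succ k ih =>
    rw [dn_succ, ih, map_add, D.leibniz, map_nsmul, ha, ← dn_succ, ← dn_succ]
    simp only [smul_eq_mul, _root_.mul_one]
    module

theorem L2 (hnil : ∀ x : A, ∃ n : ℕ, dn D n x = 0) {a : A} (ha : D a = 1) (w : A)
    (hw : D (a * w) = 0) : w = 0 := by
  obtain ⟨M, hM⟩ := hnil w
  have key : ∀ j, j ≤ M → dn D (M - j) w = 0 := by
    intro j
    induction j with
    | zero => intro _; simpa using hM
    | succ j ih =>
      intro hj
      have ih' := ih (by omega)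
      obtain ⟨k, hk⟩ : ∃ k, M - (j + 1) = k := ⟨_, rfl⟩
      have hk' : M - j = k + 1 := by omega
      rw [hk]
      rw [hk'] at ih'
      have h1 : dn D (k + 1) (a * w) = 0 := by rw [dn_succ', hw, dn_map_zero]
      rw [L1 D ha, ih', mul_zero, zero_add, ← Nat.cast_smul_eq_nsmul ℚ] at h1
      exact eq_zero_of_smul (Nat.cast_ne_zero.mpr (Nat.succ_ne_zero k)) h1
  have := key M le_rfl
  rwa [Nat.sub_self, dn_zero] at this

theorem inj_aux (hnil : ∀ x : A, ∃ n : ℕ, dn D n x = 0) {a : A} (ha : D a = 1) :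
    ∀ (N : ℕ) (x : A), dn D N x = 0 →
    (∀ n, Ideal.Quotient.mk (Ideal.span ({a} : Set A)) (dn D n x) = 0) → x = 0 := by
  intro N
  induction N with
  | zero => intro x h _; rwa [dn_zero] at h
  | succ N ih =>
    intro x h hπ
    have hDx : D x = 0 := by
      apply ih (D x)
      · rw [← dn_succ']; exact h
      · intro n; rw [← dn_succ']; exact hπ (n + 1)
    have h0 := hπ 0
    rw [dn_zero] at h0
    obtain ⟨w, hw⟩ := Ideal.mem_span_singleton'.mp (Ideal.Quotient.eq_zero_iff_mem.mp h0)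
    have hw' : x = a * w := by rw [← hw, mul_comm]
    have := L2 D hnil ha w (by rw [← hw']; exact hDx)
    rw [hw', this, mul_zero]

theorem main (hnil : ∀ x : A, ∃ n : ℕ, dn D n x = 0) {a : A} (ha : D a = 1) :
    ∃ χ : A ≃+* Polynomial (A ⧸ Ideal.span ({a} : Set A)),
    (∀ (x : A) (N : ℕ), dn D N x = 0 →
      χ x = ∑ n ∈ Finset.range N,
        ((n.factorial : ℚ)⁻¹ • Polynomial.C (Ideal.Quotient.mk (Ideal.span ({a} : Set A))
          (dn D n x))) * Polynomial.X ^ n) ∧
    χ.symm Polynomial.X = a ∧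
    (∀ (x : A) (N : ℕ), dn D N x = 0 →
      χ.symm (Polynomial.C (Ideal.Quotient.mk (Ideal.span ({a} : Set A)) x)) =
        ∑ n ∈ Finset.range N, (((-1 : ℚ) ^ n * (n.factorial : ℚ)⁻¹) • ((dn D n x) * a ^ n))) ∧
    ∀ p : Polynomial (A ⧸ Ideal.span ({a} : Set A)), χ (D (χ.symm p)) = Polynomial.derivative p := by
  obtain ⟨π, hπ⟩ : ∃ π : A →+* A ⧸ Ideal.span ({a} : Set A),
      π = Ideal.Quotient.mk (Ideal.span ({a} : Set A)) := ⟨_, rfl⟩
  have hπs : ∀ (q : ℚ) (y : A), π (q • y) = q • π y := fun q y => by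
    rw [hπ]; exact map_smul (Ideal.Quotient.mkₐ ℚ (Ideal.span ({a} : Set A))) q y
  have hπa : π a = 0 := by
    rw [hπ]; exact Ideal.Quotient.eq_zero_iff_mem.mpr (Ideal.mem_span_singleton_self a)
  have hπsurj : Function.Surjective π := by rw [hπ]; exact Ideal.Quotient.mk_surjective
  obtain ⟨χ₀, hχ₀⟩ : ∃ χ₀ : A →+* (A ⧸ Ideal.span ({a} : Set A))[X],
      ∀ x, χ₀ x = Polynomial.map π (Φfun D hnil x) :=
    ⟨(Polynomial.mapRingHom π).comp (Φ D hnil), fun x => rfl⟩
  obtain ⟨ε, hε⟩ : ∃ ε : A →+* A, ∀ x, ε x = eval (-a) (Φfun D hnil x) :=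
    ⟨(Polynomial.evalRingHom (-a)).comp (Φ D hnil), fun x => rfl⟩
  have hεa : ε a = 0 := by
    rw [hε, Φfun_a D hnil ha, eval_add, eval_C, eval_X, add_neg_cancel]
  have hDε : ∀ x, D (ε x) = 0 := fun x => by rw [hε]; exact D_eps D hnil ha x
  have hπε : ∀ x, π (ε x) = π x := by
    intro x
    have h := Polynomial.hom_eval₂ (Φfun D hnil x) (RingHom.id A) π (-a)
    rw [Polynomial.eval₂_id, RingHom.comp_id] at h
    rw [hε, h, map_neg, hπa, neg_zero, Polynomial.eval₂_eq_eval_map,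
      ← Polynomial.coeff_zero_eq_eval_zero, Polynomial.coeff_map, coeff_Φfun, dn_zero]
    simp
  have hker : ∀ x ∈ Ideal.span ({a} : Set A), ε x = 0 := by
    intro x hx
    obtain ⟨y, rfl⟩ := Ideal.mem_span_singleton'.mp hx
    rw [map_mul, hεa, mul_zero]
  obtain ⟨εb, hεb⟩ : ∃ εb : (A ⧸ Ideal.span ({a} : Set A)) →+* A, ∀ x, εb (π x) = ε x := by
    refine ⟨Ideal.Quotient.lift (Ideal.span ({a} : Set A)) ε hker, fun x => ?_⟩
    rw [hπ]; exact Ideal.Quotient.lift_mk _ _ _
  obtain ⟨ψ, hψ⟩ : ∃ ψ : (A ⧸ Ideal.span ({a} : Set A))[X] →+* A,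
      ∀ p, ψ p = Polynomial.eval₂ εb a p :=
    ⟨Polynomial.eval₂RingHom εb a, fun p => rfl⟩
  -- χ₀ ∘ ψ = id
  have hχε : ∀ x, χ₀ (ε x) = C (π x) := by
    intro x
    have h1 : dn D 1 (ε x) = 0 := by rw [dn_succ, dn_zero]; exact hDε x
    rw [hχ₀, Φfun_eq D hnil (ε x) 1 h1, Finset.sum_range_one, Polynomial.map_monomial, dn_zero,
      hπs, hπε, monomial_zero_left]
    simp
  have hχa : χ₀ a = X := by
    rw [hχ₀, Φfun_a D hnil ha, Polynomial.map_add, Polynomial.map_C, Polynomial.map_X, hπa,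
      map_zero, zero_add]
  have h₁ : χ₀.comp ψ = RingHom.id _ := by
    refine Polynomial.ringHom_ext (fun c => ?_) ?_
    · obtain ⟨x, rfl⟩ := hπsurj c
      rw [RingHom.comp_apply, hψ, Polynomial.eval₂_C, hεb, hχε, RingHom.id_apply]
    · rw [RingHom.comp_apply, hψ, Polynomial.eval₂_X, hχa, RingHom.id_apply]
  have hinj : Function.Injective χ₀ := by
    rw [injective_iff_map_eq_zero]
    intro x hx
    obtain ⟨N, hN⟩ := hnil x
    refine inj_aux D hnil ha N x hN fun n => ?_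
    have h := congrArg (fun p => Polynomial.coeff p n) hx
    simp only [hχ₀, Polynomial.coeff_map, coeff_Φfun, hπs, Polynomial.coeff_zero] at h
    rw [← hπ]
    exact eq_zero_of_smul (inv_ne_zero (Nat.cast_ne_zero.mpr (Nat.factorial_ne_zero n))) h
  have h₂ : ψ.comp χ₀ = RingHom.id A := by
    refine RingHom.ext fun x => hinj ?_
    have := RingHom.congr_fun h₁ (χ₀ x)
    simpa using this
  have hDψ : ∀ p, D (ψ p) = ψ (Polynomial.derivative p) := by
    intro p
    induction p using Polynomial.induction_on' with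
    | add p q hp hq => rw [map_add, map_add, hp, hq, map_add, map_add]
    | monomial n c =>
      obtain ⟨x, rfl⟩ := hπsurj c
      rw [hψ, hψ, Polynomial.eval₂_monomial, Polynomial.derivative_monomial,
        Polynomial.eval₂_monomial, map_mul εb, hεb, map_natCast εb, D.leibniz, D.leibniz_pow, ha,
        hDε]
      simp only [smul_eq_mul, nsmul_eq_mul, mul_zero, add_zero, _root_.mul_one]
      ring
  refine ⟨RingEquiv.ofRingHom χ₀ ψ h₁ h₂, ?_, ?_, ?_, ?_⟩
  · intro x N hN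
    show χ₀ x = _
    rw [hχ₀, Φfun_eq D hnil x N hN, Polynomial.map_sum]
    refine Finset.sum_congr rfl fun n _ => ?_
    rw [Polynomial.map_monomial, hπs, Polynomial.smul_C, Polynomial.C_mul_X_pow_eq_monomial, hπ]
  · show ψ X = a
    rw [hψ, Polynomial.eval₂_X]
  · intro x N hN
    show ψ (C (Ideal.Quotient.mk (Ideal.span ({a} : Set A)) x)) = _
    rw [← hπ, hψ, Polynomial.eval₂_C, hεb, hε, Φfun_eq D hnil x N hN, eval_finset_sum]
    refine Finset.sum_congr rfl fun n _ => ?_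
    rw [eval_monomial, neg_pow a n, mul_smul, Algebra.smul_def ((-1 : ℚ) ^ n) _, map_pow, map_neg,
      map_one, smul_mul_assoc, mul_smul_comm]
    congr 1
    ring
  · intro p
    show χ₀ (D (ψ p)) = _
    rw [hDψ]
    exact RingHom.congr_fun h₁ _

end Nil

end Helper15.Slice
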