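import Mathlib
import Groth.Agent.Lib.Helper15.SpecNear2

/-!
# Helper15: S8530 — restriction of specialization arrows to an open subscheme, and the final
equivalence
-/

set_option autoImplicit false
set_option backward.isDefEq.respectTransparency false

universe u

open CategoryTheory CategoryTheory.Limits AlgebraicGeometry Opposite Topology

namespace Helper15.Constr

open Helper15.LcStruct Helper15.SpecArrow Groth.Agent.Lib.Helper13.StalkPull
open Groth.Agent.Lib.Helper15.StalkPullGerm Groth.Agent.Lib.Helper15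

section restrict

variable {X : Scheme.{u}} (U : X.Opens) {Ω Ω' : Type u} [Field Ω] [IsSepClosed Ω] [Field Ω']
  [IsSepClosed Ω'] (ξU : Spec (CommRingCat.of Ω) ⟶ U.toScheme)
  (ξ'U : Spec (CommRingCat.of Ω') ⟶ U.toScheme)

noncomputable def up (V : U.toScheme.Etale) (v : (Scheme.pointSmallEtale ξU).fiber.obj V) :
    (Scheme.pointSmallEtale (ξU ≫ U.ι)).fiber.obj ((EtShriek.compEtale U.ι).obj V) :=
  Over.homMk v.left (by
    have h : v.left ≫ V.hom = ξU := Over.w v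
    show v.left ≫ (V.hom ≫ U.ι) = ξU ≫ U.ι
    rw [← Category.assoc, h])

noncomputable def down (V : U.toScheme.Etale)
    (v' : (Scheme.pointSmallEtale (ξ'U ≫ U.ι)).fiber.obj ((EtShriek.compEtale U.ι).obj V)) :
    (Scheme.pointSmallEtale ξ'U).fiber.obj V :=
  Over.homMk v'.left (by
    have h : v'.left ≫ (V.hom ≫ U.ι) = ξ'U ≫ U.ι := Over.w v'
    show v'.left ≫ V.hom = ξ'U
    rw [← cancel_mono U.ι, Category.assoc]
    exact h)

lemma up_map {V V' : U.toScheme.Etale} (k : V ⟶ V')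
    (v : (Scheme.pointSmallEtale ξU).fiber.obj V) :
    up U ξU V' ((Scheme.pointSmallEtale ξU).fiber.map k v) =
      (Scheme.pointSmallEtale (ξU ≫ U.ι)).fiber.map ((EtShriek.compEtale U.ι).map k)
        (up U ξU V v) :=
  Over.OverMorphism.ext rfl

lemma down_map {V V' : U.toScheme.Etale} (k : V ⟶ V')
    (v' : (Scheme.pointSmallEtale (ξ'U ≫ U.ι)).fiber.obj ((EtShriek.compEtale U.ι).obj V)) :
    down U ξ'U V' ((Scheme.pointSmallEtale (ξ'U ≫ U.ι)).fiber.map
        ((EtShriek.compEtale U.ι).map k) v') =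
      (Scheme.pointSmallEtale ξ'U).fiber.map k (down U ξ'U V v') :=
  Over.OverMorphism.ext rfl

noncomputable def resFun
    (φ : Scheme.pointSmallEtale (ξ'U ≫ U.ι) ⟶ Scheme.pointSmallEtale (ξU ≫ U.ι))
    (V : U.toScheme.Etale) (v : (Scheme.pointSmallEtale ξU).fiber.obj V) :
    (Scheme.pointSmallEtale ξ'U).fiber.obj V :=
  down U ξ'U V (φ.hom.app ((EtShriek.compEtale U.ι).obj V) (up U ξU V v))

lemma resFun_nat
    (φ : Scheme.pointSmallEtale (ξ'U ≫ U.ι) ⟶ Scheme.pointSmallEtale (ξU ≫ U.ι))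
    {V V' : U.toScheme.Etale} (k : V ⟶ V') (v : (Scheme.pointSmallEtale ξU).fiber.obj V) :
    resFun U ξU ξ'U φ V' ((Scheme.pointSmallEtale ξU).fiber.map k v) =
      (Scheme.pointSmallEtale ξ'U).fiber.map k (resFun U ξU ξ'U φ V v) := by
  unfold resFun
  rw [up_map]
  have h := NatTrans.naturality_apply φ.hom ((EtShriek.compEtale U.ι).map k) (up U ξU V v)
  exact (congrArg (down U ξ'U V') h).trans (down_map U ξ'U k _)

/-- A specialization arrow between geometric points of `X` lying in the open `U` restricts to a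
specialization arrow between the corresponding geometric points of `U`. -/
noncomputable def restrictHom
    (φ : Scheme.pointSmallEtale (ξ'U ≫ U.ι) ⟶ Scheme.pointSmallEtale (ξU ≫ U.ι)) :
    Scheme.pointSmallEtale ξ'U ⟶ Scheme.pointSmallEtale ξU :=
  GrothendieckTopology.Point.Hom.mk
    { app := fun V => ↾(resFun U ξU ξ'U φ V)
      naturality := by
        intro V V' k
        apply ConcreteCategory.hom_ext
        intro v
        exact resFun_nat U ξU ξ'U φ k v }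

lemma down_eq_liftPt (V₀ : X.Etale)
    (a : (Scheme.pointSmallEtale (ξ'U ≫ U.ι)).fiber.obj
      ((EtShriek.compEtale U.ι).obj ((EtCoh.bc U.ι).obj V₀)))
    (b : (Scheme.pointSmallEtale (ξ'U ≫ U.ι)).fiber.obj V₀)
    (hab : a.left ≫ pullback.fst V₀.hom U.ι = b.left) :
    down U ξ'U _ a = FinitePushStalk.liftPt U.ι (ξ'U ≫ U.ι) ξ'U rfl V₀ b := by
  apply FinitePushStalk.fiber_ext
  apply pullback.hom_ext
  · rw [FinitePushStalk.liftPt_left_fst]
    exact hab
  · rw [FinitePushStalk.liftPt_left_snd]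
    exact Over.w (down U ξ'U _ a)

theorem restrictHom_liftPt
    (φ : Scheme.pointSmallEtale (ξ'U ≫ U.ι) ⟶ Scheme.pointSmallEtale (ξU ≫ U.ι))
    (V₀ : X.Etale) (v₀ : (Scheme.pointSmallEtale (ξU ≫ U.ι)).fiber.obj V₀) :
    (restrictHom U ξU ξ'U φ).hom.app ((EtCoh.bc U.ι).obj V₀)
        (FinitePushStalk.liftPt U.ι (ξU ≫ U.ι) ξU rfl V₀ v₀) =
      FinitePushStalk.liftPt U.ι (ξ'U ≫ U.ι) ξ'U rfl V₀ (φ.hom.app V₀ v₀) := by
  obtain ⟨p, hp⟩ : ∃ p : (EtShriek.compEtale U.ι).obj ((EtCoh.bc U.ι).obj V₀) ⟶ V₀,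
      p.left = pullback.fst V₀.hom U.ι :=
    ⟨MorphismProperty.Over.homMk (pullback.fst V₀.hom U.ι) pullback.condition trivial, rfl⟩
  have h1 : (Scheme.pointSmallEtale (ξU ≫ U.ι)).fiber.map p
      (up U ξU _ (FinitePushStalk.liftPt U.ι (ξU ≫ U.ι) ξU rfl V₀ v₀)) = v₀ := by
    apply Over.OverMorphism.ext
    show (FinitePushStalk.liftPt U.ι (ξU ≫ U.ι) ξU rfl V₀ v₀).left ≫ p.left = v₀.left
    rw [hp]
    exact FinitePushStalk.liftPt_left_fst U.ι (ξU ≫ U.ι) ξU rfl V₀ v₀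
  have h2 := NatTrans.naturality_apply φ.hom p
      (up U ξU _ (FinitePushStalk.liftPt U.ι (ξU ≫ U.ι) ξU rfl V₀ v₀))
  have h3 : (Scheme.pointSmallEtale (ξ'U ≫ U.ι)).fiber.map p
      (φ.hom.app _ (up U ξU _ (FinitePushStalk.liftPt U.ι (ξU ≫ U.ι) ξU rfl V₀ v₀))) =
      φ.hom.app V₀ v₀ :=
    h2.symm.trans (congrArg (fun t => φ.hom.app V₀ t) h1)
  have h4 : (φ.hom.app _ (up U ξU _
      (FinitePushStalk.liftPt U.ι (ξU ≫ U.ι) ξU rfl V₀ v₀))).left ≫ p.left =
      (φ.hom.app V₀ v₀).left :=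
    congrArg (fun t => CommaMorphism.left t) h3
  rw [hp] at h4
  exact down_eq_liftPt U ξ'U V₀ _ _ h4

theorem iso_of_flc_near (F : EtCoh.Ab X)
    (hG : EtCoh.IsFiniteLocallyConstant ((EtCoh.pull U.ι).obj F))
    (φ : Scheme.pointSmallEtale (ξ'U ≫ U.ι) ⟶ Scheme.pointSmallEtale (ξU ≫ U.ι)) :
    IsIso ((GrothendieckTopology.Point.Hom.sheafFiber (A := AddCommGrpCat.{u + 1}) φ).app F) := by
  have hiso := iso_of_flc _ hG ξU ξ'U (restrictHom U ξU ξ'U φ)
  have hsq : (GrothendieckTopology.Point.Hom.sheafFiber (A := AddCommGrpCat.{u + 1}) φ).app F ≫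
      (stalkPullIso U.ι ξ'U).inv.app F =
      (stalkPullIso U.ι ξU).inv.app F ≫
        (GrothendieckTopology.Point.Hom.sheafFiber (A := AddCommGrpCat.{u + 1})
          (restrictHom U ξU ξ'U φ)).app ((EtCoh.pull U.ι).obj F) := by
    refine GrothendieckTopology.Point.presheafFiber_hom_ext _ (fun V v => ?_)
    have h1 := sheafFiber_germ_hom φ F V v
    have h2 := toPresheafFiber_stalkPullIso_inv U.ι ξ'U F V (φ.hom.app V v)
    have h3 := toPresheafFiber_stalkPullIso_inv U.ι ξU F V v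
    have h4 := sheafFiber_germ_hom (restrictHom U ξU ξ'U φ) ((EtCoh.pull U.ι).obj F)
      ((EtCoh.bc U.ι).obj V) (FinitePushStalk.liftPt U.ι (ξU ≫ U.ι) ξU rfl V v)
    rw [restrictHom_liftPt] at h4
    exact (Category.assoc _ _ _).symm.trans
      ((congrArg (· ≫ (stalkPullIso U.ι ξ'U).inv.app F) h1).trans
        (h2.trans ((congrArg (((EtCoh.pullPushAdj U.ι).unit.app F).hom.app (op V) ≫ ·) h4.symm).trans
          ((Category.assoc _ _ _).symm.trans
            ((congrArg (· ≫ (GrothendieckTopology.Point.Hom.sheafFiber (A := AddCommGrpCat.{u + 1})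
              (restrictHom U ξU ξ'U φ)).app ((EtCoh.pull U.ι).obj F)) h3.symm).trans
              (Category.assoc _ _ _))))))
  have := hiso
  have : IsIso ((GrothendieckTopology.Point.Hom.sheafFiber (A := AddCommGrpCat.{u + 1}) φ).app F ≫
      (stalkPullIso U.ι ξ'U).inv.app F) := by
    rw [hsq]; infer_instance
  exact IsIso.of_isIso_comp_right _ ((stalkPullIso U.ι ξ'U).inv.app F)

end restrict

theorem iso_of_flc_near' {X : Scheme.{u}} (F : EtCoh.Ab X) (U : X.Opens)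
    (hG : EtCoh.IsFiniteLocallyConstant ((EtCoh.pull U.ι).obj F))
    {Ω Ω' : Type u} [Field Ω] [IsSepClosed Ω] [Field Ω'] [IsSepClosed Ω']
    (ξ : Spec (CommRingCat.of Ω) ⟶ X) (hx : ξ.base default ∈ U)
    (ξ' : Spec (CommRingCat.of Ω') ⟶ X)
    (φ : Scheme.pointSmallEtale ξ' ⟶ Scheme.pointSmallEtale ξ) :
    IsIso ((GrothendieckTopology.Point.Hom.sheafFiber (A := AddCommGrpCat.{u + 1}) φ).app F) := by
  have hsub : Set.range ξ.base ⊆ Set.range U.ι.base := by
    rintro _ ⟨a, rfl⟩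
    rw [Subsingleton.elim a default, Scheme.Opens.range_ι]
    exact hx
  obtain ⟨ξU, hξU⟩ : ∃ ξU : Spec (CommRingCat.of Ω) ⟶ U.toScheme, ξU ≫ U.ι = ξ :=
    ⟨IsOpenImmersion.lift U.ι ξ hsub, IsOpenImmersion.lift_fac _ _ _⟩
  subst hξU
  obtain ⟨z, -⟩ : ∃ z : (Scheme.pointSmallEtale (ξU ≫ U.ι)).fiber.obj (Scheme.Etale.mk U.ι),
      z.left = ξU := ⟨Over.homMk ξU rfl, rfl⟩
  obtain ⟨ξ'U, hξ'U⟩ : ∃ ξ'U : Spec (CommRingCat.of Ω') ⟶ U.toScheme, ξ'U ≫ U.ι = ξ' :=
    ⟨(φ.hom.app (Scheme.Etale.mk U.ι) z).left, Over.w (φ.hom.app (Scheme.Etale.mk U.ι) z)⟩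
  subst hξ'U
  exact iso_of_flc_near U ξU ξ'U F hG φ

theorem S8530 {X : Scheme.{u}} (F : EtCoh.Ab X)
    (hF : EtPBC.IsConstructible F) (x : X) {Ω : Type u} [Field Ω] [IsSepClosed Ω]
    (ξ : Spec (CommRingCat.of Ω) ⟶ X) (hξ : Set.range ξ.base = {x}) :
    (∃ U : X.Opens, x ∈ U ∧ EtCoh.IsFiniteLocallyConstant ((EtCoh.pull U.ι).obj F)) ↔
      ∀ (Ω' : Type u) [Field Ω'] [IsSepClosed Ω'] (ξ' : Spec (CommRingCat.of Ω') ⟶ X)
        (φ : Scheme.pointSmallEtale ξ' ⟶ Scheme.pointSmallEtale ξ),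
        IsIso ((GrothendieckTopology.Point.Hom.sheafFiber (A := AddCommGrpCat.{u + 1}) φ).app F) := by
  have hb : ξ.base default = x := by
    have : ξ.base default ∈ Set.range ξ.base := ⟨default, rfl⟩
    rw [hξ] at this
    exact this
  constructor
  · rintro ⟨U, hxU, hG⟩ Ω' _ _ ξ' φ
    exact iso_of_flc_near' F U hG ξ (by rw [hb]; exact hxU) ξ' φ
  · intro h
    obtain ⟨U, hU, hG⟩ := flc_near_of_spec_iso F hF ξ h
    exact ⟨U, by rw [← hb]; exact hU, hG⟩

end Helper15.Constr
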