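import Mathlib
import Groth.Prelude.Def_ModSite2
import Groth.Agent.Lib.Helper13.ModSiteProj

/-!
# Stalk of the presheaf extension by zero

For a point `p` of a small site, `U : C` and a presheaf of modules `P` on `Over U`, the fibre at `p`
of the explicit extension by zero `OverShriek.shriekAb P` (sections `⨁_{φ : V ⟶ U} P(φ)`) is the
coproduct over `x ∈ p.fiber U` of the fibres of `P` at the points `p.over x` (`stalkShriekIso`).
-/

set_option autoImplicit false
universe u
open CategoryTheory CategoryTheory.Limits Opposite DirectSum GrothendieckTopology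
open Groth.Agent.Lib.Helper13

noncomputable section
open Classical

namespace Groth.Agent.Lib.Helper15.StalkShriek

variable {C : Type u} [SmallCategory C] {J : GrothendieckTopology C} {U : C}
  {R : Cᵒᵖ ⥤ RingCat.{u}}
  (P : PresheafOfModules.{u} (OverShriek.SR U R)) (p : Point.{u} J)

/-- stalk of `P` at the point over `x`. -/
abbrev Fx (x : p.fiber.obj U) : Ab.{u} := ((p.over x).presheafFiber).obj P.presheaf

/-- the target coproduct. -/
abbrev tgt : Ab.{u} := ∐ fun x : p.fiber.obj U => Fx P p x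

/-- element of the fibre of `p.over x` at `Over.mk φ`. -/
def elt {V : C} (φ : V ⟶ U) (y : p.fiber.obj V) (x : p.fiber.obj U) (h : p.fiber.map φ y = x) :
    (p.over x).fiber.obj (Over.mk φ) := ⟨y, h⟩

/-- component map. -/
def compMap {V : C} (φ : V ⟶ U) (y : p.fiber.obj V) (x : p.fiber.obj U)
    (h : p.fiber.map φ y = x) :
    P.presheaf.obj (op (Over.mk φ)) ⟶ tgt P p :=
  (p.over x).toPresheafFiber (Over.mk φ) (elt p φ y x h) P.presheaf ≫
    Sigma.ι (fun x : p.fiber.obj U => Fx P p x) x

lemma compMap_w {V' V : C} (f : V' ⟶ V) (φ : V ⟶ U) (y' : p.fiber.obj V') (x : p.fiber.obj U)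
    (h : p.fiber.map (f ≫ φ) y' = x) (h' : p.fiber.map φ (p.fiber.map f y') = x) :
    P.presheaf.map (Over.homMk f rfl : Over.mk (f ≫ φ) ⟶ Over.mk φ).op ≫
      compMap P p (f ≫ φ) y' x h = compMap P p φ (p.fiber.map f y') x h' := by
  unfold compMap
  rw [← Category.assoc]
  congr 1
  exact (p.over x).toPresheafFiber_w (Over.homMk f rfl : Over.mk (f ≫ φ) ⟶ Over.mk φ)
    (elt p (f ≫ φ) y' x h) P.presheaf


/-- The forward map on sections over `(V, y)`. -/
def fwdAdd (V : C) (y : p.fiber.obj V) : OverShriek.Tot P V →+ tgt P p :=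
  DirectSum.toAddMonoid (fun φ : V ⟶ U => (compMap P p φ y _ rfl).hom)

lemma fwdAdd_of (V : C) (y : p.fiber.obj V) (φ : V ⟶ U) (a : OverShriek.cmp P φ) :
    fwdAdd P p V y (DirectSum.of (fun φ : V ⟶ U => OverShriek.cmp P φ) φ a) =
      (compMap P p φ y _ rfl).hom a :=
  DirectSum.toAddMonoid_of (β := fun φ : V ⟶ U => OverShriek.cmp P φ)
    (fun φ : V ⟶ U => (compMap P p φ y _ rfl).hom) φ a

lemma fwdAdd_w {V' V : C} (f : V' ⟶ V) (y' : p.fiber.obj V') (t : OverShriek.Tot P V) :
    fwdAdd P p V' y' (OverShriek.totMap P f t) = fwdAdd P p V (p.fiber.map f y') t := by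
  induction t using DirectSum.induction_on with
  | zero => simp
  | of φ a =>
    rw [OverShriek.totMap_of, fwdAdd_of, fwdAdd_of]
    have h0 : p.fiber.map φ (p.fiber.map f y') = p.fiber.map (f ≫ φ) y' := by
      simp
    have h1 := compMap_w P p f φ y' _ rfl h0
    have h2 := congrArg (fun g => g.hom a) h1
    simp only [AddCommGrpCat.hom_comp, AddMonoidHom.coe_comp] at h2
    refine Eq.trans ?_ (h2.trans ?_)
    · rfl
    · clear h1 h2
      generalize p.fiber.map (f ≫ φ) y' = x at h0
      subst h0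
      rfl
  | add a b ha hb => rw [map_add, map_add, map_add, ha, hb]

/-- The forward map on sections, as a morphism. -/
def fwdHom (V : C) (y : p.fiber.obj V) : (OverShriek.shriekAb P).obj (op V) ⟶ tgt P p :=
  AddCommGrpCat.ofHom (fwdAdd P p V y)

lemma fwdHom_w {V' V : C} (f : V' ⟶ V) (y' : p.fiber.obj V') :
    (OverShriek.shriekAb P).map f.op ≫ fwdHom P p V' y' = fwdHom P p V (p.fiber.map f y') :=
  AddCommGrpCat.hom_ext (AddMonoidHom.ext fun t => fwdAdd_w P p f y' t)

/-- The forward map. -/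
def fwd : p.presheafFiber.obj (OverShriek.shriekAb P) ⟶ tgt P p :=
  p.presheafFiberDesc (fun V y => fwdHom P p V y) (fun _ _ f y' => fwdHom_w P p f y')

lemma toPF_fwd (V : C) (y : p.fiber.obj V) :
    p.toPresheafFiber V y (OverShriek.shriekAb P) ≫ fwd P p = fwdHom P p V y :=
  p.toPresheafFiber_presheafFiberDesc (fun V y => fwdHom P p V y)
    (fun _ _ f y' => fwdHom_w P p f y') V y

/-- the inclusion of the summand as a morphism of abelian groups. -/
def injHom (Y : Over U) : P.presheaf.obj (op Y) ⟶ (OverShriek.shriekAb P).obj (op Y.left) :=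
  AddCommGrpCat.ofHom (OverShriek.inj P Y)

lemma injHom_apply (Y : Over U) (t : P.presheaf.obj (op Y)) :
    (injHom P Y).hom t = OverShriek.inj P Y t := rfl

lemma injHom_w {Y' Y : Over U} (a : Y' ⟶ Y) :
    P.presheaf.map a.op ≫ injHom P Y' = injHom P Y ≫ (OverShriek.shriekAb P).map a.left.op := by
  refine AddCommGrpCat.hom_ext (AddMonoidHom.ext fun t => ?_)
  exact (OverShriek.totMap_inj P a t).symm

/-- underlying element of the fibre. -/
def fibVal (x : p.fiber.obj U) (Y : Over U) (z : (p.over x).fiber.obj Y) : p.fiber.obj Y.left :=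
  z.1

lemma fibVal_map (x : p.fiber.obj U) {Y' Y : Over U} (a : Y' ⟶ Y) (z : (p.over x).fiber.obj Y') :
    fibVal p x Y ((p.over x).fiber.map a z) = p.fiber.map a.left (fibVal p x Y' z) := rfl

lemma fibVal_prop (x : p.fiber.obj U) (Y : Over U) (z : (p.over x).fiber.obj Y) :
    p.fiber.map Y.hom (fibVal p x Y z) = x := z.2

/-- backward component at `(Y, z)`. -/
def bwdComp (x : p.fiber.obj U) (Y : Over U) (z : (p.over x).fiber.obj Y) :
    P.presheaf.obj (op Y) ⟶ p.presheafFiber.obj (OverShriek.shriekAb P) :=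
  injHom P Y ≫ p.toPresheafFiber Y.left (fibVal p x Y z) (OverShriek.shriekAb P)

lemma bwdComp_w (x : p.fiber.obj U) {Y' Y : Over U} (a : Y' ⟶ Y) (z : (p.over x).fiber.obj Y') :
    P.presheaf.map a.op ≫ bwdComp P p x Y' z =
      bwdComp P p x Y ((p.over x).fiber.map a z) := by
  unfold bwdComp
  rw [← Category.assoc, injHom_w, Category.assoc]
  congr 1
  rw [fibVal_map]
  exact p.toPresheafFiber_w a.left (fibVal p x Y' z) (OverShriek.shriekAb P)

/-- The backward map on the `x`-summand. -/
def bwdx (x : p.fiber.obj U) : Fx P p x ⟶ p.presheafFiber.obj (OverShriek.shriekAb P) :=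
  (p.over x).presheafFiberDesc (fun Y z => bwdComp P p x Y z)
    (fun _ _ a z => bwdComp_w P p x a z)

lemma toPF_bwdx (x : p.fiber.obj U) (Y : Over U) (z : (p.over x).fiber.obj Y) :
    (p.over x).toPresheafFiber Y z P.presheaf ≫ bwdx P p x = bwdComp P p x Y z :=
  (p.over x).toPresheafFiber_presheafFiberDesc (fun Y z => bwdComp P p x Y z)
    (fun _ _ a z => bwdComp_w P p x a z) Y z

/-- The backward map. -/
def bwd : tgt P p ⟶ p.presheafFiber.obj (OverShriek.shriekAb P) :=
  Sigma.desc (fun x => bwdx P p x)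


lemma compMap_bwd {V : C} (φ : V ⟶ U) (y : p.fiber.obj V) :
    compMap P p φ y _ rfl ≫ bwd P p =
      injHom P (Over.mk φ) ≫ p.toPresheafFiber V y (OverShriek.shriekAb P) := by
  unfold compMap bwd
  rw [Category.assoc, Sigma.ι_desc, toPF_bwdx]
  rfl

lemma fwd_bwd : fwd P p ≫ bwd P p = 𝟙 _ := by
  refine p.presheafFiber_hom_ext (fun V y => ?_)
  rw [Category.comp_id, ← Category.assoc, toPF_fwd]
  refine AddCommGrpCat.hom_ext (DirectSum.addHom_ext' (fun φ => AddMonoidHom.ext fun a => ?_))
  show (bwd P p).hom (fwdAdd P p V y (DirectSum.of (fun φ : V ⟶ U => OverShriek.cmp P φ) φ a)) =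
    (p.toPresheafFiber V y (OverShriek.shriekAb P)).hom
      (DirectSum.of (fun φ : V ⟶ U => OverShriek.cmp P φ) φ a)
  rw [fwdAdd_of]
  exact congrArg (fun g => g.hom a) (compMap_bwd P p φ y)

lemma bwd_fwd : bwd P p ≫ fwd P p = 𝟙 _ := by
  refine Sigma.hom_ext _ _ (fun x => ?_)
  rw [Category.comp_id]
  unfold bwd
  rw [Sigma.ι_desc_assoc]
  refine (p.over x).presheafFiber_hom_ext (fun Y z => ?_)
  rw [← Category.assoc, toPF_bwdx]
  unfold bwdComp
  rw [Category.assoc, toPF_fwd]
  refine AddCommGrpCat.hom_ext (AddMonoidHom.ext fun t => ?_)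
  show fwdAdd P p Y.left (fibVal p x Y z) (OverShriek.inj P Y t) = _
  refine (fwdAdd_of P p Y.left (fibVal p x Y z) Y.hom t).trans ?_
  have h' : p.fiber.map Y.hom (fibVal p x Y z) = x := fibVal_prop p x Y z
  have hz : z = elt p Y.hom (fibVal p x Y z) x h' := rfl
  generalize fibVal p x Y z = y at h' hz
  subst h'
  subst hz
  rfl

/-- The stalk of the presheaf extension by zero. -/
def stalkShriekIso : p.presheafFiber.obj (OverShriek.shriekAb P) ≅ tgt P p where
  hom := fwd P p
  inv := bwd P p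
  hom_inv_id := fwd_bwd P p
  inv_hom_id := bwd_fwd P p

end Groth.Agent.Lib.Helper15.StalkShriek
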