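import Mathlib
import Groth.Agent.Lib.Helper15.SurjDescent
import Groth.Agent.Lib.Helper15.Constr2

/-!
# Helper15: constructibility descends along surjective lfp morphisms (S8546)
-/

set_option autoImplicit false
set_option backward.isDefEq.respectTransparency false
universe u
open CategoryTheory CategoryTheory.Limits AlgebraicGeometry Opposite Topology

namespace Helper15.SurjDescent

theorem constr_pull_of_comm {T S X : Scheme.{u}} (g : T ⟶ S) (a : S ⟶ X) (b : T ⟶ X)
    (w : g ≫ a = b) (F : EtCoh.Ab X) (h : EtPBC.IsConstructible ((EtCoh.pull b).obj F)) :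
    EtPBC.IsConstructible ((EtCoh.pull g).obj ((EtCoh.pull a).obj F)) :=
  Helper15.Constr.constructible_of_iso (((EtCore.pullComp g a).symm ≪≫ EtCore.pullCongr w).app F).symm h

section

variable {X Y : Scheme.{u}} (f : X ⟶ Y) (V : Y.Opens)

/-- affine opens of `X` mapping into `V` -/
def Idx : Type u := {W : X.Opens // IsAffineOpen W ∧ W ≤ f ⁻¹ᵁ V}

variable {f V}

noncomputable def fW (W : Idx f V) : W.1.toScheme ⟶ V.toScheme := f.resLE V W.1 W.2.2

theorem fW_ι (W : Idx f V) : fW W ≫ V.ι = W.1.ι ≫ f := Scheme.Hom.resLE_comp_ι f W.2.2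

instance (W : Idx f V) : IsAffine W.1.toScheme := W.2.1

instance [LocallyOfFinitePresentation f] (W : Idx f V) : LocallyOfFinitePresentation (fW W) :=
  IsZariskiLocalAtSource.resLE (P := @LocallyOfFinitePresentation) W.2.2 inferInstance

theorem range_fW_constructible [LocallyOfFinitePresentation f] (hV : IsAffineOpen V)
    (W : Idx f V) : IsConstructible (Set.range (fW W)) := by
  haveI : IsAffine V.toScheme := hV
  rw [← Set.image_univ]
  exact (fW W).isConstructible_image IsConstructible.univ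

theorem iUnion_range_fW [Surjective f] : (⋃ W : Idx f V, Set.range (fW W)) = Set.univ := by
  apply Set.eq_univ_of_forall
  intro v
  obtain ⟨x, hx⟩ := f.surjective (V.ι v)
  have hv : V.ι v ∈ (V : Set Y) := by
    rw [← Scheme.Opens.range_ι]
    exact ⟨v, rfl⟩
  have hxV : x ∈ f ⁻¹ᵁ V := by
    show f x ∈ (V : Set Y)
    rw [hx]
    exact hv
  obtain ⟨W, hW, hxW, hWsub⟩ := exists_isAffineOpen_mem_and_subset (x := x) (U := f ⁻¹ᵁ V) hxV
  refine Set.mem_iUnion.2 ⟨⟨W, hW, fun _ h => hWsub h⟩, ⟨⟨x, hxW⟩, ?_⟩⟩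
  apply V.ι.isOpenEmbedding.injective
  rw [← Scheme.Hom.comp_apply, fW_ι, Scheme.Hom.comp_apply]
  exact hx

variable (t : Finset (Idx f V))

noncomputable def cop : Scheme.{u} := ∐ (fun W : ↥t => W.1.1.toScheme)

noncomputable def copι (W : ↥t) : W.1.1.toScheme ⟶ cop t :=
  Sigma.ι (fun W : ↥t => W.1.1.toScheme) W

noncomputable def copDesc : cop t ⟶ V.toScheme :=
  Sigma.desc (fun W : ↥t => fW W.1)

theorem copι_desc (W : ↥t) : copι t W ≫ copDesc t = fW W.1 :=
  Sigma.ι_desc _ _

instance [IsAffine V.toScheme] : IsAffine (cop t) :=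
  inferInstanceAs (IsAffine (∐ (fun W : ↥t => W.1.1.toScheme)))

instance (W : ↥t) : IsOpenImmersion (copι t W) :=
  inferInstanceAs (IsOpenImmersion (Sigma.ι (fun W : ↥t => W.1.1.toScheme) W))

theorem iUnion_range_copι : (⋃ W : ↥t, Set.range (copι t W)) = Set.univ :=
  (sigmaOpenCover (fun W : ↥t => W.1.1.toScheme)).iUnion_range

theorem copDesc_surjective (ht : (⋃ W ∈ t, Set.range (fW W)) = Set.univ) :
    Surjective (copDesc t) := by
  refine ⟨fun v => ?_⟩
  have hv : v ∈ ⋃ W ∈ t, Set.range (fW W) := ht ▸ Set.mem_univ v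
  simp only [Set.mem_iUnion, Set.mem_range] at hv
  obtain ⟨W, hWt, w, hw⟩ := hv
  refine ⟨copι t ⟨W, hWt⟩ w, ?_⟩
  rw [← Scheme.Hom.comp_apply, copι_desc]
  exact hw

end

open Helper15.Constr in
theorem affine_case {X Y : Scheme.{u}} (f : X ⟶ Y) [Surjective f] [LocallyOfFinitePresentation f]
    (F : EtCoh.Ab Y) (hG : EtPBC.IsConstructible ((EtCoh.pull f).obj F)) (V : Y.Opens)
    (hV : IsAffineOpen V) : EtPBC.IsConstructible ((EtCoh.pull V.ι).obj F) := by
  haveI : IsAffine V.toScheme := hV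
  obtain ⟨t, ht⟩ := exists_finite_cover_of_constructible
    (fun W : Idx f V => Set.range (fW W)) (range_fW_constructible hV) iUnion_range_fW
  haveI := copDesc_surjective t ht
  refine (S0135 (copDesc t) _).2 ?_
  refine S0130 (cop t) _ (fun W : ↥t => W.1.1.toScheme) (copι t) ?_ (iUnion_range_copι t) ?_
  · intro W
    exact (isCompact_range (copι t W).continuous).isConstructible
      (copι t W).isOpenEmbedding.isOpen_range
  · intro W
    refine constr_pull_of_comm (copι t W) (copDesc t) (fW W.1) (copι_desc t W) _ ?_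
    refine constr_pull_of_comm (fW W.1) V.ι (W.1.1.ι ≫ f) (fW_ι W.1) F ?_
    exact constructible_of_iso ((EtCore.pullComp W.1.1.ι f).app F).symm
      (S0127 W.1.1.ι _ hG)

open Helper15.Constr in
theorem S8546 {X Y : Scheme.{u}} (f : X ⟶ Y) [Surjective f]
    [LocallyOfFinitePresentation f] (F : EtCoh.Ab Y) :
    EtPBC.IsConstructible F ↔ EtPBC.IsConstructible ((EtCoh.pull f).obj F) := by
  constructor
  · exact S0127 f F
  · intro hG
    have hex : ∀ y : Y, ∃ W : Y.Opens, IsAffineOpen W ∧ y ∈ W := fun y => by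
      obtain ⟨W, hW, hyW, -⟩ := exists_isAffineOpen_mem_and_subset (x := y) (U := ⊤) trivial
      exact ⟨W, hW, hyW⟩
    choose U hU hyU using hex
    refine S0129 F U ?_ (fun y => affine_case f F hG (U y) (hU y))
    exact eq_top_iff.2 (fun y _ => TopologicalSpace.Opens.mem_iSup.2 ⟨y, hyU y⟩)

end Helper15.SurjDescent
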