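import Groth.Agent.Lib.Helper13.StalkPull
import Groth.Prelude.Def_EtBC2

/-!
# Helper library (helper15): the unit `F ⟶ g_* g⁻¹ F` is a monomorphism for surjective `g` (small etale sites)
-/

set_option autoImplicit false
open CategoryTheory CategoryTheory.Limits AlgebraicGeometry Opposite

namespace Groth.Agent.Lib.Helper15.SurjUnit

open Groth.Agent.Lib.Helper13.StalkConservative Groth.Agent.Lib.Helper13.StalkPull

universe u

variable {Y Y' : Scheme.{u}} (g : Y' ⟶ Y)

/-- A chosen geometric point over each point of `Y'`. -/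
noncomputable def geomAt (y' : Y') : GeomPt Y' where
  Ω := SeparableClosure (Y'.residueField y')
  ξ := (Scheme.SpecToEquivOfField (SeparableClosure (Y'.residueField y')) _).2
    ⟨y', CommRingCat.ofHom (algebraMap (Y'.residueField y') _)⟩

theorem geomAt_default (y' : Y') : (geomAt y').ξ default = y' := by
  simp only [geomAt, Scheme.SpecToEquivOfField]
  exact Scheme.fromSpecResidueField_apply y' _

set_option backward.isDefEq.respectTransparency false in
theorem detectsCovers_of_surjective [Surjective g] :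
    DetectsCovers (fun y' : Y' => Scheme.pointSmallEtale ((geomAt y').ξ ≫ g)) := by
  intro U R hR
  obtain ⟨α, T, f, rfl⟩ := R.exists_eq_ofArrows
  rw [Scheme.ofArrows_mem_smallEtaleTopology_iff]
  ext x
  simp only [Set.mem_iUnion, Set.mem_range, Set.mem_univ, iff_true]
  obtain ⟨y', hy'⟩ := g.surjective (U.hom x)
  have hi : ((geomAt y').ξ ≫ g) default = U.hom x := by
    rw [Scheme.Hom.comp_apply, geomAt_default, hy']
  obtain ⟨x', hx'⟩ := Scheme.pointSmallEtaleFiberObjToPreimage_surjective
    ((geomAt y').ξ ≫ g) hi U ⟨x, by simp⟩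
  rw [Subtype.ext_iff] at hx'
  simp only [Functor.id_obj, Scheme.pointSmallEtaleFiberObjToPreimage_coe,
    Scheme.Etale.forget_obj_left] at hx'
  subst hx'
  obtain ⟨W, k, ⟨Z, p, _, ⟨a⟩, rfl⟩, y, rfl⟩ := hR y' x'
  exact ⟨a, (Scheme.pointSmallEtaleFiberObjToPreimage ((geomAt y').ξ ≫ g) hi (y ≫ p.hom)).1, rfl⟩

theorem mono_unit_of_surjective [Surjective g] (F : EtCoh.Ab Y) :
    Mono ((EtCoh.pullPushAdj g).unit.app F) := by
  have hJ := (jointlyReflectIsomorphisms (A := AddCommGrpCat.{u + 1})
    (detectsCovers_of_surjective g)).jointlyReflectMonomorphisms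
  haveI : ∀ y' : Y', Mono ((Scheme.pointSmallEtale ((geomAt y').ξ ≫ g)).sheafFiber.map
      ((EtCoh.pullPushAdj g).unit.app F)) := by
    intro y'
    haveI : IsSplitMono ((EtCoh.pull g).map ((EtCoh.pullPushAdj g).unit.app F)) :=
      ⟨⟨⟨(EtCoh.pullPushAdj g).counit.app _, (EtCoh.pullPushAdj g).left_triangle_components F⟩⟩⟩
    have h1 : Mono ((EtCoh.pull g ⋙ EtCoh.stalk (geomAt y').ξ).map
        ((EtCoh.pullPushAdj g).unit.app F)) := by
      change Mono ((EtCoh.stalk (geomAt y').ξ).map ((EtCoh.pull g).map _))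
      infer_instance
    exact ((MorphismProperty.monomorphisms _).arrow_mk_iso_iff
      (((Functor.mapArrowFunctor _ _).mapIso (stalkPullIso g (geomAt y').ξ)).app
        (Arrow.mk ((EtCoh.pullPushAdj g).unit.app F)))).1 h1
  exact hJ.mono _

end Groth.Agent.Lib.Helper15.SurjUnit
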