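import Groth.Agent.Lib.Helper15.SurjUnit
import Groth.Agent.Lib.Helper15.HenselStalkSet
import Groth.Agent.Lib.Helper13.EtBaseChange
import Groth.Agent.Lib.Helper13.FlatPullback

/-!
# Helper library (helper15): the unit `F ⟶ g_* g^* F` is a monomorphism for surjective `g` (sheaves of sets), and
descent of injectivity / bijectivity of pullback of sections along a surjective base change
-/

set_option autoImplicit false
open CategoryTheory CategoryTheory.Limits AlgebraicGeometry Opposite

namespace Groth.Agent.Lib.Helper15.SurjUnitSet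

open Groth.Agent.Lib.Helper13.StalkConservative Groth.Agent.Lib.Helper15.SurjUnit
  Groth.Agent.Lib.Helper15.HenselStalkSet Groth.Agent.Lib.Helper13

universe u

theorem mono_unit_of_surjective_set {Y Y' : Scheme.{u}} (g : Y' ⟶ Y) [Surjective g]
    (F : EtDesc.Sh Y) : Mono ((EtDesc.adjSh g).unit.app F) := by
  haveI : PreservesFilteredColimitsOfSize.{u, u} (forget (Type (u + 1))) :=
    preservesFilteredColimitsOfSize_of_univLE.{u + 1, u + 1, u, u} _
  haveI : AB5OfSize.{u, u} (Type (u + 1)) :=
    AB5OfSize_of_univLE.{u, u, u + 1, u + 1} (Type (u + 1))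
  have hJ := (jointlyReflectIsomorphisms (A := Type (u + 1))
    (detectsCovers_of_surjective g)).jointlyReflectMonomorphisms
  haveI : ∀ y' : Y', Mono ((Scheme.pointSmallEtale ((geomAt y').ξ ≫ g)).sheafFiber.map
      ((EtDesc.adjSh g).unit.app F)) := by
    intro y'
    haveI : IsSplitMono ((EtDesc.pullSh g).map ((EtDesc.adjSh g).unit.app F)) :=
      ⟨⟨⟨(EtDesc.adjSh g).counit.app _, (EtDesc.adjSh g).left_triangle_components F⟩⟩⟩
    have h1 : Mono ((EtDesc.pullSh g ⋙
        (Scheme.pointSmallEtale (geomAt y').ξ).sheafFiber (A := Type (u + 1))).map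
        ((EtDesc.adjSh g).unit.app F)) := by
      change Mono (((Scheme.pointSmallEtale (geomAt y').ξ).sheafFiber (A := Type (u + 1))).map
        ((EtDesc.pullSh g).map _))
      infer_instance
    exact ((MorphismProperty.monomorphisms _).arrow_mk_iso_iff
      (((Functor.mapArrowFunctor _ _).mapIso (stalkPullIsoSet g (geomAt y').ξ)).app
        (Arrow.mk ((EtDesc.adjSh g).unit.app F)))).1 h1
  exact hJ.mono _

section Descent

variable {X Y Xb Yb : Scheme.{u}} (h : Y ⟶ X) (p : Xb ⟶ X) (hb : Yb ⟶ Xb) (pY : Yb ⟶ Y)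
  (w : hb ≫ p = pY ≫ h)

/-- If pullback of sections along `h` is injective for all sheaves, a section of `h^*F` whose image in `h^*G`
(for a monomorphism `F ⟶ G`) comes from `G` already comes from `F`. -/
theorem mem_range_secPull_of_mono
    (hinj : ∀ F : EtDesc.Sh X, Function.Injective (EtDesc.secPull h F))
    {F G : EtDesc.Sh X} (u : F ⟶ G) [Mono u]
    (ξ : EtDesc.sect ((EtDesc.pullSh h).obj F) (EtCoh.top Y))
    (hξ : ((EtDesc.pullSh h).map u).hom.app (op (EtCoh.top Y)) ξ ∈ Set.range (EtDesc.secPull h G)) :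
    ξ ∈ Set.range (EtDesc.secPull h F) := by
  obtain ⟨η, hη⟩ := hξ
  have hab : (pushout.inl u u).hom.app (op (EtCoh.top X)) η =
      (pushout.inr u u).hom.app (op (EtCoh.top X)) η := by
    apply hinj (pushout u u)
    rw [EtSecPull.secPull_natural, EtSecPull.secPull_natural, hη]
    have h1 : ∀ (a b : G ⟶ pushout u u), u ≫ a = u ≫ b →
        ((EtDesc.pullSh h).map a).hom.app (op (EtCoh.top Y))
          (((EtDesc.pullSh h).map u).hom.app (op (EtCoh.top Y)) ξ) =
        ((EtDesc.pullSh h).map b).hom.app (op (EtCoh.top Y))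
          (((EtDesc.pullSh h).map u).hom.app (op (EtCoh.top Y)) ξ) := by
      intro a b hab
      have := congrArg (fun α => ((EtDesc.pullSh h).map α).hom.app (op (EtCoh.top Y)) ξ) hab
      simp only [Functor.map_comp] at this
      exact this
    exact h1 _ _ pushout.condition
  obtain ⟨ζ, hζ⟩ := EtSecPull.exists_of_inl_eq_inr u (op (EtCoh.top X)) η hab
  refine ⟨ζ, ?_⟩
  have : Mono ((EtDesc.pullSh h).map u) := inferInstance
  apply EtSecPull.injective_of_mono ((EtDesc.pullSh h).map u) (op (EtCoh.top Y))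
  rw [← EtSecPull.secPull_natural, hζ, hη]

include w in
theorem injective_secPull_of_surjective [Surjective p]
    (hinjb : ∀ Fb : EtDesc.Sh Xb, Function.Injective (EtDesc.secPull hb Fb)) (F : EtDesc.Sh X) :
    Function.Injective (EtDesc.secPull h F) := by
  intro s₁ s₂ h12
  haveI := mono_unit_of_surjective_set p F
  apply EtSecPull.injective_of_mono ((EtDesc.adjSh p).unit.app F) (op (EtCoh.top X))
  have e : ∀ s : EtDesc.sect F (EtCoh.top X),
      EtDesc.secPull hb ((EtDesc.pullSh p).obj F)
        (((EtDesc.pullSh p).obj F).obj.map (EtCore.bcTopIso p).inv.op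
          (((EtDesc.adjSh p).unit.app F).hom.app (op (EtCoh.top X)) s)) =
      ((EtDesc.pullSh hb).obj ((EtDesc.pullSh p).obj F)).obj.map (EtCore.bcTopIso pY).inv.op
        ((EtBC.baseChange0Sh p h pY hb w ((EtDesc.pullSh p).obj F)).hom.app (op (EtCoh.top Y))
          (((EtDesc.pullSh h).map ((EtDesc.adjSh p).unit.app F)).hom.app (op (EtCoh.top Y))
            (EtDesc.secPull h F s))) := fun s => by
    rw [EtSecPull.secPull_baseChange h p hb pY w, EtSecPull.secPull_natural]
    rfl
  refine (EtSecPull.bijective_map_iso ((EtDesc.pullSh p).obj F) (EtCore.bcTopIso p)).1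
    (hinjb ((EtDesc.pullSh p).obj F) ?_)
  rw [e s₁, e s₂, h12]

include w in
theorem bijective_secPull_of_surjective [Surjective p]
    (hbij : ∀ Fb : EtDesc.Sh Xb, Function.Bijective (EtDesc.secPull hb Fb))
    (hmono : ∀ Fb : EtDesc.Sh Xb, Mono (EtBC.baseChange0Sh p h pY hb w Fb)) (F : EtDesc.Sh X) :
    Function.Bijective (EtDesc.secPull h F) := by
  have hinj : ∀ F : EtDesc.Sh X, Function.Injective (EtDesc.secPull h F) :=
    injective_secPull_of_surjective h p hb pY w (fun Fb => (hbij Fb).1)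
  refine ⟨hinj F, fun t => ?_⟩
  have stepA : ∀ Fb : EtDesc.Sh Xb,
      Function.Surjective (EtDesc.secPull h ((EtDesc.pushSh p).obj Fb)) := by
    intro Fb y
    haveI := hmono Fb
    obtain ⟨s', hs'⟩ := (hbij Fb).2 (((EtDesc.pullSh hb).obj Fb).obj.map (EtCore.bcTopIso pY).inv.op
      ((EtBC.baseChange0Sh p h pY hb w Fb).hom.app (op (EtCoh.top Y)) y))
    obtain ⟨s, hs⟩ := (EtSecPull.bijective_map_iso Fb (EtCore.bcTopIso p)).2 s'
    refine ⟨s, ?_⟩
    have e := EtSecPull.secPull_baseChange h p hb pY w Fb s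
    rw [hs, hs'] at e
    have e1 := (EtSecPull.bijective_map_iso ((EtDesc.pullSh hb).obj Fb) (EtCore.bcTopIso pY)).1 e
    exact (EtSecPull.injective_of_mono (EtBC.baseChange0Sh p h pY hb w Fb) (op (EtCoh.top Y)) e1).symm
  haveI := mono_unit_of_surjective_set p F
  obtain ⟨σ, hσ⟩ := stepA ((EtDesc.pullSh p).obj F)
    (((EtDesc.pullSh h).map ((EtDesc.adjSh p).unit.app F)).hom.app (op (EtCoh.top Y)) t)
  exact mem_range_secPull_of_mono h hinj ((EtDesc.adjSh p).unit.app F) t ⟨σ, hσ⟩

end Descent

end Groth.Agent.Lib.Helper15.SurjUnitSet
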