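import Groth.Agent.Lib.Helper15.TransferTrace
import Groth.Agent.Lib.Helper8.FibIntN
import Groth.Prelude.Def_EtAcyc

/-!
# Helper15: applications of the transfer for finite etale morphisms
-/

set_option autoImplicit false
set_option backward.isDefEq.respectTransparency false
universe u
open CategoryTheory CategoryTheory.Limits AlgebraicGeometry Opposite

namespace Groth.Agent.Lib.Helper15.TransferApps

open Groth.Agent.Lib.Helper8.FibIntGP Groth.Agent.Lib.Helper8.FibIntN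
  Groth.Agent.Lib.Helper8.FibInt

/-- The number of geometric points of a fibre is the number of points of the geometric fibre. -/
theorem card_lifts_eq_card_pullback {X' X : Scheme.{u}} (f : X' ⟶ X) [IsFinite f] [Etale f]
    {Ω : Type u} [Field Ω] [IsAlgClosed Ω] (ξ : Spec (.of Ω) ⟶ X) :
    Nat.card {ξ' : Spec (.of Ω) ⟶ X' // ξ' ≫ f = ξ} = Nat.card ↥(pullback f ξ) := by
  classical
  have hfin : (f ⁻¹' {gpt ξ}).Finite := f.finite_preimage_singleton _
  obtain ⟨-, h2, -⟩ := card_eq_fibreIntegral_of_isPullback f Ω (pullback.snd f ξ)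
    (pullback.fst f ξ) ξ (IsPullback.of_hasPullback f ξ) (IsLocalRing.closedPoint Ω) (gpt ξ) rfl
    hfin
  have h3 := fibreIntegral_eq_geom f ξ (fun _ => 1) hfin
  haveI : Finite {b : Spec (.of Ω) ⟶ X' // b ≫ f = ξ} := finite_geomPoints f ξ hfin
  haveI := Fintype.ofFinite {b : Spec (.of Ω) ⟶ X' // b ≫ f = ξ}
  rw [h3, finsum_eq_sum_of_fintype, Finset.sum_const, Finset.card_univ, nsmul_eq_mul, mul_one,
    ← Nat.card_eq_fintype_card] at h2
  exact_mod_cast h2.symm

section Smul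

lemma smul_eq_zero_of_coprime {A : Type*} [AddCommGroup A] (y : A) (m d : ℕ)
    (hc : Nat.Coprime m d) (h1 : m • y = 0) (h2 : d • y = 0) : y = 0 := by
  have h : ((Nat.gcd m d : ℕ) : ℤ) • y = 0 := by
    rw [Nat.gcd_eq_gcd_ab, add_smul, mul_comm (m : ℤ), mul_comm (d : ℤ), mul_smul, mul_smul,
      natCast_zsmul, natCast_zsmul, h1, h2, smul_zero, smul_zero, add_zero]
  rw [hc, Nat.cast_one, one_smul] at h
  exact h

lemma exists_smul_eq_of_coprime {A : Type*} [AddCommGroup A] (y : A) (m d : ℕ)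
    (hc : Nat.Coprime m d) (h1 : m • y = 0) : d • (Nat.gcdB m d • y) = y := by
  have h : ((Nat.gcd m d : ℕ) : ℤ) • y = d • (Nat.gcdB m d • y) := by
    rw [Nat.gcd_eq_gcd_ab, add_smul, mul_comm (m : ℤ), mul_smul, mul_smul,
      natCast_zsmul, natCast_zsmul, h1, smul_zero, zero_add]
  rw [hc, Nat.cast_one, one_smul] at h
  exact h.symm

variable {X : Scheme.{u}}

lemma nsmul_hom_app {F G : EtCoh.Ab X} (φ : F ⟶ G) (d : ℕ) (V : X.Etaleᵒᵖ) (x : F.obj.obj V) :
    (d • φ).hom.app V x = d • φ.hom.app V x := by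
  induction d with
  | zero => rw [zero_smul, zero_smul]; rfl
  | succ d ih => rw [succ_nsmul, succ_nsmul, ← ih]; rfl

theorem isIso_nsmul_of_isLTorsion (L : Set ℕ) (F : EtCoh.Ab X) (hF : EtAcyc.IsLTorsion L F)
    (d : ℕ) (hd : ∀ p : ℕ, p.Prime → p ∈ L → ¬ p ∣ d) : IsIso (d • 𝟙 F) := by
  have hcop : ∀ m, EtAcyc.PrimesIn L m → Nat.Coprime m d := fun m hm =>
    Nat.coprime_of_dvd fun p hp hpm => hd p hp (hm.2 p hp hpm)
  haveI : Mono (d • 𝟙 F) := by
    apply EtGlue.mono_of_injective_ab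
    intro U
    rw [injective_iff_map_eq_zero]
    intro s hs
    rw [nsmul_hom_app] at hs
    have hs' : d • s = 0 := hs
    apply EtGlue.eq_of_locally_ab F
    intro x
    obtain ⟨V, g, m, ⟨v, hv⟩, hm, hms⟩ := hF U.unop s x
    refine ⟨V, g, v, hv, ?_⟩
    have h1 : d • F.obj.map g.op s = 0 := by
      have : F.obj.map g.op (d • s) = d • F.obj.map g.op s :=
        map_nsmul (F.obj.map g.op).hom d s
      rw [← this, hs']
      exact map_zero (F.obj.map g.op).hom
    rw [smul_eq_zero_of_coprime (F.obj.map g.op s) m d (hcop m hm) hms h1]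
    exact (map_zero (F.obj.map g.op).hom).symm
  haveI : Epi (d • 𝟙 F) := by
    rw [← Sheaf.isLocallySurjective_iff_epi' AddCommGrpCat.{u + 1}]
    constructor
    intro U s
    rw [EtGlue.mem_iff]
    intro x
    obtain ⟨V, g, m, ⟨v, hv⟩, hm, hms⟩ := hF U s x
    refine ⟨V, g, v, ?_, hv⟩
    refine ⟨(Nat.gcdB m d) • F.obj.map g.op s, ?_⟩
    rw [nsmul_hom_app]
    show d • ((Nat.gcdB m d) • F.obj.map g.op s) = F.obj.map g.op s
    exact exists_smul_eq_of_coprime (F.obj.map g.op s) m d (hcop m hm) hms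
  exact isIso_of_mono_of_epi _

end Smul

section Ext

lemma comp_mk₀_nsmul_id {C : Type*} [Category C] [Abelian C] [HasExt C] {A B : C} (d : ℕ) (n : ℕ)
    (e : Abelian.Ext A B n) :
    e.comp (Abelian.Ext.mk₀ (d • 𝟙 B)) (add_zero n) = d • e := by
  induction d with
  | zero => rw [zero_smul, zero_smul, Abelian.Ext.mk₀_zero, Abelian.Ext.comp_zero]
  | succ d ih =>
    rw [succ_nsmul, succ_nsmul, Abelian.Ext.mk₀_add, Abelian.Ext.comp_add, ih,
      Abelian.Ext.comp_mk₀_id]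

lemma eq_zero_of_nsmul_eq_zero_of_isIso {C : Type*} [Category C] [Abelian C] [HasExt C]
    {A B : C} (d : ℕ) [IsIso (d • 𝟙 B)] (n : ℕ) (e : Abelian.Ext A B n) (h : d • e = 0) :
    e = 0 := by
  have h1 := comp_mk₀_nsmul_id d n e
  rw [h] at h1
  have h2 : (e.comp (Abelian.Ext.mk₀ (d • 𝟙 B)) (add_zero n)).comp
      (Abelian.Ext.mk₀ (inv (d • 𝟙 B))) (add_zero n) = e := by
    rw [Abelian.Ext.comp_assoc_of_third_deg_zero, Abelian.Ext.mk₀_comp_mk₀, IsIso.hom_inv_id,
      Abelian.Ext.comp_mk₀_id]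
  rw [h1, Abelian.Ext.zero_comp] at h2
  exact h2.symm

end Ext

/-- S8532. -/
theorem main_S8532 {X X' : Scheme.{u}} (f : X' ⟶ X) [IsFinite f] [Etale f]
    (d : ℕ) (hd : ∀ (Ω : Type u) [Field Ω] [IsSepClosed Ω] (ξ : Spec (CommRingCat.of Ω) ⟶ X),
      Nat.card ↥(pullback f ξ) = d)
    (L : Set ℕ) (hL : ∀ p : ℕ, p.Prime → p ∈ L → ¬ p ∣ d) (F : EtCoh.Ab X)
    (hF : EtAcyc.IsLTorsion L F)
    [PreservesFiniteLimits (EtCoh.pull f)] (q : ℕ)
    (h : Subsingleton (EtCoh.H X' ((EtCoh.pull f).obj F) q)) :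
    Subsingleton (EtCoh.H X F q) := by
  haveI := isIso_nsmul_of_isLTorsion L F hF d hL
  refine ⟨fun a b => ?_⟩
  have key : ∀ e : EtCoh.H X F q, e = 0 := by
    intro e
    have h1 : EtCore.Hpull f F q e = 0 := Subsingleton.elim _ _
    have h2 := TransferTrace.nsmul_eq_zero_of_Hpull_eq_zero f d
      (fun Ω _ _ ξ => (card_lifts_eq_card_pullback f ξ).trans (hd Ω ξ)) F q e h1
    exact eq_zero_of_nsmul_eq_zero_of_isIso (C := EtCoh.Ab X) d q e h2
  rw [key a, key b]

end Groth.Agent.Lib.Helper15.TransferApps
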