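import Groth.Agent.Lib.Helper15.TransferApps

/-!
# Helper15: transfer for finite separable field extensions
-/

set_option autoImplicit false
set_option backward.isDefEq.respectTransparency false
universe u
open CategoryTheory CategoryTheory.Limits AlgebraicGeometry Opposite

namespace Groth.Agent.Lib.Helper15.TransferField

open Groth.Agent.Lib.Helper13.EtaleRestr Groth.Agent.Lib.Helper13.ExtZeroExact

section Field

variable (K L : Type u) [Field K] [Field L] [Algebra K L] [FiniteDimensional K L]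

theorem algebra_etale [Algebra.IsSeparable K L] : Algebra.Etale K L :=
  { formallyEtale := Algebra.FormallyEtale.of_isSeparable K L
    finitePresentation := Algebra.FinitePresentation.of_finiteType.mp inferInstance }

theorem etale_specMap [Algebra.IsSeparable K L] :
    Etale (Spec.map (CommRingCat.ofHom (algebraMap K L))) := by
  rw [HasRingHomProperty.Spec_iff (P := @Etale)]
  exact RingHom.etale_algebraMap.mpr (algebra_etale K L)

theorem isFinite_specMap : IsFinite (Spec.map (CommRingCat.ofHom (algebraMap K L))) := by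
  rw [IsFinite.SpecMap_iff]
  exact RingHom.finite_algebraMap.mpr inferInstance

theorem card_lifts_field [Algebra.IsSeparable K L] {Ω : Type u} [Field Ω] [IsAlgClosed Ω]
    (ξ : Spec (.of Ω) ⟶ Spec (.of K)) :
    Nat.card {ξ' : Spec (.of Ω) ⟶ Spec (.of L) //
      ξ' ≫ Spec.map (CommRingCat.ofHom (algebraMap K L)) = ξ} = Module.finrank K L := by
  obtain ⟨φ, rfl⟩ := Spec.map_surjective ξ
  letI : Algebra K Ω := φ.hom.toAlgebra
  rw [← Field.finSepDegree_eq_finrank_of_isSeparable K L, Field.finSepDegree]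
  refine Nat.card_congr (Equiv.trans ?_ (Field.embEquivOfIsAlgClosed K L Ω).symm)
  have hcomm : ∀ ξ' : {ξ' : Spec (.of Ω) ⟶ Spec (.of L) //
      ξ' ≫ Spec.map (CommRingCat.ofHom (algebraMap K L)) = Spec.map φ},
      CommRingCat.ofHom (algebraMap K L) ≫ Spec.preimage ξ'.1 = φ := by
    intro ξ'
    apply Spec.map_injective
    rw [Spec.map_comp, Spec.map_preimage]
    exact ξ'.2
  exact
    { toFun := fun ξ' =>
        { toRingHom := (Spec.preimage ξ'.1).hom
          commutes' := fun r => congrArg (fun m : CommRingCat.of K ⟶ CommRingCat.of Ω => m.hom r)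
            (hcomm ξ') }
      invFun := fun ψ => ⟨Spec.map (CommRingCat.ofHom ψ.toRingHom), by
        rw [← Spec.map_comp]
        congr 1
        apply CommRingCat.hom_ext
        ext r
        exact ψ.commutes r⟩
      left_inv := fun ξ' => by
        apply Subtype.ext
        show Spec.map (CommRingCat.ofHom (Spec.preimage ξ'.1).hom) = ξ'.1
        exact Spec.map_preimage ξ'.1
      right_inv := fun ψ => by
        apply AlgHom.ext
        intro r
        show (Spec.preimage (Spec.map (CommRingCat.ofHom ψ.toRingHom))).hom r = ψ r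
        rw [Spec.preimage_map]
        rfl }

/-- S13842. -/
theorem main_S13842 [Algebra.IsSeparable K L] (F : EtCoh.Ab (Spec (CommRingCat.of K))) (i : ℕ)
    (α : EtCoh.H (Spec (CommRingCat.of K)) F i)
    [PreservesFiniteLimits (EtCoh.pull (Spec.map (CommRingCat.ofHom (algebraMap K L))))]
    (hα : EtCore.Hpull (Spec.map (CommRingCat.ofHom (algebraMap K L))) F i α = 0) :
    Module.finrank K L • α = 0 := by
  haveI := etale_specMap K L
  haveI := isFinite_specMap K L
  exact TransferTrace.nsmul_eq_zero_of_Hpull_eq_zero _ _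
    (fun Ω _ _ ξ => card_lifts_field K L ξ) F i α hα

end Field

theorem isTorsion_pull_of_etale {X' X : Scheme.{u}} (π : X' ⟶ X) [Etale π] (F : EtCoh.Ab X)
    (hF : EtCoh.IsTorsion F) : EtCoh.IsTorsion ((EtCoh.pull π).obj F) := by
  intro V' s x
  obtain ⟨ψ, -⟩ : ∃ ψ : (EtCoh.pull π).obj F ≅ (EtShriek.restrAlong π).obj F,
      ψ = (pullIsoRestr π).app F := ⟨_, rfl⟩
  obtain ⟨V, g, ⟨v, hv⟩, hfin⟩ :=
    hF ((EtShriek.compEtale π).obj V') (ψ.hom.hom.app (op V') s) x
  have e : g.left ≫ V'.hom ≫ π = V.hom := MorphismProperty.Over.w g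
  have hW : EtCoh.etaleMP ((g.left ≫ V'.hom) ≫ π) := by
    rw [Category.assoc, e]; exact V.prop
  have hprop : EtCoh.etaleMP (g.left ≫ V'.hom) :=
    EtCoh.etaleMP.of_postcomp (W' := EtCoh.etaleMP) (g.left ≫ V'.hom) π inferInstance hW
  obtain ⟨V'', hV''⟩ : ∃ V'' : X'.Etale,
      V'' = MorphismProperty.Over.mk ⊤ (g.left ≫ V'.hom) hprop := ⟨_, rfl⟩
  obtain ⟨g', hg'⟩ : ∃ g' : V'' ⟶ V', g'.left = (hV'' ▸ g.left : V''.left ⟶ V'.left) := by
    subst hV''
    exact ⟨MorphismProperty.Over.homMk g.left rfl trivial, rfl⟩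
  subst hV''
  refine ⟨_, g', ⟨v, by rw [hg']; exact hv⟩, ?_⟩
  obtain ⟨e₀, he₀⟩ : ∃ e₀ : (EtShriek.compEtale π).obj
      (MorphismProperty.Over.mk ⊤ (g.left ≫ V'.hom) hprop) ⟶ V,
      e₀ ≫ g = (EtShriek.compEtale π).map g' := by
    refine ⟨MorphismProperty.Over.homMk (𝟙 _) (by
      rw [Category.id_comp]
      exact e.symm.trans (Category.assoc _ _ _).symm) trivial, ?_⟩
    apply MorphismProperty.Over.Hom.ext
    show 𝟙 _ ≫ g.left = g'.left
    rw [Category.id_comp, hg']
  have h1 : IsOfFinAddOrder (ψ.hom.hom.app (op _)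
      (((EtCoh.pull π).obj F).obj.map g'.op s)) := by
    rw [EtGlue.ab_hom_nat ψ.hom g'.op s]
    show IsOfFinAddOrder (F.obj.map ((EtShriek.compEtale π).map g').op
      (ψ.hom.hom.app (op V') s))
    rw [← he₀, op_comp, EtGlue.ab_map_comp]
    exact AddMonoidHom.isOfFinAddOrder (F.obj.map e₀.op).hom hfin
  obtain ⟨ι, hι⟩ : ∃ ι : ((EtCoh.pull π).obj F).obj.obj (op
      (MorphismProperty.Over.mk ⊤ (g.left ≫ V'.hom) hprop)) ≅
      ((EtShriek.restrAlong π).obj F).obj.obj (op
      (MorphismProperty.Over.mk ⊤ (g.left ≫ V'.hom) hprop)),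
      ι.hom = ψ.hom.hom.app (op _) :=
    ⟨(sheafToPresheaf _ _ ⋙ (evaluation _ _).obj (op _)).mapIso ψ, rfl⟩
  have h2 := AddMonoidHom.isOfFinAddOrder ι.inv.hom h1
  rw [← hι] at h2
  have h3 : ι.inv.hom (ι.hom (((EtCoh.pull π).obj F).obj.map g'.op s)) =
      ((EtCoh.pull π).obj F).obj.map g'.op s := Iso.hom_inv_id_apply ι _
  rw [h3] at h2
  exact h2

/-- S7736. -/
theorem main_S7736 (k : Type u) [Field k] (K : Type u) [Field K] [Algebra k K]
    [FiniteDimensional k K] [Algebra.IsSeparable k K] (p : ℕ) [Fact p.Prime]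
    (hdeg : ¬ p ∣ Module.finrank k K) (n : ℕ)
    (hcd : ∀ (F : EtCoh.Ab (Spec (CommRingCat.of K))), EtCoh.IsTorsion F → ∀ q : ℕ, n < q →
        ∀ x : EtCoh.H (Spec (CommRingCat.of K)) F q, (∃ m : ℕ, p ^ m • x = 0) → x = 0) :
    ∀ (F : EtCoh.Ab (Spec (CommRingCat.of k))), EtCoh.IsTorsion F → ∀ q : ℕ, n < q →
        ∀ x : EtCoh.H (Spec (CommRingCat.of k)) F q, (∃ m : ℕ, p ^ m • x = 0) → x = 0 := by
  intro F hF q hq x ⟨m, hm⟩
  haveI := etale_specMap k K
  haveI := isFinite_specMap k K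
  haveI := TransferExt.pull_preservesFiniteLimits (Spec.map (CommRingCat.ofHom (algebraMap k K)))
  have hy : p ^ m • EtCore.Hpull (Spec.map (CommRingCat.ofHom (algebraMap k K))) F q x = 0 := by
    rw [← map_nsmul, hm, map_zero]
  have h0 := hcd _ (isTorsion_pull_of_etale _ F hF) q hq _ ⟨m, hy⟩
  have h1 := main_S13842 k K F q x h0
  have hcop : Nat.Coprime (p ^ m) (Module.finrank k K) :=
    Nat.Coprime.pow_left m ((Nat.Prime.coprime_iff_not_dvd Fact.out).2 hdeg)
  exact TransferApps.smul_eq_zero_of_coprime x (p ^ m) (Module.finrank k K) hcop hm h1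

end Groth.Agent.Lib.Helper15.TransferField
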