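import Mathlib
import Groth.Prelude.Def_EtShriek2
import Groth.Agent.Lib.Helper8.FibIntGP
import Groth.Agent.Lib.Helper15.FinitePushStalk

/-!
# Helper15: a finite etale morphism splits etale-locally (geometric-point formulation)
-/

set_option autoImplicit false
set_option backward.isDefEq.respectTransparency false
universe u
open CategoryTheory CategoryTheory.Limits AlgebraicGeometry Opposite

namespace Groth.Agent.Lib.Helper15.TransferSplit

open Groth.Agent.Lib.Helper8.FibIntGP Groth.Agent.Lib.Helper8.EtLocPI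

theorem isOpenImmersion_of_section {P W : Scheme.{u}} (p : P ⟶ W) (σ : W ⟶ P) (h : σ ≫ p = 𝟙 W)
    [Etale p] : IsOpenImmersion σ := by
  have h1 : Etale (σ ≫ p) := by rw [h]; infer_instance
  have h2 : Etale σ :=
    MorphismProperty.of_postcomp (W := @Etale) (W' := @Etale) σ p inferInstance h1
  have h3 : Mono σ := mono_of_mono_fac h
  exact IsOpenImmersion.of_flat_of_mono σ

lemma range_geom_subset {T : Scheme.{u}} {Ω : Type u} [Field Ω] (t : Spec (.of Ω) ⟶ T)
    (S : Set T) (h : gpt t ∈ S) : Set.range t ⊆ S := by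
  rintro _ ⟨p, rfl⟩
  have : p = IsLocalRing.closedPoint Ω := Subsingleton.elim _ _
  rw [this]
  exact h

section EqLocus

variable {T X' X : Scheme.{u}} (π : X' ⟶ X) [IsOpenImmersion (pullback.diagonal π)]

/-- The locus where two `X`-morphisms into an unramified `X`-scheme agree. -/
theorem exists_eqLocus (a b : T ⟶ X') (h : a ≫ π = b ≫ π) :
    ∃ O : T.Opens, O.ι ≫ a = O.ι ≫ b ∧
      (∀ (Ω : Type u) [Field Ω] (t : Spec (.of Ω) ⟶ T), t ≫ a = t ≫ b → gpt t ∈ O) ∧
      (IsClosedImmersion (pullback.diagonal π) → IsClosed (O : Set T)) := by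
  obtain ⟨ab, hab1, hab2⟩ : ∃ ab : T ⟶ pullback π π,
      ab ≫ pullback.fst π π = a ∧ ab ≫ pullback.snd π π = b :=
    ⟨pullback.lift a b h, pullback.lift_fst _ _ _, pullback.lift_snd _ _ _⟩
  have hΔ1 : pullback.diagonal π ≫ pullback.fst π π = 𝟙 _ := pullback.diagonal_fst π
  have hΔ2 : pullback.diagonal π ≫ pullback.snd π π = 𝟙 _ := pullback.diagonal_snd π
  obtain ⟨ιE, hιE⟩ : ∃ ιE : pullback ab (pullback.diagonal π) ⟶ T,
      ιE = pullback.fst ab (pullback.diagonal π) := ⟨_, rfl⟩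
  haveI : IsOpenImmersion ιE := by rw [hιE]; infer_instance
  have hcond : ιE ≫ ab = pullback.snd ab (pullback.diagonal π) ≫ pullback.diagonal π := by
    rw [hιE]; exact pullback.condition
  have hιa : ιE ≫ a = pullback.snd ab (pullback.diagonal π) := by
    rw [← hab1, ← Category.assoc, hcond, Category.assoc, hΔ1, Category.comp_id]
  have hιb : ιE ≫ b = pullback.snd ab (pullback.diagonal π) := by
    rw [← hab2, ← Category.assoc, hcond, Category.assoc, hΔ2, Category.comp_id]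
  refine ⟨ιE.opensRange, ?_, ?_, ?_⟩
  · have hsub : Set.range ιE.opensRange.ι ⊆ Set.range ιE := by
      rw [Scheme.Opens.range_ι]; exact subset_rfl
    have hl := IsOpenImmersion.lift_fac ιE ιE.opensRange.ι hsub
    rw [← hl, Category.assoc, Category.assoc, hιa, hιb]
  · intro Ω _ t ht
    have hfac : t ≫ ab = (t ≫ a) ≫ pullback.diagonal π := by
      apply pullback.hom_ext
      · rw [Category.assoc, hab1, Category.assoc, hΔ1, Category.comp_id]
      · rw [Category.assoc, hab2, Category.assoc, hΔ2, Category.comp_id, ht]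
    have ht' : t = pullback.lift t (t ≫ a) hfac ≫ ιE := by rw [hιE, pullback.lift_fst]
    show t (IsLocalRing.closedPoint Ω) ∈ ιE.opensRange
    rw [ht']
    exact ⟨_, rfl⟩
  · intro hcl
    haveI : IsClosedImmersion ιE := by rw [hιE]; infer_instance
    exact ιE.isClosedEmbedding.isClosed_range

end EqLocus

theorem exists_sections {X' X : Scheme.{u}} (π : X' ⟶ X) [Etale π] {Ω : Type u} [Field Ω]
    (ξ : Spec (.of Ω) ⟶ X) (A : Finset {ξ' : Spec (.of Ω) ⟶ X' // ξ' ≫ π = ξ}) :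
    ∃ (W : Scheme.{u}) (hW : W ⟶ X) (_ : Etale hW) (w : Spec (.of Ω) ⟶ W), w ≫ hW = ξ ∧
      ∀ a ∈ A, ∃ t : W ⟶ X', t ≫ π = hW ∧ w ≫ t = a.1 := by
  classical
  induction A using Finset.induction_on with
  | empty =>
    exact ⟨X, 𝟙 X, inferInstance, ξ, Category.comp_id _,
      fun a ha => absurd ha (Finset.notMem_empty a)⟩
  | insert a₀ A _ ih =>
    obtain ⟨W, hW, hWe, w, hw, ht⟩ := ih
    haveI := hWe
    refine ⟨pullback hW π, pullback.fst hW π ≫ hW, inferInstance,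
      pullback.lift w a₀.1 (hw.trans a₀.2.symm), ?_, ?_⟩
    · rw [← Category.assoc, pullback.lift_fst, hw]
    · intro a ha
      rcases Finset.mem_insert.1 ha with rfl | ha
      · exact ⟨pullback.snd hW π, pullback.condition.symm, pullback.lift_snd _ _ _⟩
      · obtain ⟨t, ht1, ht2⟩ := ht a ha
        exact ⟨pullback.fst hW π ≫ t, by rw [Category.assoc, ht1],
          by rw [← Category.assoc, pullback.lift_fst, ht2]⟩

/-- A finite etale morphism splits etale-locally: geometric-point formulation. -/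
theorem exists_splitting_data {X' X : Scheme.{u}} (π : X' ⟶ X) [IsFinite π] [Etale π] (x : X) :
    ∃ (W : Scheme.{u}) (hW : W ⟶ X) (_ : Etale hW) (w₀ : W) (I : Type u) (_ : Finite I)
      (t : I → (W ⟶ X')), hW w₀ = x ∧ (∀ i, t i ≫ π = hW) ∧
      ∀ (Ω' : Type u) [Field Ω'] [IsAlgClosed Ω'] (w' : Spec (.of Ω') ⟶ W),
        (∀ i j, w' ≫ t i = w' ≫ t j → i = j) ∧
        (∀ ξ'' : Spec (.of Ω') ⟶ X', ξ'' ≫ π = w' ≫ hW → ∃ i, w' ≫ t i = ξ'') := by
  classical
  obtain ⟨Ω, _, _, ξ, hξ⟩ := exists_geomPoint_at x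
  haveI hfin : Finite {ξ' : Spec (.of Ω) ⟶ X' // ξ' ≫ π = ξ} :=
    FinitePushStalk.finite_lifts π ξ
  haveI := Fintype.ofFinite {ξ' : Spec (.of Ω) ⟶ X' // ξ' ≫ π = ξ}
  obtain ⟨W, hW, hWe, w, hw, ht⟩ := exists_sections π ξ Finset.univ
  haveI := hWe
  choose t ht1 ht2 using fun a => ht a (Finset.mem_univ a)
  haveI : IsOpenImmersion (pullback.diagonal π) := inferInstance
  have hEq := fun a b => exists_eqLocus π (t a) (t b) ((ht1 a).trans (ht1 b).symm)
  choose D hD1 hD2 hD3 using hEq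
  have hDcl : ∀ a b, IsClosed (D a b : Set W) := fun a b => hD3 a b inferInstance
  have hw₀D : ∀ a b, a ≠ b → gpt w ∉ D a b := by
    intro a b hab hmem
    have hrange : Set.range w ⊆ Set.range (D a b).ι := by
      rw [Scheme.Opens.range_ι]
      exact range_geom_subset w _ hmem
    have hl := IsOpenImmersion.lift_fac (D a b).ι w hrange
    have h1 : w ≫ t a = w ≫ t b := by
      rw [← hl, Category.assoc, Category.assoc, hD1 a b]
    apply hab
    apply Subtype.ext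
    rw [← ht2 a, ← ht2 b, h1]
  obtain ⟨Γ, hΓ1, hΓ2⟩ : ∃ Γ : ∀ _ : {ξ' : Spec (.of Ω) ⟶ X' // ξ' ≫ π = ξ}, W ⟶ pullback hW π,
      (∀ a, Γ a ≫ pullback.fst hW π = 𝟙 W) ∧ (∀ a, Γ a ≫ pullback.snd hW π = t a) :=
    ⟨fun a => pullback.lift (𝟙 W) (t a) (by rw [Category.id_comp, ht1]),
      fun a => pullback.lift_fst _ _ _, fun a => pullback.lift_snd _ _ _⟩
  haveI : ∀ a, IsOpenImmersion (Γ a) := fun a =>
    isOpenImmersion_of_section (pullback.fst hW π) (Γ a) (hΓ1 a)
  obtain ⟨C, hC⟩ : ∃ C : Set ↥(pullback hW π), C = (⋃ a, Set.range (Γ a))ᶜ := ⟨_, rfl⟩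
  have hCcl : IsClosed C := by
    rw [hC, isClosed_compl_iff]
    exact isOpen_iUnion fun a => (Γ a).isOpenEmbedding.isOpen_range
  have hKcl : IsClosed ((pullback.fst hW π) '' C) := (pullback.fst hW π).isClosedMap _ hCcl
  have hw₀K : gpt w ∉ (pullback.fst hW π) '' C := by
    rintro ⟨q, hqC, hq⟩
    obtain ⟨b, hb1, hb2⟩ := exists_geomPoint (pullback.fst hW π) w q hq
      (finite_residueFieldMap_of_quasiFiniteAt _ q ((pullback.fst hW π).quasiFiniteAt q))
    have hba : (b ≫ pullback.snd hW π) ≫ π = ξ := by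
      rw [Category.assoc, ← pullback.condition, ← Category.assoc, hb1, hw]
    obtain ⟨a, ha⟩ : ∃ a : {ξ' : Spec (.of Ω) ⟶ X' // ξ' ≫ π = ξ},
        a.1 = b ≫ pullback.snd hW π := ⟨⟨_, hba⟩, rfl⟩
    have hbΓ : b = w ≫ Γ a := by
      apply pullback.hom_ext
      · rw [hb1, Category.assoc, hΓ1, Category.comp_id]
      · rw [Category.assoc, hΓ2, ht2, ha]
    have hqr : q ∈ Set.range (Γ a) := by
      rw [← hb2, hbΓ]
      exact ⟨gpt w, rfl⟩
    rw [hC] at hqC
    exact hqC (Set.mem_iUnion.2 ⟨a, hqr⟩)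
  have hopen : IsOpen {y : W | (∀ a b, a ≠ b → y ∉ D a b) ∧ y ∉ (pullback.fst hW π) '' C} := by
    have hset : {y : W | (∀ a b, a ≠ b → y ∉ D a b) ∧ y ∉ (pullback.fst hW π) '' C} =
        (⋂ a, ⋂ b, ⋂ (_ : a ≠ b), (D a b : Set W)ᶜ) ∩ ((pullback.fst hW π) '' C)ᶜ := by
      ext y
      simp only [Set.mem_setOf_eq, Set.mem_inter_iff, Set.mem_iInter, Set.mem_compl_iff,
        SetLike.mem_coe]
    rw [hset]
    exact (isOpen_iInter_of_finite fun a => isOpen_iInter_of_finite fun b =>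
      isOpen_iInter_of_finite fun _ => (hDcl a b).isOpen_compl).inter hKcl.isOpen_compl
  obtain ⟨W₁, hW₁⟩ : ∃ W₁ : W.Opens, ∀ y, y ∈ W₁ ↔
      (∀ a b, a ≠ b → y ∉ D a b) ∧ y ∉ (pullback.fst hW π) '' C :=
    ⟨⟨_, hopen⟩, fun y => Iff.rfl⟩
  have hιmem : ∀ p : (W₁ : Scheme.{u}), W₁.ι p ∈ W₁ := by
    intro p
    have h : W₁.ι p ∈ Set.range W₁.ι := ⟨p, rfl⟩
    rw [Scheme.Opens.range_ι] at h
    exact h
  have hw₀W₁ : gpt w ∈ W₁ := (hW₁ _).2 ⟨hw₀D, hw₀K⟩
  obtain ⟨p₀, hp₀⟩ : ∃ p₀ : (W₁ : Scheme.{u}), W₁.ι p₀ = gpt w := by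
    have h : gpt w ∈ Set.range W₁.ι := by rw [Scheme.Opens.range_ι]; exact hw₀W₁
    exact h
  refine ⟨(W₁ : Scheme.{u}), W₁.ι ≫ hW, inferInstance, p₀, _, hfin, fun a => W₁.ι ≫ t a,
    ?_, ?_, ?_⟩
  · rw [Scheme.Hom.comp_apply, hp₀, ← hξ, ← hw]
    rfl
  · intro a
    rw [Category.assoc, ht1]
  · intro Ω' _ _ w'
    have hmem : gpt (w' ≫ W₁.ι) ∈ W₁ := hιmem (gpt w')
    have hmem' := (hW₁ _).1 hmem
    refine ⟨?_, ?_⟩
    · intro a b hab
      by_contra hne
      refine hmem'.1 a b hne (hD2 a b Ω' (w' ≫ W₁.ι) ?_)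
      rw [Category.assoc, Category.assoc]
      exact hab
    · intro ξ'' hξ''
      obtain ⟨b', hb'1, hb'2⟩ : ∃ b' : Spec (.of Ω') ⟶ pullback hW π,
          b' ≫ pullback.fst hW π = w' ≫ W₁.ι ∧ b' ≫ pullback.snd hW π = ξ'' :=
        ⟨pullback.lift (w' ≫ W₁.ι) ξ'' (by rw [Category.assoc, hξ'']),
          pullback.lift_fst _ _ _, pullback.lift_snd _ _ _⟩
      have hq : gpt b' ∉ C := by
        intro hqC
        apply hmem'.2
        refine ⟨gpt b', hqC, ?_⟩
        rw [← hb'1]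
        rfl
      rw [hC, Set.mem_compl_iff, not_not, Set.mem_iUnion] at hq
      obtain ⟨a, ha⟩ := hq
      have hrange : Set.range b' ⊆ Set.range (Γ a) := range_geom_subset b' _ ha
      have hl := IsOpenImmersion.lift_fac (Γ a) b' hrange
      have hl1 : IsOpenImmersion.lift (Γ a) b' hrange = w' ≫ W₁.ι := by
        have h1 := congrArg (fun m => m ≫ pullback.fst hW π) hl
        simp only [Category.assoc, hΓ1, Category.comp_id] at h1
        rw [h1, hb'1]
      refine ⟨a, ?_⟩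
      rw [← hb'2, ← hl, hl1, Category.assoc, hΓ2, Category.assoc]

end Groth.Agent.Lib.Helper15.TransferSplit
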