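import Mathlib

/-!
# Localisation of a UFD at a product of pairwise non-associated primes

Helpers for descending elements of `B = A[1/π]`, `π = ∏ x i`, back to `A`.
-/

namespace Helper15.UFDLoc

universe u
variable {A B : Type u} [CommRing A] [IsDomain A] [UniqueFactorizationMonoid A] [CommRing B]
  [Algebra A B] {r : ℕ} (x : Fin r → A)

theorem prod_dvd (hx : ∀ i, Prime (x i)) (hxa : ∀ i j, Associated (x i) (x j) → i = j) (a : A)
    (h : ∀ i, x i ∣ a) : (∏ i, x i) ∣ a := by
  apply Finset.prod_dvd_of_isRelPrime
  · intro i _ j _ hij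
    show IsRelPrime (x i) (x j)
    rw [(hx i).irreducible.isRelPrime_iff_not_dvd]
    intro hdvd
    exact hij (hxa i j ((hx i).irreducible.associated_of_dvd (hx j).irreducible hdvd))
  · intro i _; exact h i

theorem prod_ne_zero (hx : ∀ i, Prime (x i)) : (∏ i, x i) ≠ 0 :=
  Finset.prod_ne_zero_iff.mpr fun i _ => (hx i).ne_zero

theorem algebraMap_injective (hx : ∀ i, Prime (x i)) [IsLocalization.Away (∏ i, x i) B] :
    Function.Injective (algebraMap A B) :=
  IsLocalization.injective B (powers_le_nonZeroDivisors_of_noZeroDivisors (prod_ne_zero x hx))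

/-- Descent: if every numerator of `y` over a positive power of `π` is divisible by all the
`x i`, then `y` comes from `A`. -/
theorem mem_range_of_forall_dvd (hx : ∀ i, Prime (x i))
    (hxa : ∀ i j, Associated (x i) (x j) → i = j) [IsLocalization.Away (∏ i, x i) B] (y : B)
    (H : ∀ (N : ℕ) (a : A), y * algebraMap A B (∏ i, x i) ^ (N + 1) = algebraMap A B a →
      ∀ i, x i ∣ a) :
    ∃ a : A, y = algebraMap A B a := by
  have hunit : IsUnit (algebraMap A B (∏ i, x i)) :=
    IsLocalization.Away.algebraMap_isUnit (∏ i, x i)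
  have key : ∀ (N : ℕ) (a : A), y * algebraMap A B (∏ i, x i) ^ N = algebraMap A B a →
      ∃ a : A, y = algebraMap A B a := by
    intro N
    induction N with
    | zero =>
      intro a ha
      exact ⟨a, by simpa using ha⟩
    | succ N ih =>
      intro a ha
      obtain ⟨a', rfl⟩ := prod_dvd x hx hxa a (H N a ha)
      apply ih a'
      rw [pow_succ, ← mul_assoc, map_mul, mul_comm (algebraMap A B (∏ i, x i))] at ha
      exact hunit.mul_left_injective ha
  obtain ⟨⟨a, ⟨_, N, rfl⟩⟩, h⟩ := IsLocalization.surj (Submonoid.powers (∏ i, x i)) y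
  simp only [map_pow] at h
  exact key N a h

end Helper15.UFDLoc
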