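import Mathlib
import Groth.Agent.Lib.Helper15.GenericPush
import Groth.Agent.Lib.Helper15.PushH1
import Groth.Agent.Lib.Helper8.EtaleUnibranchSch

/-!
# Helper15: on an irreducible geometrically unibranch scheme, `M_X ⟶ g_* M_η` is an isomorphism for
the inclusion `g` of the generic point; `H^1(X, M_X) = 0` for torsion-free `M` (S8528)
-/

set_option autoImplicit false
set_option backward.isDefEq.respectTransparency false

universe u

open CategoryTheory CategoryTheory.Limits AlgebraicGeometry Opposite Topology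

namespace Helper15.UnibranchPush

open Helper15.LcStruct Helper15.ConstSec Helper15.NormalExt Helper15.GenericPush
  Groth.Agent.Lib.Helper15

section Alg

theorem hasUniqueMinimalPrime_of_irreducibleSpace (R : Type u) [CommRing R]
    [IrreducibleSpace (PrimeSpectrum R)] : CAlgX.HasUniqueMinimalPrime R := by
  have hirr : IsIrreducible (PrimeSpectrum.zeroLocus (((⊥ : Ideal R)) : Set R)) := by
    rw [PrimeSpectrum.zeroLocus_bot]
    exact IrreducibleSpace.isIrreducible_univ _
  have hp : (⊥ : Ideal R).radical.IsPrime := (PrimeSpectrum.isIrreducible_zeroLocus_iff ⊥).1 hirr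
  have hN : (⊥ : Ideal R).radical ∈ minimalPrimes R := by
    show Minimal (fun q : Ideal R => q.IsPrime ∧ ⊥ ≤ q) _
    exact ⟨⟨hp, bot_le⟩, fun q hq _ => hq.1.radical_le_iff.2 bot_le⟩
  refine ⟨_, hN, fun P' hP' => ?_⟩
  have hP'' : Minimal (fun q : Ideal R => q.IsPrime ∧ ⊥ ≤ q) P' := hP'
  have hle : (⊥ : Ideal R).radical ≤ P' := hP''.1.1.radical_le_iff.2 bot_le
  exact le_antisymm (hP''.2 ⟨hp, bot_le⟩ hle) hle

theorem isGeomUnibranch_stalk {X : Scheme.{u}}
    (hX : ∀ (x : X) (R : Type u) [CommRing R] [IsLocalRing R] [Algebra (X.presheaf.stalk x) R]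
      [IsLocalHom (algebraMap (X.presheaf.stalk x) R)]
      [Hensel.IsStrictHenselization (X.presheaf.stalk x) R],
      IrreducibleSpace (PrimeSpectrum R)) (x : X) :
    CAlg2.IsGeomUnibranch (X.presheaf.stalk x) := by
  have := Groth.Agent.Lib.Helper8.Hzl.isStrictHenselization (X.presheaf.stalk x)
  have := hX x (Groth.Agent.Lib.Helper8.Hzl.SHens (X.presheaf.stalk x))
  exact (Groth.Agent.Lib.Helper8.EtaleUnibranch.isGeomUnibranch_iff_hasUniqueMinimalPrime
    (A := X.presheaf.stalk x)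
    (Ash := Groth.Agent.Lib.Helper8.Hzl.SHens (X.presheaf.stalk x))).mpr
    (hasUniqueMinimalPrime_of_irreducibleSpace _)

theorem exists_common_generization_of_geomUnibranch {Y : Scheme.{u}} (y : Y)
    (h : CAlg2.IsGeomUnibranch (Y.presheaf.stalk y)) : ∃ ζ : Y, ∀ η : Y, η ⤳ y → ζ ⤳ η := by
  have hdom : IsDomain (CAlg2.red (Y.presheaf.stalk y)) := h.1.1
  have hp : (nilradical (Y.presheaf.stalk y)).IsPrime :=
    (Ideal.Quotient.isDomain_iff_prime _).1 hdom
  obtain ⟨z, hz⟩ : ∃ z : PrimeSpectrum (Y.presheaf.stalk y), z = ⟨nilradical _, hp⟩ :=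
    ⟨_, rfl⟩
  refine ⟨(Y.fromSpecStalk y) z, ?_⟩
  intro η hη
  obtain ⟨q, rfl⟩ : η ∈ Set.range (Y.fromSpecStalk y) := by
    rw [Scheme.range_fromSpecStalk]
    exact hη
  have := q.isPrime
  have h1 : z ⤳ q := (PrimeSpectrum.le_iff_specializes z q).mp (by
    rw [hz]
    exact nilradical_le_prime q.asIdeal)
  exact h1.map (Y.fromSpecStalk y).continuous

theorem exists_common_generization_etale {X V : Scheme.{u}}
    (hX : ∀ (x : X) (R : Type u) [CommRing R] [IsLocalRing R] [Algebra (X.presheaf.stalk x) R]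
      [IsLocalHom (algebraMap (X.presheaf.stalk x) R)]
      [Hensel.IsStrictHenselization (X.presheaf.stalk x) R],
      IrreducibleSpace (PrimeSpectrum R)) (f : V ⟶ X) [Etale f] (y : V) :
    ∃ ζ : V, ∀ η : V, η ⤳ y → ζ ⤳ η := by
  have hgu := (Groth.Agent.Lib.Helper8.EtaleUnibranchSch.stalk_isGeomUnibranch_of_etale_nhd f y
    (isGeomUnibranch_stalk hX (f.base y)) ⟨⊤, trivial, inferInstance⟩).1
  exact exists_common_generization_of_geomUnibranch y hgu

end Alg

section Geometric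

theorem H_generic' {T X : Scheme.{u}} [IrreducibleSpace X] (g : T ⟶ X)
    (hrange : Set.range g.base = {genericPoint X}) (V : X.Etale)
    (hgen : ∀ v : V.left, ∃ ζ : V.left, ∀ η : V.left, η ⤳ v → ζ ⤳ η)
    (hinj : Function.Injective (pullback.fst V.hom g).base)
    {M : Type*} (g' : ↥(pullback V.hom g) → M) (y : V.left) :
    ∃ N : Set V.left, IsOpen N ∧ y ∈ N ∧ ∀ a b, (pullback.fst V.hom g).base a ∈ N →
      (pullback.fst V.hom g).base b ∈ N → g' a = g' b := by
  haveI : Etale V.hom := V.prop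
  obtain ⟨X₀, hX₀, hxX₀, -⟩ : ∃ X₀ : X.Opens, IsAffineOpen X₀ ∧ V.hom.base y ∈ X₀ ∧
      X₀.1 ⊆ ((⊤ : X.Opens) : Set X) :=
    exists_isAffineOpen_mem_and_subset (X := X) (x := V.hom.base y) (U := ⊤) trivial
  obtain ⟨N₀, hN₀, hyN₀, hle⟩ :=
    exists_isAffineOpen_mem_and_subset (x := y) (U := V.hom ⁻¹ᵁ X₀) hxX₀
  obtain ⟨x, hx⟩ : ∃ x : X, x = V.hom.base y := ⟨_, rfl⟩
  have hspec : genericPoint X ⤳ V.hom.base y := hx ▸ genericPoint_specializes x
  have hηX₀ : genericPoint X ∈ X₀ := hspec.mem_open X₀.isOpen hxX₀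
  haveI : LocallyQuasiFinite V.hom := Groth.Agent.Lib.Helper16.locallyQuasiFinite_of_etale V.hom
  have hFfin := finite_fibre_affine V (genericPoint X) X₀ hX₀ hηX₀ N₀ hN₀ hle
  have hdisc := V.hom.isDiscrete_preimage_singleton (genericPoint X)
  have hgen' : ∀ ζ ζ' : V.left, V.hom.base ζ = genericPoint X → ζ' ⤳ ζ → ζ' = ζ := by
    intro ζ ζ' hζ hsp
    have h3 : V.hom.base ζ' = genericPoint X := by
      have h4 : V.hom.base ζ' ⤳ genericPoint X := by
        have := hsp.map V.hom.continuous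
        rwa [hζ] at this
      obtain ⟨x', hx'⟩ : ∃ x' : X, x' = V.hom.base ζ' := ⟨_, rfl⟩
      rw [← hx'] at h4 ⊢
      exact (h4.antisymm (genericPoint_specializes x')).eq
    haveI : DiscreteTopology ↥(V.hom.base ⁻¹' {genericPoint X}) := hdisc.to_subtype
    have hab : (⟨ζ', h3⟩ : ↥(V.hom.base ⁻¹' {genericPoint X})) ⤳ ⟨ζ, hζ⟩ :=
      (Topology.IsInducing.subtypeVal.specializes_iff).mp hsp
    exact congrArg Subtype.val hab.eq
  have huniq : ∀ ζ ζ' : V.left, V.hom.base ζ = genericPoint X →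
      V.hom.base ζ' = genericPoint X → ζ ⤳ y → ζ' ⤳ y → ζ = ζ' := by
    intro ζ ζ' hζ hζ' h1 h2
    obtain ⟨ζ'', hζ''⟩ := hgen y
    rw [← hgen' ζ ζ'' hζ (hζ'' ζ h1), ← hgen' ζ' ζ'' hζ' (hζ'' ζ' h2)]
  obtain ⟨ζ₀, hζ₀y, hζ₀η⟩ : ∃ ζ₀ : V.left, ζ₀ ⤳ y ∧ V.hom.base ζ₀ = genericPoint X :=
    (Flat.generalizingMap V.hom) hspec
  have hbadc : IsClosed (⋃ ζ ∈ {ζ : V.left | ζ ∈ N₀ ∧ V.hom.base ζ = genericPoint X} \ {ζ₀},
      closure ({ζ} : Set V.left)) :=
    (hFfin.subset Set.sdiff_subset).isClosed_biUnion (fun _ _ => isClosed_closure)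
  refine ⟨(N₀ : Set V.left) ∩ (⋃ ζ ∈ {ζ : V.left | ζ ∈ N₀ ∧
      V.hom.base ζ = genericPoint X} \ {ζ₀}, closure ({ζ} : Set V.left))ᶜ,
    N₀.isOpen.inter hbadc.isOpen_compl, ⟨hyN₀, ?_⟩, ?_⟩
  · intro hy
    obtain ⟨ζ, hζ⟩ := Set.mem_iUnion.1 hy
    obtain ⟨⟨⟨-, hζη⟩, hne⟩, hyc⟩ := Set.mem_iUnion.1 hζ
    exact hne (huniq ζ ζ₀ hζη hζ₀η (specializes_iff_mem_closure.2 hyc) hζ₀y)
  · have key : ∀ a : ↥(pullback V.hom g), (pullback.fst V.hom g).base a ∈
        (N₀ : Set V.left) ∩ (⋃ ζ ∈ {ζ : V.left | ζ ∈ N₀ ∧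
          V.hom.base ζ = genericPoint X} \ {ζ₀}, closure ({ζ} : Set V.left))ᶜ →
        (pullback.fst V.hom g).base a = ζ₀ := by
      rintro a ⟨haN, hab⟩
      by_contra hne
      apply hab
      have haη : V.hom.base ((pullback.fst V.hom g).base a) = genericPoint X := by
        have h1 : (pullback.fst V.hom g ≫ V.hom).base a = (pullback.snd V.hom g ≫ g).base a :=
          congrArg (fun φ : pullback V.hom g ⟶ X => φ.base a) pullback.condition
        have h2 : g.base ((pullback.snd V.hom g).base a) ∈ Set.range g.base := ⟨_, rfl⟩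
        rw [hrange] at h2
        exact h1.trans h2
      exact Set.mem_iUnion.2 ⟨_, Set.mem_iUnion.2 ⟨⟨⟨haN, haη⟩, hne⟩, subset_closure rfl⟩⟩
    intro a b ha hb
    rw [hinj ((key a ha).trans (key b hb).symm)]

end Geometric

section Final

theorem isIso_rho_generic' {T X : Scheme.{u}} [IrreducibleSpace X]
    (hX : ∀ (x : X) (R : Type u) [CommRing R] [IsLocalRing R] [Algebra (X.presheaf.stalk x) R]
      [IsLocalHom (algebraMap (X.presheaf.stalk x) R)]
      [Hensel.IsStrictHenselization (X.presheaf.stalk x) R],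
      IrreducibleSpace (PrimeSpectrum R))
    (g : T ⟶ X) [EtCoh.BCCont g] [IsPreimmersion g]
    (hrange : Set.range g.base = {genericPoint X}) (Mg : AddCommGrpCat.{u+1}) :
    IsIso (rho g Mg) := by
  have hV : ∀ V : X.Etaleᵒᵖ, IsIso ((rho g Mg).hom.app V) := by
    intro V
    rw [ConcreteCategory.isIso_iff_bijective]
    haveI : Etale V.unop.hom := V.unop.prop
    have hinj : Function.Injective (pullback.fst V.unop.hom g).base :=
      (pullback.fst V.unop.hom g).isEmbedding.injective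
    have hd : DenseRange (pullback.fst V.unop.hom g).base := by
      have hr : Set.range (pullback.fst V.unop.hom g).base =
          V.unop.hom.base ⁻¹' Set.range g.base := Scheme.Pullback.range_fst V.unop.hom g
      show Dense (Set.range (pullback.fst V.unop.hom g).base)
      rw [hr, hrange]
      have hden : Dense ({genericPoint X} : Set X) :=
        dense_iff_closure_eq.2 (genericPoint_spec X).def
      exact hden.preimage V.unop.hom.isOpenMap
    exact bijective_of_val (V := V.unop) (V' := (EtCoh.bc g).obj V.unop) Mg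
      (fun s => (rho g Mg).hom.app V s) (pullback.fst V.unop.hom g).base
      (fun s p => val_rho g Mg V.unop s p) hd
      (fun g' _ y => H_generic' g hrange V.unop
        (fun v => exists_common_generization_etale hX V.unop.hom v) hinj g' y)
  haveI : IsIso (rho g Mg).hom := NatIso.isIso_of_isIso_app _
  haveI : IsIso ((sheafToPresheaf X.smallEtaleTopology AddCommGrpCat.{u + 1}).map (rho g Mg)) :=
    (inferInstance : IsIso (rho g Mg).hom)
  exact isIso_of_reflects_iso _ (sheafToPresheaf X.smallEtaleTopology AddCommGrpCat.{u + 1})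

theorem ext_eq_zero_of_iso {C : Type*} [Category C] [Abelian C] [HasExt C] {A B B' : C}
    (e : B ≅ B') (n : ℕ) (h : ∀ y : Abelian.Ext A B' n, y = 0) (y : Abelian.Ext A B n) :
    y = 0 := by
  have h1 := h (y.comp (Abelian.Ext.mk₀ e.hom) (add_zero n))
  have h2 : (y.comp (Abelian.Ext.mk₀ e.hom) (add_zero n)).comp (Abelian.Ext.mk₀ e.inv)
      (add_zero n) = y := by
    rw [Abelian.Ext.comp_assoc_of_third_deg_zero, Abelian.Ext.mk₀_comp_mk₀, e.hom_inv_id,
      Abelian.Ext.comp_mk₀_id]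
  rw [← h2, h1, Abelian.Ext.zero_comp]

theorem S8528 (X : Scheme.{u}) [IrreducibleSpace X]
    (hX : ∀ (x : X) (R : Type u) [CommRing R] [IsLocalRing R] [Algebra (X.presheaf.stalk x) R]
      [IsLocalHom (algebraMap (X.presheaf.stalk x) R)] [Hensel.IsStrictHenselization (X.presheaf.stalk x) R],
      IrreducibleSpace (PrimeSpectrum R))
    (M : Type) [AddCommGroup M] [IsAddTorsionFree M] :
    Subsingleton (EtCoh.H X (EtCoh.const X M) 1) := by
  haveI hiso : IsIso (rho (X.fromSpecResidueField (genericPoint X))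
      (AddCommGrpCat.of (ULift.{u + 1} M))) :=
    isIso_rho_generic' hX _ (Scheme.range_fromSpecResidueField (genericPoint X)) _
  have h0 : ∀ y : EtCoh.H X
      ((Dix.skyPush X (genericPoint X)).obj
        (EtCoh.const (Spec (X.residueField (genericPoint X))) M)) 1, y = 0 :=
    fun y => PushH1.ext_one_push_eq_zero (X.fromSpecResidueField (genericPoint X)) _
      (fun z => PushH1.ext_one_const_eq_zero (X.residueField (genericPoint X)) M z) y
  have h1 : ∀ y : EtCoh.H X (EtCoh.const X M) 1, y = 0 := fun y =>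
    ext_eq_zero_of_iso (asIso (rho (X.fromSpecResidueField (genericPoint X))
      (AddCommGrpCat.of (ULift.{u + 1} M)))) 1 h0 y
  exact ⟨fun a b => (h1 a).trans (h1 b).symm⟩

end Final

end Helper15.UnibranchPush
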