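import Mathlib

/-!
# Dense extensions of valuation rings and integral closures in finite extensions
-/

set_option autoImplicit false
universe u
open TensorProduct Polynomial

namespace Groth.Agent.Lib.Helper15.ValDense

section Inter

variable {A K A' K' : Type u} [CommRing A] [IsDomain A] [ValuationRing A] [Field K] [Algebra A K]
  [IsFractionRing A K] [CommRing A'] [IsDomain A'] [Field K'] [Algebra A' K'] [IsFractionRing A' K']
  [Algebra A A'] [IsLocalHom (algebraMap A A')] [Algebra K K'] [Algebra A K']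
  [IsScalarTower A A' K'] [IsScalarTower A K K']

/-- `K ∩ A' = A` when `A'` dominates the valuation ring `A`. -/
theorem inter_eq (k : K) (a' : A') (h : algebraMap K K' k = algebraMap A' K' a') :
    ∃ a : A, algebraMap A K a = k := by
  rcases ValuationRing.isInteger_or_isInteger A k with ⟨a, ha⟩ | ⟨b, hb⟩
  · exact ⟨a, ha⟩
  · by_cases hk : k = 0
    · exact ⟨0, by rw [hk, map_zero]⟩
    · have h1 : algebraMap A' K' (a' * algebraMap A A' b) = 1 := by
        rw [map_mul, ← h, ← IsScalarTower.algebraMap_apply A A' K',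
          IsScalarTower.algebraMap_apply A K K', hb, ← map_mul, mul_inv_cancel₀ hk, map_one]
      have h2 : a' * algebraMap A A' b = 1 :=
        IsFractionRing.injective A' K' (by rw [h1, map_one])
      have h3 : IsUnit (algebraMap A A' b) :=
        IsUnit.of_mul_eq_one a' (by rw [mul_comm]; exact h2)
      have h4 : IsUnit b := isUnit_of_map_unit (algebraMap A A') b h3
      obtain ⟨u, rfl⟩ := h4
      refine ⟨↑u⁻¹, ?_⟩
      have h5 : algebraMap A K ↑u * algebraMap A K ↑u⁻¹ = 1 := by
        rw [← map_mul, Units.mul_inv, map_one]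
      rw [hb] at h5
      exact (eq_inv_of_mul_eq_one_right h5).trans (inv_inv k)

/-- Density: every element of `K'` is the sum of an element of `K` and an element of `A'`. -/
theorem dense_decomp [ValuationRing A']
    (hdense : ∀ a' b' : A', b' ≠ 0 → ∃ a : A, b' ∣ a' - algebraMap A A' a) (c : K') :
    ∃ (k : K) (a' : A'), c = algebraMap K K' k + algebraMap A' K' a' := by
  obtain ⟨u, w, hw, rfl⟩ := IsFractionRing.div_surjective A' c
  have hw0 : w ≠ 0 := nonZeroDivisors.ne_zero hw
  have hW : algebraMap A' K' w ≠ 0 := by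
    intro h
    exact hw0 (IsFractionRing.injective A' K' (by rw [h, map_zero]))
  by_cases hwu : IsUnit w
  · obtain ⟨w', rfl⟩ := hwu
    refine ⟨0, u * ↑w'⁻¹, ?_⟩
    rw [map_zero, zero_add, map_mul, div_eq_mul_inv]
    congr 1
    symm
    apply eq_inv_of_mul_eq_one_left
    rw [← map_mul, Units.inv_mul, map_one]
  · obtain ⟨a, z, hz⟩ := hdense w (w * w) (mul_ne_zero hw0 hw0)
    have ha : algebraMap A A' a = w * (1 - w * z) := by linear_combination -hz
    have hnu : w * z ∈ nonunits A' := by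
      intro h
      exact hwu (isUnit_of_mul_isUnit_left h)
    obtain ⟨ε, hε⟩ := IsLocalRing.isUnit_one_sub_self_of_mem_nonunits _ hnu
    have ha0 : algebraMap A A' a ≠ 0 := by
      rw [ha, ← hε]
      exact mul_ne_zero hw0 ε.ne_zero
    obtain ⟨a₁, z', hz'⟩ := hdense (u * ε) (algebraMap A A' a) ha0
    refine ⟨algebraMap A K a₁ / algebraMap A K a, z', ?_⟩
    have e1 : algebraMap K K' (algebraMap A K a₁) = algebraMap A' K' (algebraMap A A' a₁) := by
      rw [← IsScalarTower.algebraMap_apply, IsScalarTower.algebraMap_apply A A' K']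
    have e2 : algebraMap K K' (algebraMap A K a) = algebraMap A' K' (algebraMap A A' a) := by
      rw [← IsScalarTower.algebraMap_apply, IsScalarTower.algebraMap_apply A A' K']
    have hE : algebraMap A' K' (ε : A') ≠ 0 := by
      intro h
      exact ε.ne_zero (IsFractionRing.injective A' K' (by rw [h, map_zero]))
    have hAa : algebraMap A' K' (algebraMap A A' a) = algebraMap A' K' w * algebraMap A' K' ε := by
      rw [ha, ← hε, map_mul]
    have hrel : algebraMap A' K' u * algebraMap A' K' ε - algebraMap A' K' (algebraMap A A' a₁)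
        = (algebraMap A' K' w * algebraMap A' K' ε) * algebraMap A' K' z' := by
      rw [← hAa, ← map_mul, ← map_mul, ← map_sub, hz']
    rw [map_div₀, e1, e2, hAa]
    field_simp
    linear_combination hrel

end Inter

section KC

variable {A K L A' K' : Type u} [CommRing A] [IsDomain A] [ValuationRing A] [Field K] [Algebra A K]
  [IsFractionRing A K] [Field L] [Algebra K L] [Algebra A L] [IsScalarTower A K L]
  [CommRing A'] [IsDomain A'] [IsIntegrallyClosed A'] [Field K'] [Algebra A' K']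
  [IsFractionRing A' K']
  [Algebra A A'] [IsLocalHom (algebraMap A A')] [Algebra K K'] [Algebra A K']
  [IsScalarTower A A' K'] [IsScalarTower A K K']

theorem aeval_one_tmul (y : L) (p : K[X]) :
    aeval ((1 : K') ⊗ₜ[K] y) (p.map (algebraMap K K')) = (1 : K') ⊗ₜ[K] (aeval y p) := by
  rw [aeval_map_algebraMap]
  have h : ((1 : K') ⊗ₜ[K] y) = (Algebra.TensorProduct.includeRight : L →ₐ[K] K' ⊗[K] L) y := rfl
  rw [h, aeval_algHom_apply]
  rfl

/-- If `1 ⊗ y` is killed by a monic polynomial over `A'`, then `y` is integral over `A`. -/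
theorem isIntegral_of_aeval_tmul (y : L) (hy : IsIntegral K y) (G : A'[X]) (hG : G.Monic)
    (h0 : aeval ((1 : K') ⊗ₜ[K] y) (G.map (algebraMap A' K')) = 0) : IsIntegral A y := by
  have hPm : (minpoly K y).Monic := minpoly.monic hy
  have hP'm : ((minpoly K y).map (algebraMap K K')).Monic := hPm.map _
  have hzP : aeval ((1 : K') ⊗ₜ[K] y) ((minpoly K y).map (algebraMap K K')) = 0 := by
    rw [aeval_one_tmul, minpoly.aeval, tmul_zero]
  have hR : aeval ((1 : K') ⊗ₜ[K] y)
      (G.map (algebraMap A' K') %ₘ (minpoly K y).map (algebraMap K K')) = 0 := by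
    have h1 := modByMonic_add_div (G.map (algebraMap A' K')) ((minpoly K y).map (algebraMap K K'))
    have h2 := congrArg (aeval ((1 : K') ⊗ₜ[K] y)) h1
    rw [map_add, map_mul, hzP, zero_mul, add_zero, h0] at h2
    exact h2
  have hdvd : (minpoly K y).map (algebraMap K K') ∣ G.map (algebraMap A' K') := by
    rw [← modByMonic_eq_zero_iff_dvd hP'm]
    by_contra hr0
    have hdeg : (G.map (algebraMap A' K') %ₘ (minpoly K y).map (algebraMap K K')).natDegree
        < (minpoly K y).natDegree := by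
      have := natDegree_lt_natDegree hr0 (degree_modByMonic_lt (G.map (algebraMap A' K')) hP'm)
      rwa [natDegree_map] at this
    rw [aeval_eq_sum_range' hdeg, Finset.sum_range] at hR
    have hli : LinearIndependent K' (fun i : Fin (minpoly K y).natDegree =>
        (1 : K') ⊗ₜ[K] (y ^ (i : ℕ))) :=
      Module.Flat.linearIndependent_one_tmul (linearIndependent_pow y)
    have hsum : ∑ i : Fin (minpoly K y).natDegree,
        (G.map (algebraMap A' K') %ₘ (minpoly K y).map (algebraMap K K')).coeff i •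
          ((1 : K') ⊗ₜ[K] (y ^ (i : ℕ))) = 0 := by
      rw [← hR]
      refine Finset.sum_congr rfl fun i _ => ?_
      rw [Algebra.TensorProduct.tmul_pow, one_pow]
    have hc := Fintype.linearIndependent_iff.mp hli _ hsum
    apply hr0
    ext i
    rw [coeff_zero]
    by_cases hi : i < (minpoly K y).natDegree
    · exact hc ⟨i, hi⟩
    · exact coeff_eq_zero_of_natDegree_lt (lt_of_lt_of_le hdeg (not_lt.mp hi))
  obtain ⟨g', hg'⟩ := IsIntegrallyClosed.eq_map_mul_C_of_dvd K' hG hdvd
  rw [hP'm.leadingCoeff, C_1, mul_one] at hg'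
  have hlift : minpoly K y ∈ lifts (algebraMap A K) := by
    rw [lifts_iff_coeff_lifts]
    intro i
    have h3 : algebraMap K K' ((minpoly K y).coeff i) = algebraMap A' K' (g'.coeff i) := by
      rw [← coeff_map, ← coeff_map, hg']
    obtain ⟨a, ha⟩ := inter_eq (A := A) ((minpoly K y).coeff i) (g'.coeff i) h3
    exact ⟨a, ha⟩
  obtain ⟨q, hq, -, hqm⟩ := lifts_and_natDegree_eq_and_monic hlift hPm
  refine ⟨q, hqm, ?_⟩
  rw [← aeval_def, ← aeval_map_algebraMap K, hq]
  exact minpoly.aeval K y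

end KC

section Main

variable (A K L A' K' : Type u) [CommRing A] [IsDomain A] [ValuationRing A] [Field K] [Algebra A K]
  [IsFractionRing A K] [Field L] [Algebra K L] [FiniteDimensional K L] [Algebra A L]
  [IsScalarTower A K L]
  [CommRing A'] [IsDomain A'] [ValuationRing A'] [Field K'] [Algebra A' K'] [IsFractionRing A' K']
  [Algebra A A'] [IsLocalHom (algebraMap A A')] [Algebra K K'] [Algebra A K']
  [IsScalarTower A A' K'] [IsScalarTower A K K']

/-- The `A'`-span of the `1 ⊗ l` with `l` integral over `A`. -/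
def T : Submodule A' (K' ⊗[K] L) :=
  Submodule.span A' {z | ∃ l : L, IsIntegral A l ∧ z = (1 : K') ⊗ₜ[K] l}

/-- The ring map `A' → K' ⊗ L`. -/
noncomputable def φ₀ : A' →+* K' ⊗[K] L :=
  (Algebra.TensorProduct.includeLeft : K' →ₐ[K] K' ⊗[K] L).toRingHom.comp (algebraMap A' K')

lemma φ₀_apply (a : A') : φ₀ K L A' K' a = algebraMap A' K' a ⊗ₜ[K] (1 : L) := rfl

lemma smul_eq (a : A') (z : K' ⊗[K] L) : a • z = φ₀ K L A' K' a * z := by
  induction z using TensorProduct.induction_on with
  | zero => rw [smul_zero, mul_zero]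
  | tmul c l =>
    rw [φ₀_apply, Algebra.TensorProduct.tmul_mul_tmul, one_mul, TensorProduct.smul_tmul',
      Algebra.smul_def]
  | add z₁ z₂ h₁ h₂ => rw [smul_add, mul_add, h₁, h₂]

/-- The ring map `A' → (K' ⊗ L)_red`. -/
noncomputable def φ : A' →+* (K' ⊗[K] L) ⧸ nilradical (K' ⊗[K] L) :=
  (Ideal.Quotient.mk (nilradical (K' ⊗[K] L))).comp (φ₀ K L A' K')

theorem decomp (hdense : ∀ a' b' : A', b' ≠ 0 → ∃ a : A, b' ∣ a' - algebraMap A A' a)
    (t : K' ⊗[K] L) :
    ∃ y : L, ∃ w ∈ T A K L A' K', t = (1 : K') ⊗ₜ[K] y + w := by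
  induction t using TensorProduct.induction_on with
  | zero => exact ⟨0, 0, Submodule.zero_mem _, by rw [tmul_zero, add_zero]⟩
  | tmul c l =>
    have hl : IsIntegral K l := Algebra.IsIntegral.isIntegral l
    obtain ⟨⟨d, hd⟩, hdl⟩ :=
      IsIntegral.exists_multiple_integral_of_isLocalization (nonZeroDivisors A) l hl
    have hdl' : IsIntegral A (d • l) := hdl
    have hd0 : algebraMap A K d ≠ 0 := IsFractionRing.to_map_ne_zero_of_mem_nonZeroDivisors hd
    obtain ⟨k, a', hc⟩ := dense_decomp (A := A) (K := K) hdense ((algebraMap A K d)⁻¹ • c)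
    refine ⟨k • (d • l), a' • ((1 : K') ⊗ₜ[K] (d • l)),
      Submodule.smul_mem _ _ (Submodule.subset_span ⟨d • l, hdl', rfl⟩), ?_⟩
    have hm : (d • l : L) = algebraMap A K d • l := (algebraMap_smul K d l).symm
    have key : c ⊗ₜ[K] l = ((algebraMap A K d)⁻¹ • c) ⊗ₜ[K] (algebraMap A K d • l) := by
      rw [TensorProduct.smul_tmul, smul_smul, inv_mul_cancel₀ hd0, one_smul]
    rw [hm, key, hc, add_tmul, Algebra.algebraMap_eq_smul_one k, TensorProduct.smul_tmul,
      Algebra.algebraMap_eq_smul_one a', TensorProduct.smul_tmul']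
  | add t₁ t₂ h₁ h₂ =>
    obtain ⟨y₁, w₁, hw₁, e₁⟩ := h₁
    obtain ⟨y₂, w₂, hw₂, e₂⟩ := h₂
    exact ⟨y₁ + y₂, w₁ + w₂, Submodule.add_mem _ hw₁ hw₂, by rw [e₁, e₂, tmul_add]; abel⟩

lemma comp_eq :
    (φ K L A' K').comp (algebraMap A A') =
      ((Ideal.Quotient.mk (nilradical (K' ⊗[K] L))).comp
        (Algebra.TensorProduct.includeRight : L →ₐ[K] K' ⊗[K] L).toRingHom).comp
        (algebraMap A L) := by
  ext a
  show Ideal.Quotient.mk _ (algebraMap A' K' (algebraMap A A' a) ⊗ₜ[K] (1 : L))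
    = Ideal.Quotient.mk _ ((1 : K') ⊗ₜ[K] (algebraMap A L a))
  congr 1
  rw [← IsScalarTower.algebraMap_apply A A' K', IsScalarTower.algebraMap_apply A K K',
    IsScalarTower.algebraMap_apply A K L, Algebra.algebraMap_eq_smul_one (algebraMap A K a),
    TensorProduct.smul_tmul, ← Algebra.algebraMap_eq_smul_one]

theorem isIntegralElem_of_mem_T (w : K' ⊗[K] L) (hw : w ∈ T A K L A' K') :
    (φ K L A' K').IsIntegralElem (Ideal.Quotient.mk (nilradical (K' ⊗[K] L)) w) := by
  unfold T at hw
  induction hw using Submodule.span_induction with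
  | mem z hz =>
    obtain ⟨l, ⟨p, hpm, hp⟩, rfl⟩ := hz
    refine ⟨p.map (algebraMap A A'), hpm.map _, ?_⟩
    rw [eval₂_map, comp_eq A K L A' K']
    have h1 := hom_eval₂ p (algebraMap A L)
      ((Ideal.Quotient.mk (nilradical (K' ⊗[K] L))).comp
        (Algebra.TensorProduct.includeRight : L →ₐ[K] K' ⊗[K] L).toRingHom) l
    rw [hp, map_zero] at h1
    exact h1.symm
  | zero =>
    rw [map_zero]
    exact ⟨X, monic_X, by rw [eval₂_X]⟩
  | add x y _ _ hx hy =>
    rw [map_add]
    exact RingHom.IsIntegralElem.add _ hx hy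
  | smul a x _ hx =>
    rw [smul_eq, map_mul]
    exact RingHom.IsIntegralElem.mul _ (RingHom.isIntegralElem_map _) hx

theorem exists_monic_of_isIntegralElem (y : L)
    (h : (φ K L A' K').IsIntegralElem
      (Ideal.Quotient.mk (nilradical (K' ⊗[K] L)) ((1 : K') ⊗ₜ[K] y))) :
    ∃ G : A'[X], G.Monic ∧ aeval ((1 : K') ⊗ₜ[K] y) (G.map (algebraMap A' K')) = 0 := by
  obtain ⟨g, hgm, hg⟩ := h
  have h1 : Ideal.Quotient.mk (nilradical (K' ⊗[K] L))
      (eval₂ (φ₀ K L A' K') ((1 : K') ⊗ₜ[K] y) g) = 0 := by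
    rw [hom_eval₂]
    exact hg
  rw [Ideal.Quotient.eq_zero_iff_mem, mem_nilradical] at h1
  obtain ⟨N, hN⟩ := h1
  refine ⟨g ^ N, hgm.pow N, ?_⟩
  rw [aeval_def, eval₂_map]
  have h2 : (algebraMap K' (K' ⊗[K] L)).comp (algebraMap A' K') = φ₀ K L A' K' := by
    ext a
    rfl
  rw [h2, eval₂_pow, hN]

theorem main (hdense : ∀ a' b' : A', b' ≠ 0 → ∃ a : A, b' ∣ a' - algebraMap A A' a)
    (x : (K' ⊗[K] L) ⧸ nilradical (K' ⊗[K] L)) (hx : (φ K L A' K').IsIntegralElem x) :
    ∃ (n : ℕ) (a : Fin n → A') (l : Fin n → L), (∀ i, IsIntegral A (l i)) ∧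
      x = Ideal.Quotient.mk (nilradical (K' ⊗[K] L))
        (∑ i, algebraMap A' K' (a i) ⊗ₜ[K] l i) := by
  obtain ⟨t, rfl⟩ := Ideal.Quotient.mk_surjective x
  obtain ⟨y, w, hw, rfl⟩ := decomp A K L A' K' hdense t
  have hwint := isIntegralElem_of_mem_T A K L A' K' w hw
  have hyint : (φ K L A' K').IsIntegralElem
      (Ideal.Quotient.mk (nilradical (K' ⊗[K] L)) ((1 : K') ⊗ₜ[K] y)) := by
    have := RingHom.IsIntegralElem.sub _ hx hwint
    rwa [← map_sub, add_sub_cancel_right] at this
  obtain ⟨G, hGm, hG0⟩ := exists_monic_of_isIntegralElem K L A' K' y hyint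
  have hy : IsIntegral A y :=
    isIntegral_of_aeval_tmul y (Algebra.IsIntegral.isIntegral y) G hGm hG0
  have hmem : (1 : K') ⊗ₜ[K] y + w ∈ T A K L A' K' :=
    Submodule.add_mem _ (Submodule.subset_span ⟨y, hy, rfl⟩) hw
  obtain ⟨n, f, g, hfg⟩ := Submodule.mem_span_set'.mp hmem
  choose l hl using fun i => (g i).2
  refine ⟨n, f, l, fun i => (hl i).1, ?_⟩
  rw [← hfg]
  congr 1
  refine Finset.sum_congr rfl fun i _ => ?_
  rw [(hl i).2, TensorProduct.smul_tmul', Algebra.smul_def, mul_one]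

end Main

end Groth.Agent.Lib.Helper15.ValDense
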