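import Groth.Agent.Lib.Helper15.RepWithPullback
import Groth.Prelude.Def_AlgSpModX

/-!
# Producing weakly associated points from zero divisors

* `mem_primeAtPt_iff`, `primeAtPt_Spec`: the prime of a point, in terms of basic opens;
* `exists_weakAss_of_not_nzd`: if an ideal sheaf is generated on an affine open by a zero divisor `t`, there
  is a point of the support which is weakly associated (to the structure sheaf of that affine open);
* `exists_mem_weakAssEt_of_not_nzd`: the same on an etale chart of a sheaf, producing a point of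
  `WeakAssEt (unitModEt X)`.
-/

set_option autoImplicit false
universe u
open CategoryTheory CategoryTheory.Limits AlgebraicGeometry Opposite AlgSp Groth.Agent.Lib.Helper16

namespace Groth.Agent.Lib.Helper15

theorem mem_primeAtPt_iff (U : Scheme.{u}) (x : U) (a : Γ(U, ⊤)) :
    a ∈ AlgSp.primeAtPt U x ↔ x ∉ U.basicOpen a := by
  rw [Scheme.mem_basicOpen_top]
  unfold AlgSp.primeAtPt
  rw [Ideal.mem_comap, IsLocalRing.mem_maximalIdeal, mem_nonunits_iff]

theorem primeAtPt_Spec (B : CommRingCat.{u}) (x : Spec B) :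
    AlgSp.primeAtPt (Spec B) x = Ideal.comap (Scheme.ΓSpecIso B).hom.hom (PrimeSpectrum.asIdeal x) := by
  ext a
  rw [mem_primeAtPt_iff, basicOpen_eq_of_affine', Ideal.mem_comap]
  constructor
  · intro h1
    by_contra h2
    exact h1 h2
  · intro h1 h2
    exact h2 h1

theorem exists_weakAss_of_not_nzd_ring (B : CommRingCat.{u}) (t : B) (ht : t ∉ nonZeroDivisors B) :
    ∃ (b' : Γ(Spec B, ⊤)) (x : Spec B),
      AlgSp.primeAtPt (Spec B) x ∈ (Ideal.span {b'}).annihilator.minimalPrimes ∧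
        t ∈ PrimeSpectrum.asIdeal x := by
  rw [mem_nonZeroDivisors_iff_right] at ht
  push_neg at ht
  obtain ⟨b, hbt, hb0⟩ := ht
  let ε : Γ(Spec B, ⊤) ≃+* B := (Scheme.ΓSpecIso B).commRingCatIsoToRingEquiv
  have hb' : ε.symm b ≠ 0 := fun h0 => hb0 (by
    have := congrArg ε h0
    rwa [ε.apply_symm_apply, map_zero] at this)
  have hJ : (Ideal.span {ε.symm b}).annihilator ≠ ⊤ := by
    intro h0
    have h1 : (1 : Γ(Spec B, ⊤)) ∈ (Ideal.span {ε.symm b}).annihilator := h0 ▸ Submodule.mem_top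
    rw [Submodule.mem_annihilator_span_singleton, one_smul] at h1
    exact hb' h1
  obtain ⟨⟨𝔭, h𝔭⟩⟩ := Ideal.nonempty_minimalPrimes hJ
  haveI : 𝔭.IsPrime := h𝔭.1.1
  let x : Spec B := (show PrimeSpectrum B from ⟨𝔭.comap ε.symm.toRingHom, inferInstance⟩)
  have hx : AlgSp.primeAtPt (Spec B) x = 𝔭 := by
    rw [primeAtPt_Spec]
    ext a
    show ε.symm (ε a) ∈ 𝔭 ↔ a ∈ 𝔭
    rw [ε.symm_apply_apply]
  refine ⟨ε.symm b, x, hx ▸ h𝔭, ?_⟩
  show ε.symm t ∈ 𝔭
  apply h𝔭.1.2
  rw [Submodule.mem_annihilator_span_singleton, smul_eq_mul, ← map_mul, mul_comm t b, hbt, map_zero]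

theorem exists_weakAss_of_not_nzd {W : Scheme.{u}} (K : W.IdealSheafData) (W' : W.affineOpens)
    (t : Γ(W, W'.1)) (hK : K.ideal W' = Ideal.span {t}) (ht : t ∉ nonZeroDivisors Γ(W, W'.1)) :
    ∃ (b' : Γ(Spec Γ(W, W'.1), ⊤)) (x : Spec Γ(W, W'.1)),
      AlgSp.primeAtPt (Spec Γ(W, W'.1)) x ∈ (Ideal.span {b'}).annihilator.minimalPrimes ∧
        W'.2.fromSpec x ∈ K.support := by
  obtain ⟨b', x, hmin, htx⟩ := exists_weakAss_of_not_nzd_ring Γ(W, W'.1) t ht
  refine ⟨b', x, hmin, ?_⟩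
  have hxW : W'.2.fromSpec x ∈ W'.1 := by
    have h1 : W'.2.fromSpec x ∈ Set.range W'.2.fromSpec := Set.mem_range_self x
    rw [W'.2.range_fromSpec] at h1
    exact h1
  rw [Scheme.IdealSheafData.mem_support_iff_of_mem hxW, hK]
  have h2 : x ∈ W'.2.fromSpec ⁻¹' W.zeroLocus (U := W'.1) ((Ideal.span {t} : Ideal Γ(W, W'.1)) : Set Γ(W, W'.1)) := by
    rw [W'.2.fromSpec_preimage_zeroLocus]
    refine (PrimeSpectrum.mem_zeroLocus (show PrimeSpectrum Γ(W, W'.1) from x) _).2 ?_
    rw [SetLike.coe_subset_coe, Ideal.span_singleton_le_iff_mem]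
    exact htx
  exact h2

variable {S : Scheme.{u}}

set_option backward.isDefEq.respectTransparency false in
theorem exists_mem_weakAssEt_of_not_nzd {X : Sp S} {W : Over S} {ψ : (yon S).obj W ⟶ X}
    (hψe : RepWith @Etale ψ) (K : W.left.IdealSheafData) (W' : W.left.affineOpens)
    (t : Γ(W.left, W'.1)) (hK : K.ideal W' = Ideal.span {t})
    (ht : t ∉ nonZeroDivisors Γ(W.left, W'.1)) :
    ∃ w : W.left, w ∈ K.support ∧ Points.ofPt ψ w ∈ WeakAssEt (unitModEt X) := by
  obtain ⟨b', x, hmin, hsupp⟩ := exists_weakAss_of_not_nzd K W' t hK ht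
  let Z : Over S := Over.mk (W'.2.fromSpec ≫ W.hom)
  let ι' : Z ⟶ W := Over.homMk W'.2.fromSpec rfl
  have hι'e : RepWith @Etale ((yon S).map ι') :=
    (repWith_yon_map_iff _ ι').2 (inferInstanceAs (Etale W'.2.fromSpec))
  let E : EtOver X := EtOver.mk ((yon S).map ι' ≫ ψ) ((RepWith @Etale).comp_mem _ _ hι'e hψe)
  refine ⟨W'.2.fromSpec x, hsupp, ?_⟩
  have hEaff : IsAffine E.obj.left.left := inferInstanceAs (IsAffine (Spec Γ(W.left, W'.1)))
  let b'' : Γ(E.obj.left.left, ⊤) := b'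
  let s : sectModEt (unitModEt X) E := upΓ E b''
  have hinj : Function.Injective (upΓ E) := ULift.ringEquiv.symm.injective
  have hann : annSect s = (Ideal.span {b''}).annihilator := by
    ext a
    have e1 : (upΓ E a) • s = upΓ E (a * b'') := (map_mul (upΓ E) a b'').symm
    have e2 : a ∈ (Ideal.span {b''}).annihilator ↔ a * b'' = 0 := by
      rw [Submodule.mem_annihilator_span_singleton, smul_eq_mul]
    rw [mem_annSect_iff, e1]
    refine Iff.trans ?_ e2.symm
    exact ⟨fun h0 => hinj (h0.trans (map_zero (upΓ E)).symm), fun h0 => by rw [h0, map_zero]⟩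
  refine ⟨E, hEaff, x, ?_, s, ?_⟩
  · exact ofPt_yon_map_comp ι' ψ x
  · rw [hann]; exact hmin

end Groth.Agent.Lib.Helper15
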