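import Groth.Agent.Lib.Helper15.WeakAssPoint
import Groth.Agent.Lib.Helper15.RedDescent

/-!
# Weakly associated points of the structure sheaf

* `annSect_upΓ`, `exists_upΓ_eq`: sections of the unit module are functions, and their annihilators;
* `ringKrullDim_stalk_eq_zero_iff`: on an affine scheme the local ring at a point has dimension zero iff the
  prime of the point is a minimal prime;
* `mem_minimalPrimes_of_mem_minimalPrimes_annihilator`: in a reduced ring a prime minimal over the annihilator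
  of an element is a minimal prime.
-/

set_option autoImplicit false
universe u
open CategoryTheory CategoryTheory.Limits AlgebraicGeometry Opposite AlgSp Groth.Agent.Lib.Helper16

namespace Groth.Agent.Lib.Helper15

theorem mem_minimalPrimes_of_mem_minimalPrimes_annihilator {B : Type*} [CommRing B] [IsReduced B]
    {b : B} {𝔭 : Ideal B} (h𝔭 : 𝔭 ∈ (Ideal.span {b}).annihilator.minimalPrimes) :
    𝔭 ∈ minimalPrimes B := by
  have hb : b ∉ 𝔭 := by
    intro hb
    obtain ⟨y, hy, hby⟩ := Ideal.exists_mul_mem_of_mem_minimalPrimes h𝔭 hb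
    rw [Submodule.mem_annihilator_span_singleton, smul_eq_mul] at hy hby
    apply hy
    have h2 : (y * b) ^ 2 = 0 := by
      calc (y * b) ^ 2 = y * (b * y * b) := by ring
        _ = 0 := by rw [hby, mul_zero]
    exact IsNilpotent.eq_zero ⟨2, h2⟩
  refine ⟨⟨h𝔭.1.1, bot_le⟩, ?_⟩
  rintro 𝔮 ⟨h𝔮, -⟩ h𝔮𝔭
  refine h𝔭.2 ⟨h𝔮, ?_⟩ h𝔮𝔭
  intro a ha
  rw [Submodule.mem_annihilator_span_singleton, smul_eq_mul] at ha
  have h3 : a * b ∈ 𝔮 := ha ▸ 𝔮.zero_mem
  exact (h𝔮.mem_or_mem h3).resolve_right (fun hbq => hb (h𝔮𝔭 hbq))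

theorem ringKrullDim_stalk_eq_zero_iff (U : Scheme.{u}) [IsAffine U] (x : U) :
    ringKrullDim (U.presheaf.stalk x) = 0 ↔ AlgSp.primeAtPt U x ∈ minimalPrimes Γ(U, ⊤) := by
  letI : Algebra Γ(U, ⊤) (U.presheaf.stalk x) :=
    TopCat.Presheaf.algebra_section_stalk U.presheaf (U := ⊤) ⟨x, trivial⟩
  have h : IsLocalization.AtPrime (U.presheaf.stalk x)
      ((isAffineOpen_top U).primeIdealOf ⟨x, trivial⟩).asIdeal :=
    (isAffineOpen_top U).isLocalization_stalk ⟨x, trivial⟩
  have e : ((isAffineOpen_top U).primeIdealOf ⟨x, trivial⟩).asIdeal = AlgSp.primeAtPt U x := by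
    ext a
    exact (IsLocalization.AtPrime.to_map_mem_maximal_iff (U.presheaf.stalk x)
      ((isAffineOpen_top U).primeIdealOf ⟨x, trivial⟩).asIdeal a).symm
  rw [← e, IsLocalization.AtPrime.ringKrullDim_eq_height
    ((isAffineOpen_top U).primeIdealOf ⟨x, trivial⟩).asIdeal (U.presheaf.stalk x),
    ← Ideal.height_eq_zero_iff]
  exact WithBot.coe_eq_zero

variable {S : Scheme.{u}}

set_option backward.isDefEq.respectTransparency false in
theorem annSect_upΓ {X : Sp S} (E : EtOver X) (b : Γ(E.obj.left.left, ⊤)) :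
    annSect (M := unitModEt X) (E := E) (upΓ E b) = (Ideal.span {b}).annihilator := by
  have hinj : Function.Injective (upΓ E) := ULift.ringEquiv.symm.injective
  ext a
  have e1 : (upΓ E a) • (show sectModEt (unitModEt X) E from upΓ E b) = upΓ E (a * b) :=
    (map_mul (upΓ E) a b).symm
  have e2 : a ∈ (Ideal.span {b}).annihilator ↔ a * b = 0 := by
    rw [Submodule.mem_annihilator_span_singleton, smul_eq_mul]
  rw [mem_annSect_iff]
  refine Iff.trans ?_ e2.symm
  exact ⟨fun h0 => hinj ((e1.symm.trans h0).trans (map_zero (upΓ E)).symm), fun h0 => by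
    refine e1.trans ?_
    rw [h0, map_zero]⟩

set_option backward.isDefEq.respectTransparency false in
theorem exists_upΓ_eq {X : Sp S} (E : EtOver X) (s : sectModEt (unitModEt X) E) :
    ∃ b : Γ(E.obj.left.left, ⊤), (show sectModEt (unitModEt X) E from upΓ E b) = s :=
  ⟨(show ULift.{u + 1} Γ(E.obj.left.left, ⊤) from s).down, rfl⟩

end Groth.Agent.Lib.Helper15
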