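import Mathlib

/-!
# Zero-dimensional rings: local sections of étale algebras

* `exists_mul_pow_eq_zero`: in a ring in which all primes are maximal, elements of a prime are
  nilpotent in a basic open neighbourhood.
* `isClosed_basicOpen`: basic opens are closed.
* `exists_section_localization`: for an étale `R`-algebra `B`, a prime `𝔮` of `B` over a prime
  `𝔭 = ker π` with separably closed residue field `κ`, there are `h ∉ 𝔭` and an `R`-algebra map
  `B → R[1/h]`.
-/

set_option autoImplicit false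
universe u v

namespace Groth.Agent.Lib.Helper15.ZeroDim

open Polynomial

lemma isSepClosed_of_ringEquiv {k k' : Type*} [Field k] [Field k'] [IsSepClosed k]
    (e : k ≃+* k') : IsSepClosed k' := by
  refine IsSepClosed.of_exists_root k' fun p _ hpi hps => ?_
  have hs : (p.map e.symm.toRingHom).Separable := hps.map
  have hd : (p.map e.symm.toRingHom).degree ≠ 0 := by
    rw [Polynomial.degree_map]
    exact (Polynomial.degree_pos_of_irreducible hpi).ne'
  obtain ⟨x, hx⟩ := IsSepClosed.exists_root _ hd hs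
  refine ⟨e x, ?_⟩
  have h1 : p.eval₂ e.symm.toRingHom x = 0 := by
    rw [← Polynomial.eval_map]
    exact hx
  have h2 := congrArg e.toRingHom h1
  rw [Polynomial.hom_eval₂, map_zero] at h2
  have h3 : e.toRingHom.comp e.symm.toRingHom = RingHom.id k' := by
    ext y
    simp
  rw [h3, Polynomial.eval₂_id] at h2
  exact h2

section Nil

variable {R : Type u} [CommRing R] (hmax : ∀ 𝔭 : Ideal R, 𝔭.IsPrime → 𝔭.IsMaximal)

include hmax in
lemma exists_mul_pow_eq_zero (𝔭 : Ideal R) [h𝔭 : 𝔭.IsPrime] (y : R) (hy : y ∈ 𝔭) :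
    ∃ t : R, t ∉ 𝔭 ∧ ∃ n : ℕ, t * y ^ n = 0 := by
  by_contra hcon
  push_neg at hcon
  have hdisj : Disjoint ((⊥ : Ideal R) : Set R)
      ((𝔭.primeCompl ⊔ Submonoid.powers y : Submonoid R) : Set R) := by
    rw [Set.disjoint_left]
    intro x hx hxM
    have hx0 : x = 0 := (Ideal.mem_bot).1 hx
    rw [SetLike.mem_coe, Submonoid.mem_sup] at hxM
    obtain ⟨t, ht, z, ⟨n, rfl⟩, hxz⟩ := hxM
    exact hcon t ht n (hxz.trans hx0)
  obtain ⟨𝔮, h𝔮, -, h𝔮M⟩ := Ideal.exists_le_prime_disjoint ⊥ _ hdisj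
  have hle : 𝔮 ≤ 𝔭 := by
    intro x hx
    by_contra hxp
    exact Set.disjoint_left.1 h𝔮M hx
      (SetLike.mem_coe.2 (Submonoid.mem_sup_left (show x ∈ 𝔭.primeCompl from hxp)))
  have hy𝔮 : y ∉ 𝔮 := fun hy' =>
    Set.disjoint_left.1 h𝔮M hy'
      (SetLike.mem_coe.2 (Submonoid.mem_sup_right (Submonoid.mem_powers y)))
  have := (hmax 𝔮 h𝔮).eq_of_le h𝔭.ne_top hle
  exact hy𝔮 (this ▸ hy)

include hmax in
lemma isClosed_basicOpen (h : R) :
    IsClosed ((PrimeSpectrum.basicOpen h : TopologicalSpace.Opens (PrimeSpectrum R)) :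
      Set (PrimeSpectrum R)) := by
  rw [← isOpen_compl_iff, isOpen_iff_forall_mem_open]
  intro x hx
  have hmem : h ∈ x.asIdeal := by
    by_contra hh
    exact hx ((PrimeSpectrum.mem_basicOpen h x).2 hh)
  haveI := x.isPrime
  obtain ⟨t, ht, n, htn⟩ := exists_mul_pow_eq_zero hmax x.asIdeal h hmem
  refine ⟨(PrimeSpectrum.basicOpen t : Set _), fun y hy => ?_, (PrimeSpectrum.basicOpen t).isOpen,
    (PrimeSpectrum.mem_basicOpen t x).2 ht⟩
  rw [Set.mem_compl_iff]
  intro hyh
  have hy' : t ∉ y.asIdeal := (PrimeSpectrum.mem_basicOpen t y).1 hy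
  have hyh' : h ∉ y.asIdeal := (PrimeSpectrum.mem_basicOpen h y).1 hyh
  have h0 : t * h ^ n ∈ y.asIdeal := by rw [htn]; exact zero_mem _
  rcases y.isPrime.mem_or_mem h0 with h1 | h1
  · exact hy' h1
  · exact hyh' (y.isPrime.mem_of_pow_mem n h1)

include hmax in
theorem exists_section_localization {κ : Type v} [Field κ] [IsSepClosed κ] (π : R →+* κ)
    (hπ : Function.Surjective π)
    (B : Type u) [CommRing B] [Algebra R B] [Algebra.Etale R B]
    (𝔮 : Ideal B) [𝔮.IsPrime] (h𝔮 : 𝔮.comap (algebraMap R B) = RingHom.ker π) :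
    ∃ h : R, π h ≠ 0 ∧ Nonempty (B →ₐ[R] Localization.Away h) := by
  classical
  obtain ⟨g, hg𝔮, hstd⟩ := Algebra.IsEtaleAt.exists_isStandardEtale (R := R) 𝔮
  obtain ⟨P⟩ := hstd.nonempty_standardEtalePresentation
  -- the residue field at `𝔮`
  obtain ⟨θ, hθ⟩ : ∃ θ : B →+* 𝔮.ResidueField, θ = algebraMap B 𝔮.ResidueField := ⟨_, rfl⟩
  have hθker : ∀ b, θ b = 0 ↔ b ∈ 𝔮 := fun b => by
    rw [hθ, ← RingHom.mem_ker, Ideal.ker_algebraMap_residueField]
  obtain ⟨ρ, hρ⟩ : ∃ ρ : R →+* 𝔮.ResidueField, ρ = θ.comp (algebraMap R B) := ⟨_, rfl⟩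
  have hker : ∀ r, ρ r = 0 ↔ π r = 0 := fun r => by
    rw [hρ, RingHom.comp_apply, hθker, ← Ideal.mem_comap, h𝔮, RingHom.mem_ker]
  have hgu : IsUnit (θ g) := IsUnit.mk0 _ (fun h0 => hg𝔮 ((hθker g).1 h0))
  obtain ⟨e'', he''⟩ : ∃ e'' : Localization.Away g →+* 𝔮.ResidueField,
      ∀ b, e'' (algebraMap B (Localization.Away g) b) = θ b :=
    ⟨IsLocalization.Away.lift g hgu, fun b => IsLocalization.Away.lift_eq g hgu b⟩
  have hcompρ : e''.comp (algebraMap R (Localization.Away g)) = ρ := by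
    ext r
    rw [RingHom.comp_apply, IsScalarTower.algebraMap_apply R B (Localization.Away g), he'', hρ]
    rfl
  have key : ∀ q : R[X], e'' (aeval P.x q) = q.eval₂ ρ (e'' P.x) := fun q => by
    rw [aeval_def, hom_eval₂, hcompρ]
  -- `κ → L`
  have hkerle : RingHom.ker π ≤ RingHom.ker ρ := fun r hr => by
    rw [RingHom.mem_ker] at hr ⊢
    exact (hker r).2 hr
  obtain ⟨ι, hι⟩ : ∃ ι : κ →+* 𝔮.ResidueField, ∀ r, ι (π r) = ρ r :=
    ⟨RingHom.liftOfSurjective π hπ ⟨ρ, hkerle⟩,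
      fun r => RingHom.liftOfRightInverse_comp_apply _ _ _ ⟨ρ, hkerle⟩ r⟩
  have hιπ : ι.comp π = ρ := RingHom.ext hι
  letI : Algebra κ 𝔮.ResidueField := ι.toAlgebra
  have hf0 : aeval (e'' P.x) (P.f.map π) = 0 := by
    rw [aeval_def, RingHom.algebraMap_toAlgebra, eval₂_map, hιπ, ← key, P.hasMap.1, map_zero]
  have hint : IsIntegral κ (e'' P.x) := ⟨P.f.map π, P.monic_f.map π, hf0⟩
  have hirr : Irreducible (minpoly κ (e'' P.x)) := minpoly.irreducible hint
  obtain ⟨q, hq⟩ := minpoly.dvd κ (e'' P.x) hf0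
  have hder : aeval (e'' P.x) (derivative (P.f.map π)) ≠ 0 := by
    rw [derivative_map, aeval_def, RingHom.algebraMap_toAlgebra, eval₂_map, hιπ, ← key]
    exact (P.hasMap.isUnit_derivative_f.map e'').ne_zero
  have hsep : (minpoly κ (e'' P.x)).Separable := by
    rw [separable_iff_derivative_ne_zero hirr]
    intro h0
    apply hder
    rw [hq, derivative_mul, h0, zero_mul, zero_add, map_mul, minpoly.aeval, zero_mul]
  have hdeg := IsSepClosed.degree_eq_one_of_irreducible κ hirr hsep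
  obtain ⟨x₀, hx₀⟩ := minpoly.mem_range_of_degree_eq_one κ (e'' P.x) hdeg
  rw [RingHom.algebraMap_toAlgebra] at hx₀
  obtain ⟨a₀, ha₀⟩ := hπ x₀
  have hρa : ρ a₀ = e'' P.x := by rw [← hι, ha₀, hx₀]
  have key2 : ∀ q : R[X], ρ (q.eval a₀) = e'' (aeval P.x q) := fun q => by
    rw [key, ← hρa, eval₂_at_apply]
  have hy : P.f.eval a₀ ∈ RingHom.ker π := by
    rw [RingHom.mem_ker, ← hker, key2, P.hasMap.1, map_zero]
  have hg0 : π (P.g.eval a₀) ≠ 0 := by
    rw [Ne, ← hker, key2]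
    exact (P.hasMap.2.map e'').ne_zero
  have hf'0 : π (P.f.derivative.eval a₀) ≠ 0 := by
    rw [Ne, ← hker, key2]
    exact (P.hasMap.isUnit_derivative_f.map e'').ne_zero
  haveI : (RingHom.ker π).IsPrime := RingHom.ker_isPrime π
  obtain ⟨t, ht, n, htn⟩ := exists_mul_pow_eq_zero hmax (RingHom.ker π) _ hy
  have ht' : π t ≠ 0 := fun h0 => ht ((RingHom.mem_ker).2 h0)
  refine ⟨t * (P.f.derivative.eval a₀ * P.g.eval a₀), ?_, ?_⟩
  · rw [map_mul, map_mul]
    exact mul_ne_zero ht' (mul_ne_zero hf'0 hg0)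
  obtain ⟨h, hh⟩ : ∃ h : R, h = t * (P.f.derivative.eval a₀ * P.g.eval a₀) := ⟨_, rfl⟩
  rw [← hh]
  have hunit₀ : IsUnit (algebraMap R (Localization.Away h) h) :=
    IsLocalization.Away.algebraMap_isUnit h
  have hunit : IsUnit (algebraMap R (Localization.Away h)
      (t * (P.f.derivative.eval a₀ * P.g.eval a₀))) :=
    (congrArg (fun z => IsUnit (algebraMap R (Localization.Away h) z)) hh).mp hunit₀
  rw [map_mul, map_mul] at hunit
  have hut : IsUnit (algebraMap R (Localization.Away h) t) := isUnit_of_mul_isUnit_left hunit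
  have huf' : IsUnit (algebraMap R (Localization.Away h) (P.f.derivative.eval a₀)) :=
    isUnit_of_mul_isUnit_left (isUnit_of_mul_isUnit_right hunit)
  have hug : IsUnit (algebraMap R (Localization.Away h) (P.g.eval a₀)) :=
    isUnit_of_mul_isUnit_right (isUnit_of_mul_isUnit_right hunit)
  have hnil : IsNilpotent (algebraMap R (Localization.Away h) (P.f.eval a₀)) := by
    refine ⟨n, ?_⟩
    have h0 := congrArg (algebraMap R (Localization.Away h)) htn
    rw [map_mul, map_pow, map_zero] at h0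
    exact (hut.mul_right_eq_zero).1 h0
  obtain ⟨r, ⟨hr1, hr2⟩, -⟩ := Polynomial.existsUnique_nilpotent_sub_and_aeval_eq_zero
    (P := P.f) (x := algebraMap R (Localization.Away h) a₀)
    (by rw [aeval_algebraMap_apply_eq_algebraMap_eval]; exact hnil)
    (by rw [aeval_algebraMap_apply_eq_algebraMap_eval]; exact huf')
  have hr1' : IsNilpotent (r - algebraMap R (Localization.Away h) a₀) := by
    rw [← neg_sub, isNilpotent_neg_iff]
    exact hr1
  have hmap : P.P.HasMap r := by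
    constructor
    · exact hr2
    · exact Polynomial.isUnit_aeval_of_isUnit_aeval_of_isNilpotent_sub
        (by rw [aeval_algebraMap_apply_eq_algebraMap_eval]; exact hug) hr1'
  exact ⟨((P.P.lift r hmap).comp P.equivRing.toAlgHom).comp
    (IsScalarTower.toAlgHom R B (Localization.Away g))⟩

end Nil

end Groth.Agent.Lib.Helper15.ZeroDim
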