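import Mathlib
import Groth.Agent.Lib.Helper15.ZeroDim

/-!
# Affine schemes with all points closed and separably closed residue fields

* `exists_clopen_section`: an étale map to such a scheme has a section over an open and closed
  neighbourhood of any point in the image.
* `exists_disjoint_refinement`: disjoint refinement of a finite family of clopen sets.
-/

set_option autoImplicit false
universe u

namespace Groth.Agent.Lib.Helper15.ZeroDimScheme

open CategoryTheory Limits AlgebraicGeometry Opposite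

lemma exists_section_Spec (R : CommRingCat.{u}) (hmax : ∀ 𝔭 : Ideal R, 𝔭.IsPrime → 𝔭.IsMaximal)
    {U : Scheme.{u}} (p : U ⟶ Spec R) [Etale p] (u : U)
    {κ : Type u} [Field κ] [IsSepClosed κ] (π : R →+* κ) (hπ : Function.Surjective π)
    (hu : (p.base u).asIdeal = RingHom.ker π) :
    ∃ (h : R) (σ : Spec (CommRingCat.of (Localization.Away h)) ⟶ U), π h ≠ 0 ∧
      σ ≫ p = Spec.map (CommRingCat.ofHom (algebraMap R (Localization.Away h))) := by
  obtain ⟨B, j, hj, ⟨u', hu'⟩, -⟩ := Scheme.exists_affine_mem_range_and_range_subset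
    (x := u) (U := ⊤) (by simp)
  haveI := hj
  obtain ⟨φ, hφ⟩ := Spec.map_surjective (j ≫ p)
  have hφet : φ.hom.Etale := by
    haveI : Etale (Spec.map φ) := by rw [hφ]; infer_instance
    exact (HasRingHomProperty.Spec_iff (P := @Etale)).1 inferInstance
  letI : Algebra R B := φ.hom.toAlgebra
  haveI : Algebra.Etale R B := hφet
  haveI : u'.asIdeal.IsPrime := u'.isPrime
  have e1 : (Spec.map φ).base u' = p.base u := by
    rw [hφ, ← hu']; rfl
  have hcomap : u'.asIdeal.comap (algebraMap R B) = RingHom.ker π := by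
    rw [← hu, ← e1]; rfl
  obtain ⟨h, hh, ⟨σ⟩⟩ := ZeroDim.exists_section_localization hmax π hπ B u'.asIdeal hcomap
  refine ⟨h, Spec.map (CommRingCat.ofHom σ.toRingHom) ≫ j, hh, ?_⟩
  rw [Category.assoc, ← hφ, ← Spec.map_comp]
  congr 1
  ext r
  exact σ.commutes r

lemma exists_clopen_section (S : Scheme.{u}) [IsAffine S] (h1 : ∀ s : S, IsClosed ({s} : Set S))
    (h2 : ∀ s : S, IsSepClosed (S.residueField s)) {U : Scheme.{u}} (p : U ⟶ S) [Etale p] (u : U) :
    ∃ W : S.Opens, IsClosed (W : Set S) ∧ p.base u ∈ W ∧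
      ∃ σ : (W : Scheme.{u}) ⟶ U, σ ≫ p = W.ι := by
  have hinvhom : ∀ y : Spec Γ(S, ⊤), S.isoSpec.hom.base (S.isoSpec.inv.base y) = y := fun y => by
    have : (S.isoSpec.inv ≫ S.isoSpec.hom).base y = y := by rw [Iso.inv_hom_id]; rfl
    exact this
  have hhominv : ∀ s : S, S.isoSpec.inv.base (S.isoSpec.hom.base s) = s := fun s => by
    have : (S.isoSpec.hom ≫ S.isoSpec.inv).base s = s := by rw [Iso.hom_inv_id]; rfl
    exact this
  have hmax : ∀ 𝔭 : Ideal Γ(S, ⊤), 𝔭.IsPrime → 𝔭.IsMaximal := by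
    intro 𝔭 h𝔭
    obtain ⟨y, hy⟩ : ∃ y : Spec Γ(S, ⊤), y.asIdeal = 𝔭 := ⟨⟨𝔭, h𝔭⟩, rfl⟩
    have hcl : IsClosed ({y} : Set (Spec Γ(S, ⊤))) := by
      have h3 := (Scheme.homeoOfIso S.isoSpec).isClosedMap _ (h1 (S.isoSpec.inv.base y))
      rw [Set.image_singleton] at h3
      have h4 : (Scheme.homeoOfIso S.isoSpec) (S.isoSpec.inv.base y) = y := hinvhom y
      rwa [h4] at h3
    rw [← hy]
    exact (PrimeSpectrum.isClosed_singleton_iff_isMaximal y).1 hcl
  haveI : (S.isoSpec.hom.base (p.base u)).asIdeal.IsMaximal :=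
    hmax _ (S.isoSpec.hom.base (p.base u)).isPrime
  haveI hsc : IsSepClosed (S.isoSpec.hom.base (p.base u)).asIdeal.ResidueField := by
    haveI := h2 (p.base u)
    exact ZeroDim.isSepClosed_of_ringEquiv
      (((asIso (S.isoSpec.hom.residueFieldMap (p.base u))).symm ≪≫
        Scheme.Spec.residueFieldIso Γ(S, ⊤)
          (S.isoSpec.hom.base (p.base u))).commRingCatIsoToRingEquiv)
  obtain ⟨h, σ, hh, hσ⟩ := exists_section_Spec Γ(S, ⊤) hmax (p ≫ S.isoSpec.hom) u
    (algebraMap Γ(S, ⊤) (S.isoSpec.hom.base (p.base u)).asIdeal.ResidueField)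
    (Ideal.algebraMap_residueField_surjective _) (Ideal.ker_algebraMap_residueField _).symm
  have hσ' : σ ≫ p = Spec.map (CommRingCat.ofHom (algebraMap Γ(S, ⊤) (Localization.Away h))) ≫
      S.isoSpec.inv := by
    rw [← hσ, Category.assoc, Category.assoc, Iso.hom_inv_id, Category.comp_id]
  obtain ⟨ι, hι⟩ : ∃ ι : Spec (CommRingCat.of (Localization.Away h)) ⟶ S,
      ι = Spec.map (CommRingCat.ofHom (algebraMap Γ(S, ⊤) (Localization.Away h))) ≫
        S.isoSpec.inv := ⟨_, rfl⟩
  haveI : IsOpenImmersion ι := by rw [hι]; infer_instance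
  have hr0 : Set.range (PrimeSpectrum.comap (algebraMap Γ(S, ⊤) (Localization.Away h))) =
      (PrimeSpectrum.basicOpen h : Set (PrimeSpectrum Γ(S, ⊤))) :=
    PrimeSpectrum.localization_away_comap_range (Localization.Away h) h
  have hrange : Set.range ι.base = S.isoSpec.inv.base '' (Set.range
      (Spec.map (CommRingCat.ofHom (algebraMap Γ(S, ⊤) (Localization.Away h)))).base) := by
    rw [hι]
    ext s
    constructor
    · rintro ⟨z, rfl⟩
      exact ⟨_, ⟨z, rfl⟩, rfl⟩
    · rintro ⟨_, ⟨z, rfl⟩, rfl⟩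
      exact ⟨z, rfl⟩
  have hcl0 : IsClosed (Set.range (PrimeSpectrum.comap
      (algebraMap Γ(S, ⊤) (Localization.Away h)))) := by
    rw [hr0]
    exact ZeroDim.isClosed_basicOpen hmax h
  have hmemD' : ∀ y : PrimeSpectrum Γ(S, ⊤), y = S.isoSpec.hom.base (p.base u) →
      y ∈ Set.range (PrimeSpectrum.comap (algebraMap Γ(S, ⊤) (Localization.Away h))) := by
    intro y hy
    rw [hr0, SetLike.mem_coe, PrimeSpectrum.mem_basicOpen]
    intro hmem
    apply hh
    rw [← RingHom.mem_ker, Ideal.ker_algebraMap_residueField]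
    subst hy
    exact hmem
  have hmemD := hmemD' _ rfl
  refine ⟨ι.opensRange, ?_, ?_, ι.isoOpensRange.inv ≫ σ, ?_⟩
  · show IsClosed (Set.range ι.base)
    rw [hrange]
    exact (Scheme.homeoOfIso S.isoSpec).symm.isClosedMap _ hcl0
  · show p.base u ∈ Set.range ι.base
    rw [hrange]
    exact ⟨S.isoSpec.hom.base (p.base u), hmemD, hhominv _⟩
  · rw [Category.assoc, hσ', ← hι, Scheme.Hom.isoOpensRange_inv_comp]

lemma exists_disjoint_refinement {S : Type*} [TopologicalSpace S]
    (W : S → TopologicalSpace.Opens S) (hW : ∀ s, IsClosed (W s : Set S)) (t : Finset S) :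
    ∃ V : S → TopologicalSpace.Opens S, (∀ s, V s ≤ W s) ∧
      (∀ s s', s ≠ s' → ∀ x, x ∈ V s → x ∉ V s') ∧
      (∀ s, s ∉ t → V s = ⊥) ∧ (∀ x, (∃ s, x ∈ V s) ↔ ∃ s ∈ t, x ∈ W s) := by
  classical
  induction t using Finset.induction_on with
  | empty =>
    exact ⟨fun _ => ⊥, fun _ => bot_le, fun _ _ _ _ hx => (hx : _ ∈ (∅ : Set S)).elim,
      fun _ _ => rfl, fun x => by simp⟩
  | insert a t ha ih =>
    obtain ⟨V, hVW, hdisj, hbot, hcov⟩ := ih
    have hZ : IsClosed (⋃ s ∈ t, (W s : Set S)) := isClosed_biUnion_finset (fun s _ => hW s)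
    have hZmem : ∀ x, x ∈ (⋃ s ∈ t, (W s : Set S)) ↔ ∃ s ∈ t, x ∈ W s := fun x => by
      simp only [Set.mem_iUnion, SetLike.mem_coe, exists_prop]
    obtain ⟨Va, hVa⟩ : ∃ Va : TopologicalSpace.Opens S,
        (Va : Set S) = (W a : Set S) \ ⋃ s ∈ t, (W s : Set S) :=
      ⟨⟨(W a : Set S) \ ⋃ s ∈ t, (W s : Set S), (W a).isOpen.sdiff hZ⟩, rfl⟩
    have hVamem : ∀ x, x ∈ Va ↔ x ∈ W a ∧ ¬ ∃ s ∈ t, x ∈ W s := fun x => by
      rw [← SetLike.mem_coe, hVa, Set.mem_diff, hZmem, SetLike.mem_coe]
    have hVabot : V a = ⊥ := hbot a ha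
    refine ⟨Function.update V a Va, ?_, ?_, ?_, ?_⟩
    · intro s
      by_cases hs : s = a
      · subst hs
        rw [Function.update_self]
        exact fun x hx => ((hVamem x).1 hx).1
      · rw [Function.update_of_ne hs]
        exact hVW s
    · intro s s' hss' x hx hx'
      by_cases hs : s = a
      · subst hs
        have hs' : s' ≠ s := fun h => hss' h.symm
        rw [Function.update_self] at hx
        rw [Function.update_of_ne hs'] at hx'
        exact ((hVamem x).1 hx).2 ((hcov x).1 ⟨s', hx'⟩)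
      · rw [Function.update_of_ne hs] at hx
        by_cases hs' : s' = a
        · subst hs'
          rw [Function.update_self] at hx'
          exact ((hVamem x).1 hx').2 ((hcov x).1 ⟨s, hx⟩)
        · rw [Function.update_of_ne hs'] at hx'
          exact hdisj s s' hss' x hx hx'
    · intro s hs
      have hsa : s ≠ a := fun h => hs (h ▸ Finset.mem_insert_self a t)
      rw [Function.update_of_ne hsa]
      exact hbot s (fun h => hs (Finset.mem_insert_of_mem h))
    · intro x
      constructor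
      · rintro ⟨s, hs⟩
        by_cases hsa : s = a
        · subst hsa
          rw [Function.update_self] at hs
          exact ⟨s, Finset.mem_insert_self s t, ((hVamem x).1 hs).1⟩
        · rw [Function.update_of_ne hsa] at hs
          obtain ⟨s', hs't, hxs'⟩ := (hcov x).1 ⟨s, hs⟩
          exact ⟨s', Finset.mem_insert_of_mem hs't, hxs'⟩
      · rintro ⟨s, hs, hx⟩
        by_cases hxZ : ∃ s ∈ t, x ∈ W s
        · obtain ⟨s', hxs'⟩ := (hcov x).2 hxZ
          have hs'a : s' ≠ a := by
            rintro rfl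
            rw [hVabot] at hxs'
            exact (hxs' : _ ∈ (∅ : Set S)).elim
          exact ⟨s', by rw [Function.update_of_ne hs'a]; exact hxs'⟩
        · have hsa : s = a := by
            rcases Finset.mem_insert.1 hs with h | h
            · exact h
            · exact (hxZ ⟨s, h, hx⟩).elim
          subst hsa
          exact ⟨s, by rw [Function.update_self]; exact (hVamem x).2 ⟨hx, hxZ⟩⟩

end Groth.Agent.Lib.Helper15.ZeroDimScheme
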